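import Cfsg.Agent.Elusive.Greedy
import Mathlib.Data.Multiset.AddSub
import Mathlib.LinearAlgebra.Dual.Lemmas
import Mathlib.Algebra.BigOperators.Group.Finset.Basic

/-! Jordan blocks of nilpotent maps and invariant complementary pairs. -/

set_option autoImplicit false
set_option linter.unusedSectionVars false

namespace CfsgLib.Elusive

open Module

/-- The dimensions of the kernels of powers of a nilpotent map with Jordan blocks `μ`. -/
def profile (μ : Multiset ℕ) (k : ℕ) : ℕ := (μ.map (min k)).sum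

theorem profile_add (μ ν : Multiset ℕ) (k : ℕ) : profile (μ + ν) k = profile μ k + profile ν k := by
  simp [profile]

theorem profile_cons (a : ℕ) (μ : Multiset ℕ) (k : ℕ) :
    profile (a ::ₘ μ) k = min k a + profile μ k := by
  simp [profile]

theorem count_of_profile (μ : Multiset ℕ) (hμ : ∀ a ∈ μ, 0 < a) (k : ℕ) :
    μ.count (k + 1) + profile μ k + profile μ (k + 2) = 2 * profile μ (k + 1) := by
  induction μ using Multiset.induction_on with
  | empty => simp [profile]
  | cons a μ ih =>
    have h := ih fun b hb => hμ b (Multiset.mem_cons_of_mem hb)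
    have ha := hμ a (Multiset.mem_cons_self a μ)
    rw [Multiset.count_cons, profile_cons, profile_cons, profile_cons]
    split <;> omega

theorem profile_injective {μ ν : Multiset ℕ} (hμ : ∀ a ∈ μ, 0 < a) (hν : ∀ a ∈ ν, 0 < a)
    (h : ∀ k, profile μ k = profile ν k) : μ = ν := by
  ext a
  rcases a with _ | k
  · rw [Multiset.count_eq_zero.2 fun hm => (hμ 0 hm).false,
      Multiset.count_eq_zero.2 fun hm => (hν 0 hm).false]
  · have h1 := count_of_profile μ hμ k
    have h2 := count_of_profile ν hν k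
    rw [h k, h (k + 1), h (k + 2)] at h1
    omega

variable {F V : Type*} [Field F] [AddCommGroup V] [Module F V] [FiniteDimensional F V]

/-- The dimension of the kernel of `N ^ k` inside `T`. -/
noncomputable def kerDim (N : V →ₗ[F] V) (T : Submodule F V) (k : ℕ) : ℕ :=
  finrank F ↥(T ⊓ LinearMap.ker (N ^ k))

theorem Inv.pow {N : V →ₗ[F] V} {T : Submodule F V} (hT : Inv N T) (k : ℕ) : Inv (N ^ k) T := by
  induction k with
  | zero => intro v hv; exact hv
  | succ k ih => intro v hv; rw [pow_succ', Module.End.mul_apply]; exact hT _ (ih v hv)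

theorem kerDim_sup {N : V →ₗ[F] V} {U W : Submodule F V} (hU : Inv N U) (hW : Inv N W)
    (hd : U ⊓ W = ⊥) (k : ℕ) : kerDim N (U ⊔ W) k = kerDim N U k + kerDim N W k := by
  have he : (U ⊔ W) ⊓ LinearMap.ker (N ^ k) =
      (U ⊓ LinearMap.ker (N ^ k)) ⊔ (W ⊓ LinearMap.ker (N ^ k)) := by
    refine le_antisymm ?_ (sup_le (inf_le_inf_right _ le_sup_left) (inf_le_inf_right _ le_sup_right))
    rintro v ⟨hv, hk⟩
    obtain ⟨u, hu, w, hw, rfl⟩ := Submodule.mem_sup.1 hv
    rw [SetLike.mem_coe, LinearMap.mem_ker, map_add] at hk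
    have h1 : (N ^ k) u ∈ U ⊓ W := ⟨hU.pow k u hu, by
      rw [eq_neg_of_add_eq_zero_left hk]; exact W.neg_mem (hW.pow k w hw)⟩
    rw [hd, Submodule.mem_bot] at h1
    rw [h1, zero_add] at hk
    exact Submodule.add_mem_sup ⟨hu, h1⟩ ⟨hw, hk⟩
  have h := Submodule.finrank_sup_add_finrank_inf_eq (U ⊓ LinearMap.ker (N ^ k))
    (W ⊓ LinearMap.ker (N ^ k))
  rw [← he, le_bot_iff.1 ((inf_le_inf inf_le_left inf_le_left).trans hd.le), finrank_bot,
    Nat.add_zero] at h
  exact h

theorem exists_block {N : V →ₗ[F] V} {T : Submodule F V} (hT : Inv N T) {k : ℕ}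
    (hk : ∀ t ∈ T, (N ^ (k + 1)) t = 0) {v : V} (hv : v ∈ T) (hvk : (N ^ k) v ≠ 0) :
    ∃ U W, Inv N U ∧ Inv N W ∧ U ⊔ W = T ∧ U ⊓ W = ⊥ ∧ finrank F U = k + 1 ∧
      ∀ j, kerDim N U j = min j (k + 1) := by
  classical
  obtain ⟨φ, hφ, -⟩ := Submodule.exists_dual_map_eq_bot_of_notMem
    (p := (⊥ : Submodule F V)) (x := (N ^ k) v) (by simpa using hvk) inferInstance
  let Φ : V →ₗ[F] (Fin (k + 1) → F) := LinearMap.pi fun j => φ ∘ₗ (N ^ (j : ℕ))
  let e : Fin (k + 1) → V := fun j => (N ^ (j : ℕ)) v
  have hzero : ∀ j, k < j → (N ^ j) v = 0 := fun j hj => by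
    rw [show j = (j - (k + 1)) + (k + 1) by omega, pow_add, Module.End.mul_apply, hk v hv, map_zero]
  have htri : ∀ c : Fin (k + 1) → F, Φ (∑ j, c j • e j) = 0 → c = 0 := by
    intro c hc
    by_contra hne
    obtain ⟨j₀, hj₀⟩ := Function.ne_iff.1 hne
    obtain ⟨j₁, hj₁, hmin⟩ := Finset.exists_min_image (Finset.univ.filter fun j => c j ≠ 0)
      (fun j => (j : ℕ)) ⟨j₀, by simpa using hj₀⟩
    rw [Finset.mem_filter] at hj₁
    have h1 := congrFun hc ⟨k - j₁.val, by omega⟩
    simp only [Φ, e, LinearMap.pi_apply, LinearMap.comp_apply, map_sum, map_smul, Pi.zero_apply,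
      smul_eq_mul] at h1
    rw [Finset.sum_eq_single j₁ (fun j _ hne' => ?_) (fun h => absurd (Finset.mem_univ _) h),
      ← Module.End.mul_apply, ← pow_add, Nat.sub_add_cancel (by omega)] at h1
    · rcases mul_eq_zero.1 h1 with h | h
      · exact hj₁.2 h
      · exact hφ h
    · by_cases hcj : c j = 0
      · rw [hcj, zero_mul]
      · have h2 := hmin j (by simpa using hcj)
        have h3 : (j₁ : ℕ) ≠ j := fun e => hne' (Fin.ext e.symm)
        rw [← Module.End.mul_apply, ← pow_add, hzero _ (by omega), map_zero, mul_zero]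
  have hli : LinearIndependent F e := Fintype.linearIndependent_iff.2 fun c hc j => by
    rw [htri c (by rw [hc, map_zero])]; rfl
  let U := Submodule.span F (Set.range e)
  let W := T ⊓ LinearMap.ker Φ
  have hUT : U ≤ T := Submodule.span_le.2 (by rintro _ ⟨j, rfl⟩; exact hT.pow _ v hv)
  have hUinv : Inv N U := inv_iff.2 (by
    rw [Submodule.map_span, Submodule.span_le]
    rintro _ ⟨_, ⟨j, rfl⟩, rfl⟩
    show N ((N ^ (j : ℕ)) v) ∈ U
    rw [← Module.End.mul_apply, ← pow_succ']
    rcases Nat.lt_or_ge ((j : ℕ) + 1) (k + 1) with h | h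
    · exact Submodule.subset_span ⟨⟨(j : ℕ) + 1, h⟩, rfl⟩
    · rw [hzero _ (by omega)]; exact U.zero_mem)
  have hWinv : Inv N W := fun w hw => ⟨hT w hw.1, by
    rw [SetLike.mem_coe, LinearMap.mem_ker]
    funext j
    have h2 := hw.2
    rw [SetLike.mem_coe, LinearMap.mem_ker] at h2
    simp only [Φ, LinearMap.pi_apply, LinearMap.comp_apply, Pi.zero_apply]
    rw [← Module.End.mul_apply, ← pow_succ]
    rcases Nat.lt_or_ge ((j : ℕ) + 1) (k + 1) with h | h
    · exact congrFun h2 ⟨(j : ℕ) + 1, h⟩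
    · rw [show (j : ℕ) + 1 = k + 1 by omega, hk w hw.1, map_zero]⟩
  have hdisj : U ⊓ W = ⊥ := (Submodule.eq_bot_iff _).2 fun x hx => by
    obtain ⟨c, rfl⟩ := (Submodule.mem_span_range_iff_exists_fun F).1 hx.1
    rw [htri c (LinearMap.mem_ker.1 hx.2.2)]
    simp
  have hUd : finrank F U = k + 1 := by rw [finrank_span_eq_card hli, Fintype.card_fin]
  refine ⟨U, W, hUinv, hWinv, ?_, hdisj, hUd, ?_⟩
  · refine Submodule.eq_of_le_of_finrank_le (sup_le hUT inf_le_left) ?_
    have h1 := Submodule.finrank_sup_add_finrank_inf_eq U W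
    rw [hdisj, finrank_bot, hUd] at h1
    have h2 : finrank F T ≤ finrank F W + (k + 1) := by
      have h := LinearMap.finrank_range_add_finrank_ker (Φ.domRestrict T)
      have h3 : finrank F (LinearMap.range (Φ.domRestrict T)) ≤ k + 1 :=
        (Submodule.finrank_le _).trans (Module.finrank_fin_fun F).le
      have h4 : finrank F (LinearMap.ker (Φ.domRestrict T)) = finrank F W := by
        show finrank F ((LinearMap.ker Φ).comap T.subtype) = _
        rw [show W = ((LinearMap.ker Φ).comap T.subtype).map T.subtype from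
          (Submodule.map_comap_subtype _ _).symm, Submodule.finrank_map_subtype_eq]
      omega
    omega
  · intro j
    have hdec : ∀ c : Fin (k + 1) → F, (N ^ j) (∑ l, c l • e l) =
        ∑ l, c l • (N ^ (j + (l : ℕ))) v := fun c => by
      rw [map_sum]
      refine Finset.sum_congr rfl fun l _ => ?_
      rw [map_smul, pow_add, Module.End.mul_apply]
    rcases Nat.lt_or_ge j (k + 1) with hj | hj
    · rw [min_eq_left hj.le]
      let e' : Fin j → V := fun l => (N ^ (k + 1 - j + (l : ℕ))) v
      have heq : U ⊓ LinearMap.ker (N ^ j) = Submodule.span F (Set.range e') := by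
        apply le_antisymm
        · rintro x ⟨hx, hxk⟩
          obtain ⟨c, rfl⟩ := (Submodule.mem_span_range_iff_exists_fun F).1 hx
          refine Submodule.sum_mem _ fun l _ => ?_
          rcases Nat.lt_or_ge (l : ℕ) (k + 1 - j) with hl | hl
          · suffices c l = 0 by rw [this, zero_smul]; exact Submodule.zero_mem _
            rw [SetLike.mem_coe, LinearMap.mem_ker, hdec] at hxk
            have h5 := htri (fun l' => if h : j ≤ (l' : ℕ) then c ⟨(l' : ℕ) - j, by omega⟩ else 0) (by
              suffices (∑ l' : Fin (k + 1), (if h : j ≤ (l' : ℕ) then c ⟨(l' : ℕ) - j, by omega⟩ else 0) • e l') =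
                  ∑ l, c l • (N ^ (j + (l : ℕ))) v by rw [this, hxk, map_zero]
              symm
              refine Finset.sum_bij_ne_zero (fun l _ h => (⟨j + (l : ℕ), ?_⟩ : Fin (k + 1))) ?_ ?_ ?_ ?_
              · by_contra hb
                exact h (by rw [hzero _ (by omega), smul_zero])
              · exact fun _ _ _ => Finset.mem_univ _
              · intro a _ _ b _ _ hab
                have := congrArg Fin.val hab
                exact Fin.ext (by simp only at this; omega)
              · intro b _ hb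
                by_cases hjb : j ≤ (b : ℕ)
                · refine ⟨⟨(b : ℕ) - j, by omega⟩, Finset.mem_univ _, ?_, Fin.ext (by simp only; omega)⟩
                  rw [dif_pos hjb] at hb
                  rwa [show j + ((b : ℕ) - j) = (b : ℕ) by omega]
                · rw [dif_neg hjb, zero_smul] at hb
                  exact absurd rfl hb
              · intro l _ h
                rw [dif_pos (by simp)]
                simp [e])
            have h6 := congrFun h5 ⟨j + (l : ℕ), by omega⟩
            simp only [Pi.zero_apply] at h6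
            rw [dif_pos (by omega)] at h6
            rw [← h6]
            congr 1
            exact Fin.ext (by simp only; omega)
          · exact Submodule.smul_mem _ _ (Submodule.subset_span
              ⟨⟨(l : ℕ) - (k + 1 - j), by omega⟩, by simp only [e', e]; congr 2; congr 1; omega⟩)
        · rw [Submodule.span_le]
          rintro _ ⟨l, rfl⟩
          refine ⟨Submodule.subset_span ⟨⟨k + 1 - j + (l : ℕ), by omega⟩, rfl⟩, ?_⟩
          rw [SetLike.mem_coe, LinearMap.mem_ker, ← Module.End.mul_apply, ← pow_add, hzero _ (by omega)]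
      rw [kerDim, heq, finrank_span_eq_card, Fintype.card_fin]
      exact hli.comp (fun l : Fin j => (⟨k + 1 - j + (l : ℕ), by omega⟩ : Fin (k + 1)))
        fun a b hab => Fin.ext (by have := congrArg Fin.val hab; simp only at this; omega)
    · rw [min_eq_right hj, kerDim, inf_eq_left.2, hUd]
      intro x hx
      obtain ⟨c, rfl⟩ := (Submodule.mem_span_range_iff_exists_fun F).1 hx
      rw [LinearMap.mem_ker, hdec]
      exact Finset.sum_eq_zero fun l _ => by rw [hzero _ (by omega), smul_zero]

/-- Jordan decomposition of a nilpotent map, with a complementary pair for each sub-partition. -/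
theorem exists_jordan {N : V →ₗ[F] V} {p : ℕ} : ∀ (n : ℕ) (T : Submodule F V),
    finrank F T = n → Inv N T → (∀ t ∈ T, (N ^ p) t = 0) →
    ∃ μ : Multiset ℕ, (∀ a ∈ μ, 0 < a ∧ a ≤ p) ∧ μ.sum = n ∧ (∀ k, kerDim N T k = profile μ k) ∧
      ∀ ν ≤ μ, ∃ U W, Inv N U ∧ Inv N W ∧ U ⊔ W = T ∧ U ⊓ W = ⊥ ∧ finrank F U = ν.sum := by
  intro n
  induction n using Nat.strong_induction_on with
  | _ n ih =>
    intro T hd hT hp
    rcases Nat.eq_zero_or_pos n with rfl | hn
    · have hTb : T = ⊥ := Submodule.finrank_eq_zero.1 hd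
      refine ⟨0, by simp, by simp, fun k => ?_, fun ν hν => ?_⟩
      · rw [kerDim, hTb, bot_inf_eq, finrank_bot]; simp [profile]
      · refine ⟨⊥, ⊥, Inv.bot N, Inv.bot N, by simp [hTb], by simp, ?_⟩
        rw [Multiset.le_zero.1 hν, finrank_bot]; simp
    classical
    have hne : ∃ k, ∀ t ∈ T, (N ^ k) t = 0 := ⟨p, hp⟩
    obtain ⟨v₀, hv₀, hv₀0⟩ := T.exists_mem_ne_zero_of_ne_bot fun h => by
      rw [h, finrank_bot] at hd; omega
    obtain ⟨k, hk⟩ : ∃ k, Nat.find hne = k + 1 := by
      refine Nat.exists_eq_succ_of_ne_zero fun h => hv₀0 ?_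
      simpa [h] using Nat.find_spec hne v₀ hv₀
    obtain ⟨v, hv, hvk⟩ : ∃ v ∈ T, (N ^ k) v ≠ 0 := by
      by_contra hcon
      push Not at hcon
      have := Nat.find_min hne (show k < Nat.find hne by omega)
      exact this hcon
    obtain ⟨U, W, hU, hW, hsup, hinf, hUd, hUp⟩ :=
      exists_block hT (k := k) (hk ▸ Nat.find_spec hne) hv hvk
    have hkp : k + 1 ≤ p := hk ▸ Nat.find_min' hne hp
    have hWd : finrank F W + (k + 1) = n := by
      have := Submodule.finrank_sup_add_finrank_inf_eq U W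
      rw [hsup, hinf, finrank_bot, hd, hUd] at this
      omega
    obtain ⟨μ, hμ, hμs, hμk, hμν⟩ := ih (finrank F W) (by omega) W rfl hW
      fun t ht => hp t (hsup ▸ Submodule.mem_sup_right ht)
    refine ⟨(k + 1) ::ₘ μ, fun a ha => ?_, by rw [Multiset.sum_cons, hμs]; omega, fun j => ?_,
      fun ν hν => ?_⟩
    · rcases Multiset.mem_cons.1 ha with rfl | h
      · omega
      · exact hμ a h
    · rw [← hsup, kerDim_sup hU hW hinf, hUp, hμk, profile_cons]
    · have key : ∀ {A B : Submodule F V}, A ⊔ B = W → U ⊓ (A ⊔ B) = ⊥ → A ⊓ B = ⊥ →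
          (U ⊔ A) ⊓ B = ⊥ ∧ A ⊓ (U ⊔ B) = ⊥ := by
        intro A B h1 h2 h3
        refine ⟨(Submodule.eq_bot_iff _).2 fun x hx => ?_, (Submodule.eq_bot_iff _).2 fun x hx => ?_⟩
        · obtain ⟨u, hu, a, ha, rfl⟩ := Submodule.mem_sup.1 hx.1
          have hu' : u ∈ U ⊓ (A ⊔ B) := ⟨hu, by
            have := (A ⊔ B).sub_mem (Submodule.mem_sup_right hx.2 : u + a ∈ A ⊔ B) (Submodule.mem_sup_left ha)
            simpa using this⟩
          rw [h2, Submodule.mem_bot] at hu'
          have hb : u + a ∈ A ⊓ B := ⟨by rw [hu', zero_add]; exact ha, hx.2⟩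
          rw [h3, Submodule.mem_bot] at hb
          exact hb
        · obtain ⟨u, hu, b, hb, rfl⟩ := Submodule.mem_sup.1 hx.2
          have hu' : u ∈ U ⊓ (A ⊔ B) := ⟨hu, by
            have := (A ⊔ B).sub_mem (Submodule.mem_sup_left hx.1 : u + b ∈ A ⊔ B) (Submodule.mem_sup_right hb)
            simpa using this⟩
          rw [h2, Submodule.mem_bot] at hu'
          have hab : u + b ∈ A ⊓ B := ⟨hx.1, by rw [hu', zero_add]; exact hb⟩
          rw [h3, Submodule.mem_bot] at hab
          exact hab
      by_cases hm : k + 1 ∈ ν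
      · obtain ⟨ν', rfl⟩ := Multiset.exists_cons_of_mem hm
        obtain ⟨A, B, hA, hB, hAB, hAB0, hAd⟩ := hμν ν' ((Multiset.cons_le_cons_iff _).1 hν)
        refine ⟨U ⊔ A, B, hU.sup hA, hB, by rw [sup_assoc, hAB, hsup],
          (key hAB (hAB ▸ hinf) hAB0).1, ?_⟩
        have := Submodule.finrank_sup_add_finrank_inf_eq U A
        rw [le_bot_iff.1 ((inf_le_inf_left U (hAB ▸ le_sup_left)).trans hinf.le), finrank_bot,
          hUd, hAd] at this
        rw [Multiset.sum_cons]
        omega
      · obtain ⟨A, B, hA, hB, hAB, hAB0, hAd⟩ := hμν ν ((Multiset.le_cons_of_notMem hm).1 hν)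
        exact ⟨A, U ⊔ B, hA, hU.sup hB, by rw [sup_left_comm, hAB, hsup],
          (key hAB (hAB ▸ hinf) hAB0).2, hAd⟩

/-- Complementary invariant pairs come from sub-partitions. -/
theorem exists_sub_partition {N : V →ₗ[F] V} {p : ℕ} (hp : ∀ v, (N ^ p) v = 0) {μ : Multiset ℕ}
    (hμ : ∀ a ∈ μ, 0 < a) (hprof : ∀ k, kerDim N ⊤ k = profile μ k) {U W : Submodule F V}
    (hU : Inv N U) (hW : Inv N W) (hc : IsCompl U W) : ∃ ν ≤ μ, ν.sum = finrank F U := by
  obtain ⟨μ₁, h1, hs1, hk1, -⟩ := exists_jordan _ U rfl hU fun t _ => hp t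
  obtain ⟨μ₂, h2, -, hk2, -⟩ := exists_jordan _ W rfl hW fun t _ => hp t
  have : μ₁ + μ₂ = μ := profile_injective
    (fun a ha => (Multiset.mem_add.1 ha).elim (fun h => (h1 a h).1) (fun h => (h2 a h).1)) hμ
    fun k => by rw [profile_add, ← hk1, ← hk2, ← kerDim_sup hU hW hc.inf_eq_bot, hc.sup_eq_top, hprof]
  exact ⟨μ₁, this ▸ Multiset.le_add_right _ _, hs1⟩

theorem exists_nilpotent (μ : Multiset ℕ) {p n : ℕ} (hμ : ∀ a ∈ μ, a ≤ p) (hs : μ.sum = n) :
    ∃ N : (Fin n → F) →ₗ[F] (Fin n → F), N ^ p = 0 ∧ ∀ k, kerDim N ⊤ k = profile μ k := by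
  classical
  obtain ⟨l, rfl⟩ : ∃ l : List ℕ, (l : Multiset ℕ) = μ := ⟨μ.toList, μ.coe_toList⟩
  let ι := Σ a : Fin l.length, Fin (l.get a)
  have hcard : Fintype.card ι = n := by
    rw [Fintype.card_sigma]
    simp only [Fintype.card_fin]
    rw [← hs, Multiset.sum_coe, ← Fin.sum_ofFn, List.ofFn_get]
  let N : (ι → F) →ₗ[F] (ι → F) :=
    { toFun := fun x i => if h : (i.2 : ℕ) + 1 < l.get i.1 then x ⟨i.1, ⟨(i.2 : ℕ) + 1, h⟩⟩ else 0
      map_add' := fun x y => funext fun i => by simp only [Pi.add_apply]; split <;> simp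
      map_smul' := fun c x => funext fun i => by simp only [Pi.smul_apply, RingHom.id_apply]; split <;> simp }
  have hN : ∀ (k : ℕ) (x : ι → F) (i : ι), (N ^ k) x i =
      if h : (i.2 : ℕ) + k < l.get i.1 then x ⟨i.1, ⟨(i.2 : ℕ) + k, h⟩⟩ else 0 := by
    intro k
    induction k with
    | zero =>
      intro x i
      simp only [pow_zero, Module.End.one_apply, Nat.add_zero, i.2.isLt, dite_true, Fin.eta, Sigma.eta]
    | succ k ih =>
      intro x i
      rw [pow_succ, Module.End.mul_apply, ih]
      by_cases h : (i.2 : ℕ) + k < l.get i.1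
      · rw [dif_pos h]
        show (if h' : (i.2 : ℕ) + k + 1 < l.get i.1 then _ else 0) = _
        rfl
      · rw [dif_neg h, dif_neg (by omega)]
  let E : (ι → F) ≃ₗ[F] (Fin n → F) := LinearEquiv.funCongrLeft F F (Fintype.equivFinOfCardEq hcard).symm
  have hE : ∀ (k : ℕ) v, (E.conj N ^ k) v = E ((N ^ k) (E.symm v)) := fun k => by
    induction k with
    | zero => intro v; simp
    | succ k ih =>
      intro v
      rw [pow_succ', pow_succ', Module.End.mul_apply, Module.End.mul_apply, ih]
      simp [LinearEquiv.conj_apply]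
  refine ⟨E.conj N, ?_, fun k => ?_⟩
  · refine LinearMap.ext fun v => ?_
    rw [hE, LinearMap.zero_apply, show (N ^ p) (E.symm v) = 0 from funext fun i => ?_, map_zero]
    rw [hN, dif_neg, Pi.zero_apply]
    have := hμ (l.get i.1) (List.get_mem l i.1)
    omega
  · rw [kerDim, top_inf_eq]
    let J := {i : ι // (i.2 : ℕ) < k}
    have hker : LinearMap.ker (E.conj N ^ k) = (LinearMap.ker (N ^ k)).map E.toLinearMap := by
      ext v
      rw [LinearMap.mem_ker, hE, LinearEquiv.map_eq_zero_iff, Submodule.mem_map]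
      exact ⟨fun h => ⟨E.symm v, h, E.apply_symm_apply v⟩,
        fun ⟨w, hw, e⟩ => by rw [← e]; simpa using hw⟩
    let R : LinearMap.ker (N ^ k) ≃ₗ[F] (J → F) :=
      { toFun := fun x j => (x : ι → F) j.1
        map_add' := fun x y => rfl
        map_smul' := fun c x => rfl
        invFun := fun y => ⟨fun i => if h : (i.2 : ℕ) < k then y ⟨i, h⟩ else 0, by
          rw [LinearMap.mem_ker]
          funext i
          rw [hN, Pi.zero_apply]
          split
          · rw [dif_neg]; simp only; omega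
          · rfl⟩
        left_inv := fun x => Subtype.ext (funext fun i => by
          show (if h : (i.2 : ℕ) < k then (x : ι → F) i else 0) = _
          split
          · rfl
          · have h := congrFun (LinearMap.mem_ker.1 x.2) ⟨i.1, ⟨(i.2 : ℕ) - k, by omega⟩⟩
            rw [hN, dif_pos (show (i.2 : ℕ) - k + k < l.get i.1 by omega), Pi.zero_apply] at h
            rw [← h]
            refine congrArg _ ?_
            have hik : (i.2 : ℕ) - k + k = (i.2 : ℕ) := by omega
            exact Sigma.ext rfl (heq_of_eq (Fin.ext hik)))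
        right_inv := fun y => funext fun j => by
          show (if h : (j.1.2 : ℕ) < k then y ⟨j.1, h⟩ else 0) = _
          rw [dif_pos j.2] }
    let e2 : J ≃ Σ a : Fin l.length, {b : Fin (l.get a) // (b : ℕ) < k} :=
      { toFun := fun j => ⟨j.1.1, ⟨j.1.2, j.2⟩⟩
        invFun := fun x => ⟨⟨x.1, x.2.1⟩, x.2.2⟩
        left_inv := fun j => rfl
        right_inv := fun x => rfl }
    have hfib : ∀ a : Fin l.length, Fintype.card {b : Fin (l.get a) // (b : ℕ) < k} = min k (l.get a) :=
      fun a => by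
      rw [Fintype.card_congr (β := Fin (min k (l.get a)))
        { toFun := fun b => ⟨(b.1 : ℕ), lt_min b.2 b.1.isLt⟩
          invFun := fun b => ⟨⟨(b : ℕ), (lt_min_iff.1 b.isLt).2⟩, (lt_min_iff.1 b.isLt).1⟩
          left_inv := fun b => rfl
          right_inv := fun b => rfl }, Fintype.card_fin]
    rw [hker, LinearEquiv.finrank_map_eq, R.finrank_eq, Module.finrank_pi, Fintype.card_congr e2,
      Fintype.card_sigma, Finset.sum_congr rfl fun a _ => hfib a]
    rw [profile, Multiset.map_coe, Multiset.sum_coe, ← Fin.sum_ofFn]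
    congr 1
    rw [show (List.ofFn fun a => min k (l.get a)) = List.ofFn (min k ∘ l.get) from rfl,
      ← List.map_ofFn, List.ofFn_get]

end CfsgLib.Elusive
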