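import Cfsg.Agent.Elusive.Pairs
import Cfsg.Agent.Elusive.Jordan
import Mathlib.LinearAlgebra.Projection
import Mathlib.GroupTheory.PGroup
import Mathlib.Algebra.CharP.Lemmas

/-! Complementary pairs. -/

set_option autoImplicit false
set_option linter.unusedSectionVars false

namespace CfsgLib.Elusive

open Module

variable {F V : Type*} [Field F] [AddCommGroup V] [Module F V] [Fintype F] [FiniteDimensional F V]

theorem dvd_nSub_of_dvd_compl {p r : ℕ} [Fact p.Prime] [CharP F p] [hr : Fact r.Prime] (hrp : r ≠ p)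
    {m : ℕ} (h : r ∣ Nat.card {P : Submodule F V × Submodule F V // IsCompl P.1 P.2 ∧ finrank F P.1 = m}) :
    r ∣ nSub F V m := by
  classical
  have : Finite V := Module.finite_of_finite F
  have : Finite (Submodule F V) :=
    Finite.of_injective (fun W => (W : Set V)) SetLike.coe_injective
  let T := {U : Submodule F V // finrank F U = m}
  have := Fintype.ofFinite T
  let e : {P : Submodule F V × Submodule F V // IsCompl P.1 P.2 ∧ finrank F P.1 = m} ≃
      Σ U : T, {W : Submodule F V // IsCompl U.1 W} :=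
    { toFun := fun P => ⟨⟨P.1.1, P.2.2⟩, ⟨P.1.2, P.2.1⟩⟩
      invFun := fun x => ⟨(x.1.1, x.2.1), x.2.2, x.1.2⟩
      left_inv := fun P => rfl
      right_inv := fun x => rfl }
  rw [Nat.card_congr e, Nat.card_sigma] at h
  have hfib : ∀ U : T, Nat.card {W : Submodule F V // IsCompl U.1 W} =
      Fintype.card F ^ finrank F ((V ⧸ U.1) →ₗ[F] U.1) := by
    intro U
    obtain ⟨W₀, hW₀⟩ := U.1.exists_isCompl
    rw [Nat.card_congr (Submodule.isComplEquivProj U.1)]
    have : Finite ((V ⧸ U.1) →ₗ[F] U.1) := Module.finite_of_finite F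
    let f₀ := U.1.projectionOnto W₀ hW₀
    have hf₀ : ∀ x : U.1, f₀ x = x := fun x => Submodule.projectionOnto_apply_left hW₀ x
    refine (Nat.card_congr (β := (V ⧸ U.1) →ₗ[F] U.1) ?_).trans
      (by rw [Module.natCard_eq_pow_finrank (K := F), Nat.card_eq_fintype_card])
    exact
      { toFun := fun f => U.1.liftQ (f.1 - f₀) (fun x hx => by
          rw [LinearMap.mem_ker, LinearMap.sub_apply, f.2 ⟨x, hx⟩, hf₀ ⟨x, hx⟩, sub_self])
        invFun := fun g => ⟨g ∘ₗ U.1.mkQ + f₀, fun x => by
          rw [LinearMap.add_apply, LinearMap.comp_apply, Submodule.mkQ_apply,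
            (Submodule.Quotient.mk_eq_zero U.1).2 x.2, map_zero, zero_add, hf₀]⟩
        left_inv := fun f => Subtype.ext (LinearMap.ext fun v => by simp)
        right_inv := fun g => Submodule.linearMap_qext _ (LinearMap.ext fun v => by simp) }
  rcases isEmpty_or_nonempty T with hT | ⟨⟨U₁⟩⟩
  · rw [show nSub F V m = 0 from Nat.card_of_isEmpty (α := T)]
    exact dvd_zero r
  have hconst : ∀ U : T, finrank F ((V ⧸ U.1) →ₗ[F] U.1) = finrank F ((V ⧸ U₁.1) →ₗ[F] U₁.1) := by
    intro U
    have h1 := U.1.finrank_quotient_add_finrank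
    have h2 := U₁.1.finrank_quotient_add_finrank
    rw [Module.finrank_linearMap, Module.finrank_linearMap, U.2, U₁.2]
    rw [U.2] at h1
    rw [U₁.2] at h2
    congr 1
    omega
  rw [Finset.sum_congr rfl fun U _ => (hfib U).trans (by rw [hconst U]), Finset.sum_const,
    smul_eq_mul, Finset.card_univ, ← Nat.card_eq_fintype_card] at h
  rcases hr.out.dvd_mul.1 h with h | h
  · exact h
  · exact absurd (hr.out.dvd_of_dvd_pow h)
      (fun hd => card_ne_zero_mod (F := F) hrp ((ZMod.natCast_eq_zero_iff _ _).2 hd))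

theorem exists_compl_of {f : V →ₗ[F] V} (hs : Module.End.IsSemisimple f) {U : Submodule F V}
    (hU : Inv f U) : ∃ W, IsCompl U W ∧ Inv f W :=
  let ⟨W, h1, h2⟩ := exists_compl hs hU
  ⟨W, h2, h1⟩

theorem sub_one_pow_eq_zero {p : ℕ} [Fact p.Prime] [CharP F p] {n : ℕ}
    {g : (Fin n → F) →ₗ[F] (Fin n → F)} (hg : g ^ p = 1) : (g - 1) ^ p = 0 := by
  rcases Nat.eq_zero_or_pos n with rfl | hn
  · exact LinearMap.ext fun v => Subsingleton.elim _ _
  have : Nonempty (Fin n) := ⟨⟨0, hn⟩⟩
  have : CharP ((Fin n → F) →ₗ[F] (Fin n → F)) p :=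
    charP_of_injective_algebraMap (algebraMap F _).injective p
  rw [sub_pow_char_of_commute p (Commute.one_right g), one_pow, hg, sub_self]

theorem exists_pth_root {p : ℕ} [Fact p.Prime] [CharP F p] (c : F) : ∃ d : F, d ^ p = c := by
  have : ExpChar F p := ExpChar.prime (Fact.out)
  exact (Finite.injective_iff_surjective.1 (frobenius_inj F p)) c

theorem inv_add_one {f : V →ₗ[F] V} {W : Submodule F V} : Inv (f - 1) W ↔ Inv f W := by
  constructor
  · intro h v hv
    have := W.add_mem (h v hv) hv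
    simpa using this
  · intro h v hv
    exact W.sub_mem (h v hv) hv

end CfsgLib.Elusive
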