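import Cfsg.Agent.Elusive.SympNormal
import Cfsg.Agent.Elusive.Compl

/-! Elements of order two and normalisers of quadratic extension fields. -/

set_option autoImplicit false
set_option linter.unusedSectionVars false

namespace CfsgLib.Elusive

open Module Matrix Cfsg.Geo

variable {F : Type*} [Field F] [Fintype F] {n m : ℕ}

section Quad

variable {V : Type*} [AddCommGroup V] [Module F V] [FiniteDimensional F V] {g : V →ₗ[F] V}

/-- A basis adapted to a quadratic element without eigenvalues. -/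
theorem exists_quad_basis {β α : F} (hg : g * g = β • g + α • 1) (hz : ∀ c : F, c ^ 2 ≠ β * c + α)
    (hd : finrank F V = 2 * m) :
    ∃ b : Basis (Fin 2 × Fin m) F V, ∀ i, g (b (0, i)) = b (1, i) ∧ g (b (1, i)) = β • b (1, i) + α • b (0, i) := by
  have hgg : ∀ v, g (g v) = β • g v + α • v := fun v => LinearMap.congr_fun hg v
  have key : ∀ k ≤ m, ∃ v : Fin k → V,
      LinearIndependent F (fun p : Fin k × Fin 2 => if p.2 = 0 then v p.1 else g (v p.1)) := by
    intro k
    induction k with
    | zero => exact fun _ => ⟨Fin.elim0, linearIndependent_empty_type⟩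
    | succ k ih =>
      intro hk
      obtain ⟨v, hv⟩ := ih (by omega)
      set S := Submodule.span F (Set.range fun p : Fin k × Fin 2 => if p.2 = 0 then v p.1 else g (v p.1))
      have hS : ∀ y ∈ S, g y ∈ S := fun y hy => by
        have : S.map g ≤ S := by
          rw [Submodule.map_span, Submodule.span_le]
          rintro _ ⟨_, ⟨⟨i, a⟩, rfl⟩, rfl⟩
          fin_cases a
          · exact Submodule.subset_span ⟨(i, 1), by simp⟩
          · show g (if (1 : Fin 2) = 0 then v i else g (v i)) ∈ S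
            rw [if_neg (by decide), hgg]
            exact S.add_mem (S.smul_mem β (Submodule.subset_span ⟨(i, 1), by simp⟩)) (S.smul_mem α (Submodule.subset_span ⟨(i, 0), by simp⟩))
        exact this ⟨y, hy, rfl⟩
      have hSd : finrank F S = k * 2 := by
        rw [finrank_span_eq_card hv, Fintype.card_prod, Fintype.card_fin, Fintype.card_fin]
      obtain ⟨w, -, hw⟩ := SetLike.exists_of_lt (show S < ⊤ from lt_top_iff_ne_top.2 fun e => by
        rw [e, finrank_top, hd] at hSd; omega)
      have hind : ∀ a b : F, a • w + b • g w ∈ S → a = 0 ∧ b = 0 := by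
        intro a b hab
        have hb0 : b = 0 := by
          by_contra hb
          have h2 := hS _ hab
          rw [map_add, map_smul, map_smul, hgg] at h2
          have h3 := S.sub_mem (S.smul_mem (a + b * β) hab) (S.smul_mem b h2)
          rw [show (a + b * β) • (a • w + b • g w) - b • (a • g w + b • (β • g w + α • w)) =
            (a * a + a * b * β - b * b * α) • w by module] at h3
          have h4 : a * a + a * b * β - b * b * α = 0 := by
            by_contra h5
            exact hw ((S.smul_mem_iff h5).1 h3)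
          exact hz (-a / b) (by field_simp; linear_combination h4)
        subst hb0
        rw [zero_smul, add_zero] at hab
        exact ⟨by_contra fun h => hw ((S.smul_mem_iff h).1 hab), rfl⟩
      refine ⟨Fin.snoc v w, ?_⟩
      rw [Fintype.linearIndependent_iff]
      intro c hc
      rw [Fintype.sum_prod_type, Fin.sum_univ_castSucc] at hc
      simp only [Fin.snoc_castSucc, Fin.snoc_last, Fin.sum_univ_two, if_true,
        show ((1 : Fin 2) = 0) = False from eq_false (by decide), if_false] at hc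
      have hmem : c (Fin.last k, 0) • w + c (Fin.last k, 1) • g w ∈ S := by
        rw [eq_neg_of_add_eq_zero_right hc]
        refine S.neg_mem (S.sum_mem fun i _ => S.add_mem (S.smul_mem _ ?_) (S.smul_mem _ ?_))
        · exact Submodule.subset_span ⟨(i, 0), by simp⟩
        · exact Submodule.subset_span ⟨(i, 1), by simp⟩
      obtain ⟨h0, h1⟩ := hind _ _ hmem
      rw [h0, h1, zero_smul, zero_smul, add_zero, add_zero] at hc
      have hrest := Fintype.linearIndependent_iff.1 hv (fun p => c (p.1.castSucc, p.2)) (by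
        rw [Fintype.sum_prod_type]
        simpa [Fin.sum_univ_two] using hc)
      rintro ⟨i, a⟩
      induction i using Fin.lastCases with
      | last => fin_cases a <;> assumption
      | cast i => exact hrest (i, a)
  obtain ⟨v, hv⟩ := key m le_rfl
  let b := basisOfTopLeSpanOfCardEqFinrank _ (by
    rw [Submodule.eq_top_of_finrank_eq (K := F)
      (S := Submodule.span F (Set.range fun p : Fin m × Fin 2 => if p.2 = 0 then v p.1 else g (v p.1))) (by
      rw [finrank_span_eq_card hv, Fintype.card_prod, Fintype.card_fin, Fintype.card_fin, hd, Nat.mul_comm])])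
    (by rw [Fintype.card_prod, Fintype.card_fin, Fintype.card_fin, hd, Nat.mul_comm])
  refine ⟨b.reindex (Equiv.prodComm _ _), fun i => ?_⟩
  simp [b, hgg]

end Quad

theorem exists_conj_blocks (x : Matrix.SpecialLinearGroup (Fin n) F)
    (b c : Basis (Fin 2 × Fin m) F (Fin n → F)) (H : Fin m → Matrix (Fin 2) (Fin 2) F)
    (hb : ∀ a i, Matrix.toLin' (x : Matrix (Fin n) (Fin n) F) (b (a, i)) = ∑ s, H i s a • b (s, i))
    (i₀ : Fin m)
    (hadj : ∀ d : F, d ≠ 0 → ∃ U : Matrix (Fin 2) (Fin 2) F, U.det = d ∧ U * H i₀ = H i₀ * U) :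
    ∃ P : Matrix.SpecialLinearGroup (Fin n) F,
      Matrix.toLin' ((P⁻¹ * x * P : Matrix.SpecialLinearGroup (Fin n) F) : Matrix (Fin n) (Fin n) F) =
        Matrix.toLin c c (blockDiagonal H) := by
  classical
  let e₀ := c.equiv b (Equiv.refl _)
  set h := Matrix.toLin c c (blockDiagonal H) with hh
  have he₀ : ∀ v, Matrix.toLin' (x : Matrix (Fin n) (Fin n) F) (e₀ v) = e₀ (h v) :=
    LinearMap.congr_fun (show Matrix.toLin' (x : Matrix (Fin n) (Fin n) F) ∘ₗ e₀.toLinearMap =
      e₀.toLinearMap ∘ₗ h from c.ext fun p => by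
        obtain ⟨a, i⟩ := p
        simp only [LinearMap.comp_apply, LinearEquiv.coe_coe, h, blocks_apply, e₀, Module.Basis.equiv_apply,
          Equiv.refl_apply, hb, map_sum, map_smul])
  obtain ⟨U, hUd, hU⟩ := hadj (LinearMap.det (e₀ : (Fin n → F) →ₗ[F] (Fin n → F)))⁻¹
    (inv_ne_zero (LinearEquiv.isUnit_det' e₀).ne_zero)
  let Us : Fin m → Matrix (Fin 2) (Fin 2) F := Function.update (fun _ => 1) i₀ U
  set u := Matrix.toLin c c (blockDiagonal Us) with hu
  have hud : LinearMap.det u = (LinearMap.det (e₀ : (Fin n → F) →ₗ[F] (Fin n → F)))⁻¹ := by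
    rw [hu, LinearMap.det_toLin, det_blockDiagonal, Finset.prod_eq_single i₀]
    · simp [Us, hUd]
    · intro j _ hj; simp [Us, Function.update_of_ne hj]
    · intro h; exact absurd (Finset.mem_univ _) h
  have huh : u ∘ₗ h = h ∘ₗ u := by
    rw [hu, hh, ← Matrix.toLin_mul, ← Matrix.toLin_mul, ← blockDiagonal_mul, ← blockDiagonal_mul]
    congr 2
    funext i
    by_cases hi : i = i₀
    · subst hi; simpa [Us] using hU
    · simp [Us, Function.update_of_ne hi]
  obtain ⟨P, hP⟩ := exists_sl (n := n) (f := (e₀ : (Fin n → F) →ₗ[F] (Fin n → F)) ∘ₗ u) (by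
    rw [LinearMap.det_comp, hud, mul_inv_cancel₀ (LinearEquiv.isUnit_det' e₀).ne_zero])
  refine ⟨P, ?_⟩
  have h1 : Matrix.toLin' ((x * P : Matrix.SpecialLinearGroup (Fin n) F) : Matrix (Fin n) (Fin n) F) =
      Matrix.toLin' (P : Matrix (Fin n) (Fin n) F) ∘ₗ h := by
    rw [Matrix.SpecialLinearGroup.coe_mul, Matrix.toLin'_mul, hP, LinearMap.comp_assoc, huh]
    exact LinearMap.ext fun v => by simp [he₀]
  rw [mul_assoc, Matrix.SpecialLinearGroup.coe_mul, Matrix.toLin'_mul, h1, ← LinearMap.comp_assoc,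
    ← Matrix.toLin'_mul, ← Matrix.SpecialLinearGroup.coe_mul, inv_mul_cancel,
    Matrix.SpecialLinearGroup.coe_one, Matrix.toLin'_one, LinearMap.id_comp]

/-- Every quadratic algebra over a finite field with non-square discriminant has all norms. -/
theorem exists_sum_two_squares (d : F) : ∃ s t : F, s ^ 2 + t ^ 2 = d := by
  by_cases h2 : ringChar F = 2
  · have : CharP F 2 := h2 ▸ ringChar.charP F
    obtain ⟨s, hs⟩ := exists_pth_root (p := 2) d
    exact ⟨s, 0, by rw [hs]; ring⟩
  · obtain ⟨s, t, hst⟩ := FiniteField.exists_root_sum_quadratic (R := F) (f := Polynomial.X ^ 2)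
      (g := Polynomial.X ^ 2 - Polynomial.C d) (Polynomial.degree_X_pow 2)
      (by rw [Polynomial.degree_X_pow_sub_C (by norm_num)]; rfl)
      (FiniteField.odd_card_of_char_ne_two h2)
    simp only [Polynomial.eval_pow, Polynomial.eval_X, Polynomial.eval_sub, Polynomial.eval_C] at hst
    exact ⟨s, t, by linear_combination hst⟩

section Field

variable {ι : Type} [Fintype ι] [DecidableEq ι] {K : Subalgebra F (Matrix ι ι F)}

theorem mem_normalizer_of_conj {g : GL ι F}
    (h : ∀ k ∈ K, (g : Matrix ι ι F) * k * ((g⁻¹ : GL ι F) : Matrix ι ι F) ∈ K) :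
    g ∈ subalgebraNormalizer K := by
  intro k
  refine ⟨h k, fun hk => ?_⟩
  let φ : K → K := fun a => ⟨_, h a.1 a.2⟩
  have hinj : Function.Injective φ := fun a b e => by
    have h1 := congrArg (fun c : K => ((g⁻¹ : GL ι F) : Matrix ι ι F) * c.1 * (g : Matrix ι ι F)) e
    simp only [φ, ← mul_assoc, Units.inv_mul, one_mul] at h1
    rw [mul_assoc a.1, Units.inv_mul, mul_one, mul_assoc b.1, Units.inv_mul, mul_one] at h1
    exact Subtype.ext h1
  obtain ⟨a, ha⟩ := (Finite.injective_iff_surjective.1 hinj) ⟨_, hk⟩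
  have h1 := congrArg (fun c : K => ((g⁻¹ : GL ι F) : Matrix ι ι F) * c.1 * (g : Matrix ι ι F)) ha
  simp only [φ, ← mul_assoc, Units.inv_mul, one_mul] at h1
  rw [mul_assoc a.1, Units.inv_mul, mul_one, mul_assoc k, Units.inv_mul, mul_one] at h1
  exact h1 ▸ a.2

theorem exists_generator (hK : IsFieldSubalgebra 2 K) [Nonempty ι] :
    ∃ j ∈ K, ∃ β α : F, j * j = β • j + α • 1 ∧ (∀ c : F, c ^ 2 ≠ β * c + α) ∧
      ∀ k ∈ K, ∃ a b : F, k = a • 1 + b • j := by
  obtain ⟨j, hj, hjn⟩ : ∃ j ∈ K, ∀ a : F, j ≠ a • 1 := by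
    by_contra h
    push Not at h
    have hb : K = ⊥ := eq_bot_iff.2 fun k hk => by
      obtain ⟨a, rfl⟩ := h k hk
      rw [← Algebra.algebraMap_eq_smul_one]
      exact Subalgebra.algebraMap_mem _ a
    have h2 := hK.finrank_eq
    rw [hb, Subalgebra.finrank_bot] at h2
    omega
  have hspan : ∀ k ∈ K, ∃ a b : F, k = a • 1 + b • j := by
    have hli : LinearIndependent F ![(1 : K), ⟨j, hj⟩] := by
      rw [LinearIndependent.pair_iff]
      intro s t hst
      have hst' : s • (1 : Matrix ι ι F) + t • j = 0 := congrArg Subtype.val hst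
      by_cases ht : t = 0
      · subst ht
        rw [zero_smul, add_zero] at hst'
        exact ⟨(smul_eq_zero.1 hst').resolve_right one_ne_zero, rfl⟩
      · refine absurd ?_ (hjn (-(t⁻¹ * s)))
        rw [neg_smul, ← smul_smul, ← smul_neg, ← eq_neg_of_add_eq_zero_right hst', smul_smul,
          inv_mul_cancel₀ ht, one_smul]
    have hsp := hli.span_eq_top_of_card_eq_finrank' (by simp [hK.finrank_eq])
    intro k hk
    have h1 : (⟨k, hk⟩ : K) ∈ Submodule.span F (Set.range ![(1 : K), ⟨j, hj⟩]) := hsp ▸ Submodule.mem_top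
    rw [Submodule.mem_span_range_iff_exists_fun] at h1
    obtain ⟨c, hc⟩ := h1
    refine ⟨c 0, c 1, ?_⟩
    have h2 := congrArg Subtype.val hc
    rw [Fin.sum_univ_two] at h2
    exact h2.symm
  obtain ⟨α, β, h⟩ := hspan _ (K.mul_mem hj hj)
  refine ⟨j, hj, β, α, by rw [h, add_comm], fun c hc => ?_, hspan⟩
  have h0 : j - c • 1 ≠ 0 := sub_ne_zero.2 (hjn c)
  obtain ⟨y, -, hy⟩ := hK.inv _ (K.sub_mem hj (K.smul_mem K.one_mem c)) h0
  have hprod : (j - (β - c) • 1) * (j - c • 1) = 0 := by
    simp only [mul_sub, sub_mul, h, smul_mul_assoc, one_mul, mul_smul_comm, mul_one, smul_smul]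
    rw [show α = c ^ 2 - β * c by linear_combination -hc]
    module
  refine hjn (β - c) (sub_eq_zero.1 ?_)
  have := congrArg (· * y) hprod
  simp only [mul_assoc, hy, mul_one, zero_mul] at this
  exact this

/-- A normalising element has no eigenspace of codimension one. -/
theorem no_hyperplane (hK : IsFieldSubalgebra 2 K) [Nonempty ι] {g : GL ι F}
    (hg : g ∈ subalgebraNormalizer K) {e : F} (he : e ≠ 0) (h3 : 3 ≤ Fintype.card ι)
    (hdim : finrank F (LinearMap.ker (Matrix.toLin' (g : Matrix ι ι F) - e • 1)) = Fintype.card ι - 1) :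
    False := by
  set E := LinearMap.ker (Matrix.toLin' (g : Matrix ι ι F) - e • 1) with hE
  have hmem : ∀ v, v ∈ E ↔ (g : Matrix ι ι F) *ᵥ v = e • v := fun v => by
    simp [hE, sub_eq_zero]
  obtain ⟨j, hj, β, α, hjj, hroot, hspan⟩ := exists_generator hK
  set J := Matrix.toLin' j
  have hJinj : ∀ c : F, ∀ v, J v = c • v → v = 0 := by
    intro c v hv
    by_contra hv0
    have h0 : j - c • 1 ≠ 0 := fun e0 => by
      refine hroot c ?_
      have h1 := hjj
      rw [sub_eq_zero.1 e0] at h1
      obtain ⟨i⟩ := ‹Nonempty ι›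
      have h2 := congrFun (congrFun h1 i) i
      simp at h2
      linear_combination h2
    obtain ⟨y, hy, hy1⟩ := hK.inv _ (K.sub_mem hj (K.smul_mem K.one_mem c)) h0
    rw [hK.comm _ (K.sub_mem hj (K.smul_mem K.one_mem c)) y hy] at hy1
    have h2 : (y * (j - c • 1)) *ᵥ v = 0 := by
      rw [← Matrix.mulVec_mulVec, Matrix.sub_mulVec, Matrix.smul_mulVec, Matrix.one_mulVec,
        ← Matrix.toLin'_apply j, hv, sub_self, Matrix.mulVec_zero]
    rw [hy1, Matrix.one_mulVec] at h2
    exact hv0 h2
  obtain ⟨v, hvE, hvJ, hv0⟩ : ∃ v, v ∈ E ∧ J v ∈ E ∧ v ≠ 0 := by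
    by_contra h
    push Not at h
    have hdis : E ⊓ E.map J = ⊥ := (Submodule.eq_bot_iff _).2 fun v hv => by
      obtain ⟨u, hu, rfl⟩ := hv.2
      rw [h u hu hv.1, map_zero]
    have hbij : Function.Injective J := by
      rw [← LinearMap.ker_eq_bot, Submodule.eq_bot_iff]
      exact fun v hv => hJinj 0 v (by rw [LinearMap.mem_ker.1 hv, zero_smul])
    have hc : finrank F (E.map J) = finrank F E := (Submodule.equivMapOfInjective J hbij E).finrank_eq.symm
    have h1 := Submodule.finrank_sup_add_finrank_inf_eq E (E.map J)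
    rw [hdis, finrank_bot, hc, hdim] at h1
    have h2 := Submodule.finrank_le (E ⊔ E.map J)
    rw [Module.finrank_fintype_fun_eq_card] at h2
    omega
  have hgj : (g : Matrix ι ι F) * j = j * (g : Matrix ι ι F) := by
    set j' := (g : Matrix ι ι F) * j * ((g⁻¹ : GL ι F) : Matrix ι ι F) with hj'
    have hj'K : j' ∈ K := (hg j).1 hj
    have hgv : ((g⁻¹ : GL ι F) : Matrix ι ι F) *ᵥ v = e⁻¹ • v := by
      have h1 := congrArg (((g⁻¹ : GL ι F) : Matrix ι ι F) *ᵥ ·) ((hmem v).1 hvE)
      rw [Matrix.mulVec_mulVec, Units.inv_mul, Matrix.one_mulVec, Matrix.mulVec_smul] at h1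
      conv_rhs => rw [h1, smul_smul, inv_mul_cancel₀ he, one_smul]
    have h1 : (j' - j) *ᵥ v = 0 := by
      rw [Matrix.sub_mulVec, hj', ← Matrix.mulVec_mulVec, hgv, Matrix.mulVec_smul, ← Matrix.mulVec_mulVec,
        ← Matrix.toLin'_apply j v, (hmem _).1 hvJ, smul_smul, inv_mul_cancel₀ he, one_smul, sub_self]
    have h2 : j' - j = 0 := by
      by_contra h0
      obtain ⟨y, hy, hy1⟩ := hK.inv _ (K.sub_mem hj'K hj) h0
      rw [hK.comm _ (K.sub_mem hj'K hj) y hy] at hy1
      have := congrArg (y *ᵥ ·) h1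
      simp only [Matrix.mulVec_mulVec, hy1, Matrix.one_mulVec, Matrix.mulVec_zero] at this
      exact hv0 this
    have h4 := congrArg (· * (g : Matrix ι ι F)) (sub_eq_zero.1 h2)
    simpa [hj', mul_assoc] using h4
  -- the eigenspace is invariant and the quotient a line
  have hinv : ∀ u ∈ E, J u ∈ E := fun u hu => by
    rw [hmem]
    show (g : Matrix ι ι F) *ᵥ (j *ᵥ u) = e • (j *ᵥ u)
    rw [Matrix.mulVec_mulVec, hgj, ← Matrix.mulVec_mulVec, (hmem u).1 hu, Matrix.mulVec_smul]
  have hlt : E < ⊤ := lt_top_iff_ne_top.2 fun e0 => by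
    rw [e0, finrank_top, Module.finrank_fintype_fun_eq_card] at hdim; omega
  obtain ⟨u, -, hu⟩ := SetLike.exists_of_lt hlt
  have htop : E ⊔ (F ∙ u) = ⊤ := Submodule.eq_top_of_finrank_eq (by
    have h1 : E < E ⊔ (F ∙ u) := lt_of_le_of_ne le_sup_left fun e0 =>
      hu (e0 ▸ Submodule.mem_sup_right (Submodule.mem_span_singleton_self u))
    have h2 := Submodule.finrank_lt_finrank_of_lt h1
    have h3 := Submodule.finrank_le (E ⊔ (F ∙ u))
    rw [Module.finrank_fintype_fun_eq_card] at h3 ⊢
    omega)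
  obtain ⟨y, hy, z, hz, hyz⟩ := Submodule.mem_sup.1 (htop ▸ Submodule.mem_top : J u ∈ E ⊔ (F ∙ u))
  obtain ⟨c, rfl⟩ := Submodule.mem_span_singleton.1 hz
  have hle : LinearMap.range (J - c • 1) ≤ E := by
    rintro _ ⟨w, rfl⟩
    obtain ⟨a, ha, b, hb, rfl⟩ := Submodule.mem_sup.1 (htop ▸ Submodule.mem_top : w ∈ E ⊔ (F ∙ u))
    obtain ⟨d, rfl⟩ := Submodule.mem_span_singleton.1 hb
    rw [map_add, map_smul]
    refine E.add_mem ?_ (E.smul_mem d ?_)
    · simpa using E.sub_mem (hinv a ha) (E.smul_mem c ha)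
    · simpa [← hyz] using hy
  have hsur : LinearMap.range (J - c • 1) = ⊤ := LinearMap.range_eq_top.2
    (LinearMap.injective_iff_surjective.1 (by
      rw [← LinearMap.ker_eq_bot, Submodule.eq_bot_iff]
      exact fun w hw => hJinj c w (by simpa [sub_eq_zero] using hw)))
  exact hu (hle (hsur ▸ Submodule.mem_top))

end Field

end CfsgLib.Elusive

namespace CfsgLib.Elusive

open Module

variable {F : Type*} [Field F] [Fintype F] {m : ℕ} {V : Type*} [AddCommGroup V] [Module F V]
  [FiniteDimensional F V] {g : V →ₗ[F] V}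

theorem involution_fix_even (hg : g * g = 1) (h2 : (2 : F) ≠ 0) (hdet : LinearMap.det g = 1)
    (hd : finrank F V = 2 * m) : ∃ k, finrank F (LinearMap.ker (g - 1)) = k + k := by
  have h2' : ((2 : ℕ) : F) ≠ 0 := by simpa using h2
  have : Fact (Nat.Prime 2) := ⟨Nat.prime_two⟩
  have hdis : Disjoint (fixS g) (movS g) :=
    Submodule.disjoint_def.2 fun v h1 h3 => disjoint_fix_mov (r := 2) (by rw [pow_two, hg]) h2' h1 h3
  have hcompl : IsCompl (fixS g) (movS g) := ⟨hdis, codisjoint_iff.2 (by
    refine Submodule.eq_top_of_finrank_eq ?_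
    have h1 := Submodule.finrank_sup_add_finrank_inf_eq (fixS g) (movS g)
    rw [disjoint_iff.1 hdis, finrank_bot] at h1
    have := fix_add_mov (f := g)
    omega)⟩
  set A := fixS g
  set M := movS g with hM
  let E := Submodule.prodEquivOfIsCompl _ _ hcompl
  have hge : g = (E : (A × M) →ₗ[F] V) ∘ₗ
      ((LinearMap.id : A →ₗ[F] A).prodMap ((-1 : F) • (LinearMap.id : M →ₗ[F] M))) ∘ₗ
        (E.symm : V →ₗ[F] (A × M)) := by
    refine LinearMap.ext fun v => ?_
    obtain ⟨⟨a, b⟩, rfl⟩ := E.surjective v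
    simp only [LinearMap.comp_apply, LinearEquiv.coe_coe, LinearEquiv.symm_apply_apply]
    show g ((a : V) + b) = (a : V) + (-1 : F) • (b : V)
    obtain ⟨u, hu⟩ : ∃ u, (g - 1) u = b := b.2
    rw [map_add, mem_fixS.1 a.2, ← hu, neg_one_smul, LinearMap.sub_apply,
      Module.End.one_apply, map_sub, ← Module.End.mul_apply, hg, Module.End.one_apply, neg_sub]
  rw [hge, LinearMap.det_conj, LinearMap.det_prodMap, LinearMap.det_id, one_mul, LinearMap.det_smul,
    LinearMap.det_id, mul_one, neg_one_pow_eq_one_iff_even (by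
      intro h1; exact h2 (by linear_combination -h1))] at hdet
  obtain ⟨w, hw⟩ := hdet
  have hfm := fix_add_mov (f := g)
  rw [hd] at hfm
  refine ⟨m - w, ?_⟩
  show finrank F A = _
  change finrank F A + finrank F M = _ at hfm
  omega

end CfsgLib.Elusive
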