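import Cfsg.Prelude.Def_GeometricClasses
import Cfsg.Agent.Elusive.ExtField
import Mathlib.FieldTheory.Finite.Basic
import Mathlib.RingTheory.IntegralDomain
import Mathlib.Algebra.Polynomial.Roots
import Mathlib.Algebra.Field.IsField

/-!
Intermediate fields of a field subalgebra and small unipotent elements normalising a field subalgebra.
-/

set_option autoImplicit false
open scoped Matrix

namespace CfsgLib.Elusive

open Module Cfsg.Geo

variable {F : Type*} [Field F] [Fintype F] {n : ℕ}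

/-- A unipotent element of small rank normalising a field subalgebra centralises it. -/
theorem commutes_of_small {K : Subalgebra F (Matrix (Fin n) (Fin n) F)}
    (hinv : ∀ x ∈ K, x ≠ 0 → ∃ y ∈ K, x * y = 1) {N : Matrix (Fin n) (Fin n) F} (hN : N * N = 0)
    (hrk : 2 * finrank F (LinearMap.range N.mulVecLin) < n) {T : GL (Fin n) F}
    (hT : (T : Matrix (Fin n) (Fin n) F) = 1 + N) (hTK : T ∈ subalgebraNormalizer K) :
    ∀ k ∈ K, N * k = k * N := by
  intro k hk
  have hTinv : ((T⁻¹ : GL (Fin n) F) : Matrix (Fin n) (Fin n) F) = 1 - N := by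
    refine Units.inv_eq_of_mul_eq_one_right ?_
    rw [hT, add_mul, one_mul, mul_sub, mul_one, hN, sub_zero, sub_add_cancel]
  have hmem := (hTK k).1 hk
  rw [hT, hTinv] at hmem
  set D := (1 + N) * k * (1 - N) - k with hD
  have hD' : D = N * (k - k * N) - k * N := by rw [hD]; noncomm_ring
  have hD0 : D = 0 := by
    by_contra h0
    obtain ⟨y, -, hy⟩ := hinv D (K.sub_mem hmem hk) h0
    have htop : LinearMap.range D.mulVecLin = ⊤ := LinearMap.range_eq_top.2 fun v =>
      ⟨y *ᵥ v, by rw [Matrix.mulVecLin_apply, Matrix.mulVec_mulVec, hy, Matrix.one_mulVec]⟩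
    have hle : LinearMap.range D.mulVecLin ≤
        LinearMap.range N.mulVecLin ⊔ (LinearMap.range N.mulVecLin).map k.mulVecLin := by
      rintro _ ⟨v, rfl⟩
      refine Submodule.mem_sup.2 ⟨_, ⟨(k - k * N) *ᵥ v, rfl⟩, _,
        Submodule.neg_mem _ (Submodule.mem_map_of_mem (LinearMap.mem_range_self _ v)), ?_⟩
      rw [Matrix.mulVecLin_apply, Matrix.mulVecLin_apply, Matrix.mulVecLin_apply, Matrix.mulVecLin_apply,
        Matrix.mulVec_mulVec, Matrix.mulVec_mulVec, ← sub_eq_add_neg, ← Matrix.sub_mulVec, hD']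
    have h1 := Submodule.finrank_mono hle
    have h2 := Submodule.finrank_add_le_finrank_add_finrank (LinearMap.range N.mulVecLin)
      ((LinearMap.range N.mulVecLin).map k.mulVecLin)
    have h3 := Submodule.finrank_map_le k.mulVecLin (LinearMap.range N.mulVecLin)
    rw [htop, finrank_top, finrank_fin_fun] at h1
    omega
  rw [hD0] at hD'
  have h4 : N * (N * (k - k * N) - k * N) = 0 := by rw [← hD', mul_zero]
  have h5 : N * k * N = 0 := by
    rw [mul_sub, ← mul_assoc, hN, zero_mul, zero_sub, neg_eq_zero, ← mul_assoc] at h4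
    exact h4
  rw [mul_sub, ← mul_assoc N k N, h5, sub_zero] at hD'
  exact sub_eq_zero.1 hD'.symm

/-- The determinant of a square-zero unipotent. -/
theorem det_one_add {p : ℕ} [Fact p.Prime] [CharP F p] {N : Matrix (Fin n) (Fin n) F} (hN : N * N = 0) :
    (1 + N).det = 1 := by
  have hp : 2 ≤ p := (Fact.out : p.Prime).two_le
  have hpow : (1 + N) ^ p = 1 := by
    rcases Nat.eq_zero_or_pos n with hn | hn
    · subst hn; exact Subsingleton.elim _ _
    have : Nonempty (Fin n) := ⟨⟨0, hn⟩⟩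
    obtain ⟨k, hk⟩ := Nat.exists_eq_add_of_le hp
    rw [add_pow_char_of_commute p (Commute.one_left N), one_pow, hk, pow_add, pow_two, hN, zero_mul, add_zero]
  have h := congrArg Matrix.det hpow
  rw [Matrix.det_pow, Matrix.det_one] at h
  have h2 : ((1 + N).det - 1) ^ p = 0 := by rw [sub_pow_char, h, one_pow, sub_self]
  exact sub_eq_zero.1 (pow_eq_zero_iff (by omega) |>.1 h2)

/-- A square-zero element of small rank commuting with a field acting on the space. -/
theorem exists_small {L : Type*} [Field L] [Algebra F L] [FiniteDimensional F L]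
    (ι' : L →ₐ[F] Matrix (Fin n) (Fin n) F) (hL : finrank F L < n) :
    ∃ N : Matrix (Fin n) (Fin n) F, N ≠ 0 ∧ N * N = 0 ∧
      finrank F (LinearMap.range N.mulVecLin) ≤ finrank F L ∧ ∀ l, N * ι' l = ι' l * N := by
  let ρ : L →+* Module.End F (Fin n → F) := (Matrix.toLinAlgEquiv'.toAlgHom.comp ι').toRingHom
  letI : Module L (Fin n → F) := Module.compHom _ ρ
  have hact : ∀ (l : L) v, l • v = ι' l *ᵥ v := fun l v => rfl
  haveI : IsScalarTower F L (Fin n → F) := ⟨fun c l v => by
    rw [hact, hact]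
    rw [map_smul]
    rw [Matrix.smul_mulVec]⟩
  have hmul := Module.finrank_mul_finrank F L (Fin n → F)
  rw [finrank_fin_fun] at hmul
  have : Module.Finite L (Fin n → F) := Module.Finite.right F L (Fin n → F)
  have hd2 : 2 ≤ finrank L (Fin n → F) := by
    rcases Nat.lt_or_ge (finrank L (Fin n → F)) 2 with h | h
    · exfalso
      interval_cases finrank L (Fin n → F) <;> omega
    · exact h
  let b := finBasis L (Fin n → F)
  let i0 : Fin (finrank L (Fin n → F)) := ⟨0, by omega⟩
  let i1 : Fin (finrank L (Fin n → F)) := ⟨1, by omega⟩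
  let NL : (Fin n → F) →ₗ[L] (Fin n → F) := (b.coord i0).smulRight (b i1)
  let N := LinearMap.toMatrix' (NL.restrictScalars F)
  have hNv : ∀ v, N *ᵥ v = b.coord i0 v • b i1 := fun v => LinearMap.toMatrix'_mulVec _ v
  have hN0 : N ≠ 0 := fun h => by
    have h1 := hNv (b i0)
    rw [h, Matrix.zero_mulVec, Basis.coord_apply, b.repr_self, Finsupp.single_eq_same, one_smul] at h1
    exact b.ne_zero i1 h1.symm
  have hNN : N * N = 0 := Matrix.toLin'.injective (LinearMap.ext fun v => by
    rw [Matrix.toLin'_apply, ← Matrix.mulVec_mulVec, hNv, hNv]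
    simp [Finsupp.single_eq_of_ne, i0, i1, Fin.ext_iff])
  have hrk : finrank F (LinearMap.range N.mulVecLin) ≤ finrank F L := by
    let μ : L →ₗ[F] (Fin n → F) := (LinearMap.toSpanSingleton L (Fin n → F) (b i1)).restrictScalars F
    have hle : LinearMap.range N.mulVecLin ≤ LinearMap.range μ := by
      rintro _ ⟨v, rfl⟩
      exact ⟨b.coord i0 v, (hNv v).symm⟩
    exact ((Submodule.finrank_mono hle).trans (LinearMap.finrank_range_le μ)).trans le_rfl
  refine ⟨N, hN0, hNN, hrk, fun l => Matrix.toLin'.injective (LinearMap.ext fun v => ?_)⟩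
  rw [Matrix.toLin'_apply, Matrix.toLin'_apply, ← Matrix.mulVec_mulVec, ← Matrix.mulVec_mulVec, hNv, hNv,
    ← hact, ← hact, map_smul, smul_assoc]


/-- A field subalgebra of composite degree has a proper intermediate subfield, characteristic in it,
with a square-zero element of small rank centralising it. -/
theorem exists_intermediate {r : ℕ} (hr1 : 1 < r) (hrp : ¬ r.Prime) (hrn : r ∣ n) (hlt : r < n)
    {K : Subalgebra F (Matrix (Fin n) (Fin n) F)} (hK : IsFieldSubalgebra r K) :
    ∃ L : Subalgebra F (Matrix (Fin n) (Fin n) F), L ≤ K ∧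
      (∀ x ∈ L, x ≠ 0 → ∃ y ∈ L, x * y = 1) ∧
      (∃ j ∈ L, ∀ c : F, j ≠ c • 1) ∧
      subalgebraNormalizer K ≤ subalgebraNormalizer L ∧
      ∃ N : Matrix (Fin n) (Fin n) F, N ≠ 0 ∧ N * N = 0 ∧ 2 * finrank F (LinearMap.range N.mulVecLin) < n ∧
        finrank F (LinearMap.range N.mulVecLin) < r ∧ ∀ l ∈ L, N * l = l * N := by
  classical
  have : Nonempty (Fin n) := ⟨⟨0, by omega⟩⟩
  obtain ⟨p, hp⟩ := CharP.exists F
  obtain ⟨e, hpp, hcard⟩ := FiniteField.card F p
  have : Fact p.Prime := ⟨hpp⟩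
  set q := Fintype.card F with hq
  set s := r.minFac with hs
  have hsP : s.Prime := Nat.minFac_prime (by omega)
  have hs2 : 2 * s ≤ r := by
    obtain ⟨c, hc⟩ := Nat.minFac_dvd r
    rw [← hs] at hc
    have hc2 : 2 ≤ c := by
      rcases c with _ | _ | c
      · simp at hc; omega
      · simp at hc; exact absurd (hc ▸ hsP) hrp
      · omega
    calc 2 * s ≤ c * s := Nat.mul_le_mul_right _ hc2
      _ = r := by rw [hc, Nat.mul_comm]
  -- the field
  have hKF : IsField K :=
    { exists_pair_ne := ⟨0, 1, fun h => zero_ne_one (congrArg Subtype.val h)⟩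
      mul_comm := fun a b => Subtype.ext (hK.comm a a.2 b b.2)
      mul_inv_cancel := fun {a} ha => by
        obtain ⟨y, hy, hy1⟩ := hK.inv a a.2 fun h => ha (Subtype.ext h)
        exact ⟨⟨y, hy⟩, Subtype.ext hy1⟩ }
  let φ := p ^ ((e : ℕ) * s)
  have hφ : φ = q ^ s := by rw [hcard, ← pow_mul]
  have hadd : ∀ a ∈ K, ∀ b ∈ K, (a + b) ^ φ = a ^ φ + b ^ φ := fun a ha b hb =>
    add_pow_char_pow_of_commute p ((e : ℕ) * s) (hK.comm a ha b hb)
  have hsc : ∀ c : F, (algebraMap F (Matrix (Fin n) (Fin n) F) c) ^ φ = algebraMap F _ c := fun c => by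
    rw [← map_pow, hφ, FiniteField.pow_card_pow]
  let L : Subalgebra F (Matrix (Fin n) (Fin n) F) :=
    { carrier := {k | k ∈ K ∧ k ^ φ = k}
      mul_mem' := fun {a b} ha hb => ⟨K.mul_mem ha.1 hb.1, by
        rw [(show Commute a b from hK.comm a ha.1 b hb.1).mul_pow, ha.2, hb.2]⟩
      add_mem' := fun {a b} ha hb => ⟨K.add_mem ha.1 hb.1, by rw [hadd a ha.1 b hb.1, ha.2, hb.2]⟩
      algebraMap_mem' := fun c => ⟨K.algebraMap_mem c, hsc c⟩ }
  have hL : ∀ k, k ∈ L ↔ k ∈ K ∧ k ^ φ = k := fun k => Iff.rfl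
  have hinv : ∀ x ∈ L, x ≠ 0 → ∃ y ∈ L, x * y = 1 := fun x hx hx0 => by
    obtain ⟨y, hy, hxy⟩ := hK.inv x hx.1 hx0
    refine ⟨y, ⟨hy, ?_⟩, hxy⟩
    have hyx : y * x = 1 := (hK.comm y hy x hx.1).trans hxy
    have h := (show Commute x y from hK.comm x hx.1 y hy).mul_pow φ
    rw [hxy, one_pow, hx.2] at h
    calc y ^ φ = (y * x) * y ^ φ := by rw [hyx, one_mul]
      _ = y * (x * y ^ φ) := mul_assoc _ _ _
      _ = y := by rw [← h, mul_one]
  letI : Field K := hKF.toField
  have hKfin : Finite K := inferInstance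
  have := Fintype.ofFinite K
  have hKcard : Fintype.card K = q ^ r := by
    rw [Module.card_eq_pow_finrank (K := F), hK.finrank_eq]
  have hq2 : 2 ≤ q := Fintype.one_lt_card
  obtain ⟨ζ, hζ⟩ := IsCyclic.exists_generator (α := Kˣ)
  have hord : orderOf ζ = q ^ r - 1 := by
    rw [orderOf_eq_card_of_forall_mem_zpowers hζ, Nat.card_eq_fintype_card, Fintype.card_units, hKcard]
  obtain ⟨m, hm⟩ : q ^ s - 1 ∣ q ^ r - 1 := Nat.pow_sub_one_dvd_pow_sub_one q (Nat.minFac_dvd r)
  have hqs : q < q ^ s := by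
    calc q = q ^ 1 := (pow_one q).symm
      _ < q ^ s := Nat.pow_lt_pow_right (by omega) hsP.one_lt
  have hm0 : m ≠ 0 := fun h => by
    rw [h, mul_zero] at hm
    have : q ≤ q ^ r := Nat.le_self_pow (by omega) q
    omega
  set j : K := ((ζ ^ m : Kˣ) : K) with hj
  have hordj : orderOf (ζ ^ m) = q ^ s - 1 := by
    rw [orderOf_pow_of_dvd hm0 (hord ▸ ⟨q ^ s - 1, by rw [hm, mul_comm]⟩), hord, hm,
      Nat.mul_div_cancel _ (Nat.pos_of_ne_zero hm0)]
  have hjL : (j : Matrix (Fin n) (Fin n) F) ∈ L := by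
    refine ⟨j.2, ?_⟩
    have h1 : (ζ ^ m) ^ φ = ζ ^ m := by
      rw [hφ, show q ^ s = (q ^ s - 1) + 1 by omega, pow_succ, ← hordj, pow_orderOf_eq_one, one_mul]
    have h2 := congrArg (fun u : Kˣ => ((u : K) : Matrix (Fin n) (Fin n) F)) h1
    simpa [hj] using h2
  have hjs : ∀ c : F, (j : Matrix (Fin n) (Fin n) F) ≠ c • 1 := fun c hc => by
    have hc0 : c ≠ 0 := fun h => (ζ ^ m).ne_zero (Subtype.ext (by rw [hc, h, zero_smul]; rfl))
    have h1 : (ζ ^ m) ^ (q - 1) = 1 := Units.ext <| Subtype.ext <| by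
      show ((j ^ (q - 1) : K) : Matrix (Fin n) (Fin n) F) = ((1 : K) : Matrix (Fin n) (Fin n) F)
      rw [SubmonoidClass.coe_pow, hc, smul_pow, one_pow, FiniteField.pow_card_sub_one_eq_one c hc0, one_smul]
      rfl
    have := Nat.le_of_dvd (by omega) (orderOf_dvd_of_pow_eq_one h1)
    rw [hordj] at this
    omega
  refine ⟨L, fun k hk => hk.1, hinv, ⟨j, hjL, hjs⟩, fun g hg => ?_, ?_⟩
  · refine mem_normalizer_of_conj fun k hk => ⟨(hg k).1 hk.1, ?_⟩
    have h := Units.conj_pow' g⁻¹ k φ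
    simp only [inv_inv] at h
    rw [h, hk.2]
  -- the small square-zero element
  have hLF : IsField L :=
    { exists_pair_ne := ⟨0, 1, fun h => zero_ne_one (congrArg Subtype.val h)⟩
      mul_comm := fun a b => Subtype.ext (hK.comm a a.2.1 b b.2.1)
      mul_inv_cancel := fun {a} ha => by
        obtain ⟨y, hy, hy1⟩ := hinv a a.2 fun h => ha (Subtype.ext h)
        exact ⟨⟨y, hy⟩, Subtype.ext hy1⟩ }
  letI : Field L := hLF.toField
  have hLs : finrank F L ≤ s := by
    have hroot : Nat.card L ≤ q ^ s := by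
      let f : L → {x : K // x ∈ (Polynomial.X ^ φ - Polynomial.X : Polynomial K).roots.toFinset} := fun l =>
        ⟨⟨l.1, l.2.1⟩, by
          rw [Multiset.mem_toFinset, Polynomial.mem_roots (FiniteField.X_pow_card_sub_X_ne_zero K (by omega)),
            Polynomial.IsRoot.def, Polynomial.eval_sub, Polynomial.eval_pow, Polynomial.eval_X, sub_eq_zero]
          exact Subtype.ext l.2.2⟩
      have hf : Function.Injective f := fun a b h => Subtype.ext (congrArg (fun x => x.1.1) h)
      refine (Nat.card_le_card_of_injective f hf).trans ?_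
      rw [Nat.card_eq_fintype_card, Fintype.card_coe]
      refine (Multiset.toFinset_card_le _).trans ((Polynomial.card_roots' _).trans ?_)
      rw [FiniteField.X_pow_card_sub_X_natDegree_eq K (by omega), hφ]
    have hLfin : Finite L := inferInstance
    rw [Module.natCard_eq_pow_finrank (K := F), Nat.card_eq_fintype_card, ← hq] at hroot
    exact (Nat.pow_le_pow_iff_right (by omega)).1 hroot
  obtain ⟨N, hN0, hNN, hrk, hNL⟩ := exists_small (L := L) L.val (by omega)
  exact ⟨N, hN0, hNN, by omega, by omega, fun l hl => hNL ⟨l, hl⟩⟩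

end CfsgLib.Elusive
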