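import Mathlib

/-! Multisets of residues without affine symmetry of a given slope. -/

set_option autoImplicit false

namespace CfsgLib.Elusive.AffMS

variable {r : ℕ}

/-- Count is invariant under a symmetry. -/
theorem count_eq {α : Type*} [DecidableEq α] {E : Multiset α} {φ : α → α} (hφ : Function.Injective φ)
    (h : E.map φ = E) (a : α) : E.count (φ a) = E.count a := by
  conv_lhs => rw [← h]
  exact Multiset.count_map_eq_count' φ E hφ a

theorem natCast_ne_zero {m : ℕ} (hm : 0 < m) (hmr : m < r) : (m : ZMod r) ≠ 0 := by
  rw [Ne, ZMod.natCast_eq_zero_iff]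
  exact fun h => absurd (Nat.le_of_dvd hm h) (by omega)

theorem aff_injective [Fact r.Prime] {Q : ZMod r} (hQ : Q ≠ 0) (b : ZMod r) :
    Function.Injective fun e : ZMod r => Q * e + b := fun x y h => mul_left_cancel₀ hQ (add_right_cancel h)

theorem zmod_three_cases : ∀ z : ZMod 3, z = 0 ∨ z = 1 ∨ z = 2 := by decide

theorem zmod_three_cases' : ∀ z : ZMod 3, z = 0 ∨ z = 1 ∨ z = -1 := by decide

theorem zmod_five_sum : (1 : ZMod 5) + (1 + 3) = 0 := by decide

theorem exists_bad [hr : Fact r.Prime] (hr2 : r ≠ 2) {n k : ℕ} (hn : 2 ≤ n) (hk : k.Prime)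
    {Q : ZMod r} (hQk : Q ^ k = 1) (hQ1 : Q ≠ 1) (hgap : ¬ (n = 6 ∧ r = 3))
    (hex : ¬ (k = 2 ∧ (n = 2 ∨ (r = n ∧ (n = 3 ∨ n = 5))))) :
    ∃ E : Multiset (ZMod r), Multiset.card E = n ∧ E.sum = 0 ∧ (∃ a ∈ E, ∃ a' ∈ E, a ≠ a') ∧
      ∀ b : ZMod r, E.map (fun e => Q * e + b) ≠ E := by
  have hr3 : 3 ≤ r := by have := hr.out.two_le; omega
  have hQ0 : Q ≠ 0 := fun e => by rw [e, zero_pow hk.ne_zero] at hQk; exact zero_ne_one hQk
  have h10 : (1 : ZMod r) ≠ 0 := one_ne_zero
  have h20 : (2 : ZMod r) ≠ 0 := by exact_mod_cast natCast_ne_zero (r := r) (m := 2) (by omega) (by omega)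
  have hm11 : (-1 : ZMod r) ≠ 1 := fun e => h20 (by linear_combination -e)
  have hk2 : k = 2 → Q = -1 := fun e => by
    subst e
    rcases sq_eq_one_iff.1 hQk with h | h
    · exact absurd h hQ1
    · exact h
  have hkm : Q = -1 → k = 2 := fun e => by
    by_contra h2
    rw [e, (hk.odd_of_ne_two h2).neg_one_pow] at hQk
    exact hm11 hQk
  by_cases hrn : r ∣ n
  · have hn0 : (n : ZMod r) = 0 := (ZMod.natCast_eq_zero_iff n r).2 hrn
    have hnr : r ≤ n := Nat.le_of_dvd (by omega) hrn
    by_cases hk22 : k = 2
    · have hQm := hk2 hk22
      by_cases hr33 : r = 3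
      · subst hr33
        obtain ⟨m, rfl⟩ := hrn
        have hm : 3 ≤ m := by
          by_contra h
          interval_cases m
          · omega
          · exact hex ⟨hk22, Or.inr ⟨rfl, Or.inl rfl⟩⟩
          · exact hgap ⟨rfl, rfl⟩
        refine ⟨Multiset.replicate 3 1 + Multiset.replicate (3 * m - 3) 2, ?_, ?_, ⟨1, ?_, 2, ?_, ?_⟩, ?_⟩
        · rw [Multiset.card_add, Multiset.card_replicate, Multiset.card_replicate]; omega
        · rw [Multiset.sum_add, Multiset.sum_replicate, Multiset.sum_replicate, nsmul_eq_mul, nsmul_eq_mul,
            Nat.cast_sub (by omega), hn0]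
          have h3 : ((3 : ℕ) : ZMod 3) = 0 := ZMod.natCast_self 3
          rw [h3]; simp
        · simp
        · simp only [Multiset.mem_add, Multiset.mem_replicate]; right; exact ⟨by omega, trivial⟩
        · exact fun e => h10 (by linear_combination -e)
        · intro b h
          have hc := count_eq (aff_injective hQ0 b) h
          have h0 := hc 0
          have h1 := hc 1
          rw [hQm] at h0 h1
          simp only [Multiset.count_add, Multiset.count_replicate, mul_zero, zero_add, mul_one] at h0 h1
          have e01 : (0 : ZMod 3) ≠ 1 := zero_ne_one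
          have e02 : (0 : ZMod 3) ≠ 2 := Ne.symm h20
          have e12 : (1 : ZMod 3) ≠ 2 := fun e => h10 (by linear_combination -e)
          have em : (-1 : ZMod 3) = 2 := rfl
          have em2 : (-1 : ZMod 3) + 2 = 1 := by ring
          rcases zmod_three_cases b with hb | hb | hb <;> rw [hb] at h0 h1 <;>
            simp [em, em2, e01, e02, e12, Ne.symm e01, Ne.symm e02, Ne.symm e12] at h0 h1 <;> omega
      · by_cases hr5 : r = 5
        · subst hr5
          have hn10 : 10 ≤ n := by
            obtain ⟨m, rfl⟩ := hrn
            rcases Nat.lt_or_ge m 2 with h | h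
            · exfalso
              obtain rfl : m = 1 := by omega
              exact hex ⟨hk22, Or.inr ⟨rfl, Or.inr rfl⟩⟩
            · omega
          refine ⟨Multiset.replicate (n - 3) 0 + {1, 1, 3}, ?_, ?_, ⟨0, ?_, 1, ?_, ?_⟩, ?_⟩
          · simp; omega
          · simp [zmod_five_sum]
          · simp only [Multiset.mem_add, Multiset.mem_replicate]; left; exact ⟨by omega, trivial⟩
          · simp
          · exact zero_ne_one
          · intro b h
            have hc := count_eq (aff_injective hQ0 b) h
            have h0 := hc 0
            have h1 := hc 1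
            rw [hQm] at h0 h1
            simp only [Multiset.count_add, Multiset.count_replicate, Multiset.insert_eq_cons, Multiset.count_cons,
              Multiset.count_singleton] at h0 h1
            have h30 : (3 : ZMod 5) ≠ 0 := by exact_mod_cast natCast_ne_zero (r := 5) (m := 3) (by omega) (by omega)
            have h40 : (4 : ZMod 5) ≠ 0 := by exact_mod_cast natCast_ne_zero (r := 5) (m := 4) (by omega) (by omega)
            have e13 : (1 : ZMod 5) ≠ 3 := fun e => h20 (by linear_combination -e)
            by_cases hb : b = 0
            · subst hb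
              have e2 : (-1 : ZMod 5) ≠ 3 := fun e => h40 (by linear_combination -e)
              have e3 : (-1 : ZMod 5) ≠ 0 := fun e => h10 (by linear_combination -e)
              simp [hm11, e2, e3, Ne.symm e3, h10.symm, e13] at h1
            · simp only [mul_zero, zero_add, if_neg (Ne.symm hb), h10.symm, Ne.symm h30, if_true, if_false,
                add_zero] at h0
              split_ifs at h0 <;> omega
        · have hr7 : 7 ≤ r := by
            by_contra h
            interval_cases r
            · omega
            · exact absurd hr.out (by decide)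
            · omega
            · exact absurd hr.out (by decide)
          have h30 : (3 : ZMod r) ≠ 0 := by exact_mod_cast natCast_ne_zero (r := r) (m := 3) (by omega) (by omega)
          refine ⟨Multiset.replicate (n - 3) 0 + {1, 2, -3}, ?_, ?_, ⟨0, ?_, 1, ?_, h10.symm⟩, ?_⟩
          · simp; omega
          · simp; ring
          · simp only [Multiset.mem_add, Multiset.mem_replicate]; left; exact ⟨by omega, trivial⟩
          · simp
          · intro b h
            have hc := count_eq (aff_injective hQ0 b) h
            have h0 := hc 0
            have h1 := hc 1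
            rw [hQm] at h0 h1
            simp only [Multiset.count_add, Multiset.count_replicate, Multiset.insert_eq_cons, Multiset.count_cons,
              Multiset.count_singleton] at h0 h1
            by_cases hb : b = 0
            · subst hb
              have e1 : ¬ ((-1 : ZMod r) = 2) := fun e => h30 (by linear_combination -e)
              have e2 : ¬ ((-1 : ZMod r) = -3) := fun e => h20 (by linear_combination e)
              have e3 : ¬ ((-1 : ZMod r) = 0) := fun e => h10 (by linear_combination -e)
              have e4 : ¬ ((0 : ZMod r) = -1) := fun e => e3 e.symm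
              simp [hm11, e1, e2, e3, e4, h10.symm] at h1
            · have h1' : (0 : ZMod r) ≠ 2 := fun e => h20 e.symm
              have h2' : (0 : ZMod r) ≠ -3 := fun e => h30 (by linear_combination e)
              simp only [mul_zero, zero_add, if_neg (Ne.symm hb), h10.symm, h1', h2', if_true, if_false, add_zero] at h0
              split_ifs at h0 <;> omega
    · have hn5 : 5 ≤ n := by
        have : r ≠ 3 := fun e => by
          subst e
          rcases zmod_three_cases' Q with h | h | h
          · exact hQ0 h
          · exact hQ1 h
          · exact hk22 (hkm h)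
        have : r ≠ 4 := fun e => by subst e; exact absurd hr.out (by decide)
        omega
      refine ⟨Multiset.replicate (n - 2) 0 + {1, -1}, ?_, ?_, ⟨0, ?_, 1, ?_, h10.symm⟩, ?_⟩
      · simp; omega
      · simp
      · simp only [Multiset.mem_add, Multiset.mem_replicate]; left; exact ⟨by omega, trivial⟩
      · simp
      · intro b h
        have hc := count_eq (aff_injective hQ0 b) h
        have h0 := hc 0
        have h1 := hc 1
        simp only [Multiset.count_add, Multiset.count_replicate, Multiset.insert_eq_cons, Multiset.count_cons,
          Multiset.count_singleton] at h0 h1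
        by_cases hb : b = 0
        · subst hb
          have hQm : Q ≠ -1 := fun e => hk22 (hkm e)
          simp [hQ1, hQm, hQ0, Ne.symm hQ0, h10.symm, hm11.symm] at h1
        · have h2' : (0 : ZMod r) ≠ -1 := fun e => h10 (by linear_combination e)
          simp only [mul_zero, zero_add, if_neg (Ne.symm hb), h10.symm, h2', if_true, if_false, add_zero] at h0
          split_ifs at h0 <;> omega
  · have hn0 : (n : ZMod r) ≠ 0 := fun e => hrn ((ZMod.natCast_eq_zero_iff n r).1 e)
    set v : ZMod r := -((n - 1 : ℕ) : ZMod r) with hvdef
    have hv : v ≠ 1 := fun e => hn0 (by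
      rw [hvdef, Nat.cast_sub (by omega : 1 ≤ n), Nat.cast_one] at e
      linear_combination -e)
    refine ⟨Multiset.replicate (n - 1) 1 + {v}, ?_, ?_, ⟨1, ?_, v, ?_, Ne.symm hv⟩, ?_⟩
    · simp; omega
    · simp [hvdef]
    · simp only [Multiset.mem_add, Multiset.mem_replicate]; left; exact ⟨by omega, trivial⟩
    · simp
    · intro b h
      have hc := count_eq (aff_injective hQ0 b) h
      have h0 := hc 1
      have h1 := hc v
      simp only [Multiset.count_add, Multiset.count_replicate, Multiset.count_singleton, mul_one] at h0 h1
      by_cases hb : Q + b = 1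
      · have hv2 : Q * v + b = v := by
          by_contra hne
          have : Q * v + b ≠ 1 := fun e => hv (aff_injective hQ0 b (by simpa using e.trans hb.symm))
          simp [hne, Ne.symm this, Ne.symm hv] at h1
        have : (Q - 1) * (v - 1) = 0 := by linear_combination hv2 - hb
        rcases mul_eq_zero.1 this with e | e
        · exact hQ1 (sub_eq_zero.1 e)
        · exact hv (sub_eq_zero.1 e)
      · simp only [if_neg (Ne.symm hb), if_true, if_neg (Ne.symm hv), add_zero, zero_add] at h0
        have hb2 : Q + b = v := by
          by_contra hne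
          rw [if_neg hne] at h0; omega
        rw [if_pos hb2] at h0
        have hn2 : n = 2 := by omega
        have hv2 : Q * v + b = 1 := by
          by_contra hne
          have : Q * v + b ≠ v := fun e => hv (aff_injective hQ0 b (by simpa using e.trans hb2.symm))
          simp [this, Ne.symm hne, Ne.symm hv] at h1
        have : (Q + 1) * (v - 1) = 0 := by linear_combination hv2 - hb2
        rcases mul_eq_zero.1 this with e | e
        · exact hex ⟨hkm (eq_neg_of_add_eq_zero_left e), Or.inl hn2⟩
        · exact hv (sub_eq_zero.1 e)

/-- A multiset with trivial symmetry for the reflection, of sum one. -/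
theorem bad_sum_one [hr : Fact r.Prime] (hr2 : r ≠ 2) {n : ℕ} (hn : 3 ≤ n) (b : ZMod r) :
    (Multiset.replicate (n - 1) 0 + {1}).map (fun e => (-1 : ZMod r) * e + b) ≠
      Multiset.replicate (n - 1) 0 + {1} := by
  intro h
  have hr3 : 3 ≤ r := by have := hr.out.two_le; omega
  have h20 : (2 : ZMod r) ≠ 0 := by exact_mod_cast natCast_ne_zero (r := r) (m := 2) (by omega) (by omega)
  have hQ0 : (-1 : ZMod r) ≠ 0 := neg_ne_zero.2 one_ne_zero
  have hc := count_eq (aff_injective hQ0 b) h
  have h0 := hc 0
  have h1 := hc 1
  simp only [Multiset.count_add, Multiset.count_replicate, Multiset.count_singleton, mul_zero, zero_add] at h0 h1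
  by_cases hb : b = 0
  · subst hb
    have e3 : (-1 : ZMod r) ≠ 0 := hQ0
    have e4 : (-1 : ZMod r) ≠ 1 := fun e => h20 (by linear_combination -e)
    simp [Ne.symm e3, e4] at h1
  · simp [Ne.symm hb] at h0
    split_ifs at h0 <;> omega

theorem centre_three : ∀ a b : ZMod 3,
    ∃ c : ZMod 3, (↑([a, b, -(a + b)].map fun e => 2 * c - e) : Multiset (ZMod 3)) = ↑[a, b, -(a + b)] := by
  decide +kernel

theorem centre_five : ∀ a b d e : ZMod 5,
    ∃ c : ZMod 5, (↑([a, b, d, e, -(a + b + d + e)].map fun x => 2 * c - x) : Multiset (ZMod 5)) =
      ↑[a, b, d, e, -(a + b + d + e)] := by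
  decide +kernel

theorem exists_centre {E : Multiset (ZMod r)} (h : r = 3 ∨ r = 5) (hc : Multiset.card E = r) (hs : E.sum = 0) :
    ∃ c : ZMod r, E.map (fun e => 2 * c - e) = E := by
  induction E using Quotient.inductionOn with
  | h l =>
    rcases h with rfl | rfl
    · obtain ⟨a, b, d, rfl⟩ := List.length_eq_three.1 hc
      have hd : d = -(a + b) := by
        simp at hs; linear_combination hs
      subst hd
      exact centre_three a b
    · match l, hc with
      | [a, b, d, e, g], _ =>
        have hg : g = -(a + b + d + e) := by
          simp at hs; linear_combination hs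
        subst hg
        exact centre_five a b d e

end CfsgLib.Elusive.AffMS
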