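import Mathlib.LinearAlgebra.Matrix.SpecialLinearGroup
import Mathlib.LinearAlgebra.Matrix.ToLin
import Mathlib.LinearAlgebra.FiniteDimensional.Lemmas
import Mathlib.LinearAlgebra.Dimension.Constructions
import Mathlib.LinearAlgebra.Dimension.OrzechProperty
import Mathlib.LinearAlgebra.Matrix.NonsingularInverse
import Mathlib.Tactic

/-! Conjugating by determinant one to a matrix read off from a basis. -/

set_option autoImplicit false

namespace CfsgLib.Elusive

open Module Matrix

variable {F : Type*} [Field F]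

theorem exists_sl_conj_matrix {n : ℕ} (x : Matrix.SpecialLinearGroup (Fin n) F) (b : Basis (Fin n) F (Fin n → F))
    (X : Matrix (Fin n) (Fin n) F)
    (hX : ∀ j, (x : Matrix (Fin n) (Fin n) F) *ᵥ b j = ∑ i, X i j • b i)
    (hadj : ∀ d : F, d ≠ 0 → ∃ D : Matrix (Fin n) (Fin n) F, D.det = d ∧ D * X = X * D) :
    ∃ P : Matrix.SpecialLinearGroup (Fin n) F,
      ((P⁻¹ * x * P : Matrix.SpecialLinearGroup (Fin n) F) : Matrix (Fin n) (Fin n) F) = X := by
  let B : Matrix (Fin n) (Fin n) F := Matrix.of fun l i => b i l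
  have hxB : (x : Matrix (Fin n) (Fin n) F) * B = B * X := by
    ext l j
    have := congrFun (hX j) l
    simp only [Matrix.mulVec, dotProduct, Finset.sum_apply, Pi.smul_apply, smul_eq_mul] at this
    simp only [Matrix.mul_apply, B, Matrix.of_apply]
    rw [this]
    exact Finset.sum_congr rfl fun i _ => mul_comm _ _
  have hB : B.det ≠ 0 := by
    have h1 : B = (Pi.basisFun F (Fin n)).toMatrix b := by
      ext l i; simp [B, Module.Basis.toMatrix_apply]
    have h2 := (Pi.basisFun F (Fin n)).toMatrix_mul_toMatrix_flip b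
    rw [← h1] at h2
    intro e
    have := congrArg Matrix.det h2
    rw [Matrix.det_mul, e, zero_mul, Matrix.det_one] at this
    exact zero_ne_one this
  obtain ⟨D, hD, hDX⟩ := hadj B.det⁻¹ (inv_ne_zero hB)
  let P : Matrix.SpecialLinearGroup (Fin n) F := ⟨B * D, by rw [Matrix.det_mul, hD, mul_inv_cancel₀ hB]⟩
  refine ⟨P, ?_⟩
  have h1 : ((x * P : Matrix.SpecialLinearGroup (Fin n) F) : Matrix (Fin n) (Fin n) F) =
      (P : Matrix (Fin n) (Fin n) F) * X := by
    rw [Matrix.SpecialLinearGroup.coe_mul]
    show (x : Matrix (Fin n) (Fin n) F) * (B * D) = B * D * X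
    rw [← Matrix.mul_assoc, hxB, Matrix.mul_assoc, ← hDX, Matrix.mul_assoc]
  rw [mul_assoc, Matrix.SpecialLinearGroup.coe_mul, h1, ← Matrix.mul_assoc, ← Matrix.SpecialLinearGroup.coe_mul,
    inv_mul_cancel, Matrix.SpecialLinearGroup.coe_one, Matrix.one_mul]

variable {V : Type*} [AddCommGroup V] [Module F V] [FiniteDimensional F V] {n : ℕ} {g : V →ₗ[F] V}

/-- A diagonal basis for an involution. -/
theorem exists_sign_basis (hd : finrank F V = n) (hg : g * g = 1) (h2 : (2 : F) ≠ 0) :
    ∃ (b : Basis (Fin n) F V) (s : Fin n → F), ∀ i, s i * s i = 1 ∧ g (b i) = s i • b i := by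
  have hgg : ∀ v, g (g v) = v := fun v => LinearMap.congr_fun hg v
  let A := LinearMap.ker (g - 1)
  let B := LinearMap.ker (g + 1)
  have hA : ∀ v ∈ A, g v = (1 : F) • v := fun v hv => by rw [one_smul]; exact sub_eq_zero.1 hv
  have hB : ∀ v ∈ B, g v = (-1 : F) • v := fun v hv => by
    rw [neg_one_smul]; exact eq_neg_of_add_eq_zero_left hv
  have hc : IsCompl A B := by
    refine ⟨Submodule.disjoint_def.2 fun v ha hb => ?_, codisjoint_iff.2 (eq_top_iff.2 fun v _ => ?_)⟩
    · have : (2 : F) • v = 0 := by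
        have e := (hA v ha).symm.trans (hB v hb)
        rw [one_smul, neg_one_smul] at e
        rw [two_smul]; nth_rw 1 [e]; rw [neg_add_cancel]
      exact (smul_eq_zero.1 this).resolve_left h2
    · refine Submodule.mem_sup.2 ⟨(2 : F)⁻¹ • (v + g v), ?_, (2 : F)⁻¹ • (v - g v), ?_, ?_⟩
      · simp [A, hgg]; abel
      · simp [B, hgg]
      · rw [← smul_add, show v + g v + (v - g v) = (2 : F) • v by rw [two_smul]; abel, smul_smul,
          inv_mul_cancel₀ h2, one_smul]
  let bb := ((Module.finBasis F A).prod (Module.finBasis F B)).map (Submodule.prodEquivOfIsCompl A B hc)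
  let e : Fin (finrank F A) ⊕ Fin (finrank F B) ≃ Fin n :=
    finSumFinEquiv.trans (finCongr (by rw [Submodule.finrank_add_eq_of_isCompl hc, hd]))
  refine ⟨bb.reindex e, fun i => Sum.elim (fun _ => (1 : F)) (fun _ => -1) (e.symm i), fun i => ⟨?_, ?_⟩⟩
  · obtain ⟨q, rfl⟩ := e.surjective i
    simp only [Equiv.symm_apply_apply]
    rcases q with j | j <;> simp
  · obtain ⟨q, rfl⟩ := e.surjective i
    simp only [Module.Basis.reindex_apply, Equiv.symm_apply_apply]
    rcases q with j | j
    · simpa [bb] using hA _ (Module.finBasis F A j).2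
    · simpa [bb] using hB _ (Module.finBasis F B j).2

/-- A unipotent element of rank-two blocks has a zero-one matrix and centralises scalings of one block. -/
theorem exists_unipotent_matrix (hd : finrank F V = n) (hg : (g - 1) * (g - 1) = 0) (hne : g ≠ 1) :
    ∃ (b : Basis (Fin n) F V) (X : Matrix (Fin n) (Fin n) F), (∀ j, g (b j) = ∑ i, X i j • b i) ∧
      (∀ i j, X i j = 0 ∨ X i j = 1) ∧
      ∀ s : F, ∃ D : Matrix (Fin n) (Fin n) F, D.det = s * s ∧ D * X = X * D := by
  classical
  set N := g - 1 with hNdef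
  have hNN : ∀ v, N (N v) = 0 := fun v => LinearMap.congr_fun hg v
  obtain ⟨U, hU⟩ := exists_isCompl (LinearMap.ker N)
  obtain ⟨W, hW⟩ := exists_isCompl (LinearMap.range N)
  let C := LinearMap.ker N ⊓ W
  have hRK : LinearMap.range N ≤ LinearMap.ker N := by rintro _ ⟨v, rfl⟩; exact hNN v
  let bU := Module.finBasis F U
  let bC := Module.finBasis F C
  let fam : (Fin (finrank F U) ⊕ Fin (finrank F U)) ⊕ Fin (finrank F C) → V :=
    Sum.elim (Sum.elim (fun i => (bU i : V)) (fun i => N (bU i))) fun i => (bC i : V)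
  set S := Submodule.span F (Set.range fam) with hS
  have hUS : U ≤ S := fun u hu => by
    have h1 := congrArg Subtype.val (bU.sum_repr ⟨u, hu⟩)
    simp only [Submodule.coe_sum, Submodule.coe_smul_of_tower] at h1
    rw [← h1]
    exact S.sum_mem fun i _ => S.smul_mem _ (Submodule.subset_span ⟨Sum.inl (Sum.inl i), rfl⟩)
  have hKS : LinearMap.ker N ≤ S := by
    intro v hv
    obtain ⟨r, hr, c, hc, rfl⟩ := Submodule.mem_sup.1 (hW.sup_eq_top ▸ Submodule.mem_top : v ∈ LinearMap.range N ⊔ W)
    refine S.add_mem ?_ ?_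
    · obtain ⟨a, rfl⟩ := hr
      obtain ⟨k, hk, u, hu, rfl⟩ := Submodule.mem_sup.1 (hU.sup_eq_top ▸ Submodule.mem_top : a ∈ LinearMap.ker N ⊔ U)
      rw [map_add, LinearMap.mem_ker.1 hk, zero_add]
      have h1 := congrArg Subtype.val (bU.sum_repr ⟨u, hu⟩)
      simp only [Submodule.coe_sum, Submodule.coe_smul_of_tower] at h1
      rw [← h1, map_sum]
      exact S.sum_mem fun i _ => by
        rw [map_smul]; exact S.smul_mem _ (Submodule.subset_span ⟨Sum.inl (Sum.inr i), rfl⟩)
    · have hcC : c ∈ C := ⟨by simpa using (LinearMap.ker N).sub_mem hv (hRK hr), hc⟩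
      have h1 := congrArg Subtype.val (bC.sum_repr ⟨c, hcC⟩)
      simp only [Submodule.coe_sum, Submodule.coe_smul_of_tower] at h1
      rw [← h1]
      exact S.sum_mem fun i _ => S.smul_mem _ (Submodule.subset_span ⟨Sum.inr i, rfl⟩)
  have hspan : ⊤ ≤ S := hU.sup_eq_top ▸ sup_le hKS hUS
  have hdims : finrank F U + finrank F U + finrank F C = n := by
    have h1 := LinearMap.finrank_range_add_finrank_ker N
    have h2 := Submodule.finrank_add_eq_of_isCompl hU
    have h3 := Submodule.finrank_sup_add_finrank_inf_eq (LinearMap.range N) C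
    rw [show LinearMap.range N ⊔ C = LinearMap.ker N by
          show LinearMap.range N ⊔ LinearMap.ker N ⊓ W = _
          rw [inf_comm, ← sup_inf_assoc_of_le W hRK, hW.sup_eq_top, top_inf_eq],
      show LinearMap.range N ⊓ C = ⊥ from
        le_bot_iff.1 ((inf_le_inf_left _ inf_le_right).trans hW.inf_eq_bot.le), finrank_bot] at h3
    omega
  let b₀ := basisOfTopLeSpanOfCardEqFinrank fam hspan (by
    simp only [Fintype.card_sum, Fintype.card_fin]; omega)
  let e : (Fin (finrank F U) ⊕ Fin (finrank F U)) ⊕ Fin (finrank F C) ≃ Fin n :=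
    Fintype.equivFinOfCardEq (by simp only [Fintype.card_sum, Fintype.card_fin]; omega)
  let tgt : (Fin (finrank F U) ⊕ Fin (finrank F U)) ⊕ Fin (finrank F C) →
      (Fin (finrank F U) ⊕ Fin (finrank F U)) ⊕ Fin (finrank F C) := Sum.map (fun s => Sum.inr (s.elim id id)) id
  let moved : (Fin (finrank F U) ⊕ Fin (finrank F U)) ⊕ Fin (finrank F C) → Bool :=
    Sum.elim (fun s => s.isLeft) fun _ => false
  let X : Matrix (Fin n) (Fin n) F := Matrix.of fun i j =>
    if i = j then 1 else if moved (e.symm j) = true ∧ e.symm i = tgt (e.symm j) then 1 else 0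
  have hgN : ∀ v, g v = v + N v := fun v => by simp [hNdef]
  refine ⟨b₀.reindex e, X, fun j => ?_, fun i j => ?_, fun s => ?_⟩
  · have hb : ∀ p, b₀ p = fam p := fun p => by simp [b₀]
    rw [hgN, ← Finset.add_sum_erase _ _ (Finset.mem_univ j)]
    simp only [Module.Basis.reindex_apply, hb]
    congr 1
    · simp [X]
    · obtain ⟨p, rfl⟩ := e.surjective j
      rw [Equiv.symm_apply_apply]
      rcases p with (p | p) | p
      · rw [Finset.sum_eq_single (e (Sum.inl (Sum.inr p)))]
        · simp [X, fam, moved, tgt, Sum.map]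
        · intro i hi hne'
          have h1 : e.symm i ≠ Sum.inl (Sum.inr p) := fun h => hne' (by rw [← h, Equiv.apply_symm_apply])
          simp [X, moved, tgt, h1, Finset.ne_of_mem_erase hi]
        · intro h
          simp at h
      all_goals
        rw [Finset.sum_eq_zero]
        · first
            | exact hNN _
            | exact LinearMap.mem_ker.1 (bC p).2.1
        · intro i hi
          simp [X, moved, Finset.ne_of_mem_erase hi]
  · simp only [X, Matrix.of_apply]
    split_ifs <;> simp
  · have hk : 0 < finrank F U := by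
      by_contra h0
      refine hne (sub_eq_zero.1 (LinearMap.ker_eq_top.1 ?_))
      have h2 : U = ⊥ := Submodule.finrank_eq_zero.1 (by omega)
      rw [← hU.sup_eq_top, h2, sup_bot_eq]
    let i₀ : Fin (finrank F U) := ⟨0, hk⟩
    let dd : (Fin (finrank F U) ⊕ Fin (finrank F U)) ⊕ Fin (finrank F C) → F :=
      Sum.elim (Sum.elim (fun t => if t = i₀ then s else 1) fun t => if t = i₀ then s else 1) fun _ => 1
    refine ⟨Matrix.diagonal (dd ∘ e.symm), ?_, ?_⟩
    · rw [Matrix.det_diagonal]
      show ∏ i, dd (e.symm i) = s * s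
      rw [e.symm.prod_comp dd, Fintype.prod_sum_type, Fintype.prod_sum_type]
      simp only [dd, Sum.elim_inl, Sum.elim_inr, id, Finset.prod_const_one, mul_one]
      rw [Fintype.prod_ite_eq']
    · ext i j
      rw [Matrix.diagonal_mul, Matrix.mul_diagonal]
      by_cases h : X i j = 0
      · simp [h]
      have hdd : dd (e.symm i) = dd (e.symm j) := by
        by_cases hij : i = j
        · rw [hij]
        · simp only [X, Matrix.of_apply, if_neg hij, ite_eq_right_iff, one_ne_zero, imp_false, not_not] at h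
          rw [h.2]
          generalize e.symm j = q
          rcases q with (q | q) | q <;> simp [dd, tgt]
      simp only [Function.comp_apply, hdd]
      ring

end CfsgLib.Elusive
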