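import Mathlib.LinearAlgebra.Matrix.GeneralLinearGroup.Card
import Mathlib.LinearAlgebra.FiniteDimensional.Lemmas
import Mathlib.Data.ZMod.Basic
import Mathlib.GroupTheory.OrderOfElement
import Mathlib.FieldTheory.Finite.Basic

/-! The number of subspaces of given dimension, modulo primes. -/

set_option autoImplicit false
set_option linter.unusedSectionVars false

namespace CfsgLib.Elusive

open Module

variable {F V : Type*} [Field F] [Fintype F] [AddCommGroup V] [Module F V] [FiniteDimensional F V]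

/-- The number of `m`-dimensional subspaces. -/
noncomputable def nSub (F V : Type*) [Field F] [AddCommGroup V] [Module F V] (m : ℕ) : ℕ :=
  Nat.card {W : Submodule F V // finrank F W = m}

theorem prod_eq_nSub_mul {n m : ℕ} (hn : finrank F V = n) (hm : m ≤ n) :
    ∏ j : Fin m, (Fintype.card F ^ n - Fintype.card F ^ (j : ℕ)) =
      nSub F V m * ∏ j : Fin m, (Fintype.card F ^ m - Fintype.card F ^ (j : ℕ)) := by
  classical
  have : Finite V := Module.finite_of_finite F
  have := Fintype.ofFinite V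
  rw [← hn] at hm ⊢
  rw [← card_linearIndependent hm]
  let T := {W : Submodule F V // finrank F W = m}
  let sp : {s : Fin m → V // LinearIndependent F s} → T := fun s =>
    ⟨Submodule.span F (Set.range s.1), by rw [finrank_span_eq_card s.2, Fintype.card_fin]⟩
  let fib : ∀ W : T, {s // sp s = W} ≃ {s : Fin m → W.1 // LinearIndependent F s} := fun W =>
    { toFun := fun s =>
        ⟨fun j => ⟨s.1.1 j,
            (congrArg Subtype.val s.2).le (Submodule.subset_span ⟨j, rfl⟩)⟩,
          LinearIndependent.of_comp (Submodule.subtype _) s.1.2⟩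
      invFun := fun t => ⟨⟨fun j => (t.1 j : V),
          t.2.map' (Submodule.subtype _) (Submodule.ker_subtype _)⟩, Subtype.ext (by
        have hli : LinearIndependent F fun j => (t.1 j : V) :=
          t.2.map' (Submodule.subtype _) (Submodule.ker_subtype _)
        refine Submodule.eq_of_le_of_finrank_eq (Submodule.span_le.2 ?_) ?_
        · rintro _ ⟨j, rfl⟩
          exact (t.1 j).2
        · rw [finrank_span_eq_card hli, Fintype.card_fin, W.2])⟩
      left_inv := fun s => rfl
      right_inv := fun t => rfl }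
  have e := (Equiv.sigmaFiberEquiv sp).symm.trans (Equiv.sigmaCongrRight fib)
  have : Finite (Submodule F V) :=
    Finite.of_injective (fun W => (W : Set V)) SetLike.coe_injective
  have : Finite T := Subtype.finite
  have := Fintype.ofFinite T
  rw [Nat.card_congr e, Nat.card_sigma]
  rw [Finset.sum_congr rfl (fun W _ => ?_), Finset.sum_const, smul_eq_mul, Finset.card_univ,
    ← Nat.card_eq_fintype_card]
  · rfl
  · have := card_linearIndependent (K := F) (V := W.1) (k := m) W.2.ge
    rw [W.2] at this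
    exact this

theorem prod_mod {r m N : ℕ} (hm : m ≤ N) :
    ((∏ j : Fin m, (Fintype.card F ^ N - Fintype.card F ^ (j : ℕ)) : ℕ) : ZMod r) =
      ∏ j : Fin m, (((Fintype.card F : ℕ) : ZMod r) ^ N - ((Fintype.card F : ℕ) : ZMod r) ^ (j : ℕ)) := by
  rw [Nat.cast_prod]
  refine Finset.prod_congr rfl fun j _ => ?_
  rw [Nat.cast_sub (Nat.pow_le_pow_right Fintype.card_pos (by omega)), Nat.cast_pow, Nat.cast_pow]

theorem not_dvd_nSub {r : ℕ} [Fact r.Prime] (hq : ((Fintype.card F : ℕ) : ZMod r) ≠ 0) {n m : ℕ}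
    (hn : finrank F V = n) (hm : m ≤ n)
    (h : ∀ j < m, ¬ orderOf ((Fintype.card F : ℕ) : ZMod r) ∣ n - j) : ¬ r ∣ nSub F V m := by
  intro hdvd
  have h1 := congrArg (fun x : ℕ => (x : ZMod r)) (prod_eq_nSub_mul hn hm)
  simp only [Nat.cast_mul, prod_mod hm, (ZMod.natCast_eq_zero_iff _ _).2 hdvd, zero_mul,
    Finset.prod_eq_zero_iff, Finset.mem_univ, true_and] at h1
  obtain ⟨j, hj⟩ := h1
  rw [sub_eq_zero] at hj
  refine h j.val j.isLt (orderOf_dvd_iff_pow_eq_one.2 ?_)
  have : ((Fintype.card F : ℕ) : ZMod r) ^ (j : ℕ) * ((Fintype.card F : ℕ) : ZMod r) ^ (n - (j : ℕ)) =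
      ((Fintype.card F : ℕ) : ZMod r) ^ (j : ℕ) * 1 := by
    rw [← pow_add, Nat.add_sub_cancel' (by omega), hj, mul_one]
  exact mul_left_cancel₀ (pow_ne_zero _ hq) this

theorem nSub_mod_char {p : ℕ} [Fact p.Prime] [CharP F p] {n m : ℕ} (hn : finrank F V = n)
    (hm : m ≤ n) : ¬ p ∣ nSub F V m := by
  intro hdvd
  have hprod : ∀ N, m ≤ N → ((∏ j : Fin m, (Fintype.card F ^ (N - (j : ℕ)) - 1) : ℕ) : ZMod p) = (-1) ^ m := by
    intro N hN
    rw [Nat.cast_prod]
    refine (Finset.prod_congr rfl fun j _ => ?_).trans (by rw [Finset.prod_const, Finset.card_univ,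
      Fintype.card_fin])
    obtain ⟨e, -, he⟩ := FiniteField.card F p
    rw [Nat.cast_sub (Nat.one_le_pow _ _ Fintype.card_pos), Nat.cast_one, Nat.cast_pow, he,
      Nat.cast_pow, ZMod.natCast_self, zero_pow e.pos.ne', zero_pow (by omega), zero_sub]
  have hfac : ∀ N, m ≤ N → ∏ j : Fin m, (Fintype.card F ^ N - Fintype.card F ^ (j : ℕ)) =
      (∏ j : Fin m, Fintype.card F ^ (j : ℕ)) * ∏ j : Fin m, (Fintype.card F ^ (N - (j : ℕ)) - 1) := by
    intro N hN
    rw [← Finset.prod_mul_distrib]
    refine Finset.prod_congr rfl fun j _ => ?_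
    rw [Nat.mul_sub, ← pow_add, Nat.add_sub_cancel' (by omega), mul_one]
  have h1 := prod_eq_nSub_mul (F := F) (V := V) hn hm
  rw [hfac n hm, hfac m le_rfl, mul_left_comm] at h1
  have h2 := Nat.eq_of_mul_eq_mul_left
    (Finset.prod_pos fun j _ => Nat.pow_pos Fintype.card_pos) h1
  have h3 := congrArg (fun x : ℕ => (x : ZMod p)) h2
  simp only [Nat.cast_mul, (ZMod.natCast_eq_zero_iff _ _).2 hdvd, zero_mul, hprod n hm] at h3
  exact pow_ne_zero m (neg_ne_zero.2 one_ne_zero) h3

end CfsgLib.Elusive
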