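import Cfsg.Agent.Elusive.Greedy
import Mathlib.FieldTheory.KummerPolynomial
import Mathlib.LinearAlgebra.Charpoly.BaseChange
import Mathlib.LinearAlgebra.Eigenspace.Minpoly
import Mathlib.LinearAlgebra.Determinant
import Mathlib.RingTheory.AdjoinRoot

/-! Maps whose `r`-th power is a scalar which is not an `r`-th power. -/

set_option autoImplicit false
set_option linter.unusedSectionVars false

namespace CfsgLib.Elusive

open Polynomial Module

variable {F V : Type*} [Field F] [AddCommGroup V] [Module F V] [FiniteDimensional F V]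
  {f : V →ₗ[F] V} {r : ℕ} [hr : Fact r.Prime] {c : F}

theorem restrict_pow_smul (hf : f ^ r = c • 1) {W : Submodule F V} (hW : Inv f W) :
    (f.restrict hW) ^ r = c • 1 := by
  refine LinearMap.ext fun w => Subtype.ext ?_
  have : ∀ k : ℕ, (((f.restrict hW) ^ k) w : V) = (f ^ k) w := fun k => by
    induction k with
    | zero => simp
    | succ k ih => rw [pow_succ', pow_succ', Module.End.mul_apply, Module.End.mul_apply, ← ih]; rfl
  rw [this, hf]
  rfl

theorem kum_dvd (hf : f ^ r = c • 1) (hc : ∀ y : F, y ^ r ≠ c) {W : Submodule F V} (hW : Inv f W) :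
    r ∣ finrank F W := by
  by_contra hndvd
  have h1 : LinearMap.det (f.restrict hW) ^ r = c ^ finrank F W := by
    rw [← map_pow, restrict_pow_smul hf hW, LinearMap.det_smul, map_one, mul_one]
  have hcop : Nat.Coprime (finrank F W) r := ((Nat.Prime.coprime_iff_not_dvd hr.out).2 hndvd).symm
  obtain ⟨a, ha⟩ := Nat.exists_mul_mod_eq_one_of_coprime hcop hr.out.one_lt
  have h3 : finrank F W * a = r * (finrank F W * a / r) + 1 := by
    rw [← ha.2]; exact (Nat.div_add_mod _ r).symm
  rcases eq_or_ne c 0 with rfl | hc0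
  · exact hc 0 (zero_pow hr.out.ne_zero)
  refine hc (LinearMap.det (f.restrict hW) ^ a / c ^ (finrank F W * a / r)) ?_
  rw [div_pow, ← pow_mul, ← pow_mul, Nat.mul_comm a r, pow_mul, h1, ← pow_mul,
    Nat.mul_comm (_ / r) r]
  generalize finrank F W * a / r = k at h3 ⊢
  rw [h3, pow_succ, mul_div_cancel_left₀ _ (pow_ne_zero _ hc0)]

theorem kum_exists (hf : f ^ r = c • 1) (hc : ∀ y : F, y ^ r ≠ c) {m : ℕ} (hm : r ∣ m)
    (hmV : m ≤ finrank F V) : ∃ X, Inv f X ∧ finrank F X = m := by
  obtain ⟨j, rfl⟩ := hm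
  obtain ⟨X, hX, -, -, hd⟩ := greedy (f := f) (i := r) [X ^ r - C c]
    (fun P hP => by
      rw [List.mem_singleton] at hP; subst hP
      exact ⟨monic_X_pow_sub_C c hr.out.ne_zero, (natDegree_X_pow_sub_C).le⟩)
    (Inv.bot f) (Inv.top f) bot_le
    (fun u _ => by
      rw [List.prod_singleton, map_sub, map_pow, aeval_X, aeval_C, hf, LinearMap.sub_apply,
        LinearMap.smul_apply, Module.End.one_apply, Module.algebraMap_end_apply, sub_self]
      exact Submodule.zero_mem _)
    (fun X hX _ _ => by rw [finrank_bot, Nat.sub_zero]; exact kum_dvd hf hc hX) j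
    (by rw [finrank_bot, finrank_top, Nat.mul_comm j r]; omega)
  exact ⟨X, hX, by rw [hd, finrank_bot, Nat.zero_add, Nat.mul_comm]⟩

theorem det_block (hf : f ^ r = c • 1) (hc : ∀ y : F, y ^ r ≠ c) (hd : finrank F V = r) :
    LinearMap.det f = (-1) ^ (r + 1) * c := by
  have hirr : Irreducible (X ^ r - C c) := X_pow_sub_C_irreducible_of_prime hr.out hc
  have hmon : (X ^ r - C c : F[X]).Monic := monic_X_pow_sub_C c hr.out.ne_zero
  have hann : aeval f (X ^ r - C c) = 0 := by
    rw [map_sub, map_pow, aeval_X, aeval_C, hf, Algebra.algebraMap_eq_smul_one, sub_self]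
  have hmin : minpoly F f = X ^ r - C c := by
    have : Nontrivial V := Module.finrank_pos_iff.1 (by rw [hd]; exact hr.out.pos)
    exact (minpoly.eq_of_irreducible_of_monic hirr hann hmon).symm
  have hch : f.charpoly = X ^ r - C c := by
    rw [← hmin]
    refine (eq_of_monic_of_dvd_of_natDegree_le (minpoly.monic f.isIntegral)
      f.charpoly_monic (LinearMap.minpoly_dvd_charpoly f) ?_)
    rw [hmin, f.charpoly_natDegree, hd, natDegree_X_pow_sub_C]
  rw [LinearMap.det_eq_sign_charpoly_coeff, hd, hch, coeff_sub, coeff_X_pow, coeff_C_zero,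
    if_neg hr.out.ne_zero.symm, zero_sub, mul_neg, pow_succ, mul_neg_one, neg_mul]

theorem kum_det : ∀ (s : ℕ) (V : Type _) [AddCommGroup V] [Module F V] [FiniteDimensional F V]
    (f : V →ₗ[F] V), f ^ r = c • 1 → (∀ y : F, y ^ r ≠ c) → finrank F V = s * r →
    LinearMap.det f = ((-1) ^ (r + 1) * c) ^ s := by
  intro s
  induction s with
  | zero =>
    intro V _ _ _ f _ _ hd
    rw [Nat.zero_mul] at hd
    have : Subsingleton V := Module.finrank_zero_iff.1 hd
    rw [LinearMap.det_eq_one_of_finrank_eq_zero hd, pow_zero]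
  | succ s ih =>
    intro V _ _ _ f hf hc hd
    obtain ⟨W, hW, hWd⟩ := kum_exists hf hc (dvd_refl r)
      (by rw [hd, Nat.add_mul, Nat.one_mul]; omega)
    have hmq : (W.mapQ W f hW) ^ r = c • 1 := by
      have hk : ∀ k : ℕ, ∀ v, ((W.mapQ W f hW) ^ k) (Submodule.Quotient.mk v) =
          Submodule.Quotient.mk ((f ^ k) v) := fun k => by
        induction k with
        | zero => intro v; rfl
        | succ k ih =>
          intro v
          rw [pow_succ', pow_succ', Module.End.mul_apply, Module.End.mul_apply, ih]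
          rfl
      refine LinearMap.ext fun x => ?_
      obtain ⟨v, rfl⟩ := Submodule.Quotient.mk_surjective W x
      rw [hk, hf]
      rfl
    have hdq : finrank F (V ⧸ W) = s * r := by
      have := W.finrank_quotient_add_finrank
      rw [hd, hWd, Nat.add_mul, Nat.one_mul] at this
      omega
    rw [LinearMap.det_eq_det_mul_det W f hW, det_block (restrict_pow_smul hf hW) hc hWd,
      ih _ _ hmq hc hdq, ← pow_succ']

theorem kum_build (hc : ∀ y : F, y ^ r ≠ c) {n : ℕ} (hn : r ∣ n) :
    ∃ f : (Fin n → F) →ₗ[F] (Fin n → F), f ^ r = c • 1 := by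
  obtain ⟨s, rfl⟩ := hn
  have hmon : (X ^ r - C c : F[X]).Monic := monic_X_pow_sub_C c hr.out.ne_zero
  let K := AdjoinRoot (X ^ r - C c)
  let pb := AdjoinRoot.powerBasis hmon.ne_zero
  have : Module.Finite F K := pb.finite
  have hK : finrank F K = r := by
    rw [pb.finrank]
    show (X ^ r - C c : F[X]).natDegree = r
    exact natDegree_X_pow_sub_C
  let e : (Fin s → K) ≃ₗ[F] (Fin (r * s) → F) := LinearEquiv.ofFinrankEq _ _
    (by rw [Module.finrank_pi_fintype, Finset.sum_const, Finset.card_univ, Fintype.card_fin,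
      smul_eq_mul, Module.finrank_fin_fun, hK, Nat.mul_comm])
  let g : (Fin s → K) →ₗ[F] (Fin s → K) := LinearMap.mulLeft F (fun _ => AdjoinRoot.root _)
  refine ⟨e.conj g, ?_⟩
  have hroot : (AdjoinRoot.root (X ^ r - C c)) ^ r = algebraMap F K c := by
    have := AdjoinRoot.eval₂_root (X ^ r - C c)
    rwa [eval₂_sub, eval₂_pow, eval₂_X, eval₂_C, sub_eq_zero] at this
  have hg : g ^ r = c • 1 := by
    rw [LinearMap.pow_mulLeft]
    refine LinearMap.ext fun x => funext fun j => ?_
    rw [LinearMap.mulLeft_apply, LinearMap.smul_apply, Module.End.one_apply, Pi.mul_apply,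
      Pi.pow_apply, Pi.smul_apply, hroot, Algebra.smul_def]
  have hpow : ∀ k : ℕ, e.conj g ^ k = e.conj (g ^ k) := fun k => by
    induction k with
    | zero => rw [pow_zero, pow_zero]; exact (LinearMap.ext fun x => by simp [LinearEquiv.conj_apply])
    | succ k ih =>
      rw [pow_succ, pow_succ, ih]
      exact LinearMap.ext fun x => by simp [LinearEquiv.conj_apply]
  rw [hpow, hg, map_smul]
  exact congrArg (c • ·) (LinearMap.ext fun x => by simp [LinearEquiv.conj_apply])

end CfsgLib.Elusive
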