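import Cfsg.Agent.Elusive.Semisimple
import Cfsg.Agent.Elusive.Count
import Cfsg.Agent.Elusive.Kummer
import Mathlib.LinearAlgebra.Matrix.GeneralLinearGroup.Card
import Mathlib.LinearAlgebra.Matrix.SpecialLinearGroup
import Mathlib.GroupTheory.Perm.Cycle.Type
import Mathlib.GroupTheory.SpecificGroups.Cyclic
import Mathlib.RingTheory.IntegralDomain
import Mathlib.NumberTheory.Padics.PadicVal.Basic

/-! Elements of prime order of `SL_n(q)`: construction and normal forms. -/

set_option autoImplicit false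
set_option linter.unusedSectionVars false

namespace CfsgLib.Elusive

open Module

variable {F : Type*} [Field F] [Fintype F]

theorem orderOf_q_pos {r : ℕ} [Fact r.Prime] (h : ((Fintype.card F : ℕ) : ZMod r) ≠ 0) :
    0 < orderOf ((Fintype.card F : ℕ) : ZMod r) :=
  orderOf_pos_iff.2 (isOfFinOrder_iff_pow_eq_one.2
    ⟨r - 1, by have := (Fact.out : r.Prime).two_le; omega, ZMod.pow_card_sub_one_eq_one h⟩)

theorem card_ne_zero_mod {p r : ℕ} [Fact p.Prime] [CharP F p] [hr : Fact r.Prime] (hrp : r ≠ p) :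
    ((Fintype.card F : ℕ) : ZMod r) ≠ 0 := by
  obtain ⟨e, hp, he⟩ := FiniteField.card F p
  rw [Ne, ZMod.natCast_eq_zero_iff, he]
  exact fun h => hrp ((Nat.prime_dvd_prime_iff_eq hr.out hp).1 (hr.out.dvd_of_dvd_pow h))

theorem cast_ne_zero_of_ne {p r : ℕ} [Fact p.Prime] [CharP F p] [hr : Fact r.Prime] (hrp : r ≠ p) :
    (r : F) ≠ 0 := by
  rw [Ne, CharP.cast_eq_zero_iff F p]
  exact fun h => hrp ((Nat.prime_dvd_prime_iff_eq (Fact.out) hr.out).1 h).symm

theorem dvd_card_sub_one_iff {r : ℕ} :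
    r ∣ Fintype.card F - 1 ↔ ((Fintype.card F : ℕ) : ZMod r) = 1 := by
  rw [← ZMod.natCast_eq_zero_iff, Nat.cast_sub Fintype.card_pos, Nat.cast_one, sub_eq_zero]

theorem coprime_of_order {r : ℕ} [hr : Fact r.Prime]
    (h : orderOf ((Fintype.card F : ℕ) : ZMod r) ≠ 1) : Nat.Coprime r (Fintype.card F - 1) := by
  rw [Nat.Prime.coprime_iff_not_dvd hr.out, dvd_card_sub_one_iff]
  exact fun e => h (orderOf_eq_one_iff.2 e)

theorem eq_one_of_pow_of_order {r : ℕ} [hr : Fact r.Prime]
    (h : orderOf ((Fintype.card F : ℕ) : ZMod r) ≠ 1) {z : F} (hz : z ^ r = 1) : z = 1 := by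
  have hz0 : z ≠ 0 := fun e => by
    rw [e, zero_pow hr.out.ne_zero] at hz; exact zero_ne_one hz
  have h2 := FiniteField.pow_card_sub_one_eq_one z hz0
  have := (pow_gcd_eq_one (a := z) (m := r) (n := Fintype.card F - 1)).2 ⟨hz, h2⟩
  rwa [coprime_of_order h, pow_one] at this

theorem exists_root_of_order {r : ℕ} [hr : Fact r.Prime]
    (h : orderOf ((Fintype.card F : ℕ) : ZMod r) ≠ 1) (c : F) : ∃ d : F, d ^ r = c := by
  have hinj : Function.Injective fun y : F => y ^ r := fun y z e => by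
    rcases eq_or_ne z 0 with rfl | hz
    · simpa [hr.out.ne_zero] using e
    · have : (y / z) ^ r = 1 := by
        rw [div_pow]; simp only at e; rw [e, div_self (pow_ne_zero _ hz)]
      exact (div_eq_one_iff_eq hz).1 (eq_one_of_pow_of_order h this)
  exact (Finite.injective_iff_surjective.1 hinj) c

/-- A map of order `r` without fixed vectors in dimension `i`. -/
theorem exists_fpf {r : ℕ} [hr : Fact r.Prime] (hrF : (r : F) ≠ 0) {i : ℕ}
    (hi : i = orderOf ((Fintype.card F : ℕ) : ZMod r)) (hi0 : 0 < i) :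
    ∃ g : (Fin i → F) →ₗ[F] (Fin i → F), g ^ r = 1 ∧ fixS g = ⊥ := by
  classical
  have hdvd : r ∣ Nat.card (GL (Fin i) F) := by
    rw [Matrix.card_GL_field]
    refine Dvd.dvd.trans ?_ (Finset.dvd_prod_of_mem _ (Finset.mem_univ (⟨0, hi0⟩ : Fin i)))
    rw [pow_zero, ← ZMod.natCast_eq_zero_iff, Nat.cast_sub (Nat.one_le_pow _ _ Fintype.card_pos),
      Nat.cast_pow, Nat.cast_one, hi, pow_orderOf_eq_one, sub_self]
  obtain ⟨x, hx⟩ := exists_prime_orderOf_dvd_card' r hdvd
  have hxr : (x : Matrix (Fin i) (Fin i) F) ^ r = 1 := by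
    have := congrArg (fun y : GL (Fin i) F => (y : Matrix (Fin i) (Fin i) F))
      (hx ▸ pow_orderOf_eq_one x : x ^ r = 1)
    simpa using this
  have hg : Matrix.toLinAlgEquiv' (x : Matrix (Fin i) (Fin i) F) ^ r = 1 := by
    rw [← map_pow, hxr, map_one]
  refine ⟨Matrix.toLinAlgEquiv' (x : Matrix (Fin i) (Fin i) F), hg, ?_⟩
  set g := Matrix.toLinAlgEquiv' (x : Matrix (Fin i) (Fin i) F) with hgdef
  have h1 : movS g ≠ ⊥ := by
    intro hb
    have h2 : g = 1 := sub_eq_zero.1 (LinearMap.range_eq_bot.1 hb)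
    have h3 : (x : Matrix (Fin i) (Fin i) F) = 1 :=
      Matrix.toLinAlgEquiv'.injective (by rw [← hgdef, h2, map_one])
    have : x = 1 := Units.ext h3
    rw [this, orderOf_one] at hx
    exact hr.out.one_lt.ne hx
  have hd : i ∣ finrank F (movS g) := by
    have := mov_dvd hg hrF (Inv.top g)
    rw [Submodule.map_top, ← hi] at this
    exact this
  have hs := fix_add_mov (f := g)
  rw [Module.finrank_fin_fun] at hs
  have hne : finrank F (movS g) ≠ 0 := fun e => h1 (Submodule.finrank_eq_zero.1 e)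
  have := Nat.le_of_dvd (Nat.pos_of_ne_zero hne) hd
  exact Submodule.finrank_eq_zero.1 (by omega)

/-- A map of order `r` whose fixed space has the least possible dimension. -/
theorem exists_min_fix {r : ℕ} [hr : Fact r.Prime] (hrF : (r : F) ≠ 0) {i : ℕ}
    (hi : i = orderOf ((Fintype.card F : ℕ) : ZMod r)) (hi0 : 0 < i) {n s e : ℕ}
    (hn : n = s * i + e) :
    ∃ f : (Fin n → F) →ₗ[F] (Fin n → F), f ^ r = 1 ∧ finrank F (fixS f) = e := by
  obtain ⟨g, hg, hgf⟩ := exists_fpf hrF hi hi0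
  let h : ((Fin s → Fin i → F) × (Fin e → F)) →ₗ[F] ((Fin s → Fin i → F) × (Fin e → F)) :=
    (LinearMap.pi fun j => g ∘ₗ LinearMap.proj j).prodMap LinearMap.id
  have hh : ∀ (k : ℕ) v, (h ^ k) v = (fun j => (g ^ k) (v.1 j), v.2) := fun k => by
    induction k with
    | zero => intro v; rfl
    | succ k ih =>
      intro v
      rw [pow_succ', Module.End.mul_apply, ih]
      exact Prod.ext (funext fun j => by rw [pow_succ' g k]; rfl) rfl
  let e' : ((Fin s → Fin i → F) × (Fin e → F)) ≃ₗ[F] (Fin n → F) := LinearEquiv.ofFinrankEq _ _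
    (by rw [Module.finrank_prod, Module.finrank_pi_fintype, Finset.sum_const, Finset.card_univ,
      Fintype.card_fin, Module.finrank_fin_fun, Module.finrank_fin_fun, Module.finrank_fin_fun,
      smul_eq_mul, hn])
  refine ⟨e'.conj h, ?_, ?_⟩
  · have hk : ∀ (k : ℕ) v, (e'.conj h ^ k) v = e' ((h ^ k) (e'.symm v)) := fun k => by
      induction k with
      | zero => intro v; simp
      | succ k ih =>
        intro v
        rw [pow_succ', pow_succ', Module.End.mul_apply, Module.End.mul_apply, ih]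
        simp [LinearEquiv.conj_apply]
    refine LinearMap.ext fun v => ?_
    rw [hk, hh, hg]
    exact e'.apply_symm_apply v
  · have hfix : fixS (e'.conj h) = (LinearMap.range (LinearMap.inr F (Fin s → Fin i → F) (Fin e → F))).map
        e'.toLinearMap := by
      ext v
      rw [mem_fixS, Submodule.mem_map]
      constructor
      · intro hv
        refine ⟨e'.symm v, ⟨(e'.symm v).2, Prod.ext (funext fun j => ?_) rfl⟩, e'.apply_symm_apply v⟩
        have h1 : h (e'.symm v) = e'.symm v := by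
          apply e'.injective
          rw [e'.apply_symm_apply]
          simpa [LinearEquiv.conj_apply] using hv
        have : (e'.symm v).1 j ∈ fixS g :=
          mem_fixS.2 (congrFun (congrArg Prod.fst h1) j)
        rw [hgf, Submodule.mem_bot] at this
        exact this.symm
      · rintro ⟨_, ⟨w, rfl⟩, rfl⟩
        simp [LinearEquiv.conj_apply, h]
    rw [hfix, LinearEquiv.finrank_map_eq, LinearMap.finrank_range_of_inj LinearMap.inr_injective,
      Module.finrank_fin_fun]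

theorem det_eq_one {r : ℕ} [hr : Fact r.Prime]
    (h : orderOf ((Fintype.card F : ℕ) : ZMod r) ≠ 1) {V : Type*} [AddCommGroup V] [Module F V]
    {f : V →ₗ[F] V} (hf : f ^ r = 1) : LinearMap.det f = 1 :=
  eq_one_of_pow_of_order h (by rw [← map_pow, hf, map_one])

theorem exists_unit_iff {r : ℕ} [hr : Fact r.Prime] (hrq : r ∣ Fintype.card F - 1) (s : ℕ) :
    (∃ u : Fˣ, u ^ s = 1 ∧ u ^ ((Fintype.card F - 1) / r) ≠ 1) ↔
      r ^ padicValNat r (Fintype.card F - 1) ∣ s := by
  classical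
  have hN : Fintype.card Fˣ = Fintype.card F - 1 := Fintype.card_units F
  set N := Fintype.card F - 1 with hNdef
  have hN0 : 0 < N := hN ▸ Fintype.card_pos
  constructor
  · rintro ⟨u, hu, hu2⟩
    have ho : orderOf u ∣ N := hN ▸ orderOf_dvd_card
    obtain ⟨t, ht⟩ := ho
    have hrt : ¬ r ∣ t := fun ⟨t', ht'⟩ => hu2 (by
      rw [← orderOf_dvd_iff_pow_eq_one]
      refine ⟨t', ?_⟩
      rw [ht, ht', show orderOf u * (r * t') = r * (orderOf u * t') by ring,
        Nat.mul_div_cancel_left _ hr.out.pos])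
    have h1 : r ^ padicValNat r N ∣ orderOf u * t := ht ▸ pow_padicValNat_dvd
    exact ((Nat.Coprime.pow_left _ ((Nat.Prime.coprime_iff_not_dvd hr.out).2 hrt)).dvd_of_dvd_mul_right
      h1).trans (orderOf_dvd_of_pow_eq_one hu)
  · intro hs
    obtain ⟨g, hg⟩ := IsCyclic.exists_generator (α := Fˣ)
    have hgo : orderOf g = N := by
      rw [orderOf_eq_card_of_forall_mem_zpowers hg, Nat.card_eq_fintype_card, hN]
    obtain ⟨w, hw⟩ : r ^ padicValNat r N ∣ N := pow_padicValNat_dvd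
    refine ⟨g ^ w, ?_, ?_⟩
    · obtain ⟨s', rfl⟩ := hs
      rw [← pow_mul, show w * (r ^ padicValNat r N * s') = N * s' by
        rw [← Nat.mul_assoc, Nat.mul_comm w, ← hw], pow_mul, ← hgo, pow_orderOf_eq_one, one_pow]
    · rw [← pow_mul, Ne, ← orderOf_dvd_iff_pow_eq_one, hgo]
      intro hd
      have hw0 : 0 < w := Nat.pos_of_ne_zero fun e => by rw [e, Nat.mul_zero] at hw; omega
      have hd' : r ^ padicValNat r N ∣ N / r := by
        apply Nat.dvd_of_mul_dvd_mul_left hw0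
        rwa [Nat.mul_comm w (r ^ _), ← hw]
      obtain ⟨k, hk⟩ := hd'
      have : r ^ (padicValNat r N + 1) ∣ N := ⟨k, by
        rw [pow_succ, Nat.mul_right_comm, ← hk, Nat.div_mul_cancel hrq]⟩
      exact pow_succ_padicValNat_not_dvd hN0.ne' this

theorem not_pow_iff {r : ℕ} [hr : Fact r.Prime] (hrq : r ∣ Fintype.card F - 1) (u : Fˣ) :
    (∀ y : F, y ^ r ≠ u) ↔ u ^ ((Fintype.card F - 1) / r) ≠ 1 := by
  classical
  have hN : Fintype.card Fˣ = Fintype.card F - 1 := Fintype.card_units F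
  constructor
  · intro h h1
    obtain ⟨g, hg⟩ := IsCyclic.exists_generator (α := Fˣ)
    have hgo : orderOf g = Fintype.card F - 1 := by
      rw [orderOf_eq_card_of_forall_mem_zpowers hg, Nat.card_eq_fintype_card, hN]
    obtain ⟨k, rfl⟩ := (mem_powers_iff_mem_zpowers).2 (hg u)
    rw [← pow_mul, ← orderOf_dvd_iff_pow_eq_one, hgo] at h1
    obtain ⟨k', hk'⟩ : r ∣ k := by
      have hpos : 0 < (Fintype.card F - 1) / r :=
        Nat.div_pos (Nat.le_of_dvd (hN ▸ Fintype.card_pos) hrq) hr.out.pos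
      refine Nat.dvd_of_mul_dvd_mul_right hpos ?_
      rwa [Nat.mul_div_cancel' hrq]
    exact h ((g : F) ^ k') (by rw [hk', ← pow_mul, Nat.mul_comm k' r]; simp)
  · intro h y hy
    have hy0 : y ≠ 0 := fun e => u.ne_zero (by rw [← hy, e, zero_pow hr.out.ne_zero])
    refine h (Units.ext ?_)
    rw [Units.val_pow_eq_pow_val, ← hy, ← pow_mul, Nat.mul_div_cancel' hrq]
    exact FiniteField.pow_card_sub_one_eq_one y hy0

/-- When a non-power can have the determinant condition. -/
theorem exists_nonpow_iff {r : ℕ} [hr : Fact r.Prime] (hrq : r ∣ Fintype.card F - 1) {n : ℕ}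
    (hn : r ∣ n) (hn0 : n ≠ 0) :
    (∃ c : F, (∀ y : F, y ^ r ≠ c) ∧ ((-1 : F) ^ (r + 1) * c) ^ (n / r) = 1) ↔
      ¬ (padicValNat r n ≤ padicValNat r (Fintype.card F - 1) ∧
        (r = 2 → Even n → Fintype.card F % 4 = 1)) := by
  classical
  set N := Fintype.card F - 1 with hNdef
  obtain ⟨s, rfl⟩ := hn
  rw [Nat.mul_div_cancel_left s hr.out.pos]
  have hval : r ^ padicValNat r N ∣ s ↔ ¬ padicValNat r (r * s) ≤ padicValNat r N := by
    rw [not_le, ← Nat.succ_le_iff,
      ← padicValNat_dvd_iff_le hn0, pow_succ', Nat.mul_dvd_mul_iff_left hr.out.pos]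
  have key : (∃ c : F, (∀ y : F, y ^ r ≠ c) ∧ ((-1 : F) ^ (r + 1) * c) ^ s = 1) ↔
      ∃ u : Fˣ, u ^ s = 1 ∧ ((-1) ^ (r + 1) * u) ^ (N / r) ≠ 1 := by
    have hsq : ∀ x : F, (-1) ^ (r + 1) * ((-1) ^ (r + 1) * x) = x := fun x => by
      rw [← mul_assoc, ← mul_pow, neg_one_mul, neg_neg, one_pow, one_mul]
    constructor
    · rintro ⟨c, hc, h1⟩
      have hc0 : c ≠ 0 := fun e => hc 0 (by rw [e, zero_pow hr.out.ne_zero])
      refine ⟨(-1) ^ (r + 1) * Units.mk0 c hc0, Units.ext (by simpa using h1), ?_⟩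
      refine (not_pow_iff hrq _).1 fun y hy => hc y ?_
      rw [hy]; simp [hsq]
    · rintro ⟨u, h1, h2⟩
      refine ⟨((-1) ^ (r + 1) * u : Fˣ), (not_pow_iff hrq _).2 h2, ?_⟩
      have := congrArg (fun z : Fˣ => (z : F)) h1
      simpa [hsq] using this
  rw [key]
  by_cases h2 : r = 2 ∧ Fintype.card F % 4 ≠ 1
  · obtain ⟨rfl, h4⟩ := h2
    refine iff_of_true ⟨1, one_pow _, ?_⟩ fun hh => h4 (hh.2 rfl (even_two_mul s))
    have hodd : Fintype.card F % 2 = 1 := by have := Fintype.card_pos (α := F); omega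
    have hne : (-1 : F) ≠ 1 := by
      intro e
      have hch : ringChar F = 2 := by
        exact CharP.ringChar_of_prime_eq_zero Nat.prime_two (by
          rw [Nat.cast_two, ← one_add_one_eq_two]; nth_rw 1 [← e]; exact neg_add_cancel 1)
      have := FiniteField.even_card_iff_char_two.1 hch
      omega
    rw [mul_one, ← pow_mul]
    intro e
    have e' := congrArg (fun z : Fˣ => (z : F)) e
    simp only [Units.val_pow_eq_pow_val, Units.val_neg, Units.val_one] at e'
    rw [Odd.neg_one_pow (Nat.odd_mul.2 ⟨by decide, Nat.odd_iff.2 (by omega)⟩)] at e'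
    exact hne e'
  · have hsign : ((-1 : Fˣ) ^ (r + 1)) ^ (N / r) = 1 := by
      rw [← pow_mul]
      refine Even.neg_one_pow ?_
      rcases hr.out.eq_two_or_odd with h | h
      · subst h
        have h4 : Fintype.card F % 4 = 1 := not_not.1 fun h4 => h2 ⟨rfl, h4⟩
        exact Nat.even_mul.2 (Or.inr (Nat.even_iff.2 (by omega)))
      · exact Nat.even_mul.2 (Or.inl (Nat.even_iff.2 (by omega)))
    simp only [mul_pow, hsign, one_mul]
    rw [exists_unit_iff hrq, hval]
    exact ⟨fun h hh => h hh.1, fun h hh => h ⟨hh, fun e _ => not_not.1 fun h4 => h2 ⟨e, h4⟩⟩⟩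

/-- Every element of order `r` is, up to scalars, of order `r` or a root of a non-power. -/
theorem normal_form {r : ℕ} [hr : Fact r.Prime] {n : ℕ} (x : Matrix.SpecialLinearGroup (Fin n) F)
    {c : F} (hx : ((x ^ r : Matrix.SpecialLinearGroup (Fin n) F) : Matrix (Fin n) (Fin n) F) = c • 1) :
    (∃ g : (Fin n → F) →ₗ[F] (Fin n → F), g ^ r = 1 ∧
      ∀ W : Submodule F (Fin n → F), Inv g W →
        W.map (Matrix.toLin' (x : Matrix (Fin n) (Fin n) F)) ≤ W) ∨
    (Matrix.toLin' (x : Matrix (Fin n) (Fin n) F) ^ r = c • 1 ∧ ∀ y : F, y ^ r ≠ c) := by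
  have hf : Matrix.toLin' (x : Matrix (Fin n) (Fin n) F) ^ r = c • 1 := by
    rw [Matrix.SpecialLinearGroup.coe_pow] at hx
    show Matrix.toLinAlgEquiv' (x : Matrix (Fin n) (Fin n) F) ^ r = c • 1
    rw [← map_pow, hx, map_smul, map_one]
  by_cases h : ∃ y : F, y ^ r = c
  · left
    obtain ⟨y, rfl⟩ := h
    rcases eq_or_ne y 0 with rfl | hy0
    · rcases Nat.eq_zero_or_pos n with rfl | hn
      · exact ⟨1, one_pow _, fun W _ => le_of_eq (Subsingleton.elim _ _)⟩
      · exfalso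
        have hd : Matrix.det ((x ^ r : Matrix.SpecialLinearGroup (Fin n) F) : Matrix (Fin n) (Fin n) F) = 1 :=
          (x ^ r).2
        have : Nonempty (Fin n) := ⟨⟨0, hn⟩⟩
        rw [hx, zero_pow hr.out.ne_zero, zero_smul, Matrix.det_zero] at hd
        exact zero_ne_one hd
    refine ⟨y⁻¹ • Matrix.toLin' (x : Matrix (Fin n) (Fin n) F), ?_, fun W hW => ?_⟩
    · rw [smul_pow, hf, smul_smul, ← mul_pow, inv_mul_cancel₀ hy0, one_pow, one_smul]
    · rintro _ ⟨v, hv, rfl⟩
      have := W.smul_mem y (hW v hv)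
      rwa [LinearMap.smul_apply, smul_smul, mul_inv_cancel₀ hy0, one_smul] at this
  · exact Or.inr ⟨hf, fun y hy => h ⟨y, hy⟩⟩

theorem exists_sl {n : ℕ} {f : (Fin n → F) →ₗ[F] (Fin n → F)} (hd : LinearMap.det f = 1) :
    ∃ x : Matrix.SpecialLinearGroup (Fin n) F,
      Matrix.toLin' (x : Matrix (Fin n) (Fin n) F) = f :=
  ⟨⟨LinearMap.toMatrix' f, by rw [LinearMap.det_toMatrix']; exact hd⟩, Matrix.toLin'_toMatrix' f⟩

theorem sl_pow_scalar {n r : ℕ} {f : (Fin n → F) →ₗ[F] (Fin n → F)} {c : F} (hf : f ^ r = c • 1)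
    {x : Matrix.SpecialLinearGroup (Fin n) F}
    (hx : Matrix.toLin' (x : Matrix (Fin n) (Fin n) F) = f) :
    ((x ^ r : Matrix.SpecialLinearGroup (Fin n) F) : Matrix (Fin n) (Fin n) F) =
      c • (1 : Matrix (Fin n) (Fin n) F) := by
  rw [Matrix.SpecialLinearGroup.coe_pow]
  apply Matrix.toLinAlgEquiv'.injective
  rw [map_pow, map_smul, map_one]
  rw [← hf, ← hx]
  rfl

theorem scalar_toLin {n : ℕ} {z : F} {M : Matrix (Fin n) (Fin n) F} (h : M = z • 1) :
    Matrix.toLin' M = z • 1 := by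
  rw [h, map_smul, Matrix.toLin'_one]
  rfl

end CfsgLib.Elusive
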