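import Cfsg.Agent.Elusive.Compl

/-! Decompositions into equidimensional subspaces permuted by an involution. -/

set_option autoImplicit false
set_option linter.unusedSectionVars false

namespace CfsgLib.Elusive

open Module

variable {F V : Type*} [Field F] [AddCommGroup V] [Module F V] [FiniteDimensional F V]

/-- `T` splits into `t` subspaces of dimension `a` permuted by `f`. -/
def Splits (f : V →ₗ[F] V) (a : ℕ) (T : Submodule F V) (t : ℕ) : Prop :=
  ∃ D : Fin t → Submodule F V, (∀ j, finrank F (D j) = a) ∧ iSup D = T ∧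
    ∃ σ : Equiv.Perm (Fin t), ∀ j, (D j).map f = D (σ j)

variable {f : V →ₗ[F] V} {a : ℕ}

theorem Splits.zero : Splits f a ⊥ 0 :=
  ⟨Fin.elim0, fun j => j.elim0, by simp, 1, fun j => j.elim0⟩

theorem Splits.single {U : Submodule F V} (hd : finrank F U = a) (h : U.map f = U) :
    Splits f a U 1 :=
  ⟨fun _ => U, fun _ => hd, by simp, 1, fun _ => h⟩

theorem Splits.pair {U W : Submodule F V} (hU : finrank F U = a) (hW : finrank F W = a)
    (h1 : U.map f = W) (h2 : W.map f = U) : Splits f a (U ⊔ W) 2 := by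
  refine ⟨![U, W], fun j => ?_, ?_, Equiv.swap 0 1, fun j => ?_⟩
  · fin_cases j
    · exact hU
    · exact hW
  · refine le_antisymm (iSup_le fun j => by fin_cases j <;> simp) (sup_le ?_ ?_)
    · exact le_iSup ![U, W] 0
    · exact le_iSup ![U, W] 1
  · fin_cases j <;> simp [h1, h2]

theorem Splits.append {A B : Submodule F V} {s t : ℕ} (hA : Splits f a A s) (hB : Splits f a B t) :
    Splits f a (A ⊔ B) (s + t) := by
  obtain ⟨D, hD, hDs, σ, hσ⟩ := hA
  obtain ⟨E, hE, hEs, τ, hτ⟩ := hB
  refine ⟨Fin.append D E, fun j => ?_, ?_,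
    finSumFinEquiv.permCongr (Equiv.sumCongr σ τ), fun j => ?_⟩
  · induction j using Fin.addCases with
    | left k => rw [Fin.append_left]; exact hD k
    | right k => rw [Fin.append_right]; exact hE k
  · rw [← hDs, ← hEs]
    refine le_antisymm (iSup_le fun j => ?_) (sup_le (iSup_le fun k => ?_) (iSup_le fun k => ?_))
    · induction j using Fin.addCases with
      | left k => rw [Fin.append_left]; exact le_sup_of_le_left (le_iSup D k)
      | right k => rw [Fin.append_right]; exact le_sup_of_le_right (le_iSup E k)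
    · exact le_iSup_of_le (Fin.castAdd t k) (by simp)
    · exact le_iSup_of_le (Fin.natAdd s k) (by simp)
  · obtain ⟨k | k, rfl⟩ := finSumFinEquiv.surjective j <;> simp [Equiv.permCongr_apply, hσ, hτ]

theorem indep_of_dims {t : ℕ} {D : Fin t → Submodule F V} (hd : ∀ j, finrank F (D j) = a)
    (hs : iSup D = ⊤) (hn : finrank F V = a * t) : iSupIndep D := by
  classical
  have hle : ∀ s : Finset (Fin t), finrank F ↥(s.sup D) ≤ a * s.card := by
    intro s
    induction s using Finset.induction_on with
    | empty => simp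
    | insert b s hb ih =>
      rw [Finset.sup_insert, Finset.card_insert_of_notMem hb, Nat.mul_add, Nat.mul_one]
      have := Submodule.finrank_sup_add_finrank_inf_eq (D b) (s.sup D)
      rw [hd] at this
      omega
  intro j
  refine Disjoint.mono_right (c := (Finset.univ.erase j).sup D)
    (iSup₂_le fun k hk => Finset.le_sup (Finset.mem_erase.2 ⟨hk, Finset.mem_univ _⟩)) ?_
  have htop : D j ⊔ (Finset.univ.erase j).sup D = ⊤ := by
    rw [← Finset.sup_insert, Finset.insert_erase (Finset.mem_univ j), Finset.sup_univ_eq_iSup, hs]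
  have h1 := Submodule.finrank_sup_add_finrank_inf_eq (D j) ((Finset.univ.erase j).sup D)
  have h2 := hle (Finset.univ.erase j)
  rw [htop, finrank_top, hn, hd] at h1
  rw [Finset.card_erase_of_mem (Finset.mem_univ j), Finset.card_univ, Fintype.card_fin] at h2
  rw [disjoint_iff, ← Submodule.finrank_eq_zero (R := F)]
  have ht : 0 < t := by have := j.isLt; omega
  obtain ⟨t', rfl⟩ : ∃ t', t = t' + 1 := ⟨t - 1, by omega⟩
  rw [Nat.add_sub_cancel] at h2
  rw [Nat.mul_add, Nat.mul_one] at h1
  omega

theorem map_eq_of_inv (hf : Function.Injective f) {U : Submodule F V} (hU : Inv f U) :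
    U.map f = U :=
  Submodule.eq_of_le_of_finrank_eq (inv_iff.1 hU)
    (LinearEquiv.finrank_eq (Submodule.equivMapOfInjective f hf U)).symm

theorem compl_inside {U W T : Submodule F V} (hc : IsCompl U W) (hU : U ≤ T) :
    U ⊔ W ⊓ T = T ∧ U ⊓ (W ⊓ T) = ⊥ :=
  ⟨by rw [← sup_inf_assoc_of_le W hU, hc.sup_eq_top, top_inf_eq],
    le_bot_iff.1 ((inf_le_inf_left U inf_le_left).trans hc.inf_eq_bot.le)⟩

theorem dim_compl {U W T : Submodule F V} (h1 : U ⊔ W = T) (h2 : U ⊓ W = ⊥) :
    finrank F T = finrank F U + finrank F W := by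
  have := Submodule.finrank_sup_add_finrank_inf_eq U W
  rw [h1, h2, finrank_bot] at this
  omega

/-- Peeling singles. -/
theorem splits_of_single (hf : Function.Injective f) (P : Submodule F V → Prop)
    (hP : ∀ T, P T → Inv f T → a ≤ finrank F T → 0 < finrank F T →
      ∃ U W, Inv f U ∧ Inv f W ∧ U ⊔ W = T ∧ U ⊓ W = ⊥ ∧ finrank F U = a ∧ P W) :
    ∀ (t : ℕ) (T : Submodule F V), P T → Inv f T → finrank F T = a * t → 0 < a → Splits f a T t
  | 0, T, _, _, hd, _ => by
    rw [Nat.mul_zero] at hd
    rw [Submodule.finrank_eq_zero.1 hd]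
    exact Splits.zero
  | t + 1, T, hPT, hT, hd, ha => by
    rw [Nat.mul_add, Nat.mul_one] at hd
    obtain ⟨U, W, hU, hW, hsup, hinf, hUd, hPW⟩ := hP T hPT hT (by omega) (by omega)
    have := dim_compl hsup hinf
    have h := (Splits.single hUd (map_eq_of_inv hf hU)).append
      (splits_of_single hf P hP t W hPW hW (by omega) ha)
    rwa [hsup, Nat.add_comm] at h

/-- Peeling pairs. -/
theorem splits_of_pair (P : Submodule F V → Prop)
    (hP : ∀ T, P T → Inv f T → 2 * a ≤ finrank F T →
      ∃ U X W, X.map f = U ∧ U.map f = X ∧ Inv f W ∧ (U ⊔ X) ⊔ W = T ∧ (U ⊔ X) ⊓ W = ⊥ ∧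
        finrank F U = a ∧ finrank F X = a ∧ finrank F ↥(U ⊔ X) = 2 * a ∧ P W) :
    ∀ (s : ℕ) (T : Submodule F V), P T → Inv f T → finrank F T = 2 * a * s → Splits f a T (2 * s)
  | 0, T, _, _, hd => by
    rw [Nat.mul_zero] at hd
    rw [Submodule.finrank_eq_zero.1 hd]
    exact Splits.zero
  | s + 1, T, hPT, hT, hd => by
    rw [Nat.mul_add, Nat.mul_one] at hd
    obtain ⟨U, X, W, hXU, hUX, hW, hsup, hinf, hUd, hXd, hUXd, hPW⟩ := hP T hPT hT (by omega)
    have := dim_compl hsup hinf
    have h := (Splits.pair hUd hXd hUX hXU).append (splits_of_pair P hP s W hPW hW (by omega))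
    rwa [hsup, show 2 + 2 * s = 2 * (s + 1) by omega] at h

variable [Fintype F]

theorem zmod_two_eq_one : ∀ z : ZMod 2, z ≠ 0 → z = 1 := by decide

/-- Case of a scalar square which is not a square. -/
theorem splits_kummer {c : F} (hf : f ^ 2 = c • 1) (hc : ∀ y : F, y ^ 2 ≠ c) (h2 : (2 : F) ≠ 0)
    (ha : 0 < a) {t : ℕ} (hn : finrank F V = a * t) : Splits f a ⊤ t := by
  have : Fact (Nat.Prime 2) := ⟨Nat.prime_two⟩
  have hc0 : c ≠ 0 := fun e => hc 0 (by rw [e, zero_pow two_ne_zero])
  have hss := semisimple_of_pow_eq_smul hf (by simpa using h2) hc0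
  have hff : ∀ v, f (f v) = c • v := fun v => by
    have := LinearMap.congr_fun hf v
    rwa [pow_two, Module.End.mul_apply] at this
  have hinj : Function.Injective f := fun v w e => by
    have := congrArg f e
    rw [hff, hff] at this
    exact smul_right_injective V hc0 this
  have hpick : ∀ {m : ℕ} {T : Submodule F V}, Inv f T → 2 ∣ m → m ≤ finrank F T →
      ∃ U, Inv f U ∧ U ≤ T ∧ finrank F U = m := by
    rintro _ T hT ⟨j, rfl⟩ hm
    obtain ⟨U, hU, -, hUT, hUd⟩ := greedy (f := f) (i := 2) [Polynomial.X ^ 2 - Polynomial.C c]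
      (fun P hP => by
        rw [List.mem_singleton] at hP; subst hP
        exact ⟨Polynomial.monic_X_pow_sub_C c two_ne_zero, Polynomial.natDegree_X_pow_sub_C.le⟩)
      (Inv.bot f) hT bot_le
      (fun u _ => by
        rw [List.prod_singleton, map_sub, map_pow, Polynomial.aeval_X, Polynomial.aeval_C, hf,
          Algebra.algebraMap_eq_smul_one, sub_self, LinearMap.zero_apply]
        exact Submodule.zero_mem _)
      (fun X hX _ _ => by rw [finrank_bot, Nat.sub_zero]; exact kum_dvd hf hc hX) j
      (by rw [finrank_bot]; omega)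
    exact ⟨U, hU, hUT, by rw [hUd, finrank_bot]; omega⟩
  rcases Nat.even_or_odd a with ⟨a', ha'⟩ | hao
  · refine splits_of_single hinj (fun _ => True) (fun T _ hT hle _ => ?_) t ⊤ trivial (Inv.top f)
      (by rw [finrank_top, hn]) ha
    obtain ⟨U, hU, hUT, hUd⟩ := hpick hT (m := a) ⟨a', by omega⟩ hle
    obtain ⟨W, hW, hcW⟩ := exists_compl hss hU
    obtain ⟨h1, h2⟩ := compl_inside hcW hUT
    exact ⟨U, W ⊓ T, hU, hW.inf hT, h1, h2, hUd, trivial⟩
  · have htop := kum_dvd hf hc (Inv.top f)
    rw [finrank_top, hn] at htop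
    obtain ⟨s, rfl⟩ : 2 ∣ t := (Nat.prime_two.dvd_mul.1 htop).resolve_left
      fun h => Nat.not_even_iff_odd.2 hao (even_iff_two_dvd.2 h)
    refine splits_of_pair (fun _ => True) (fun T _ hT hle => ?_) s ⊤ trivial (Inv.top f)
      (by rw [finrank_top, hn]; ring)
    obtain ⟨X, hX, hXT, hXd⟩ := hpick hT (m := 2 * a) (dvd_mul_right 2 a) hle
    have grow : ∀ k ≤ a, ∃ U : Submodule F V, U ≤ X ∧ finrank F U = k ∧
        finrank F ↥(U ⊔ U.map f) = 2 * k := by
      intro k
      induction k with
      | zero => exact fun _ => ⟨⊥, bot_le, finrank_bot F V, by simp⟩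
      | succ k ih =>
        intro hk
        obtain ⟨U, hUX, hUd, hY⟩ := ih (by omega)
        have hYX : U ⊔ U.map f ≤ X := sup_le hUX ((Submodule.map_mono hUX).trans (inv_iff.1 hX))
        obtain ⟨v, hvX, hvY⟩ := SetLike.exists_of_lt
          (lt_of_le_of_ne hYX fun e => by rw [e, hXd] at hY; omega)
        let U' := U ⊔ Submodule.span F {v}
        have hU'X : U' ≤ X := sup_le hUX ((Submodule.span_singleton_le_iff_mem _ _).2 hvX)
        have hU'd : finrank F U' ≤ k + 1 := by
          refine (Submodule.finrank_add_le_finrank_add_finrank _ _).trans ?_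
          have := finrank_span_le_card (R := F) ({v} : Set V)
          simp at this
          omega
        have hinv : Inv f (U' ⊔ U'.map f) := inv_iff.2 (by
          rw [Submodule.map_sup]
          refine sup_le le_sup_right (le_trans ?_ le_sup_left)
          rintro _ ⟨_, ⟨u, hu, rfl⟩, rfl⟩
          rw [hff]
          exact Submodule.smul_mem _ _ hu)
        obtain ⟨w, hw⟩ := kum_dvd hf hc hinv
        have hlt : finrank F ↥(U ⊔ U.map f) < finrank F ↥(U' ⊔ U'.map f) :=
          Submodule.finrank_lt_finrank_of_lt (lt_of_le_of_ne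
            (sup_le_sup le_sup_left (Submodule.map_mono le_sup_left))
            fun e => hvY (e.ge (Submodule.mem_sup_left (Submodule.mem_sup_right (Submodule.mem_span_singleton_self v)))))
        have hle2 := Submodule.finrank_add_le_finrank_add_finrank U' (U'.map f)
        have hle3 := Submodule.finrank_map_le f U'
        exact ⟨U', hU'X, by omega, by omega⟩
    obtain ⟨U, hUX, hUd, hY⟩ := grow a le_rfl
    have hYX : U ⊔ U.map f = X := Submodule.eq_of_le_of_finrank_eq
      (sup_le hUX ((Submodule.map_mono hUX).trans (inv_iff.1 hX))) (by rw [hY, hXd])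
    have hback : (U.map f).map f = U := by
      refine le_antisymm ?_ ?_
      · rintro _ ⟨_, ⟨u, hu, rfl⟩, rfl⟩
        rw [hff]; exact U.smul_mem c hu
      · intro u hu
        refine ⟨f (c⁻¹ • u), ⟨_, U.smul_mem _ hu, rfl⟩, ?_⟩
        rw [hff, smul_smul, mul_inv_cancel₀ hc0, one_smul]
    obtain ⟨W, hW, hcW⟩ := exists_compl hss hX
    obtain ⟨h1, h2⟩ := compl_inside hcW hXT
    refine ⟨U, U.map f, W ⊓ T, hback, rfl, hW.inf hT, hYX ▸ h1, hYX ▸ h2, hUd, ?_, hY, trivial⟩
    rw [(Submodule.equivMapOfInjective f hinj U).finrank_eq.symm, hUd]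

/-- Involutions in odd characteristic. -/
theorem splits_involution (hf : f ^ 2 = 1) (h2 : (2 : F) ≠ 0) (ha : 0 < a) {t : ℕ}
    (hn : finrank F V = a * t) : Splits f a ⊤ t := by
  have : Fact (Nat.Prime 2) := ⟨Nat.prime_two⟩
  have hr : ((2 : ℕ) : F) ≠ 0 := by simpa using h2
  have hinj : Function.Injective f := fun v w e => by
    have := congrArg f e
    rwa [← Module.End.mul_apply, ← Module.End.mul_apply, ← pow_two, hf, Module.End.one_apply,
      Module.End.one_apply] at this
  have hq : ((Fintype.card F : ℕ) : ZMod 2) ≠ 0 := by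
    intro h
    rw [ZMod.natCast_eq_zero_iff_even] at h
    exact h2 (by
      have := FiniteField.even_card_iff_char_two.2 (Nat.even_iff.1 h)
      have hc := (ringChar.spec F 2).2 (this ▸ dvd_rfl)
      simpa using hc)
  have hi : orderOf ((Fintype.card F : ℕ) : ZMod 2) = 1 := by
    rw [orderOf_eq_one_iff]
    exact zmod_two_eq_one _ hq
  refine splits_of_single hinj (fun _ => True) (fun T _ hT hle _ => ?_) t ⊤ trivial (Inv.top f)
    (by rw [finrank_top, hn]) ha
  have hs := dim_split (f := f) T
  obtain ⟨U, hU, hUT, hUd, -⟩ := exists_dim hf hr hT hi.symm one_pos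
    (a := min a (finrank F ↥(T ⊓ fixS f))) (j := a - min a (finrank F ↥(T ⊓ fixS f)))
    (min_le_right _ _) (by omega)
  obtain ⟨W, hW, hcW⟩ := exists_compl (isSemisimple hf hr) hU
  obtain ⟨h1, h2⟩ := compl_inside hcW hUT
  exact ⟨U, W ⊓ T, hU, hW.inf hT, h1, h2, by omega, trivial⟩

/-- Characteristic two. -/
theorem splits_unipotent (hf : (f - 1) ^ 2 = 0) (hff : f ^ 2 = 1) (ha : 0 < a) {t : ℕ}
    (hn : finrank F V = a * t) : Splits f a ⊤ t := by
  set N := f - 1 with hNdef
  have hN : ∀ v, (N ^ 2) v = 0 := fun v => by rw [hf]; rfl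
  have hinj : Function.Injective f := fun v w e => by
    have := congrArg f e
    rwa [← Module.End.mul_apply, ← Module.End.mul_apply, ← pow_two, hff, Module.End.one_apply,
      Module.End.one_apply] at this
  suffices h : ∀ (t : ℕ) (T : Submodule F V), Inv f T → finrank F T = a * t → Splits f a T t from
    h t ⊤ (Inv.top f) (by rw [finrank_top, hn])
  intro t
  induction t using Nat.strong_induction_on with
  | _ t ih =>
    intro T hT hd
    rcases Nat.eq_zero_or_pos t with rfl | htpos
    · rw [Nat.mul_zero] at hd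
      rw [Submodule.finrank_eq_zero.1 hd]
      exact Splits.zero
    obtain ⟨μ, hμ, hμs, hμk, hμν⟩ := exists_jordan (N := N) (p := 2) _ T rfl (inv_add_one.2 hT)
      fun v _ => hN v
    have hμe : μ = Multiset.replicate (μ.count 1) 1 + Multiset.replicate (μ.count 2) 2 := by
      ext b
      rw [Multiset.count_add, Multiset.count_replicate, Multiset.count_replicate]
      by_cases hb : b ∈ μ
      · obtain ⟨h1, h2⟩ := hμ b hb
        interval_cases b <;> simp
      · rw [Multiset.count_eq_zero.2 hb]
        by_cases h1 : b = 1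
        · subst h1; simp [Multiset.count_eq_zero.2 hb]
        by_cases h2 : b = 2
        · subst h2; simp [Multiset.count_eq_zero.2 hb]
        rw [if_neg (Ne.symm h1), if_neg (Ne.symm h2)]
    have hsum : μ.count 1 + μ.count 2 * 2 = a * t := by
      rw [← hd, ← hμs]; conv_rhs => rw [hμe]
      simp
    by_cases hodd : μ.count 1 = 0 ∧ Odd a
    · obtain ⟨h1, hao⟩ := hodd
      obtain ⟨s, hs⟩ : 2 ∣ t := (Nat.prime_two.dvd_mul.1 (⟨μ.count 2, by omega⟩ : 2 ∣ a * t)).resolve_left
        fun h => Nat.not_even_iff_odd.2 hao (even_iff_two_dvd.2 h)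
      have hat : a * 2 ≤ a * t := Nat.mul_le_mul_left a (by omega)
      obtain ⟨X, W, hX, hW, hsup, hinf, hXd⟩ := hμν (Multiset.replicate a 2) (by
        rw [hμe, h1, Multiset.replicate_zero, zero_add]
        exact Multiset.replicate_mono 2 (by omega))
      rw [Multiset.sum_replicate, smul_eq_mul] at hXd
      obtain ⟨μX, hμX, hμXs, hμXk, -⟩ := exists_jordan (N := N) (p := 2) _ X rfl hX fun v _ => hN v
      obtain ⟨μW, hμW, -, hμWk, -⟩ := exists_jordan (N := N) (p := 2) _ W rfl hW fun v _ => hN v
      have hadd : μX + μW = μ := profile_injective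
        (fun b hb => (Multiset.mem_add.1 hb).elim (fun h => (hμX b h).1) (fun h => (hμW b h).1))
        (fun b hb => (hμ b hb).1) fun k => by
          rw [profile_add, ← hμXk, ← hμWk, ← kerDim_sup hX hW hinf, hsup, hμk]
      have hμXe : μX = Multiset.replicate a 2 := by
        have hall : ∀ b ∈ μX, b = 2 := fun b hb => by
          have hbμ : b ∈ μ := hadd ▸ Multiset.mem_add.2 (Or.inl hb)
          rw [hμe, h1, Multiset.replicate_zero, zero_add] at hbμ
          exact Multiset.eq_of_mem_replicate hbμ
        rw [Multiset.eq_replicate_card.2 hall] at hμXs ⊢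
        rw [Multiset.sum_replicate, smul_eq_mul, hXd] at hμXs
        rw [show Multiset.card μX = a by omega]
      have hK : finrank F ↥(X ⊓ LinearMap.ker N) = a := by
        have := hμXk 1
        rw [kerDim, pow_one, hμXe] at this
        simpa [profile] using this
      obtain ⟨C, hC⟩ := (X ⊓ LinearMap.ker N).exists_isCompl
      obtain ⟨hs1, hs2⟩ := compl_inside hC (inf_le_left : X ⊓ LinearMap.ker N ≤ X)
      set U := C ⊓ X
      have hUd : finrank F U = a := by
        have := dim_compl hs1 hs2
        omega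
      have hXf : Inv f X := inv_add_one.1 hX
      have hdis : U ⊓ U.map f = ⊥ := (Submodule.eq_bot_iff _).2 fun x hx => by
        obtain ⟨hxU, w, hw, hwx⟩ := hx
        have hNw : N w = x - w := by rw [hNdef, LinearMap.sub_apply, Module.End.one_apply, hwx]
        have hmem : x - w ∈ (X ⊓ LinearMap.ker N) ⊓ U := ⟨⟨X.sub_mem hxU.2 hw.2, by
          rw [SetLike.mem_coe, LinearMap.mem_ker, ← hNw, ← Module.End.mul_apply, ← pow_two]
          exact hN w⟩, U.sub_mem hxU hw⟩
        rw [hs2, Submodule.mem_bot] at hmem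
        have hwK : w ∈ (X ⊓ LinearMap.ker N) ⊓ U := ⟨⟨hw.2, by
          rw [SetLike.mem_coe, LinearMap.mem_ker, hNw, hmem]⟩, hw⟩
        rw [hs2, Submodule.mem_bot] at hwK
        rw [← hwx, hwK, map_zero]
      have hUf : finrank F (U.map f) = a := by
        rw [← (Submodule.equivMapOfInjective f hinj U).finrank_eq, hUd]
      have hYd : finrank F ↥(U ⊔ U.map f) = 2 * a := by
        have := dim_compl (T := U ⊔ U.map f) rfl hdis
        omega
      have hYX : U ⊔ U.map f = X := Submodule.eq_of_le_of_finrank_eq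
        (sup_le inf_le_right ((Submodule.map_mono inf_le_right).trans (inv_iff.1 hXf)))
        (by rw [hYd, hXd]; omega)
      have hback : (U.map f).map f = U := by
        rw [← Submodule.map_comp, ← Module.End.mul_eq_comp, ← pow_two, hff]
        exact Submodule.map_id U
      have hWd := dim_compl hsup hinf
      have h := (Splits.pair hUd hUf rfl hback).append (ih (2 * (s - 1)) (by omega) W
        (inv_add_one.1 hW) (by
          rw [hd, hXd, hs] at hWd
          have : a * (2 * s) = a * 2 + a * (2 * (s - 1)) := by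
            rw [← Nat.mul_add]; congr 1; omega
          omega))
      rw [hYX, hsup, show 2 + 2 * (s - 1) = t by omega] at h
      exact h
    · have hk : 2 * min (a / 2) (μ.count 2) ≤ a ∧ a - 2 * min (a / 2) (μ.count 2) ≤ μ.count 1 := by
        refine ⟨by omega, ?_⟩
        have hat : a * 1 ≤ a * t := Nat.mul_le_mul_left a htpos
        by_cases h1 : μ.count 1 = 0
        · obtain ⟨a', ha'⟩ := Nat.not_odd_iff_even.1 fun h => hodd ⟨h1, h⟩
          omega
        · omega
      obtain ⟨U, W, hU, hW, hsup, hinf, hUd⟩ := hμν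
        (Multiset.replicate (a - 2 * min (a / 2) (μ.count 2)) 1 + Multiset.replicate (min (a / 2) (μ.count 2)) 2)
        (by
          conv_rhs => rw [hμe]
          exact add_le_add (Multiset.replicate_mono 1 hk.2) (Multiset.replicate_mono 2 (min_le_right _ _)))
      have hUa : finrank F U = a := by rw [hUd]; simp; omega
      have hWd := dim_compl hsup hinf
      obtain ⟨t', rfl⟩ : ∃ t', t = t' + 1 := ⟨t - 1, by omega⟩
      rw [Nat.mul_add, Nat.mul_one] at hd
      have h := (Splits.single hUa (map_eq_of_inv hinj (inv_add_one.1 hU))).append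
        (ih t' (by omega) W (inv_add_one.1 hW) (by omega))
      rwa [hsup, Nat.add_comm] at h

end CfsgLib.Elusive
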