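import Cfsg.Agent.Elusive.Decomp
import Cfsg.Prelude.Def_GeometricClasses
import Mathlib.Algebra.DirectSum.Module
import Mathlib.LinearAlgebra.Matrix.GeneralLinearGroup.Card
import Mathlib.GroupTheory.GroupAction.Quotient

/-! The number of ordered decompositions into equidimensional summands. -/

set_option autoImplicit false
set_option linter.unusedSectionVars false

namespace CfsgLib.Elusive

open Module Pointwise

variable {F : Type*} [Field F] [Fintype F] {n a t : ℕ}

theorem factorial_dvd_card :
    Nat.factorial t ∣ Nat.card {D : Fin t → Submodule F (Fin n → F) // Cfsg.Geo.IsMDecomposition a D} := by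
  classical
  set X := {D : Fin t → Submodule F (Fin n → F) // Cfsg.Geo.IsMDecomposition a D}
  have : Finite (Submodule F (Fin n → F)) :=
    Finite.of_injective (fun W => (W : Set (Fin n → F))) SetLike.coe_injective
  have hinj : ∀ D : X, Function.Injective D.1 := fun D j k e => by
    by_contra hne
    have h1 := (D.2.indep j).mono_right
      (le_iSup₂_of_le (f := fun k (_ : k ≠ j) => D.1 k) k (Ne.symm hne) le_rfl)
    rw [← e, disjoint_self] at h1
    have := D.2.finrank_eq j
    rw [h1, finrank_bot] at this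
    exact D.2.pos.ne this
  let sp : X → Set.range (fun D : X => Set.range D.1) := Set.rangeFactorization _
  have hfib : ∀ S, Nat.card {D : X // sp D = S} = Nat.factorial t := by
    rintro ⟨_, D₀, rfl⟩
    have hperm : ∀ σ : Equiv.Perm (Fin t), Cfsg.Geo.IsMDecomposition a (D₀.1 ∘ σ) := fun σ =>
      ⟨D₀.2.two_le, D₀.2.pos, fun i => D₀.2.finrank_eq _, D₀.2.indep.comp σ.injective,
        (Equiv.iSup_comp σ).trans D₀.2.iSup_eq_top⟩
    let φ : Equiv.Perm (Fin t) → {D : X // sp D = ⟨Set.range D₀.1, D₀, rfl⟩} := fun σ =>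
      ⟨⟨D₀.1 ∘ σ, hperm σ⟩, Subtype.ext (σ.surjective.range_comp _)⟩
    have hb : Function.Bijective φ := by
      constructor
      · intro σ τ e
        ext1 j
        exact hinj D₀ (congrFun (congrArg (fun D => D.1.1) e) j)
      · rintro ⟨D, hD⟩
        have hr : Set.range D.1 = Set.range D₀.1 := congrArg Subtype.val hD
        have hm : ∀ j, ∃ i, D₀.1 i = D.1 j := fun j => by
          show D.1 j ∈ Set.range D₀.1
          exact hr ▸ Set.mem_range_self j
        choose σ hσ using hm
        have hσi : Function.Injective σ := fun j k e => hinj D (by rw [← hσ, ← hσ, e])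
        exact ⟨Equiv.ofBijective σ (Finite.injective_iff_bijective.1 hσi),
          Subtype.ext (Subtype.ext (funext hσ))⟩
    rw [← Nat.card_congr (Equiv.ofBijective φ hb), Nat.card_eq_fintype_card, Fintype.card_perm,
      Fintype.card_fin]
  have := Fintype.ofFinite (Set.range (fun D : X => Set.range D.1))
  rw [← Nat.card_congr (Equiv.sigmaFiberEquiv sp), Nat.card_sigma, Finset.sum_congr rfl fun S _ => hfib S,
    Finset.sum_const, smul_eq_mul]
  exact dvd_mul_left _ _

set_option maxHeartbeats 1000000 in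
theorem card_dvd_GL (hat : n = a * t) (hne : Nonempty
      {D : Fin t → Submodule F (Fin n → F) // Cfsg.Geo.IsMDecomposition a D}) :
    Nat.card {D : Fin t → Submodule F (Fin n → F) // Cfsg.Geo.IsMDecomposition a D} ∣
      Nat.card (GL (Fin n) F) := by
  classical
  obtain ⟨⟨D₀, h₀⟩⟩ := hne
  let G := (Fin n → F) ≃ₗ[F] (Fin n → F)
  have hfin : finrank F (Fin n → F) = a * t := by rw [Module.finrank_fin_fun, hat]
  have hact : ∀ (g : G) (W : Submodule F (Fin n → F)),
      g • W = W.map (g : (Fin n → F) →ₗ[F] (Fin n → F)) := fun g W => rfl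
  have hset : ∀ D, Cfsg.Geo.IsMDecomposition a D ↔ D ∈ MulAction.orbit G D₀ := by
    intro D
    constructor
    · intro hD
      have hi0 : DirectSum.IsInternal D₀ :=
        DirectSum.isInternal_submodule_of_iSupIndep_of_iSup_eq_top h₀.indep h₀.iSup_eq_top
      have hi : DirectSum.IsInternal D :=
        DirectSum.isInternal_submodule_of_iSupIndep_of_iSup_eq_top hD.indep hD.iSup_eq_top
      let b0 := hi0.collectedBasis fun j => Module.finBasisOfFinrankEq F (D₀ j) (h₀.finrank_eq j)
      let b := hi.collectedBasis fun j => Module.finBasisOfFinrankEq F (D j) (hD.finrank_eq j)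
      refine ⟨b0.equiv b (Equiv.refl _), funext fun j => ?_⟩
      show (b0.equiv b (Equiv.refl _)) • D₀ j = D j
      rw [hact]
      refine Submodule.eq_of_le_of_finrank_eq ?_ ?_
      · intro y hy
        obtain ⟨v, hv, rfl⟩ := hy
        have hrepr := Module.Basis.sum_repr (Module.finBasisOfFinrankEq F (D₀ j) (h₀.finrank_eq j)) ⟨v, hv⟩
        have hv' : v = ∑ i, (Module.finBasisOfFinrankEq F (D₀ j) (h₀.finrank_eq j)).repr ⟨v, hv⟩ i •
            b0 ⟨j, i⟩ := by
          conv_lhs => rw [show v = ((⟨v, hv⟩ : D₀ j) : Fin n → F) from rfl, ← hrepr]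
          rw [AddSubmonoidClass.coe_finsetSum]
          refine Finset.sum_congr rfl fun i _ => ?_
          simp [b0, DirectSum.IsInternal.collectedBasis_coe]
        show (b0.equiv b (Equiv.refl _)) v ∈ D j
        rw [hv', map_sum]
        refine Submodule.sum_mem _ fun i _ => ?_
        rw [map_smul, Module.Basis.equiv_apply]
        exact Submodule.smul_mem _ _ (by simp [b, DirectSum.IsInternal.collectedBasis_coe])
      · rw [hD.finrank_eq, LinearEquiv.finrank_map_eq, h₀.finrank_eq]
    · rintro ⟨g, rfl⟩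
      show Cfsg.Geo.IsMDecomposition a (g • D₀)
      rw [show g • D₀ = fun j => (D₀ j).map (g : (Fin n → F) →ₗ[F] (Fin n → F)) from funext fun j => hact g (D₀ j)]
      have hd : ∀ j, finrank F ↥((D₀ j).map (g : (Fin n → F) →ₗ[F] (Fin n → F))) = a := fun j => by
        rw [LinearEquiv.finrank_map_eq, h₀.finrank_eq]
      have hs : ⨆ j, (D₀ j).map (g : (Fin n → F) →ₗ[F] (Fin n → F)) = ⊤ := by
        rw [← Submodule.map_iSup, h₀.iSup_eq_top, Submodule.map_top, LinearMap.range_eq_top]
        exact g.surjective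
      exact ⟨h₀.two_le, h₀.pos, hd, indep_of_dims hd hs hfin, hs⟩
  rw [Nat.card_congr (Equiv.subtypeEquivRight hset)]
  refine Dvd.intro (Nat.card (MulAction.stabilizer G D₀)) ?_
  show Nat.card (MulAction.orbit G D₀) * _ = _
  rw [← Nat.card_prod, Nat.card_congr (MulAction.orbitProdStabilizerEquivGroup G D₀)]
  exact Nat.card_congr ((LinearMap.GeneralLinearGroup.generalLinearEquiv F (Fin n → F)).symm.toEquiv.trans
    Matrix.GeneralLinearGroup.toLin.symm.toEquiv)

theorem not_dvd_card {r : ℕ} [hr : Fact r.Prime] (hq : ((Fintype.card F : ℕ) : ZMod r) ≠ 0)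
    (hat : n = a * t) (hlt : n < orderOf ((Fintype.card F : ℕ) : ZMod r))
    (hne : Nonempty {D : Fin t → Submodule F (Fin n → F) // Cfsg.Geo.IsMDecomposition a D}) :
    ¬ r ∣ Nat.card {D : Fin t → Submodule F (Fin n → F) // Cfsg.Geo.IsMDecomposition a D} := by
  intro h
  have h1 := h.trans (card_dvd_GL hat hne)
  rw [Matrix.card_GL_field, hr.out.prime.dvd_finsetProd_iff] at h1
  obtain ⟨i, -, hi⟩ := h1
  rw [← ZMod.natCast_eq_zero_iff, Nat.cast_sub (Nat.pow_le_pow_right Fintype.card_pos i.isLt.le),
    Nat.cast_pow, Nat.cast_pow, sub_eq_zero] at hi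
  have h2 : ((Fintype.card F : ℕ) : ZMod r) ^ (n - (i : ℕ)) = 1 := by
    refine mul_left_cancel₀ (pow_ne_zero (i : ℕ) hq) ?_
    rw [← pow_add, Nat.add_sub_cancel' i.isLt.le, hi, mul_one]
  have := Nat.le_of_dvd (by omega) (orderOf_dvd_of_pow_eq_one h2)
  omega

end CfsgLib.Elusive
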