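import Mathlib.LinearAlgebra.Eigenspace.Basic
import Mathlib.LinearAlgebra.Matrix.GeneralLinearGroup.Defs
import Mathlib.LinearAlgebra.Matrix.ToLin
import Mathlib.RingTheory.RootsOfUnity.PrimitiveRoots
import Mathlib.GroupTheory.Perm.Cycle.Type
import Mathlib.GroupTheory.QuotientGroup.Basic
import Mathlib.Algebra.Field.GeomSum
import Mathlib.Algebra.Field.ZMod
import Mathlib.Tactic.LinearCombination
import Mathlib.Algebra.Group.Commutator
import Mathlib.GroupTheory.PGroup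
import Mathlib.GroupTheory.Commutator.Basic

/-! Eigenspaces of elements normalising a group with scalar commutators. -/

set_option autoImplicit false

namespace CfsgLib.Elusive.ExtraEigen

open Module Matrix
open scoped commutatorElement

section Group

variable {G : Type*} [Group G]

theorem conj_pow_eq {g y z : G} (h : g * y * g⁻¹ = z * y) (hz : Commute g z) (k : ℕ) :
    g ^ k * y * (g ^ k)⁻¹ = z ^ k * y := by
  induction k with
  | zero => simp
  | succ k ih =>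
    have : g ^ (k + 1) * y * (g ^ (k + 1))⁻¹ = g * (g ^ k * y * (g ^ k)⁻¹) * g⁻¹ := by rw [pow_succ']; group
    rw [this, ih, show g * (z ^ k * y) * g⁻¹ = g * z ^ k * y * g⁻¹ by group, (hz.pow_right k).eq,
      show z ^ k * g * y * g⁻¹ = z ^ k * (g * y * g⁻¹) by group, h, ← mul_assoc, ← pow_succ]

/-- A coprime action cannot shift `y` by a fixed element. -/
theorem commute_of_shift {g y z : G} {m l : ℕ} (hml : m.Coprime l) (hg : g ^ m = 1) (h : g * y * g⁻¹ = z * y)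
    (hz : Commute g z) (hzl : z ^ l = 1) : z = 1 ∧ Commute g y := by
  have h1 := conj_pow_eq h hz m
  rw [hg, inv_one, one_mul, mul_one] at h1
  have hzm : z ^ m = 1 := mul_eq_right.1 h1.symm
  have hz1 : z = 1 := by
    have := pow_gcd_eq_one.2 ⟨hzm, hzl⟩
    rwa [hml.gcd_eq_one, pow_one] at this
  rw [hz1, one_mul, mul_inv_eq_iff_eq_mul] at h
  exact ⟨hz1, h⟩

variable (S : Subgroup G)

/-- Commutators of elements of `S` are central in `G`. -/
def CentralComm : Prop := ∀ u ∈ S, ∀ v ∈ S, ∀ w : G, Commute w ⁅u, v⁆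

variable {S}

theorem comm_mul_left (hS : CentralComm S) {u v w : G} (hv : v ∈ S) (hw : w ∈ S) :
    ⁅u * v, w⁆ = ⁅u, w⁆ * ⁅v, w⁆ := by
  have : ⁅u * v, w⁆ = u * ⁅v, w⁆ * u⁻¹ * ⁅u, w⁆ := by simp only [commutatorElement_def]; group
  rw [this, (hS v hv w hw u).eq, mul_inv_cancel_right, (hS v hv w hw _).eq]

theorem comm_inv_left (hS : CentralComm S) {v w : G} (hv : v ∈ S) (hw : w ∈ S) : ⁅v⁻¹, w⁆ = ⁅v, w⁆⁻¹ := by
  refine eq_inv_of_mul_eq_one_left ?_
  rw [← comm_mul_left hS hv hw, inv_mul_cancel, commutatorElement_one_left]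

theorem comm_mul_right (hS : CentralComm S) {u v w : G} (hu : u ∈ S) (hw : w ∈ S) :
    ⁅u, v * w⁆ = ⁅u, v⁆ * ⁅u, w⁆ := by
  have : ⁅u, v * w⁆ = ⁅u, v⁆ * (v * ⁅u, w⁆ * v⁻¹) := by simp only [commutatorElement_def]; group
  rw [this, (hS u hu w hw v).eq, mul_inv_cancel_right]

theorem comm_congr_left (hS : CentralComm S) {c v w : G} (hc : ∀ w, Commute w c) :
    ⁅c * v, w⁆ = ⁅v, w⁆ := by
  have h1 : c * v * w * (c * v)⁻¹ * w⁻¹ = c * (v * w * v⁻¹) * c⁻¹ * w⁻¹ := by group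
  rw [commutatorElement_def, commutatorElement_def, h1, ← (hc (v * w * v⁻¹)).eq, mul_inv_cancel_right]

theorem comm_congr_right (hS : CentralComm S) {c v w : G} (hc : ∀ w, Commute w c) :
    ⁅w, c * v⁆ = ⁅w, v⁆ := by
  rw [← commutatorElement_inv, comm_congr_left hS hc, commutatorElement_inv]

/-- An automorphism of odd order prime to the exponent which moves every element into an isotropic pair is trivial. -/
theorem trivial_of_isotropic {Z : Subgroup G} [Z.Normal] (hS : CentralComm S) {g : G} {m l : ℕ} (hm : Odd m)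
    (hml : m.Coprime l) (hg : g ^ m ∈ Z) (hgS : ∀ u, u ∈ S ↔ g * u * g⁻¹ ∈ S) (hZ : ∀ c ∈ Z, ∀ w, Commute w c)
    (hcl : ∀ u ∈ S, u ^ l ∈ Z) (hnd : ∀ u ∈ S, (∀ v ∈ S, ⁅u, v⁆ = 1) → u ∈ Z)
    (hiso : ∀ x ∈ S, ⁅⁅g, x⁆, g * ⁅g, x⁆ * g⁻¹⁆ = 1) : ∀ x ∈ S, ⁅g, x⁆ ∈ Z := by
  have hgS' : ∀ u ∈ S, g⁻¹ * u * g ∈ S := fun u hu => by
    rw [hgS, show g * (g⁻¹ * u * g) * g⁻¹ = u by group]; exact hu
  have hP : ∀ u ∈ S, ⁅g, u⁆ ∈ S := fun u hu => mul_mem ((hgS u).1 hu) (inv_mem hu)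
  have hφ : ∀ u ∈ S, ∀ v ∈ S, ⁅g * u * g⁻¹, g * v * g⁻¹⁆ = ⁅u, v⁆ := fun u hu v hv => by
    have : ⁅g * u * g⁻¹, g * v * g⁻¹⁆ = g * ⁅u, v⁆ * g⁻¹ := by simp only [commutatorElement_def]; group
    rw [this, (hS u hu v hv g).eq, mul_inv_cancel_right]
  -- the form is invariant under swapping the automorphism
  have hsym : ∀ u ∈ S, ∀ v ∈ S, ⁅⁅g, u⁆, g * ⁅g, v⁆ * g⁻¹⁆ = ⁅g * ⁅g, u⁆ * g⁻¹, ⁅g, v⁆⁆ := by
    intro u hu v hv
    have hPu := hP u hu
    have hPv := hP v hv
    have hu' := (hgS _).1 hPu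
    have hv' := (hgS _).1 hPv
    have h := hiso _ (mul_mem hu hv)
    have hsplit' : ⁅g, u * v⁆ = (⁅g, u⁆ * u * ⁅g, v⁆ * u⁻¹ * ⁅g, v⁆⁻¹ * ⁅g, u⁆⁻¹) * (⁅g, u⁆ * ⁅g, v⁆) := by
      simp only [commutatorElement_def]; group
    have hc : ∀ w, Commute w (⁅g, u⁆ * u * ⁅g, v⁆ * u⁻¹ * ⁅g, v⁆⁻¹ * ⁅g, u⁆⁻¹) := fun w => by
      have := hS u hu _ hPv
      rw [show ⁅g, u⁆ * u * ⁅g, v⁆ * u⁻¹ * ⁅g, v⁆⁻¹ * ⁅g, u⁆⁻¹ = ⁅g, u⁆ * ⁅u, ⁅g, v⁆⁆ * ⁅g, u⁆⁻¹ by
        simp only [commutatorElement_def]; group, (this ⁅g, u⁆).eq, mul_inv_cancel_right]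
      exact this w
    set c := ⁅g, u⁆ * u * ⁅g, v⁆ * u⁻¹ * ⁅g, v⁆⁻¹ * ⁅g, u⁆⁻¹
    rw [hsplit', comm_congr_left hS hc,
      show g * (c * (⁅g, u⁆ * ⁅g, v⁆)) * g⁻¹ = c * (g * ⁅g, u⁆ * g⁻¹ * (g * ⁅g, v⁆ * g⁻¹)) by
        rw [← mul_assoc g c, (hc g).eq]; group,
      comm_congr_right hS hc, comm_mul_left hS hPv (mul_mem hu' hv'), comm_mul_right hS hPu hv',
      comm_mul_right hS hPv hv', hiso u hu, hiso v hv, one_mul, mul_one, mul_eq_one_iff_eq_inv] at h
    rw [h, commutatorElement_inv]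
  have key : ∀ u ∈ S, Commute (QuotientGroup.mk' Z g) (QuotientGroup.mk' Z
      ((g * (g * ⁅g, u⁆ * g⁻¹) * g⁻¹) * ⁅g, u⁆⁻¹)) := by
    intro u hu
    have hPu := hP u hu
    have hu' := (hgS _).1 hPu
    have hu'' := (hgS _).1 hu'
    set y := (g * (g * ⁅g, u⁆ * g⁻¹) * g⁻¹) * ⁅g, u⁆⁻¹ with hy
    have hyS : y ∈ S := mul_mem hu'' (inv_mem hPu)
    have h1 : ∀ v ∈ S, ⁅y, g * ⁅g, v⁆ * g⁻¹⁆ = 1 := fun v hv => by
      have hv' := (hgS _).1 (hP v hv)
      rw [hy, comm_mul_left hS (inv_mem hPu) hv', comm_inv_left hS hPu hv', hsym u hu v hv,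
        hφ _ hu' _ (hP v hv), mul_inv_cancel]
    set y' := g⁻¹ * y * g with hy'
    have hy'S : y' ∈ S := hgS' y hyS
    have h2 : ∀ v ∈ S, ⁅y', ⁅g, v⁆⁆ = 1 := fun v hv => by
      rw [← hφ y' hy'S _ (hP v hv), hy', show g * (g⁻¹ * y * g) * g⁻¹ = y by group]
      exact h1 v hv
    have h3 : y'⁻¹ * (g⁻¹ * y' * g) ∈ Z := by
      refine hnd _ (mul_mem (inv_mem hy'S) (hgS' _ hy'S)) fun v hv => ?_
      have hgv := (hgS v).1 hv
      rw [comm_mul_left hS (hgS' _ hy'S) hv, comm_inv_left hS hy'S hv, ← hφ _ (hgS' _ hy'S) v hv,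
        show g * (g⁻¹ * y' * g) * g⁻¹ = y' by group, show g * v * g⁻¹ = ⁅g, v⁆ * v by
          simp only [commutatorElement_def]; group,
        comm_mul_right hS hy'S hv, h2 v hv, one_mul, inv_mul_cancel]
    rw [← (QuotientGroup.eq_one_iff _)] at h3
    set π := QuotientGroup.mk' Z
    have h4 : (π y')⁻¹ * ((π g)⁻¹ * π y' * π g) = 1 := by
      rw [← map_inv, ← map_inv, ← map_mul, ← map_mul, ← map_mul]; exact h3
    rw [inv_mul_eq_one] at h4
    have h5 : Commute (π g) (π y') := by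
      have h6 := congrArg (π g * ·) h4
      simp only [← mul_assoc, mul_inv_cancel, one_mul] at h6
      exact h6
    rw [show y = g * y' * g⁻¹ by rw [hy']; group, map_mul, map_mul, map_inv, h5.eq, mul_inv_cancel_right]
    exact h5
  intro u hu
  set π := QuotientGroup.mk' Z with hπ
  have hgm : π g ^ m = 1 := by rw [← map_pow]; exact (QuotientGroup.eq_one_iff _).2 hg
  have hpl : ∀ v ∈ S, π v ^ l = 1 := fun v hv => by rw [← map_pow]; exact (QuotientGroup.eq_one_iff _).2 (hcl v hv)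
  have hPu := hP u hu
  obtain ⟨-, h2c⟩ := commute_of_shift (g := π g ^ 2) (y := π ⁅g, u⁆)
    (z := π ((g * (g * ⁅g, u⁆ * g⁻¹) * g⁻¹) * ⁅g, u⁆⁻¹)) hml
    (by rw [← pow_mul, mul_comm, pow_mul, hgm, one_pow])
    (by simp only [← map_pow, ← map_inv, ← map_mul]; congr 1; simp only [pow_two]; group)
    ((key u hu).pow_left 2) (hpl _ (mul_mem ((hgS _).1 ((hgS _).1 hPu)) (inv_mem hPu)))
  have hc : Commute (π g) (π ⁅g, u⁆) := by
    obtain ⟨k, rfl⟩ := hm
    have : (π g ^ 2) ^ (k + 1) = π g := by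
      rw [← pow_mul, show 2 * (k + 1) = (2 * k + 1) + 1 by ring, pow_succ, hgm, one_mul]
    exact this ▸ h2c.pow_left (k + 1)
  obtain ⟨h, -⟩ := commute_of_shift (y := π u) hml hgm
    (by simp only [← map_inv, ← map_mul]; congr 1; simp only [commutatorElement_def]; group) hc (hpl _ hPu)
  exact (QuotientGroup.eq_one_iff _).1 h

/-- An automorphism of prime order `p` of a group of exponent `p` fixes a non-trivial shift. -/
theorem exists_fixed_shift [Finite G] {Z : Subgroup G} [Z.Normal] (hS : CentralComm S) {p : ℕ} [Fact p.Prime] {g : G}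
    (hg : g ^ p ∈ Z) (hgS : ∀ u, u ∈ S ↔ g * u * g⁻¹ ∈ S) (hSZ : ∀ u ∈ S, ∀ v ∈ S, ⁅u, v⁆ ∈ Z)
    (hcl : ∀ u ∈ S, u ^ p ∈ Z) {y : G} (hy : y ∈ S) (hy' : ⁅g, y⁆ ∉ Z) :
    ∃ a ∈ S, ⁅g, a⁆ ∉ Z ∧ ⁅g, ⁅g, a⁆⁆ ∈ Z := by
  have hP : ∀ u ∈ S, ⁅g, u⁆ ∈ S := fun u hu => mul_mem ((hgS u).1 hu) (inv_mem hu)
  set π := QuotientGroup.mk' Z with hπ
  let ψ : S →* G ⧸ Z :=
    MonoidHom.mk' (fun u => π ⁅g, (u : G)⁆) fun u v => by
      have h : ⁅g, (u : G) * v⁆ = ⁅g, (u : G)⁆ * ⁅g, (v : G)⁆ * ⁅⁅g, (v : G)⁆⁻¹, (u : G)⁆ := by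
        simp only [commutatorElement_def]; group
      show π ⁅g, (u : G) * v⁆ = π ⁅g, (u : G)⁆ * π ⁅g, (v : G)⁆
      rw [h, map_mul, map_mul, show π ⁅⁅g, (v : G)⁆⁻¹, (u : G)⁆ = 1 from
        (QuotientGroup.eq_one_iff _).2 (hSZ _ (inv_mem (hP _ v.2)) _ u.2), mul_one]
  set K := ψ.range with hK
  have hKp : IsPGroup p K := by
    rintro ⟨_, u, rfl⟩
    refine ⟨1, Subtype.ext ?_⟩
    rw [pow_one, SubmonoidClass.coe_pow, OneMemClass.coe_one]
    show π ⁅g, (u : G)⁆ ^ p = 1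
    rw [← map_pow]
    exact (QuotientGroup.eq_one_iff _).2 (hcl _ (hP _ u.2))
  have hKne : (⟨ψ ⟨y, hy⟩, ⟨_, rfl⟩⟩ : K) ≠ 1 := fun h =>
    hy' ((QuotientGroup.eq_one_iff _).1 (congrArg Subtype.val h))
  haveI : Fintype K := Fintype.ofFinite _
  have hdvd : p ∣ Fintype.card K := by
    obtain ⟨k, hk⟩ := IsPGroup.iff_card.1 hKp
    rcases k with _ | k
    · rw [pow_zero, Nat.card_eq_one_iff_unique] at hk
      haveI := hk.1
      exact absurd (Subsingleton.elim _ _) hKne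
    · rw [← Nat.card_eq_fintype_card, hk]; exact dvd_pow_self _ k.succ_ne_zero
  have hconj : ∀ v ∈ K, π g * v * (π g)⁻¹ ∈ K ∧ (π g)⁻¹ * v * π g ∈ K := by
    rintro _ ⟨u, rfl⟩
    constructor
    · refine ⟨⟨g * u * g⁻¹, (hgS _).1 u.2⟩, ?_⟩
      show π ⁅g, g * (u : G) * g⁻¹⁆ = π g * π ⁅g, (u : G)⁆ * (π g)⁻¹
      rw [← map_inv, ← map_mul, ← map_mul]; congr 1
      simp only [commutatorElement_def]; group
    · refine ⟨⟨g⁻¹ * u * g, by rw [hgS, show g * (g⁻¹ * (u : G) * g) * g⁻¹ = u by group]; exact u.2⟩, ?_⟩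
      show π ⁅g, g⁻¹ * (u : G) * g⁆ = (π g)⁻¹ * π ⁅g, (u : G)⁆ * π g
      rw [← map_inv, ← map_mul, ← map_mul]; congr 1
      simp only [commutatorElement_def]; group
  let σ : Equiv.Perm K :=
    { toFun := fun v => ⟨_, (hconj v v.2).1⟩
      invFun := fun v => ⟨_, (hconj v v.2).2⟩
      left_inv := fun v => Subtype.ext (by show _ = (v : G ⧸ Z); group)
      right_inv := fun v => Subtype.ext (by show _ = (v : G ⧸ Z); group) }
  have hσk : ∀ (k : ℕ) v, (((σ ^ k) v : K) : G ⧸ Z) = π g ^ k * v * (π g ^ k)⁻¹ := by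
    intro k v
    induction k with
    | zero => simp
    | succ k ih =>
      rw [pow_succ' σ, Equiv.Perm.mul_apply]
      show π g * _ * (π g)⁻¹ = _
      rw [ih, pow_succ']; group
  have hσ : σ ^ p ^ 1 = 1 := Equiv.ext fun v => Subtype.ext (by
    rw [pow_one, hσk, ← map_pow, show π (g ^ p) = 1 from (QuotientGroup.eq_one_iff _).2 hg, inv_one, one_mul, mul_one]
    rfl)
  obtain ⟨⟨_, ⟨a, rfl⟩⟩, hfix, hne⟩ := Equiv.Perm.exists_fixed_point_of_prime' hdvd hσ
    (a := 1) (Subtype.ext (show π g * 1 * (π g)⁻¹ = 1 by group))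
  refine ⟨a, a.2, fun h => hne (Subtype.ext ((QuotientGroup.eq_one_iff _).2 h)), ?_⟩
  have h : π g * π ⁅g, (a : G)⁆ * (π g)⁻¹ = π ⁅g, (a : G)⁆ := congrArg Subtype.val hfix
  refine (QuotientGroup.eq_one_iff _).1 ?_
  show π ⁅g, ⁅g, (a : G)⁆⁆ = 1
  rw [map_commutatorElement, commutatorElement_def, h, mul_inv_cancel]

end Group

section Linear

variable {F : Type*} [Field F]

theorem sum_finrank_inf_le {V : Type*} [AddCommGroup V] [Module F V] [FiniteDimensional F V] (T : End F V)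
    (U : Submodule F V) {ι : Type*} [Fintype ι] (μ : ι → F) (hμ : Function.Injective μ) :
    ∑ i, finrank F ↥(U ⊓ T.eigenspace (μ i)) ≤ finrank F U := by
  classical
  have hind : iSupIndep fun i => U ⊓ T.eigenspace (μ i) :=
    ((T.eigenspaces_iSupIndep).comp hμ).mono fun i => inf_le_right
  have key : ∀ s : Finset ι, ∑ i ∈ s, finrank F ↥(U ⊓ T.eigenspace (μ i)) ≤
      finrank F ↥(⨆ i ∈ s, U ⊓ T.eigenspace (μ i)) := by
    intro s
    induction s using Finset.induction_on with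
    | empty => simp
    | insert a s has ih =>
      rw [Finset.sum_insert has, Finset.iSup_insert]
      have hdis : Disjoint (U ⊓ T.eigenspace (μ a)) (⨆ i ∈ s, U ⊓ T.eigenspace (μ i)) :=
        hind.disjoint_biSup (show a ∉ (s : Set ι) from has)
      have := Submodule.finrank_sup_add_finrank_inf_eq (U ⊓ T.eigenspace (μ a)) (⨆ i ∈ s, U ⊓ T.eigenspace (μ i))
      rw [disjoint_iff.1 hdis, finrank_bot] at this
      omega
  exact (key Finset.univ).trans (Submodule.finrank_mono (iSup₂_le fun i _ => inf_le_left))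

theorem finrank_le_sum_inf {V : Type*} [AddCommGroup V] [Module F V] [FiniteDimensional F V] (T : End F V)
    (U : Submodule F V) (hU : ∀ v ∈ U, T v ∈ U) {p : ℕ} (hp : 0 < p) (hpF : (p : F) ≠ 0) {ω : F}
    (hω : IsPrimitiveRoot ω p) (hT : T ^ p = 1) :
    finrank F U ≤ ∑ k : Fin p, finrank F ↥(U ⊓ T.eigenspace (ω ^ (k : ℕ))) := by
  classical
  have hpow : ∀ (j : ℕ), ∀ v ∈ U, (T ^ j) v ∈ U := by
    intro j
    induction j with
    | zero => exact fun v hv => hv
    | succ j ih => intro v hv; rw [pow_succ', End.mul_apply]; exact hU _ (ih v hv)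
  have hω0 : ω ≠ 0 := hω.ne_zero hp.ne'
  let π : ℕ → V → V := fun k v => ∑ j ∈ Finset.range p, ((ω ^ k)⁻¹) ^ j • (T ^ j) v
  have hmem : ∀ v ∈ U, ∀ k : Fin p, π k v ∈ U ⊓ T.eigenspace (ω ^ (k : ℕ)) := fun v hv k => by
    refine ⟨U.sum_mem fun j _ => U.smul_mem _ (hpow j v hv), End.mem_eigenspace_iff.2 ?_⟩
    set ζ := ω ^ (k : ℕ) with hζ
    have hζ0 : ζ ≠ 0 := pow_ne_zero _ hω0
    have hζp : ζ⁻¹ ^ p = 1 := by rw [inv_pow, hζ, ← pow_mul, mul_comm, pow_mul, hω.pow_eq_one, one_pow, inv_one]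
    let f : ℕ → V := fun j => ζ⁻¹ ^ j • (T ^ j) v
    have h1 : T (π k v) = ζ • ∑ j ∈ Finset.range p, f (j + 1) := by
      simp only [π, ← hζ, map_sum, map_smul, Finset.smul_sum, f, smul_smul]
      refine Finset.sum_congr rfl fun j _ => ?_
      rw [pow_succ' T, End.mul_apply]
      congr 1
      rw [pow_succ']; field_simp
    have h2 : ∑ j ∈ Finset.range p, f (j + 1) = ∑ j ∈ Finset.range p, f j := by
      have h3 := Finset.sum_range_succ' f p
      rw [Finset.sum_range_succ, show f p = f 0 by simp only [f, hζp, hT, pow_zero]] at h3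
      exact (add_right_cancel h3).symm
    rw [h1, h2]
  have hsum : ∀ v, ∑ k : Fin p, π k v = (p : F) • v := by
    intro v
    simp only [π]
    rw [Finset.sum_comm, Finset.sum_eq_single 0]
    · simp [Nat.cast_smul_eq_nsmul]
    · intro j hj hj0
      rw [← Finset.sum_smul]
      convert zero_smul F ((T ^ j) v)
      have hne : (ω⁻¹) ^ j ≠ 1 := by
        rw [inv_pow, inv_ne_one]
        exact fun h => hj0 (Nat.eq_zero_of_dvd_of_lt ((hω.pow_eq_one_iff_dvd j).1 h) (Finset.mem_range.1 hj))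
      rw [Fin.sum_univ_eq_sum_range (fun k => (ω ^ k)⁻¹ ^ j) p,
        Finset.sum_congr rfl fun k _ => show (ω ^ k)⁻¹ ^ j = (ω⁻¹ ^ j) ^ k by rw [← inv_pow, ← pow_mul, ← pow_mul, mul_comm],
        geom_sum_eq hne, ← pow_mul, mul_comm, pow_mul, inv_pow, hω.pow_eq_one, inv_one, one_pow, sub_self, zero_div]
    · simp [hp.ne']
  have hle : U ≤ ⨆ k ∈ (Finset.univ : Finset (Fin p)), U ⊓ T.eigenspace (ω ^ (k : ℕ)) := fun v hv => by
    rw [show v = (p : F)⁻¹ • ∑ k : Fin p, π k v by rw [hsum, smul_smul, inv_mul_cancel₀ hpF, one_smul]]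
    exact Submodule.smul_mem _ _ (Submodule.sum_mem _ fun k _ =>
      le_biSup (fun k : Fin p => U ⊓ T.eigenspace (ω ^ (k : ℕ))) (Finset.mem_univ k) (hmem v hv k))
  refine (Submodule.finrank_mono hle).trans ?_
  generalize (Finset.univ : Finset (Fin p)) = s
  induction s using Finset.induction_on with
  | empty => simp
  | insert a s has ih =>
    rw [Finset.sum_insert has, Finset.iSup_insert]
    exact (Submodule.finrank_add_le_finrank_add_finrank _ _).trans (Nat.add_le_add_left ih _)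

variable {n : ℕ}

/-- The eigenspace of an invertible matrix. -/
abbrev es (u : GL (Fin n) F) (c : F) : Submodule F (Fin n → F) :=
  End.eigenspace (Matrix.toLin' (u : Matrix (Fin n) (Fin n) F)) c

theorem mem_es {u : GL (Fin n) F} {c : F} {v : Fin n → F} :
    v ∈ es u c ↔ (u : Matrix (Fin n) (Fin n) F) *ᵥ v = c • v := by
  rw [End.mem_eigenspace_iff, Matrix.toLin'_apply]

theorem finrank_le_of_mulVec (x : GL (Fin n) F) {U U' : Submodule F (Fin n → F)}
    (h : ∀ v ∈ U, (x : Matrix (Fin n) (Fin n) F) *ᵥ v ∈ U') : finrank F U ≤ finrank F U' := by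
  have hinj : Function.Injective (Matrix.toLin' (x : Matrix (Fin n) (Fin n) F)) := fun u v huv => by
    rw [Matrix.toLin'_apply, Matrix.toLin'_apply] at huv
    exact Matrix.mulVec_injective_of_isUnit x.isUnit huv
  rw [(Submodule.equivMapOfInjective _ hinj U).finrank_eq]
  refine Submodule.finrank_mono ?_
  rintro _ ⟨v, hv, rfl⟩
  rw [Matrix.toLin'_apply]
  exact h v hv

theorem es_zero (u : GL (Fin n) F) : es u 0 = ⊥ := by
  rw [Submodule.eq_bot_iff]
  intro v hv
  rw [mem_es, zero_smul] at hv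
  exact Matrix.mulVec_injective_of_isUnit u.isUnit (hv.trans (Matrix.mulVec_zero _).symm)

theorem eq_zero_of_scalar_fix {u : GL (Fin n) F} {ω : F} (hu : (u : Matrix (Fin n) (Fin n) F) = ω • 1) (hω : ω ≠ 1)
    {v : Fin n → F} (hv : (u : Matrix (Fin n) (Fin n) F) *ᵥ v = v) : v = 0 := by
  rw [hu, Matrix.smul_mulVec, Matrix.one_mulVec] at hv
  by_contra h
  exact hω (by
    have : (ω - 1) • v = 0 := by rw [sub_smul, one_smul, hv, sub_self]
    rcases smul_eq_zero.1 this with h' | h'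
    · exact sub_eq_zero.1 h'
    · exact absurd h' h)

/-- Two translates of an eigenspace meet inside the fixed space of a commutator. -/
theorem two_mul_finrank_le {g x : GL (Fin n) F} {c : F} (hc : c ≠ 0) {U : Submodule F (Fin n → F)}
    (hU : ∀ v, (⁅g, x⁆ : GL (Fin n) F).val *ᵥ v = v → (g * ⁅g, x⁆ * g⁻¹).val *ᵥ v = v → v ∈ U) :
    2 * finrank F (es g c) ≤ n + finrank F U := by
  set W := es g c
  set W' := es (x * g * x⁻¹) c
  have hmap : finrank F W ≤ finrank F W' := finrank_le_of_mulVec x fun v hv => by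
    rw [mem_es] at hv ⊢
    rw [Units.val_mul, Units.val_mul, Matrix.mulVec_mulVec, Matrix.mul_assoc, Units.inv_mul, Matrix.mul_one,
      ← Matrix.mulVec_mulVec, hv, Matrix.mulVec_smul]
  have hinv : ∀ {u : GL (Fin n) F} {v : Fin n → F}, (u : Matrix (Fin n) (Fin n) F) *ᵥ v = c • v →
      ((u⁻¹ : GL (Fin n) F) : Matrix (Fin n) (Fin n) F) *ᵥ v = c⁻¹ • v := by
    intro u v h
    have h' := congrArg (fun w => c⁻¹ • (((u⁻¹ : GL (Fin n) F) : Matrix (Fin n) (Fin n) F) *ᵥ w)) h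
    simp only [Matrix.mulVec_mulVec, Units.inv_mul, Matrix.one_mulVec, Matrix.mulVec_smul, smul_smul,
      inv_mul_cancel₀ hc, one_smul] at h'
    exact h'.symm
  have hle : W ⊓ W' ≤ U := fun v hv => by
    have h1 := mem_es.1 hv.1
    have h2 := hinv (mem_es.1 hv.2)
    have h3 : (⁅g, x⁆ : GL (Fin n) F).val *ᵥ v = v := by
      rw [show (⁅g, x⁆ : GL (Fin n) F) = g * (x * g * x⁻¹)⁻¹ by simp only [commutatorElement_def]; group,
        Units.val_mul, ← Matrix.mulVec_mulVec, h2, Matrix.mulVec_smul, h1, smul_smul, inv_mul_cancel₀ hc, one_smul]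
    refine hU v h3 ?_
    rw [Units.val_mul, Units.val_mul, ← Matrix.mulVec_mulVec, hinv h1, Matrix.mulVec_smul, ← Matrix.mulVec_mulVec, h3, h1,
      smul_smul, inv_mul_cancel₀ hc, one_smul]
  have h1 := Submodule.finrank_sup_add_finrank_inf_eq W W'
  have h2 := Submodule.finrank_mono hle
  have h3 := (Submodule.finrank_le (W ⊔ W')).trans (Module.finrank_fin_fun F).le
  omega

/-- An element moved by a scalar has small eigenspaces. -/
theorem mul_finrank_es_le {u b : GL (Fin n) F} {ω : F} {p : ℕ} (hω : IsPrimitiveRoot ω p)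
    (hp : 0 < p) (hb : (b : Matrix (Fin n) (Fin n) F) * u = ω • ((u : Matrix (Fin n) (Fin n) F) * b)) (c : F) (hc : c ≠ 0) :
    p * finrank F (es u c) ≤ n := by
  have hω0 : ω ≠ 0 := hω.ne_zero hp.ne'
  have hstep : ∀ k : ℕ, finrank F (es u c) ≤ finrank F (es u (c * (ω⁻¹) ^ k)) := by
    intro k
    induction k with
    | zero => rw [pow_zero, mul_one]
    | succ k ih =>
      refine ih.trans (finrank_le_of_mulVec b fun v hv => mem_es.2 ?_)
      rw [mem_es] at hv
      have h := congrArg (fun M => ω⁻¹ • (M *ᵥ v)) hb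
      simp only [← Matrix.mulVec_mulVec, Matrix.smul_mulVec, hv, Matrix.mulVec_smul, smul_smul,
        inv_mul_cancel₀ hω0, one_smul] at h
      rw [← h]
      congr 1
      ring
  have hinj : Function.Injective fun k : Fin p => c * (ω⁻¹) ^ (k : ℕ) := fun i j h =>
    Fin.ext (hω.inv.pow_inj i.2 j.2 (mul_left_cancel₀ hc h))
  have h := sum_finrank_inf_le (Matrix.toLin' (u : Matrix (Fin n) (Fin n) F)) ⊤ _ hinj
  rw [finrank_top, Module.finrank_fin_fun] at h
  refine le_trans ?_ h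
  calc p * finrank F (es u c) = ∑ _k : Fin p, finrank F (es u c) := by simp
    _ ≤ _ := Finset.sum_le_sum fun k _ => by rw [top_inf_eq]; exact hstep k

/-- The case of a fixed shift: `g a g⁻¹ = s z a` with `z` fixed by `g`. -/
theorem two_mul_finrank_shift_le {g a z : GL (Fin n) F} {s ε c : F} (hc : c ≠ 0) {p : ℕ} [Fact p.Prime] (hp : 5 ≤ p)
    (hpF : (p : F) ≠ 0) {ω₀ : F} (hω₀ : IsPrimitiveRoot ω₀ p) (hgz : g * z = z * g) (hz : z ^ p = 1)
    (hs : s ^ p = 1) (hε : ε ^ p = 1)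
    (hga : (g : Matrix (Fin n) (Fin n) F) * a = s • ((z : Matrix (Fin n) (Fin n) F) * a * g))
    (haz : (z : Matrix (Fin n) (Fin n) F) * a = ε • ((a : Matrix (Fin n) (Fin n) F) * z))
    (hzs : ∀ μ : F, μ ≠ 0 → p * finrank F (es z μ) ≤ n) :
    2 * finrank F (es g c) ≤ n := by
  classical
  have hpp : p.Prime := Fact.out
  set Tg := Matrix.toLin' (g : Matrix (Fin n) (Fin n) F) with hTg
  set Tz := Matrix.toLin' (z : Matrix (Fin n) (Fin n) F) with hTz
  set D : F → F → ℕ := fun lam μ => finrank F ↥(es z lam ⊓ es g μ) with hD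
  have hTzp : Tz ^ p = 1 := by
    show Matrix.toLinAlgEquiv' (z : Matrix (Fin n) (Fin n) F) ^ p = 1
    rw [← map_pow, ← Units.val_pow_eq_pow_val, hz, Units.val_one, map_one]
  have hUz : ∀ v ∈ es g c, Tz v ∈ es g c := fun v hv => by
    rw [mem_es] at hv ⊢
    rw [hTz, Matrix.toLin'_apply, Matrix.mulVec_mulVec, ← Units.val_mul, hgz, Units.val_mul, ← Matrix.mulVec_mulVec,
      hv, Matrix.mulVec_smul]
  have hw : ∀ {ω : F}, IsPrimitiveRoot ω p → finrank F (es g c) ≤ ∑ k : Fin p, D (ω ^ (k : ℕ)) c := fun hω =>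
    (finrank_le_sum_inf Tz (es g c) hUz hpp.pos hpF hω hTzp).trans (Finset.sum_le_sum fun k _ => by
      rw [inf_comm])
  have hstep : ∀ lam μ : F, D lam μ ≤ D (ε * lam) (μ * s * (ε * lam)) := fun lam μ =>
    finrank_le_of_mulVec a fun v hv => by
      have h1 := mem_es.1 hv.1
      have h2 := mem_es.1 hv.2
      have h3 : (z : Matrix (Fin n) (Fin n) F) *ᵥ ((a : Matrix (Fin n) (Fin n) F) *ᵥ v) =
          (ε * lam) • ((a : Matrix (Fin n) (Fin n) F) *ᵥ v) := by
        rw [Matrix.mulVec_mulVec, haz, Matrix.smul_mulVec, ← Matrix.mulVec_mulVec, h1, Matrix.mulVec_smul, smul_smul]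
      refine ⟨mem_es.2 h3, mem_es.2 ?_⟩
      rw [Matrix.mulVec_mulVec, hga, Matrix.smul_mulVec, ← Matrix.mulVec_mulVec, h2, Matrix.mulVec_smul,
        ← Matrix.mulVec_mulVec, h3, smul_smul, smul_smul]
      congr 1
      ring
  have hs0 : s ≠ 0 := fun h => by rw [h, zero_pow hpp.ne_zero] at hs; exact zero_ne_one hs
  by_cases hε1 : ε = 1
  · subst hε1
    simp only [one_mul] at hstep
    have hit : ∀ (lam : F) (j : ℕ), D lam c ≤ D lam (c * (s * lam) ^ j) := by
      intro lam j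
      induction j with
      | zero => rw [pow_zero, mul_one]
      | succ j ih =>
        refine ih.trans ((hstep lam _).trans_eq ?_)
        congr 1; rw [pow_succ]; ring
    have hω0 : ω₀ ≠ 0 := hω₀.ne_zero hpp.ne_zero
    have hb : ∀ k : Fin p, p * (p * D (ω₀ ^ (k : ℕ)) c) ≤ if s * ω₀ ^ (k : ℕ) = 1 then p * n else n := by
      intro k
      set lam := ω₀ ^ (k : ℕ)
      have hl := hzs lam (pow_ne_zero _ hω0)
      split_ifs with h
      · exact Nat.mul_le_mul_left p (le_trans (Nat.mul_le_mul_left p (Submodule.finrank_mono inf_le_left)) hl)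
      · have hq : (s * lam) ^ p = 1 := by
          rw [mul_pow, hs, one_mul, ← pow_mul, mul_comm, pow_mul, hω₀.pow_eq_one, one_pow]
        have hprim : IsPrimitiveRoot (s * lam) p := by
          have ho := orderOf_eq_prime hq h
          exact ho ▸ IsPrimitiveRoot.orderOf _
        have h1 := sum_finrank_inf_le Tg (es z lam) (fun j : Fin p => c * (s * lam) ^ (j : ℕ))
          (fun i j h => Fin.ext (hprim.pow_inj i.2 j.2 (mul_left_cancel₀ hc h)))
        have h2 : p * D lam c ≤ finrank F (es z lam) := by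
          refine le_trans ?_ h1
          calc p * D lam c = ∑ _j : Fin p, D lam c := by simp
            _ ≤ _ := Finset.sum_le_sum fun j _ => hit lam j
        exact le_trans (Nat.mul_le_mul_left p h2) hl
    have hsum : p * (p * finrank F (es g c)) ≤ ∑ k : Fin p, if s * ω₀ ^ (k : ℕ) = 1 then p * n else n := by
      refine le_trans (Nat.mul_le_mul_left p (Nat.mul_le_mul_left p (hw hω₀))) ?_
      rw [Finset.mul_sum, Finset.mul_sum]
      exact Finset.sum_le_sum fun k _ => hb k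
    have hone : (Finset.univ.filter fun k : Fin p => s * ω₀ ^ (k : ℕ) = 1).card ≤ 1 :=
      Finset.card_le_one.2 fun i hi j hj => Fin.ext (hω₀.pow_inj i.2 j.2
        (mul_left_cancel₀ hs0 ((Finset.mem_filter.1 hi).2.trans (Finset.mem_filter.1 hj).2.symm)))
    rw [Finset.sum_ite, Finset.sum_const, Finset.sum_const, smul_eq_mul, smul_eq_mul] at hsum
    have h2 : (Finset.univ.filter fun k : Fin p => ¬ s * ω₀ ^ (k : ℕ) = 1).card ≤ p :=
      (Finset.card_filter_le _ _).trans (by simp)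
    have h3 := Nat.mul_le_mul hone (le_refl (p * n))
    have h4 := Nat.mul_le_mul h2 (le_refl n)
    have h5 : p * finrank F (es g c) ≤ 2 * n := Nat.le_of_mul_le_mul_left (by nlinarith) hpp.pos
    nlinarith
  · have hεp : IsPrimitiveRoot ε p := (orderOf_eq_prime hε hε1) ▸ IsPrimitiveRoot.orderOf ε
    have hε0 : ε ≠ 0 := hεp.ne_zero hpp.ne_zero
    haveI : NeZero p := ⟨hpp.ne_zero⟩
    obtain ⟨t, -, ht⟩ := hεp.eq_pow_of_pow_eq_one hs
    set E : ℕ → ℕ := fun j => ∑ i ∈ Finset.range j, (t + i + 1) with hE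
    have hchain : ∀ (μ : F) (j k : ℕ), D (ε ^ j) (μ * ε ^ E j) ≤ D (ε ^ (j + k)) (μ * ε ^ E (j + k)) := by
      intro μ j k
      induction k with
      | zero => rfl
      | succ k ih =>
        refine ih.trans ((hstep _ _).trans_eq ?_)
        rw [← ht, ← add_assoc, show ε * ε ^ (j + k) = ε ^ (j + k + 1) from (pow_succ' ε (j + k)).symm,
          show E (j + k + 1) = E (j + k) + (t + (j + k) + 1) from Finset.sum_range_succ _ _]
        congr 1
        simp only [pow_add, pow_one]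
        ring
    set f : Fin p → F := fun j => c * (ε ^ E j)⁻¹ * ε ^ E p with hf
    have hb : ∀ j : Fin p, D (ε ^ (j : ℕ)) c ≤ D 1 (f j) := fun j => by
      have h := hchain (c * (ε ^ E j)⁻¹) j (p - j)
      rwa [mul_assoc, inv_mul_cancel₀ (pow_ne_zero _ hε0), mul_one, Nat.add_sub_cancel' j.2.le, hεp.pow_eq_one] at h
    have hfib : ∀ μ, (Finset.univ.filter fun j : Fin p => f j = μ).card ≤ 2 := fun μ => by
      by_contra h
      obtain ⟨i, hi, j, hj, l, hl, hij, hil, hjl⟩ := Finset.two_lt_card.1 (not_le.1 h)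
      rw [Finset.mem_filter] at hi hj hl
      have hval : ∀ i j : Fin p, f i = f j → i ≠ j → (2 * (t : ZMod p) + i + j + 1 : ZMod p) = 0 := by
        intro i j hij hne
        have h1 : ε ^ E i = ε ^ E j := inv_inj.1 (mul_left_cancel₀ hc (mul_right_cancel₀ (pow_ne_zero _ hε0) hij))
        rw [pow_eq_pow_mod (E i) hεp.pow_eq_one, pow_eq_pow_mod (E j) hεp.pow_eq_one] at h1
        have h2 := hεp.pow_inj (Nat.mod_lt _ hpp.pos) (Nat.mod_lt _ hpp.pos) h1
        have hE2 : ∀ k : ℕ, 2 * E k = 2 * t * k + k * (k + 1) := by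
          intro k
          induction k with
          | zero => simp [E]
          | succ k ih =>
            rw [show E (k + 1) = E k + (t + k + 1) from Finset.sum_range_succ _ _]
            linarith
        have h3 : ((E i : ℕ) : ZMod p) = (E j : ℕ) := (ZMod.natCast_eq_natCast_iff' _ _ _).2 h2
        have h4 := congrArg (Nat.cast : ℕ → ZMod p) (hE2 i)
        have h5 := congrArg (Nat.cast : ℕ → ZMod p) (hE2 j)
        push_cast at h4 h5
        have h6 : ((i : ℕ) : ZMod p) - (j : ℕ) ≠ 0 := sub_ne_zero.2 fun h => hne (Fin.ext (by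
          rw [ZMod.natCast_eq_natCast_iff', Nat.mod_eq_of_lt i.2, Nat.mod_eq_of_lt j.2] at h
          exact h))
        refine (mul_eq_zero.1 ?_).resolve_left h6
        linear_combination 2 * h3 - h4 + h5
      have h1 := hval i j (hi.2.trans hj.2.symm) hij
      have h2 := hval i l (hi.2.trans hl.2.symm) hil
      refine hjl (Fin.ext ?_)
      have h3 : ((j : ℕ) : ZMod p) = ((l : ℕ) : ZMod p) := by linear_combination h1 - h2
      rw [ZMod.natCast_eq_natCast_iff', Nat.mod_eq_of_lt j.2, Nat.mod_eq_of_lt l.2] at h3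
      exact h3
    have h1 : ∑ j : Fin p, D 1 (f j) ≤ 2 * finrank F (es z 1) := by
      rw [← Finset.sum_fiberwise_of_maps_to (g := f) (t := Finset.univ.image f) (fun j _ => Finset.mem_image_of_mem _ (Finset.mem_univ j))]
      refine le_trans (Finset.sum_le_sum (g := fun μ => 2 * D 1 μ) fun μ _ => ?_) ?_
      · rw [Finset.sum_congr rfl fun j hj => show D 1 (f j) = D 1 μ by rw [(Finset.mem_filter.1 hj).2],
          Finset.sum_const, smul_eq_mul]
        exact Nat.mul_le_mul_right _ (hfib μ)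
      · rw [← Finset.mul_sum]
        refine Nat.mul_le_mul_left 2 ?_
        rw [← Finset.sum_coe_sort]
        exact sum_finrank_inf_le Tg (es z 1) _ Subtype.val_injective
    have h2 := (hw hεp).trans ((Finset.sum_le_sum fun j _ => hb j).trans h1)
    have h3 := hzs 1 one_ne_zero
    nlinarith

end Linear

end CfsgLib.Elusive.ExtraEigen
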