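import Mathlib.LinearAlgebra.FiniteDimensional.Lemmas
import Mathlib.LinearAlgebra.Dimension.Constructions
import Mathlib.LinearAlgebra.Semisimple
import Mathlib.Algebra.Polynomial.AlgebraMap

/-! Invariant subspaces of prescribed dimension, built step by step. -/

set_option autoImplicit false

namespace CfsgLib.Elusive

open Polynomial Module

variable {F V : Type*} [Field F] [AddCommGroup V] [Module F V]

/-- `W` is invariant under `f`. -/
def Inv (f : V →ₗ[F] V) (W : Submodule F V) : Prop := ∀ v ∈ W, f v ∈ W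

theorem inv_iff {f : V →ₗ[F] V} {W : Submodule F V} : Inv f W ↔ W.map f ≤ W :=
  ⟨fun h => by rintro _ ⟨v, hv, rfl⟩; exact h v hv, fun h v hv => h ⟨v, hv, rfl⟩⟩

theorem Inv.bot (f : V →ₗ[F] V) : Inv f ⊥ := fun v hv => by
  rw [Submodule.mem_bot] at hv ⊢; rw [hv, map_zero]

theorem Inv.top (f : V →ₗ[F] V) : Inv f ⊤ := fun _ _ => Submodule.mem_top

theorem Inv.inf {f : V →ₗ[F] V} {A B : Submodule F V} (hA : Inv f A) (hB : Inv f B) :
    Inv f (A ⊓ B) := fun v hv => ⟨hA v hv.1, hB v hv.2⟩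

theorem Inv.sup {f : V →ₗ[F] V} {A B : Submodule F V} (hA : Inv f A) (hB : Inv f B) :
    Inv f (A ⊔ B) := fun v hv => by
  obtain ⟨a, ha, b, hb, rfl⟩ := Submodule.mem_sup.1 hv
  rw [map_add]
  exact Submodule.add_mem_sup (hA a ha) (hB b hb)

theorem Inv.aeval {f : V →ₗ[F] V} {W : Submodule F V} (hW : Inv f W) (P : F[X]) :
    Inv (Polynomial.aeval f P) W := by
  induction P using Polynomial.induction_on' with
  | add p q hp hq => intro v hv; rw [map_add]; exact W.add_mem (hp v hv) (hq v hv)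
  | monomial k c =>
    intro v hv
    rw [Polynomial.aeval_monomial, Module.End.mul_apply, Module.algebraMap_end_apply]
    refine W.smul_mem _ ?_
    induction k with
    | zero => rw [pow_zero]; exact hv
    | succ k ih => rw [pow_succ', Module.End.mul_apply]; exact hW _ ih

theorem exists_cross {f : V →ₗ[F] V} {W T : Submodule F V} (hT : Inv f T) :
    ∀ (Ps : List F[X]), ∀ u ∈ T, u ∉ W → Polynomial.aeval f Ps.prod u ∈ W →
      ∃ v ∈ T, v ∉ W ∧ ∃ P ∈ Ps, Polynomial.aeval f P v ∈ W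
  | [], u, _, hu, h => by
    rw [List.prod_nil, map_one, Module.End.one_apply] at h
    exact absurd h hu
  | P :: Ps, u, huT, hu, h => by
    by_cases hc : Polynomial.aeval f Ps.prod u ∈ W
    · obtain ⟨v, hv, hvW, P', hP', h'⟩ := exists_cross hT Ps u huT hu hc
      exact ⟨v, hv, hvW, P', List.mem_cons_of_mem _ hP', h'⟩
    · rw [List.prod_cons, map_mul, Module.End.mul_apply] at h
      exact ⟨_, hT.aeval Ps.prod u huT, hc, P, List.mem_cons_self, h⟩

variable [FiniteDimensional F V]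

theorem step {f : V →ₗ[F] V} {W T : Submodule F V} (hW : Inv f W) (hT : Inv f T) (hle : W ≤ T)
    {v : V} (hv : v ∈ T) (hvW : v ∉ W) {P : F[X]} (hP : P.Monic) {i : ℕ} (hdeg : P.natDegree ≤ i)
    (hPv : Polynomial.aeval f P v ∈ W) :
    ∃ X, Inv f X ∧ W ≤ X ∧ X ≤ T ∧ v ∈ X ∧ finrank F W < finrank F X ∧
      finrank F X ≤ finrank F W + i := by
  let k := P.natDegree
  let S : Submodule F V := Submodule.span F (Set.range fun l : Fin k => (f ^ (l : ℕ)) v)
  have hk0 : 0 < k := by
    by_contra h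
    rw [eq_one_of_monic_natDegree_zero hP (by omega), map_one, Module.End.one_apply] at hPv
    exact hvW hPv
  have htop : (f ^ k) v ∈ W ⊔ S := by
    rw [Polynomial.aeval_eq_sum_range, Finset.sum_range_succ, hP.coeff_natDegree, one_smul,
      LinearMap.add_apply] at hPv
    have h1 : (∑ l ∈ Finset.range k, P.coeff l • f ^ l : Module.End F V) v ∈ S := by
      rw [LinearMap.sum_apply]
      exact Submodule.sum_mem _ fun l hl => by
        rw [LinearMap.smul_apply]
        exact S.smul_mem _ (Submodule.subset_span ⟨⟨l, Finset.mem_range.1 hl⟩, rfl⟩)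
    have := Submodule.sub_mem (W ⊔ S) (Submodule.mem_sup_left hPv) (Submodule.mem_sup_right h1)
    rwa [add_sub_cancel_left] at this
  have hSinv : Inv f (W ⊔ S) := by
    have : (W ⊔ S).map f ≤ W ⊔ S := by
      rw [Submodule.map_sup]
      refine sup_le ((inv_iff.1 hW).trans le_sup_left) ?_
      rw [Submodule.map_span, Submodule.span_le]
      rintro _ ⟨_, ⟨l, rfl⟩, rfl⟩
      show f ((f ^ (l : ℕ)) v) ∈ W ⊔ S
      rw [← Module.End.mul_apply, ← pow_succ']
      rcases Nat.lt_or_ge (l.val + 1) k with h | h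
      · exact Submodule.mem_sup_right (Submodule.subset_span ⟨⟨l.val + 1, h⟩, rfl⟩)
      · rw [show (l : ℕ) + 1 = k by omega]; exact htop
    exact inv_iff.2 this
  have hvS : v ∈ W ⊔ S := Submodule.mem_sup_right (Submodule.subset_span ⟨⟨0, hk0⟩, rfl⟩)
  have hST : W ⊔ S ≤ T := by
    refine sup_le hle (Submodule.span_le.2 ?_)
    rintro _ ⟨l, rfl⟩
    show (f ^ (l : ℕ)) v ∈ T
    induction (l : ℕ) with
    | zero => rw [pow_zero]; exact hv
    | succ k ih => rw [pow_succ', Module.End.mul_apply]; exact hT _ ih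
  refine ⟨W ⊔ S, hSinv, le_sup_left, hST, hvS, Submodule.finrank_lt_finrank_of_lt ?_, ?_⟩
  · exact lt_of_le_of_ne le_sup_left fun e => hvW (e ▸ hvS)
  · have h1 := Submodule.finrank_sup_add_finrank_inf_eq W S
    have h2 : finrank F S ≤ k := (finrank_range_le_card _).trans_eq (Fintype.card_fin k)
    omega

/-- Climbing from `W` towards `T` in steps of exactly `i`. -/
theorem greedy {f : V →ₗ[F] V} {i : ℕ} (Ps : List F[X])
    (hPs : ∀ P ∈ Ps, P.Monic ∧ P.natDegree ≤ i) {W T : Submodule F V}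
    (hW : Inv f W) (hT : Inv f T) (hle : W ≤ T) (hann : ∀ u ∈ T, Polynomial.aeval f Ps.prod u ∈ W)
    (hdiv : ∀ X, Inv f X → W ≤ X → X ≤ T → i ∣ finrank F X - finrank F W) :
    ∀ j, finrank F W + j * i ≤ finrank F T →
      ∃ X, Inv f X ∧ W ≤ X ∧ X ≤ T ∧ finrank F X = finrank F W + j * i := by
  intro j
  induction j with
  | zero => exact fun _ => ⟨W, hW, le_rfl, hle, by omega⟩
  | succ j ih =>
    intro hj
    rw [Nat.add_mul, Nat.one_mul] at hj ⊢
    obtain ⟨X, hX, hWX, hXT, hdim⟩ := ih (by omega)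
    rcases Nat.eq_zero_or_pos i with rfl | hi
    · exact ⟨X, hX, hWX, hXT, by omega⟩
    obtain ⟨u, huT, huX⟩ := SetLike.exists_of_lt
      (lt_of_le_of_ne hXT fun e => by rw [e] at hdim; omega)
    obtain ⟨v, hv, hvX, P, hP, hPv⟩ := exists_cross (W := X) hT Ps u huT huX (hWX (hann u huT))
    obtain ⟨Y, hY, hXY, hYT, -, hlo, hhi⟩ := step hX hT hXT hv hvX (hPs P hP).1 (hPs P hP).2 hPv
    refine ⟨Y, hY, hWX.trans hXY, hYT, ?_⟩
    obtain ⟨w, hw⟩ := hdiv Y hY (hWX.trans hXY) hYT
    rw [hdim] at hlo hhi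
    have h1 : w ≤ j + 1 := Nat.le_of_mul_le_mul_left
      (by rw [Nat.mul_add, Nat.mul_one, Nat.mul_comm i j]; omega) hi
    have h2 : j < w := Nat.lt_of_mul_lt_mul_left (a := i) (by rw [Nat.mul_comm i j]; omega)
    obtain rfl : w = j + 1 := by omega
    rw [Nat.mul_add, Nat.mul_one, Nat.mul_comm i j] at hw
    omega

/-- Invariant complements of a semisimple map. -/
theorem exists_compl {f : V →ₗ[F] V} (hf : Module.End.IsSemisimple f) {W : Submodule F V}
    (hW : Inv f W) : ∃ W', Inv f W' ∧ IsCompl W W' := by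
  obtain ⟨q, hq, hc⟩ := Module.End.isSemisimple_iff.1 hf W
    ((Module.End.mem_invtSubmodule_iff_map_le f).2 (inv_iff.1 hW))
  exact ⟨q, inv_iff.2 ((Module.End.mem_invtSubmodule_iff_map_le f).1 hq), hc⟩

end CfsgLib.Elusive
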