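import Cfsg.Agent.Elusive.Singer2
import Cfsg.Agent.Elusive.ConjBasis
import Cfsg.Agent.Elusive.ExtField
import Cfsg.Prelude.Def_GeometricClasses
import Mathlib.GroupTheory.PGroup
import Mathlib.GroupTheory.Perm.Cycle.Type
import Mathlib.RingTheory.RootsOfUnity.PrimitiveRoots

/-!
The extraspecial subgroups of order `27` and exponent `3` of `GL_3` and their normalisers.
-/

set_option autoImplicit false
set_option linter.unusedSectionVars false
open scoped Matrix

namespace CfsgLib.Elusive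

open Module Cfsg.Geo

variable {F : Type*} [Field F] [Fintype F]

/-- The cyclic permutation matrix. -/
def cycMat (F : Type*) [Field F] : Matrix (Fin 3) (Fin 3) F := !![0, 0, 1; 1, 0, 0; 0, 1, 0]

/-- A group of order `27` with two non-commuting elements is generated by them, and its commutators are central. -/
theorem order_27_group {G : Type*} [Group G] [Finite G] (h27 : Nat.card G = 27) {a b : G} (hab : a * b ≠ b * a) :
    (∀ g, Commute (a * b * a⁻¹ * b⁻¹) g) ∧ Subgroup.closure {a, b} = (⊤ : Subgroup G) := by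
  haveI : Fact (Nat.Prime 3) := ⟨Nat.prime_three⟩
  have hG : IsPGroup 3 G := IsPGroup.of_card (n := 3) (by rw [h27]; norm_num)
  have hsub : ∀ H : Subgroup G, Nat.card H ≠ 27 → ∀ x ∈ H, ∀ y ∈ H, x * y = y * x := by
    intro H hH x hx y hy
    obtain ⟨i, hi, hc⟩ := (Nat.dvd_prime_pow Nat.prime_three).1
      (show Nat.card H ∣ 3 ^ 3 by rw [show (3 : ℕ) ^ 3 = 27 by norm_num, ← h27]; exact H.card_subgroup_dvd_card)
    have hcases : i = 0 ∨ i = 1 ∨ i = 2 := by
      rcases (show i = 0 ∨ i = 1 ∨ i = 2 ∨ i = 3 by omega) with h | h | h | h <;> first | tauto | (subst h; simp at hc; omega)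
    rcases hcases with rfl | rfl | rfl
    · have : Subsingleton H := (Nat.card_eq_one_iff_unique.1 (by simpa using hc)).1
      exact congrArg Subtype.val (Subsingleton.elim (⟨x, hx⟩ * ⟨y, hy⟩ : H) (⟨y, hy⟩ * ⟨x, hx⟩))
    · have := isCyclic_of_prime_card (α := H) (p := 3) (by simpa using hc)
      exact congrArg Subtype.val ((IsCyclic.commutative (α := H)).is_comm.comm ⟨x, hx⟩ ⟨y, hy⟩)
    · exact congrArg Subtype.val ((IsPGroup.isMulCommutative_of_card_eq_prime_sq hc).is_comm.comm ⟨x, hx⟩ ⟨y, hy⟩)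
  refine ⟨fun g => ?_, ?_⟩
  · haveI : Nontrivial G := ⟨⟨a * b, b * a, hab⟩⟩
    have hne := IsPGroup.center_nontrivial hG
    have hq : ∀ x y : G ⧸ Subgroup.center G, x * y = y * x := by
      obtain ⟨i, hi, hc⟩ := (Nat.dvd_prime_pow Nat.prime_three).1
        (show Nat.card (G ⧸ Subgroup.center G) ∣ 3 ^ 3 by
          rw [show (3 : ℕ) ^ 3 = 27 by norm_num, ← h27]; exact Subgroup.card_quotient_dvd_card _)
      have hmul := Subgroup.card_eq_card_quotient_mul_card_subgroup (Subgroup.center G)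
      have h1 : 1 < Nat.card (Subgroup.center G) := Finite.one_lt_card
      rcases (show i = 0 ∨ i = 1 ∨ i = 2 ∨ i = 3 by omega) with rfl | rfl | rfl | rfl
      · intro x y
        have : Subsingleton (G ⧸ Subgroup.center G) := (Nat.card_eq_one_iff_unique.1 (by simpa using hc)).1
        exact Subsingleton.elim _ _
      · have := isCyclic_of_prime_card (α := G ⧸ Subgroup.center G) (p := 3) (by simpa using hc)
        exact fun x y => (IsCyclic.commutative (α := G ⧸ Subgroup.center G)).is_comm.comm x y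
      · exact fun x y => (IsPGroup.isMulCommutative_of_card_eq_prime_sq hc).is_comm.comm x y
      · rw [h27, hc] at hmul; omega
    have h1 : ((a * b * a⁻¹ * b⁻¹ : G) : G ⧸ Subgroup.center G) = 1 := by
      simp only [QuotientGroup.mk_mul, QuotientGroup.mk_inv]
      rw [hq (a : G ⧸ Subgroup.center G) b, mul_assoc (b : G ⧸ Subgroup.center G), mul_inv_cancel, mul_one, mul_inv_cancel]
    exact (Subgroup.mem_center_iff.1 ((QuotientGroup.eq_one_iff _).1 h1) g).symm
  · refine Subgroup.eq_top_of_card_eq _ ?_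
    by_contra h
    rw [h27] at h
    exact hab (hsub _ h a (Subgroup.subset_closure (by simp)) b (Subgroup.subset_closure (by simp)))

/-- An element of order three and determinant one without a repeated eigenvalue commutes only with
commuting maps. -/
theorem scalar_of_commute_noncomm {ω : F} (hω : IsPrimitiveRoot ω 3) (h3 : ((3 : ℕ) : F) ≠ 0)
    {Z A B : (Fin 3 → F) →ₗ[F] (Fin 3 → F)} (hZ : Z ^ 3 = 1) (hdet : LinearMap.det Z = 1)
    (hA : Commute Z A) (hB : Commute Z B) (hAB : A * B ≠ B * A) : ∃ c : F, c ^ 3 = 1 ∧ Z = c • 1 := by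
  have hd : finrank F (Fin 3 → F) = 3 := by simp
  have hω3 : ω ^ 3 = 1 := hω.pow_eq_one
  by_cases hle : ∀ j : Fin 3, finrank F (LinearMap.ker (Z - ω ^ (j : ℕ) • 1)) ≤ 1
  · exfalso
    obtain ⟨b, hb⟩ := exists_eigen_basis hω hd hZ hle
    have hdiag : ∀ M, Commute Z M → ∀ j, ∃ c : F, M (b j) = c • b j := by
      intro M hM j
      have hmem : ∀ v, Z v = ω ^ (j : ℕ) • v → v ∈ LinearMap.ker (Z - ω ^ (j : ℕ) • 1) := fun v hv => by
        rw [LinearMap.mem_ker, LinearMap.sub_apply, LinearMap.smul_apply, Module.End.one_apply, hv, sub_self]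
      have h1 : F ∙ b j = LinearMap.ker (Z - ω ^ (j : ℕ) • 1) := Submodule.eq_of_le_of_finrank_le
        ((Submodule.span_singleton_le_iff_mem _ _).2 (hmem _ (hb j)))
        ((hle j).trans (finrank_span_singleton (b.ne_zero j)).ge)
      have h2 : Z (M (b j)) = ω ^ (j : ℕ) • M (b j) := by
        rw [← Module.End.mul_apply, hM.eq, Module.End.mul_apply, hb, map_smul]
      obtain ⟨c, hc⟩ := Submodule.mem_span_singleton.1 (h1.symm ▸ hmem _ h2)
      exact ⟨c, hc.symm⟩
    choose α hα using hdiag A hA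
    choose β hβ using hdiag B hB
    refine hAB (b.ext fun j => ?_)
    rw [Module.End.mul_apply, Module.End.mul_apply, hα, hβ, map_smul, map_smul, hα, hβ, smul_comm]
  · push Not at hle
    obtain ⟨j, hj⟩ := hle
    set w := ω ^ (j : ℕ) with hw
    have hw3 : w ^ 3 = 1 := by rw [hw, ← pow_mul, mul_comm, pow_mul, hω3, one_pow]
    have hw0 : w ≠ 0 := pow_ne_zero _ (hω.ne_zero (by norm_num))
    have h := eq_one_of_fix_two (f := w⁻¹ • Z) hd (by rw [smul_pow, hZ, inv_pow, hw3, inv_one, one_smul]) h3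
      (by rw [LinearMap.det_smul, hd, hdet, inv_pow, hw3, inv_one, one_mul]) (by
        refine (Nat.lt_iff_add_one_le.1 hj).trans (Submodule.finrank_mono fun v hv => ?_)
        rw [LinearMap.mem_ker, LinearMap.sub_apply, LinearMap.smul_apply, Module.End.one_apply, sub_eq_zero] at hv
        rw [mem_fixS, LinearMap.smul_apply, hv, smul_smul, inv_mul_cancel₀ hw0, one_smul])
    exact ⟨w, hw3, by rw [← h, smul_smul, mul_inv_cancel₀ hw0, one_smul]⟩

/-- Normal form of an extraspecial subgroup of order `27` and exponent `3`. -/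
theorem exists_heisenberg_frame {ω : F} (hω : IsPrimitiveRoot ω 3) (h3 : ((3 : ℕ) : F) ≠ 0)
    (R : Subgroup (GL (Fin 3) F)) (hR : Nat.card R = 27) (hRe : Monoid.exponent R = 3) (hRna : ¬ IsMulCommutative R) :
    ∃ (μ : F) (P a b z : GL (Fin 3) F), IsPrimitiveRoot μ 3 ∧ a ∈ R ∧ b ∈ R ∧ z ∈ R ∧
      (z : Matrix (Fin 3) (Fin 3) F) = μ • 1 ∧
      ((P⁻¹ * a * P : GL (Fin 3) F) : Matrix (Fin 3) (Fin 3) F) = Matrix.diagonal ![1, μ, μ ^ 2] ∧
      ((P⁻¹ * b * P : GL (Fin 3) F) : Matrix (Fin 3) (Fin 3) F) = cycMat F ∧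
      R = Subgroup.closure {a, b} := by
  classical
  obtain ⟨a₀, b₀, hab⟩ : ∃ a b : R, a * b ≠ b * a := by
    by_contra h
    push Not at h
    exact hRna ⟨⟨h⟩⟩
  obtain ⟨hzc, -⟩ := order_27_group hR hab
  set z₀ : R := a₀ * b₀ * a₀⁻¹ * b₀⁻¹ with hz₀
  have hcube : ∀ x : R, x ^ 3 = 1 := fun x => by
    have := Monoid.pow_exponent_eq_one x
    rwa [hRe] at this
  let T : GL (Fin 3) F → ((Fin 3 → F) →ₗ[F] (Fin 3 → F)) := fun g => Matrix.toLinAlgEquiv' (g : Matrix (Fin 3) (Fin 3) F)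
  have hTmul : ∀ g h, T (g * h) = T g * T h := fun g h => by simp [T]
  have hTinj : Function.Injective T := fun g h e => Units.ext (Matrix.toLinAlgEquiv'.injective e)
  have hTpow : ∀ g : R, T g ^ 3 = 1 := fun g => by
    show (Matrix.toLinAlgEquiv' (((g : GL (Fin 3) F)) : Matrix (Fin 3) (Fin 3) F)) ^ 3 = 1
    rw [← map_pow, ← Units.val_pow_eq_pow_val, ← SubgroupClass.coe_pow, hcube, OneMemClass.coe_one, Units.val_one, map_one]
  have hdet : LinearMap.det (T z₀) = 1 := by
    show LinearMap.det (Matrix.toLin' ((z₀ : GL (Fin 3) F) : Matrix (Fin 3) (Fin 3) F)) = 1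
    rw [LinearMap.det_toLin', ← Matrix.GeneralLinearGroup.val_det_apply]
    simp only [hz₀, Subgroup.coe_mul, Subgroup.coe_inv, map_mul, map_inv]
    rw [mul_comm (Matrix.GeneralLinearGroup.det (a₀ : GL (Fin 3) F))]
    simp
  have hne : T a₀ * T b₀ ≠ T b₀ * T a₀ := fun e => hab (Subtype.ext (hTinj (by
    rw [Subgroup.coe_mul, Subgroup.coe_mul, hTmul, hTmul, e])))
  obtain ⟨μ, hμ3, hμ⟩ := scalar_of_commute_noncomm hω h3 (hTpow z₀) hdet
    (show Commute (T z₀) (T a₀) by
      rw [commute_iff_eq, ← hTmul, ← hTmul, ← Subgroup.coe_mul, ← Subgroup.coe_mul, (hzc a₀).eq])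
    (show Commute (T z₀) (T b₀) by
      rw [commute_iff_eq, ← hTmul, ← hTmul, ← Subgroup.coe_mul, ← Subgroup.coe_mul, (hzc b₀).eq]) hne
  have hzm : ((z₀ : GL (Fin 3) F) : Matrix (Fin 3) (Fin 3) F) = μ • 1 :=
    Matrix.toLinAlgEquiv'.injective (by rw [map_smul, map_one]; exact hμ)
  have hμ1 : μ ≠ 1 := fun h => hab (by
    have h1 : z₀ = 1 := Subtype.ext (Units.ext (by rw [hzm, h, one_smul]; rfl))
    rw [hz₀, mul_inv_eq_one, mul_inv_eq_iff_eq_mul] at h1
    exact h1)
  have hμp : IsPrimitiveRoot μ 3 := IsPrimitiveRoot.iff_orderOf.2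
    (orderOf_eq_prime (hp := ⟨Nat.prime_three⟩) hμ3 hμ1)
  have hμ0 : μ ≠ 0 := hμp.ne_zero (by norm_num)
  -- a fixed vector after adjusting by the centre
  have hsum : 1 + μ + μ ^ 2 = 0 := by
    have := hμp.geom_sum_eq_zero (by norm_num)
    rwa [Finset.sum_range_succ, Finset.sum_range_succ, Finset.sum_range_succ, Finset.sum_range_zero,
      zero_add, pow_zero, pow_one] at this
  obtain ⟨k, v, hv0, hv⟩ : ∃ (k : ℕ) (v : Fin 3 → F), v ≠ 0 ∧ T (z₀ ^ k * a₀ : R) v = v := by
    set A := T a₀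
    set u : Fin 3 → F := Pi.single 0 1
    have hTk : ∀ k, T (z₀ ^ k * a₀ : R) = μ ^ k • A := fun k => by
      rw [Subgroup.coe_mul, SubgroupClass.coe_pow, hTmul]
      show Matrix.toLinAlgEquiv' ((((z₀ : GL (Fin 3) F)) ^ k : GL (Fin 3) F) : Matrix (Fin 3) (Fin 3) F) * A = _
      rw [Units.val_pow_eq_pow_val, hzm, smul_pow, one_pow, map_smul, map_one, smul_mul_assoc, one_mul]
    let w : ℕ → (Fin 3 → F) := fun k => u + μ ^ k • A u + μ ^ (2 * k) • A (A u)
    have hA3 : A (A (A u)) = u := by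
      have := LinearMap.congr_fun (hTpow a₀) u
      simpa [pow_succ] using this
    have hw : ∀ k, T (z₀ ^ k * a₀ : R) (w k) = w k := fun k => by
      have e : μ ^ k * μ ^ (2 * k) = 1 := by rw [← pow_add, show k + 2 * k = 3 * k by ring, pow_mul, hμ3, one_pow]
      rw [hTk]
      have e' : μ ^ (2 * k) * μ ^ k = 1 := (mul_comm _ _).trans e
      simp only [w, LinearMap.smul_apply, map_add, map_smul, hA3, smul_add, smul_smul]
      rw [show μ ^ k * μ ^ k = μ ^ (2 * k) by rw [← pow_add, two_mul]]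
      simp only [e, e', one_smul]
      abel
    by_contra hno
    push Not at hno
    have h0 : ∀ k, w k = 0 := fun k => by
      by_contra h
      exact hno k (w k) h (hw k)
    have h4 : ((3 : ℕ) : F) • u = 0 := by
      have e0 := h0 0; have e1 := h0 1; have e2 := h0 2
      simp only [w, Nat.mul_zero, pow_zero, one_smul, mul_one, pow_one] at e0 e1 e2
      have e4 : μ ^ (2 * 2) = μ := by rw [show 2 * 2 = 3 + 1 from rfl, pow_succ, hμ3, one_mul]
      rw [e4] at e2
      have e5 : (1 + μ + μ ^ 2) • A u + (1 + μ + μ ^ 2) • A (A u) = 0 := by rw [hsum, zero_smul, zero_smul, add_zero]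
      push_cast
      linear_combination (norm := module) e0 + e1 + e2 - e5
    rcases smul_eq_zero.1 h4 with h | h
    · exact h3 h
    · simpa [u] using congrFun h 0
  set a₁ : R := z₀ ^ k * a₀ with ha₁
  have hcomm : T a₁ * T b₀ = μ • (T b₀ * T a₁) := by
    have h : a₁ * b₀ = z₀ * (b₀ * a₁) := by
      have e : a₀ * b₀ = z₀ * (b₀ * a₀) := by rw [hz₀]; group
      clear_value z₀
      calc a₁ * b₀ = z₀ ^ k * (a₀ * b₀) := by rw [ha₁, mul_assoc]
        _ = z₀ ^ k * (z₀ * (b₀ * a₀)) := by rw [e]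
        _ = z₀ * (z₀ ^ k * (b₀ * a₀)) := by rw [← mul_assoc, ← pow_succ, pow_succ', mul_assoc]
        _ = z₀ * (b₀ * a₁) := by rw [← mul_assoc (z₀ ^ k), ((hzc b₀).pow_left k).eq, mul_assoc, ← ha₁]
    rw [← hTmul, ← hTmul, ← Subgroup.coe_mul, ← Subgroup.coe_mul, h, Subgroup.coe_mul, hTmul]
    show Matrix.toLinAlgEquiv' ((z₀ : GL (Fin 3) F) : Matrix (Fin 3) (Fin 3) F) * _ = _
    rw [hzm, map_smul, map_one, smul_mul_assoc, one_mul]
  let vs : Fin 3 → (Fin 3 → F) := ![v, T b₀ v, T b₀ (T b₀ v)]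
  have hbv : ∀ w, T b₀ (T b₀ (T b₀ w)) = w := fun w => by
    have := LinearMap.congr_fun (hTpow b₀) w
    simpa [pow_succ] using this
  have hstep : ∀ w : Fin 3 → F, T a₁ (T b₀ w) = μ • T b₀ (T a₁ w) := fun w => LinearMap.congr_fun hcomm w
  have hav : ∀ i : Fin 3, T a₁ (vs i) = (![1, μ, μ ^ 2] : Fin 3 → F) i • vs i := by
    intro i
    fin_cases i <;> simp [vs, hv, hstep, map_smul, smul_smul, pow_two]
  have hbinj : Function.Injective (T b₀) := fun x y e => by rw [← hbv x, ← hbv y, e]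
  have hne0 : ∀ i, vs i ≠ 0 := by
    intro i
    fin_cases i
    · exact hv0
    · exact fun h => hv0 (hbinj (by simpa [vs] using h))
    · exact fun h => hv0 (hbinj (hbinj (by simpa [vs] using h)))
  have hli : LinearIndependent F vs := by
    refine Module.End.eigenvectors_linearIndependent' (T a₁) (![1, μ, μ ^ 2] : Fin 3 → F) ?_ vs
      fun i => ⟨Module.End.mem_eigenspace_iff.2 (hav i), hne0 i⟩
    have hv' : ∀ i : Fin 3, (![1, μ, μ ^ 2] : Fin 3 → F) i = μ ^ (i : ℕ) := fun i => by fin_cases i <;> simp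
    intro i i' e
    rw [hv', hv'] at e
    exact Fin.ext (hμp.pow_inj i.isLt i'.isLt e)
  let M : Matrix (Fin 3) (Fin 3) F := Matrix.of fun l i => vs i l
  have hM : IsUnit M.det := by
    rw [← Matrix.isUnit_iff_isUnit_det, ← Matrix.linearIndependent_cols_iff_isUnit]
    exact hli
  let P : GL (Fin 3) F := Matrix.GeneralLinearGroup.mkOfDetNeZero M hM.ne_zero
  have hconj : ∀ (g : GL (Fin 3) F) (X : Matrix (Fin 3) (Fin 3) F),
      (∀ i, (g : Matrix (Fin 3) (Fin 3) F) *ᵥ vs i = ∑ l, X l i • vs l) →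
      ((P⁻¹ * g * P : GL (Fin 3) F) : Matrix (Fin 3) (Fin 3) F) = X := by
    intro g X hX
    have h1 : (g : Matrix (Fin 3) (Fin 3) F) * M = M * X := by
      ext l i
      have := congrFun (hX i) l
      simp only [Matrix.mulVec, dotProduct, Finset.sum_apply, Pi.smul_apply, smul_eq_mul] at this
      simp only [Matrix.mul_apply, M, Matrix.of_apply]
      rw [this]
      exact Finset.sum_congr rfl fun i _ => mul_comm _ _
    rw [Units.val_mul, Units.val_mul, mul_assoc, show (g : Matrix (Fin 3) (Fin 3) F) * (P : Matrix (Fin 3) (Fin 3) F) =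
      (P : Matrix (Fin 3) (Fin 3) F) * X from h1, ← mul_assoc, Units.inv_mul, one_mul]
  refine ⟨μ, P, a₁, b₀, z₀, hμp, a₁.2, b₀.2, z₀.2, hzm, hconj _ _ fun i => ?_, hconj _ _ fun i => ?_, ?_⟩
  · rw [Finset.sum_eq_single i (fun l _ hl => by rw [Matrix.diagonal_apply_ne _ hl, zero_smul])
      (fun h => absurd (Finset.mem_univ i) h), Matrix.diagonal_apply_eq]
    exact hav i
  · show T b₀ (vs i) = _
    fin_cases i <;> simp [vs, cycMat, Fin.sum_univ_three, hbv]
  · have hne1 : a₁ * b₀ ≠ b₀ * a₁ := fun e => by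
      refine hμ1 ?_
      have h := LinearMap.congr_fun hcomm v
      rw [← hTmul, ← hTmul, ← Subgroup.coe_mul, ← Subgroup.coe_mul, e] at h
      rw [LinearMap.smul_apply, Subgroup.coe_mul, hTmul, Module.End.mul_apply, hv] at h
      have h' : (μ - 1) • T b₀ v = 0 := by rw [sub_smul, one_smul, ← h, sub_self]
      exact sub_eq_zero.1 ((smul_eq_zero.1 h').resolve_right (hne0 1))
    obtain ⟨-, htop⟩ := order_27_group hR hne1
    have h2 := congrArg (Subgroup.map R.subtype) htop
    rw [MonoidHom.map_closure, ← MonoidHom.range_eq_map, Subgroup.range_subtype, Set.image_pair] at h2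
    exact h2.symm

/-- Membership of the normaliser of a subgroup with two given generators. -/
theorem mem_normalizer_of_gen {R : Subgroup (GL (Fin 3) F)} {a b g : GL (Fin 3) F}
    (hR : R = Subgroup.closure {a, b}) (ha : g * a * g⁻¹ ∈ R) (hb : g * b * g⁻¹ ∈ R) :
    g ∈ subgroupNormalizer R := by
  have hle : R.map (MulAut.conj g).toMonoidHom ≤ R := by
    conv_lhs => rw [hR, MonoidHom.map_closure, Set.image_pair]
    rw [Subgroup.closure_le]
    rintro x (rfl | rfl)
    · exact ha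
    · exact hb
  have heq : R.map (MulAut.conj g).toMonoidHom = R := Subgroup.eq_of_le_of_card_ge hle
    (Subgroup.card_map_of_injective (MulAut.conj g).injective).ge
  refine Subgroup.mem_normalizer_iff.2 fun h => ⟨fun hh => hle ⟨h, hh, rfl⟩, fun hh => ?_⟩
  obtain ⟨h', hh', e⟩ := heq.ge hh
  rwa [← (MulAut.conj g).injective e]

/-- A monomial element normalising the group, from the conjugates of the two generators in the adapted frame. -/
theorem conj_mem_normalizer {R : Subgroup (GL (Fin 3) F)} {μ : F} {P a b z : GL (Fin 3) F}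
    (ha : a ∈ R) (hb : b ∈ R) (hz : z ∈ R) (hzm : (z : Matrix (Fin 3) (Fin 3) F) = μ • 1)
    (hPa : ((P⁻¹ * a * P : GL (Fin 3) F) : Matrix (Fin 3) (Fin 3) F) = Matrix.diagonal ![1, μ, μ ^ 2])
    (hPb : ((P⁻¹ * b * P : GL (Fin 3) F) : Matrix (Fin 3) (Fin 3) F) = cycMat F)
    (hR : R = Subgroup.closure {a, b}) (g : GL (Fin 3) F) (i j k i' j' k' : ℕ)
    (hga : (g : Matrix (Fin 3) (Fin 3) F) * Matrix.diagonal ![1, μ, μ ^ 2] =
      (μ ^ i • (Matrix.diagonal ![1, μ, μ ^ 2] ^ j * cycMat F ^ k)) * (g : Matrix (Fin 3) (Fin 3) F))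
    (hgb : (g : Matrix (Fin 3) (Fin 3) F) * cycMat F =
      (μ ^ i' • (Matrix.diagonal ![1, μ, μ ^ 2] ^ j' * cycMat F ^ k')) * (g : Matrix (Fin 3) (Fin 3) F)) :
    P * g * P⁻¹ ∈ subgroupNormalizer R := by
  set A := P⁻¹ * a * P with hA
  set B := P⁻¹ * b * P with hB
  have hzc : ∀ n : ℕ, ∀ h : GL (Fin 3) F, h * z ^ n = z ^ n * h := fun n h => Units.ext (by
    rw [Units.val_mul, Units.val_mul, Units.val_pow_eq_pow_val, hzm, smul_pow, one_pow, mul_smul_comm,
      smul_mul_assoc, mul_one, one_mul])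
  have hval : ∀ n m l : ℕ, ((z ^ n * (A ^ m * B ^ l) : GL (Fin 3) F) : Matrix (Fin 3) (Fin 3) F) =
      μ ^ n • (Matrix.diagonal ![1, μ, μ ^ 2] ^ m * cycMat F ^ l) := fun n m l => by
    simp only [Units.val_mul, Units.val_pow_eq_pow_val, hPa, hPb, hzm, smul_pow, one_pow, smul_mul_assoc, one_mul]
  have key : ∀ (x X : GL (Fin 3) F) (n m l : ℕ), X = P⁻¹ * x * P → g * X = z ^ n * (A ^ m * B ^ l) * g →
      P * g * P⁻¹ * x * (P * g * P⁻¹)⁻¹ ∈ R := by
    intro x X n m l hX hgX
    have e1 : A ^ m = P⁻¹ * a ^ m * P := by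
      rw [hA, show P⁻¹ * a * P = P⁻¹ * a * P⁻¹⁻¹ by rw [inv_inv], conj_pow, inv_inv]
    have e2 : B ^ l = P⁻¹ * b ^ l * P := by
      rw [hB, show P⁻¹ * b * P = P⁻¹ * b * P⁻¹⁻¹ by rw [inv_inv], conj_pow, inv_inv]
    have : P * g * P⁻¹ * x * (P * g * P⁻¹)⁻¹ = z ^ n * (a ^ m * b ^ l) := by
      calc P * g * P⁻¹ * x * (P * g * P⁻¹)⁻¹ = P * (g * X) * g⁻¹ * P⁻¹ := by rw [hX]; group
        _ = P * z ^ n * (A ^ m * B ^ l) * P⁻¹ := by rw [hgX]; group
        _ = z ^ n * P * (A ^ m * B ^ l) * P⁻¹ := by rw [hzc n P]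
        _ = z ^ n * (a ^ m * b ^ l) := by rw [e1, e2]; group
    rw [this]
    exact mul_mem (pow_mem hz _) (mul_mem (pow_mem ha _) (pow_mem hb _))
  refine mem_normalizer_of_gen hR (key a A i j k rfl (Units.ext ?_)) (key b B i' j' k' rfl (Units.ext ?_))
  · rw [Units.val_mul, Units.val_mul (z ^ i * (A ^ j * B ^ k)), hPa, hval]; exact hga
  · rw [Units.val_mul, Units.val_mul (z ^ i' * (A ^ j' * B ^ k')), hPb, hval]; exact hgb

/-- Elements of prime order at least five of the normaliser are scalar. -/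
theorem scalar_of_normalizer {R : Subgroup (GL (Fin 3) F)} (hR : Nat.card R = 27) {μ : F}
    (hμ : IsPrimitiveRoot μ 3) {P a b z : GL (Fin 3) F} (ha : a ∈ R) (hb : b ∈ R) (hz : z ∈ R)
    (hzm : (z : Matrix (Fin 3) (Fin 3) F) = μ • 1)
    (hPa : ((P⁻¹ * a * P : GL (Fin 3) F) : Matrix (Fin 3) (Fin 3) F) = Matrix.diagonal ![1, μ, μ ^ 2])
    (hPb : ((P⁻¹ * b * P : GL (Fin 3) F) : Matrix (Fin 3) (Fin 3) F) = cycMat F)
    {r : ℕ} [hr : Fact r.Prime] (hr5 : 5 ≤ r) {y : GL (Fin 3) F} (hy : y ∈ subgroupNormalizer R) (hyr : y ^ r = 1) :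
    ∃ c : F, (y : Matrix (Fin 3) (Fin 3) F) = c • 1 := by
  classical
  haveI := Fintype.ofFinite R
  let σ : Equiv.Perm R :=
    { toFun := fun h => ⟨y * h * y⁻¹, (Subgroup.mem_normalizer_iff.1 hy h).1 h.2⟩
      invFun := fun h => ⟨y⁻¹ * h * y, by
        have := (Subgroup.mem_normalizer_iff.1 (inv_mem hy) h).1 h.2
        rwa [inv_inv] at this⟩
      left_inv := fun h => Subtype.ext (by show y⁻¹ * (y * h * y⁻¹) * y = h; group)
      right_inv := fun h => Subtype.ext (by show y * (y⁻¹ * h * y) * y⁻¹ = h; group) }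
  have hσ : ∀ (n : ℕ) (h : R), ((σ ^ n) h : GL (Fin 3) F) = y ^ n * h * (y ^ n)⁻¹ := fun n => by
    induction n with
    | zero => intro h; simp
    | succ n ih =>
      intro h
      rw [pow_succ', Equiv.Perm.mul_apply, pow_succ']
      show y * ((σ ^ n) h : GL (Fin 3) F) * y⁻¹ = _
      rw [ih]; group
  have hm := Equiv.Perm.card_compl_support_modEq (σ := σ) (p := r) (n := 1)
    (Equiv.ext fun h => Subtype.ext (by rw [pow_one, hσ, hyr]; simp))
  let C : Subgroup R := (Subgroup.centralizer {y}).comap R.subtype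
  have hC : σ.supportᶜ.card = Nat.card C := by
    rw [Nat.card_eq_fintype_card, Fintype.card_subtype]
    refine congrArg Finset.card (Finset.ext fun h => ?_)
    rw [Finset.mem_compl, Equiv.Perm.notMem_support, Finset.mem_filter, Subgroup.mem_comap,
      Subgroup.mem_centralizer_singleton_iff]
    simp only [Finset.mem_univ, true_and, Subgroup.coe_subtype]
    exact ⟨fun e => (mul_inv_eq_iff_eq_mul.1 (congrArg Subtype.val e)).symm,
      fun e => Subtype.ext (mul_inv_eq_iff_eq_mul.2 e.symm)⟩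
  rw [hC, ← Nat.card_eq_fintype_card, hR] at hm
  have hz1 : (⟨z, hz⟩ : R) ≠ 1 := fun e => by
    have h := congrArg (fun x : R => ((x : GL (Fin 3) F) : Matrix (Fin 3) (Fin 3) F) 0 0) e
    simp [hzm] at h
    exact hμ.ne_one (by norm_num) h
  have hzC : (⟨z, hz⟩ : R) ∈ C := by
    rw [Subgroup.mem_comap, Subgroup.mem_centralizer_singleton_iff]
    refine Units.ext ?_
    simp [hzm]
  have htop : C = ⊤ := by
    refine Subgroup.eq_top_of_card_eq _ ?_
    obtain ⟨i, hi, hc⟩ := (Nat.dvd_prime_pow Nat.prime_three).1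
      (show Nat.card C ∣ 3 ^ 3 by rw [show (3 : ℕ) ^ 3 = 27 by norm_num, ← hR]; exact C.card_subgroup_dvd_card)
    rcases (show i = 0 ∨ i = 1 ∨ i = 2 ∨ i = 3 by omega) with rfl | rfl | rfl | rfl
    · exfalso
      have : C = ⊥ := Subgroup.card_eq_one.1 (by simpa using hc)
      rw [this, Subgroup.mem_bot] at hzC
      exact hz1 hzC
    · exfalso
      rw [hc, Nat.modEq_iff_dvd' (by norm_num)] at hm
      have := hr.out
      have h24 : r ∣ 24 := hm
      rcases hr.out.dvd_mul.1 (show r ∣ 2 ^ 3 * 3 by simpa using h24) with h | h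
      · have := Nat.le_of_dvd (by norm_num) (hr.out.dvd_of_dvd_pow h); omega
      · have := Nat.le_of_dvd (by norm_num) h; omega
    · exfalso
      rw [hc, Nat.modEq_iff_dvd' (by norm_num)] at hm
      have := hr.out
      have h18 : r ∣ 18 := hm
      rcases hr.out.dvd_mul.1 (show r ∣ 3 ^ 2 * 2 by simpa using h18) with h | h
      · have := Nat.le_of_dvd (by norm_num) (hr.out.dvd_of_dvd_pow h); omega
      · have := Nat.le_of_dvd (by norm_num) h; omega
    · rw [hc, hR]; norm_num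
  have hcomm : ∀ h ∈ R, h * y = y * h := fun h hh => by
    have : (⟨h, hh⟩ : R) ∈ C := htop ▸ Subgroup.mem_top _
    rw [Subgroup.mem_comap, Subgroup.mem_centralizer_singleton_iff] at this
    exact this
  set Y := P⁻¹ * y * P with hY
  have e1 : (P⁻¹ * a * P) * Y = Y * (P⁻¹ * a * P) := by
    rw [hY, show P⁻¹ * a * P * (P⁻¹ * y * P) = P⁻¹ * (a * y) * P by group, hcomm a ha]; group
  have e2 : (P⁻¹ * b * P) * Y = Y * (P⁻¹ * b * P) := by
    rw [hY, show P⁻¹ * b * P * (P⁻¹ * y * P) = P⁻¹ * (b * y) * P by group, hcomm b hb]; group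
  have f1 := congrArg (Units.val : GL (Fin 3) F → Matrix (Fin 3) (Fin 3) F) e1
  have f2 := congrArg (Units.val : GL (Fin 3) F → Matrix (Fin 3) (Fin 3) F) e2
  rw [Units.val_mul (P⁻¹ * a * P), Units.val_mul Y, hPa] at f1
  rw [Units.val_mul (P⁻¹ * b * P), Units.val_mul Y, hPb] at f2
  set M := (Y : Matrix (Fin 3) (Fin 3) F) with hM
  have hoff : ∀ i l : Fin 3, i ≠ l → M i l = 0 := by
    intro i l hil
    have h := congrFun (congrFun f1 i) l
    rw [Matrix.diagonal_mul, Matrix.mul_diagonal] at h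
    have hv' : ∀ i : Fin 3, (![1, μ, μ ^ 2] : Fin 3 → F) i = μ ^ (i : ℕ) := fun i => by fin_cases i <;> simp
    rw [hv', hv'] at h
    have h' : (μ ^ (i : ℕ) - μ ^ (l : ℕ)) * M i l = 0 := by linear_combination h
    exact (mul_eq_zero.1 h').resolve_left (sub_ne_zero.2 fun e => hil (Fin.ext (hμ.pow_inj i.isLt l.isLt e)))
  have h10 := congrFun (congrFun f2 1) 0
  have h21 := congrFun (congrFun f2 2) 1
  simp [cycMat, Matrix.mul_apply, Fin.sum_univ_three] at h10 h21
  have hMs : M = M 0 0 • 1 := by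
    ext i l
    by_cases hil : i = l
    · subst hil
      fin_cases i <;> simp [← h10, ← h21]
    · simp [hoff i l hil, hil]
  refine ⟨M 0 0, ?_⟩
  have hy' : y = P * Y * P⁻¹ := by rw [hY]; group
  rw [hy', Units.val_mul, Units.val_mul, ← hM]
  conv_lhs => rw [hMs]
  rw [mul_smul_comm, mul_one, smul_mul_assoc, Units.mul_inv]

/-- Diagonalisable elements of determinant one with the same eigenvalues are conjugate in `SL`. -/
theorem exists_sl_conj_of_eigen {n : ℕ} [NeZero n] (x t : GL (Fin n) F) (hx : x ∈ specialLinear (Fin n) F)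
    (ht : t ∈ specialLinear (Fin n) F) (s : Fin n → F) (b b' : Basis (Fin n) F (Fin n → F))
    (hb : ∀ j, (x : Matrix (Fin n) (Fin n) F) *ᵥ b j = s j • b j)
    (hb' : ∀ j, (t : Matrix (Fin n) (Fin n) F) *ᵥ b' j = s j • b' j) :
    ∃ g ∈ specialLinear (Fin n) F, g⁻¹ * x * g = t := by
  have key : ∀ (y : GL (Fin n) F), y ∈ specialLinear (Fin n) F → ∀ c : Basis (Fin n) F (Fin n → F),
      (∀ j, (y : Matrix (Fin n) (Fin n) F) *ᵥ c j = s j • c j) → ∃ Q ∈ specialLinear (Fin n) F,
        ((Q⁻¹ * y * Q : GL (Fin n) F) : Matrix (Fin n) (Fin n) F) = Matrix.diagonal s := by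
    intro y hy c hc
    have hy1 : (y : Matrix (Fin n) (Fin n) F).det = 1 := congrArg Units.val (MonoidHom.mem_ker.1 hy)
    obtain ⟨Q, hQ⟩ := exists_sl_conj_matrix ⟨_, hy1⟩ c (Matrix.diagonal s)
      (fun j => by
        rw [Finset.sum_eq_single j (fun l _ hl => by rw [Matrix.diagonal_apply_ne _ hl, zero_smul])
          (fun h => absurd (Finset.mem_univ j) h), Matrix.diagonal_apply_eq]
        exact hc j)
      (fun d _ => ⟨Matrix.diagonal (Function.update 1 0 d), by
          rw [Matrix.det_diagonal, Finset.prod_update_of_mem (Finset.mem_univ _)]; simp,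
        by rw [Matrix.diagonal_mul_diagonal, Matrix.diagonal_mul_diagonal]; congr 1; funext i; ring⟩)
    refine ⟨Matrix.SpecialLinearGroup.toGL Q, Units.ext Q.2, ?_⟩
    rw [← hQ, ← map_inv]
    rfl
  obtain ⟨Q, hQ, hQx⟩ := key x hx b hb
  obtain ⟨Q', hQ', hQt⟩ := key t ht b' hb'
  refine ⟨Q * Q'⁻¹, mul_mem hQ (inv_mem hQ'), ?_⟩
  have h : Q⁻¹ * x * Q = Q'⁻¹ * t * Q' := Units.ext (hQx.trans hQt.symm)
  calc (Q * Q'⁻¹)⁻¹ * x * (Q * Q'⁻¹) = Q' * (Q⁻¹ * x * Q) * Q'⁻¹ := by group
    _ = t := by rw [h]; group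

/-- A basis for an element of order three with a repeated eigenvalue one. -/
theorem exists_reflection_basis {V : Type*} [AddCommGroup V] [Module F V] [FiniteDimensional F V]
    {f : V →ₗ[F] V} (hd : finrank F V = 3) (hf : f ^ 3 = 1) (h3 : ((3 : ℕ) : F) ≠ 0)
    (hfix : 2 ≤ finrank F (fixS f)) (hne : f ≠ 1) :
    ∃ (c : Basis (Fin 3) F V) (ν : F), ν ^ 3 = 1 ∧ LinearMap.det f = ν ∧
      ∀ j, f (c j) = (![1, 1, ν] : Fin 3 → F) j • c j := by
  classical
  have hfm := fix_add_mov (f := f)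
  have hm0 : finrank F (movS f) ≠ 0 := fun h =>
    hne (sub_eq_zero.1 (LinearMap.range_eq_bot.1 (Submodule.finrank_eq_zero.1 h)))
  have hm1 : finrank F (movS f) = 1 := by omega
  obtain ⟨u, hu, hu0⟩ := (movS f).exists_mem_ne_zero_of_ne_bot fun e => by
    rw [e, finrank_bot] at hm1; omega
  have hspan : F ∙ u = movS f := Submodule.eq_of_le_of_finrank_le ((Submodule.span_singleton_le_iff_mem _ _).2 hu)
    (by rw [hm1, finrank_span_singleton hu0])
  obtain ⟨ν, hν⟩ := Submodule.mem_span_singleton.1 (show f u ∈ F ∙ u by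
    rw [hspan]; obtain ⟨y, hy⟩ := hu; exact ⟨f y, by rw [← hy]; simp⟩)
  have hν3 : ν ^ 3 = 1 := by
    have h := LinearMap.congr_fun hf u
    rw [Module.End.pow_apply] at h
    simp only [Function.iterate_succ, Function.iterate_zero, Function.comp_apply, id_eq, ← hν, map_smul, smul_smul] at h
    have h' : (ν * ν * ν - 1) • u = 0 := by rw [sub_smul, one_smul, h]; simp
    linear_combination (sub_eq_zero.1 ((smul_eq_zero.1 h').resolve_right hu0))
  have hf2 : finrank F (fixS f) = 2 := by omega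
  let B := Module.finBasisOfFinrankEq F (fixS f) hf2
  let vs : Fin 3 → V := ![B 0, B 1, u]
  have hli : LinearIndependent F vs := by
    refine Fintype.linearIndependent_iff.2 fun g hg => ?_
    have hg' : (g 0 • (B 0 : V) + g 1 • (B 1 : V)) + g 2 • u = 0 := by simpa [vs, Fin.sum_univ_three] using hg
    have h2 : g 2 • u = 0 := disjoint_fix_mov hf h3 (by
      rw [eq_neg_of_add_eq_zero_right hg']
      exact neg_mem (add_mem (Submodule.smul_mem _ _ (B 0).2) (Submodule.smul_mem _ _ (B 1).2)))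
      (Submodule.smul_mem _ _ hu)
    rw [h2, add_zero] at hg'
    have hB := Fintype.linearIndependent_iff.1 B.linearIndependent ![g 0, g 1]
      (Subtype.ext (by simpa [Fin.sum_univ_two] using hg'))
    intro i
    fin_cases i
    · simpa using hB 0
    · simpa using hB 1
    · exact (smul_eq_zero.1 h2).resolve_right hu0
  let c := basisOfLinearIndependentOfCardEqFinrank hli (by rw [hd, Fintype.card_fin])
  have hc : ∀ j, f (c j) = (![1, 1, ν] : Fin 3 → F) j • c j := by
    intro j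
    simp only [c, coe_basisOfLinearIndependentOfCardEqFinrank]
    fin_cases j
    · simpa [vs] using mem_fixS.1 (B 0).2
    · simpa [vs] using mem_fixS.1 (B 1).2
    · simpa [vs] using hν.symm
  refine ⟨c, ν, hν3, ?_, hc⟩
  rw [← LinearMap.det_toMatrix c, show LinearMap.toMatrix c c f = Matrix.diagonal ![1, 1, ν] by
    ext i l
    rw [LinearMap.toMatrix_apply, hc, map_smul, c.repr_self, Finsupp.smul_single, Finsupp.single_apply]
    by_cases hil : i = l
    · subst hil; simp
    · simp [hil, Ne.symm hil], Matrix.det_diagonal, Fin.prod_univ_three]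
  simp

end CfsgLib.Elusive
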