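import Cfsg.Agent.Elusive.Construct
import Mathlib.LinearAlgebra.Dual.Lemmas
import Mathlib.LinearAlgebra.Isomorphisms

/-! Nested and complementary pairs of invariant subspaces. -/

set_option autoImplicit false
set_option linter.unusedSectionVars false

namespace CfsgLib.Elusive

open Module Polynomial

variable {F V : Type*} [Field F] [AddCommGroup V] [Module F V] [Fintype F] [FiniteDimensional F V]

theorem nSub_congr {V' : Type*} [AddCommGroup V'] [Module F V'] [FiniteDimensional F V'] {n m : ℕ}
    (hn : finrank F V = n) (hn' : finrank F V' = n) (hm : m ≤ n) : nSub F V m = nSub F V' m := by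
  refine Nat.eq_of_mul_eq_mul_right ?_ ((prod_eq_nSub_mul hn hm).symm.trans (prod_eq_nSub_mul hn' hm))
  refine Finset.prod_pos fun j _ => Nat.sub_pos_of_lt ?_
  exact Nat.pow_lt_pow_right Fintype.one_lt_card j.isLt

theorem nSub_symm {n m : ℕ} (hn : finrank F V = n) (hm : m ≤ n) :
    nSub F V m = nSub F V (n - m) := by
  rw [nSub_congr (V' := Dual F V) hn (Subspace.dual_finrank_eq.trans hn) (Nat.sub_le n m)]
  refine Nat.card_congr
    { toFun := fun W => ⟨W.1.dualAnnihilator, by
        have := Subspace.finrank_add_finrank_dualAnnihilator_eq W.1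
        rw [W.2, hn] at this
        omega⟩
      invFun := fun W => ⟨W.1.dualCoannihilator, by
        have := Subspace.finrank_add_finrank_dualCoannihilator_eq W.1
        rw [W.2, hn] at this
        omega⟩
      left_inv := fun W => Subtype.ext Subspace.dualAnnihilator_dualCoannihilator_eq
      right_inv := fun W => Subtype.ext Subspace.dualCoannihilator_dualAnnihilator_eq }

theorem card_nested {n m k : ℕ} (hn : finrank F V = n) (hmk : m ≤ k) (hk : k ≤ n)
    (U₀ : Submodule F V) (hU₀ : finrank F U₀ = m) :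
    Nat.card {P : Submodule F V × Submodule F V //
        P.1 ≤ P.2 ∧ finrank F P.1 = m ∧ finrank F P.2 = k} =
      nSub F V m * nSub F (V ⧸ U₀) (k - m) := by
  classical
  have : Finite V := Module.finite_of_finite F
  have : Finite (Submodule F V) :=
    Finite.of_injective (fun W => (W : Set V)) SetLike.coe_injective
  let T := {U : Submodule F V // finrank F U = m}
  have := Fintype.ofFinite T
  let e : {P : Submodule F V × Submodule F V //
      P.1 ≤ P.2 ∧ finrank F P.1 = m ∧ finrank F P.2 = k} ≃
      Σ U : T, {W : Submodule F V // U.1 ≤ W ∧ finrank F W = k} :=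
    { toFun := fun P => ⟨⟨P.1.1, P.2.2.1⟩, ⟨P.1.2, P.2.1, P.2.2.2⟩⟩
      invFun := fun x => ⟨(x.1.1, x.2.1), x.2.2.1, x.1.2, x.2.2.2⟩
      left_inv := fun P => rfl
      right_inv := fun x => rfl }
  rw [Nat.card_congr e, Nat.card_sigma]
  have hfib : ∀ U : T, Nat.card {W : Submodule F V // U.1 ≤ W ∧ finrank F W = k} =
      nSub F (V ⧸ U₀) (k - m) := by
    intro U
    have hq : ∀ W : Submodule F (V ⧸ U.1), finrank F (W.comap U.1.mkQ) = finrank F W + m := by
      intro W
      have h := LinearMap.finrank_range_add_finrank_ker (U.1.mkQ.domRestrict (W.comap U.1.mkQ))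
      rw [show LinearMap.range (U.1.mkQ.domRestrict (W.comap U.1.mkQ)) = W from by
          rw [LinearMap.range_domRestrict, Submodule.map_comap_eq_of_surjective U.1.mkQ_surjective],
        show LinearMap.ker (U.1.mkQ.domRestrict (W.comap U.1.mkQ)) = U.1.comap (W.comap U.1.mkQ).subtype
          from by ext x; simp,
        (Submodule.comapSubtypeEquivOfLe (show U.1 ≤ W.comap U.1.mkQ from fun x hx => by
          simp [(Submodule.Quotient.mk_eq_zero U.1).2 hx])).finrank_eq, U.2] at h
      exact h.symm
    rw [nSub_congr (V' := V ⧸ U.1) (n := n - m)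
      (by have := U₀.finrank_quotient_add_finrank; omega)
      (by have := U.1.finrank_quotient_add_finrank; have := U.2; omega) (by omega)]
    refine Nat.card_congr
      { toFun := fun W => ⟨W.1.map U.1.mkQ, by
          have := hq (W.1.map U.1.mkQ)
          rw [Submodule.comap_map_mkQ, sup_eq_right.2 W.2.1, W.2.2] at this
          omega⟩
        invFun := fun W => ⟨W.1.comap U.1.mkQ, fun x hx => by
          simp [(Submodule.Quotient.mk_eq_zero U.1).2 hx], by rw [hq, W.2]; omega⟩
        left_inv := fun W => Subtype.ext (by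
          show (W.1.map U.1.mkQ).comap U.1.mkQ = W.1
          rw [Submodule.comap_map_mkQ, sup_eq_right.2 W.2.1])
        right_inv := fun W => Subtype.ext (Submodule.map_comap_eq_of_surjective U.1.mkQ_surjective _) }
  rw [Finset.sum_congr rfl (fun U _ => hfib U), Finset.sum_const, smul_eq_mul, Finset.card_univ,
    ← Nat.card_eq_fintype_card]
  rfl

theorem exists_sub {n m : ℕ} (hn : finrank F V = n) (hm : m ≤ n) :
    ∃ U : Submodule F V, finrank F U = m := by
  let b := Module.finBasis F V
  exact ⟨Submodule.span F (Set.range (b ∘ Fin.castLE (hn ▸ hm))), by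
    rw [finrank_span_eq_card (b.linearIndependent.comp _ (Fin.castLE_injective _)), Fintype.card_fin]⟩

variable {f : V →ₗ[F] V} {r : ℕ} [hr' : Fact r.Prime]

theorem compl_dims (hf : f ^ r = 1) (hr : (r : F) ≠ 0) {U U' : Submodule F V} (hU : Inv f U)
    (hU' : Inv f U') (hc : IsCompl U U') :
    finrank F (U.map (f - 1)) + finrank F (U'.map (f - 1)) = finrank F (movS f) := by
  have h1 := Submodule.finrank_sup_add_finrank_inf_eq (U.map (f - 1)) (U'.map (f - 1))
  rw [← Submodule.map_sup, hc.sup_eq_top, Submodule.map_top,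
    le_bot_iff.1 ((inf_le_inf hU.map_sub.2 hU'.map_sub.2).trans hc.inf_eq_bot.le), finrank_bot,
    Nat.add_zero] at h1
  exact h1.symm

theorem semisimple_of_pow_eq_smul {c : F} (hf : f ^ r = c • 1) (hr : (r : F) ≠ 0) (hc : c ≠ 0) :
    Module.End.IsSemisimple f := by
  refine Module.End.isSemisimple_of_squarefree_aeval_eq_zero (p := X ^ r - C c) ?_ ?_
  · exact (Polynomial.separable_X_pow_sub_C c hr hc).squarefree
  · rw [map_sub, map_pow, aeval_X, aeval_C, hf, Algebra.algebraMap_eq_smul_one, sub_self]

/-- Invariant nested pairs. -/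
theorem exists_nested (hf : f ^ r = 1) (hr : (r : F) ≠ 0) {i : ℕ}
    (hi : i = orderOf ((Fintype.card F : ℕ) : ZMod r)) (hi0 : 0 < i) {n m : ℕ}
    (hn : finrank F V = n) (hmn : 2 * m ≤ n) (him : i ≤ m) (hcond : 2 * (m % i) ≤ n % i) :
    ∃ U W, Inv f U ∧ Inv f W ∧ U ≤ W ∧ finrank F U = m ∧ finrank F W = n - m := by
  have he := fix_add_mov (f := f)
  rw [hn] at he
  obtain ⟨t, ht⟩ : i ∣ finrank F (movS f) := by
    have := mov_dvd hf hr (Inv.top f)
    rwa [Submodule.map_top, ← hi] at this
  have hdm := Nat.div_add_mod' m i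
  have hmi : 2 * (m % i) ≤ finrank F (fixS f) := by
    refine hcond.trans ?_
    have h5 : n % i = (finrank F (fixS f) + i * t) % i := by rw [← ht, he]
    rw [h5, Nat.add_mul_mod_self_left]
    exact Nat.mod_le _ _
  obtain ⟨a, j, a', j', ha, hj, haj, ha'j'⟩ : ∃ a j a' j', a + a' ≤ finrank F (fixS f) ∧
      j + j' ≤ t ∧ a + j * i = m ∧ a' + j' * i = n - 2 * m := by
    rw [ht, Nat.mul_comm i t] at he
    rcases Nat.lt_or_ge t (2 * (m / i)) with h | h
    · have hlast : 2 * (t * i) < 4 * (m / i * i) + 1 := by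
        have := Nat.mul_le_mul_right i h.le
        rw [Nat.mul_assoc] at this
        omega
      obtain ⟨u, rfl | rfl⟩ := Nat.even_or_odd' t
      · have h2 : u * i ≤ m / i * i := Nat.mul_le_mul_right i (by omega)
        rw [Nat.mul_assoc] at he
        exact ⟨m - u * i, u, n - 2 * m, 0, by omega, by omega, by omega, by omega⟩
      · have h2 : (u + 1) * i ≤ m / i * i := Nat.mul_le_mul_right i (by omega)
        rw [Nat.add_mul, Nat.one_mul] at h2
        rw [Nat.add_mul, Nat.one_mul, Nat.mul_assoc] at he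
        exact ⟨m - u * i, u, n - 2 * m, 0, by omega, by omega, by omega, by omega⟩
    · have h2 : 2 * (m / i) * i ≤ t * i := Nat.mul_le_mul_right i h
      rw [Nat.mul_assoc] at h2
      refine ⟨m % i, m / i, finrank F (fixS f) - 2 * (m % i), t - 2 * (m / i), by omega, by omega,
        by omega, ?_⟩
      rw [Nat.sub_mul, Nat.mul_assoc]
      omega
  have hjt : j * i ≤ finrank F (movS f) := by
    rw [ht, Nat.mul_comm i t]; exact Nat.mul_le_mul_right i (by omega)
  obtain ⟨U, hU, -, hUd, hUC⟩ := exists_dim hf hr (Inv.top f) hi hi0 (a := a) (j := j)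
    (by rw [top_inf_eq]; omega) (by rwa [Submodule.map_top])
  obtain ⟨U', hU', hcompl⟩ := exists_compl (isSemisimple hf hr) hU
  have hcd := compl_dims hf hr hU hU' hcompl
  have hUs := dim_split (f := f) U
  have hU's := dim_split (f := f) U'
  have hsum := Submodule.finrank_add_eq_of_isCompl hcompl
  rw [hn] at hsum
  have hm1 : finrank F (U.map (f - 1)) = j * i := by omega
  obtain ⟨X, hX, hXU', hXd, -⟩ := exists_dim hf hr hU' hi hi0 (a := a') (j := j') (by omega)
    (by
      have : (j + j') * i ≤ t * i := Nat.mul_le_mul_right i hj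
      rw [Nat.add_mul, Nat.mul_comm t i, ← ht] at this
      omega)
  refine ⟨U, U ⊔ X, hU, hU.sup hX, le_sup_left, by omega, ?_⟩
  have h1 := Submodule.finrank_sup_add_finrank_inf_eq U X
  rw [le_bot_iff.1 ((inf_le_inf_left U hXU').trans hcompl.inf_eq_bot.le), finrank_bot] at h1
  omega

/-- With minimal fixed space the nested condition is necessary. -/
theorem nested_necessary (hf : f ^ r = 1) (hr : (r : F) ≠ 0) {i : ℕ}
    (hi : i = orderOf ((Fintype.card F : ℕ) : ZMod r)) {n m : ℕ}
    (hn : finrank F V = n) (hi0 : 0 < i) (hfix : finrank F (fixS f) = n % i)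
    {U W : Submodule F V} (hU : Inv f U) (hW : Inv f W) (hle : U ≤ W)
    (hUd : finrank F U = m) (hWd : finrank F W = n - m) (hmn : 2 * m ≤ n) :
    2 * (m % i) ≤ n % i := by
  obtain ⟨u, hu⟩ := hi ▸ mov_dvd hf hr hU
  obtain ⟨w, hw⟩ := hi ▸ mov_dvd hf hr hW
  have h1 := dim_split (f := f) U
  have h2 := dim_split (f := f) W
  rw [hu, hUd] at h1
  rw [hw, hWd] at h2
  have ha : finrank F ↥(U ⊓ fixS f) ≤ finrank F ↥(W ⊓ fixS f) :=
    Submodule.finrank_mono (inf_le_inf_right _ hle)
  have hb : finrank F ↥(W ⊓ fixS f) ≤ n % i :=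
    hfix ▸ Submodule.finrank_mono inf_le_right
  have hlt := Nat.mod_lt n hi0
  generalize finrank F ↥(U ⊓ fixS f) = a at h1 ha
  generalize finrank F ↥(W ⊓ fixS f) = b at h2 ha hb
  have hma : m % i = a := by rw [h1, Nat.add_mul_mod_self_left, Nat.mod_eq_of_lt (by omega)]
  have hdm := Nat.div_add_mod n i
  have hsum : a + b + i * (u + w) = n := by rw [Nat.mul_add]; omega
  rw [hma]
  have hab : (a + b) % i = n % i := by rw [← hsum, Nat.add_mul_mod_self_left]
  rcases Nat.lt_or_ge (a + b) i with hc | hc
  · rw [Nat.mod_eq_of_lt hc] at hab; omega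
  · rw [Nat.mod_eq_sub_mod hc, Nat.mod_eq_of_lt (by omega)] at hab
    omega

end CfsgLib.Elusive
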