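import Cfsg.Agent.Classical.SymplecticBlocks
import Cfsg.Agent.Classical.SympTorus
import Cfsg.Agent.Classical.SympGeometry
import Cfsg.Agent.Elusive.Pairs
import Mathlib.LinearAlgebra.Matrix.GeneralLinearGroup.Card

/-! Counting complementary Lagrangian pairs and elements of prime order moving few vectors. -/

set_option autoImplicit false
set_option linter.unusedSectionVars false

namespace CfsgLib.Elusive

open Module Matrix

variable {F : Type*} [Field F] [Fintype F] {d : ℕ}

local notation "V" => Fin d ⊕ Fin d → F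

/-- Complementary totally isotropic pairs. -/
abbrev LagrPairs (F : Type*) [Field F] (d : ℕ) : Type _ :=
  {P : Submodule F (Fin d ⊕ Fin d → F) × Submodule F (Fin d ⊕ Fin d → F) // IsCompl P.1 P.2 ∧
    (∀ u ∈ P.1, ∀ v ∈ P.1, Cfsg.sympForm d F u v = 0) ∧ (∀ u ∈ P.2, ∀ v ∈ P.2, Cfsg.sympForm d F u v = 0)}

theorem even_card_lagrPairs (hd : 0 < d) : Even (Nat.card (LagrPairs F d)) := by
  classical
  have : Finite (Submodule F V) := Finite.of_injective (fun W => (W : Set V)) SetLike.coe_injective
  have := Fintype.ofFinite (LagrPairs F d)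
  have hsum : (∑ _p : LagrPairs F d, (1 : ZMod 2)) = 0 :=
    Finset.sum_involution (fun p _ => ⟨(p.1.2, p.1.1), p.2.1.symm, p.2.2.2, p.2.2.1⟩) (fun _ _ => by decide)
      (fun p _ _ => by
        intro e
        have h1 : p.1.2 = p.1.1 := congrArg (fun p : LagrPairs F d => p.1.1) e
        have hc := p.2.1
        rw [h1] at hc
        have h2 := hc.inf_eq_bot
        rw [inf_idem] at h2
        have h3 := hc.sup_eq_top
        rw [sup_idem, h2] at h3
        have : Nonempty (Fin d) := ⟨⟨0, hd⟩⟩
        exact bot_ne_top h3) (fun _ _ => Finset.mem_univ _) (fun _ _ => rfl)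
  rw [Finset.sum_const, nsmul_one, ZMod.natCast_eq_zero_iff, Finset.card_univ, ← Nat.card_eq_fintype_card] at hsum
  exact even_iff_two_dvd.2 hsum

theorem card_lagrPairs :
    Nat.card (LagrPairs F d) * Nat.card (GL (Fin d) F) = Nat.card (Matrix.symplecticGroup (Fin d) F) := by
  classical
  let A : Submodule F V := LinearMap.ker (LinearMap.funLeft F F (Sum.inr : Fin d → Fin d ⊕ Fin d))
  let B : Submodule F V := LinearMap.ker (LinearMap.funLeft F F (Sum.inl : Fin d → Fin d ⊕ Fin d))
  have hA : ∀ v, v ∈ A ↔ ∀ i, v (Sum.inr i) = 0 := fun v => by simp [A, funext_iff]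
  have hB : ∀ v, v ∈ B ↔ ∀ i, v (Sum.inl i) = 0 := fun v => by simp [B, funext_iff]
  have hAB : IsCompl A B := by
    refine ⟨Submodule.disjoint_def.2 fun v h1 h2 => funext fun s => ?_, codisjoint_iff.2 (eq_top_iff.2 fun v _ => ?_)⟩
    · rcases s with i | i
      · exact (hB v).1 h2 i
      · exact (hA v).1 h1 i
    · refine Submodule.mem_sup.2 ⟨Sum.elim (fun i => v (Sum.inl i)) 0, (hA _).2 fun i => rfl,
        Sum.elim 0 (fun i => v (Sum.inr i)), (hB _).2 fun i => rfl, funext fun s => ?_⟩
      rcases s with i | i <;> simp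
  have hAiso : ∀ u ∈ A, ∀ v ∈ A, Cfsg.sympForm d F u v = 0 := fun u hu v hv => by
    show CfsgLib.Symp.form u v = 0
    rw [CfsgLib.Symp.form_apply]
    exact Finset.sum_eq_zero fun i _ => by rw [(hA u).1 hu, (hA v).1 hv]; ring
  have hBiso : ∀ u ∈ B, ∀ v ∈ B, Cfsg.sympForm d F u v = 0 := fun u hu v hv => by
    show CfsgLib.Symp.form u v = 0
    rw [CfsgLib.Symp.form_apply]
    exact Finset.sum_eq_zero fun i _ => by rw [(hB u).1 hu, (hB v).1 hv]; ring
  let L : Matrix.symplecticGroup (Fin d) F → (V →ₗ[F] V) := fun g => Matrix.toLin' (g : Matrix _ _ F)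
  have hL : ∀ g h, L (g * h) = L g ∘ₗ L h := fun g h => Matrix.toLin'_mul _ _
  have hL1 : L 1 = LinearMap.id := Matrix.toLin'_one
  have hLinj : ∀ g, Function.Injective (L g) := fun g u v e => MulAction.injective g e
  have hgiso : ∀ (g : Matrix.symplecticGroup (Fin d) F) (W : Submodule F V),
      (∀ u ∈ W, ∀ v ∈ W, Cfsg.sympForm d F u v = 0) → ∀ u ∈ W.map (L g), ∀ v ∈ W.map (L g),
        Cfsg.sympForm d F u v = 0 := by
    rintro g W hW _ ⟨u, hu, rfl⟩ _ ⟨v, hv, rfl⟩
    exact (CfsgLib.Symp.form_smul_smul g u v).trans (hW u hu v hv)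
  let φ : Matrix.symplecticGroup (Fin d) F → LagrPairs F d := fun g =>
    ⟨(A.map (L g), B.map (L g)), by
      refine ⟨?_, hgiso g A hAiso, hgiso g B hBiso⟩
      refine ⟨disjoint_iff.2 ?_, codisjoint_iff.2 ?_⟩
      · rw [← Submodule.map_inf _ (hLinj g), hAB.inf_eq_bot, Submodule.map_bot]
      · rw [← Submodule.map_sup, hAB.sup_eq_top, Submodule.map_top, LinearMap.range_eq_top]
        exact LinearMap.injective_iff_surjective.1 (hLinj g)⟩
  have hsurj : Function.Surjective φ := by
    rintro ⟨⟨U, W⟩, hc, hU, hW⟩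
    have hWperp : ∀ w ∈ W, (∀ u ∈ U, Cfsg.sympForm d F u w = 0) → w = 0 := fun w hw h =>
      CfsgLib.Symp.eq_zero_of_form_eq_zero fun v => by
        obtain ⟨a, ha, b, hb, rfl⟩ := Submodule.mem_sup.1 (hc.sup_eq_top ▸ Submodule.mem_top : v ∈ U ⊔ W)
        rw [CfsgLib.Symp.form_add_left]
        exact (congrArg₂ (· + ·) (h a ha) (hW b hb w hw)).trans (add_zero 0)
    have hUperp : ∀ u ∈ U, (∀ w ∈ W, Cfsg.sympForm d F u w = 0) → u = 0 := fun u hu h =>
      CfsgLib.Symp.eq_zero_of_form_eq_zero fun v => by
        obtain ⟨a, ha, b, hb, rfl⟩ := Submodule.mem_sup.1 (hc.sup_eq_top ▸ Submodule.mem_top : v ∈ U ⊔ W)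
        rw [CfsgLib.Symp.form_swap, CfsgLib.Symp.form_add_right]
        exact neg_eq_zero.2 ((congrArg₂ (· + ·) (hU u hu a ha) (h b hb)).trans (add_zero 0))
    let Φ : V →ₗ[F] Module.Dual F V := LinearMap.mk₂ F (Cfsg.sympForm d F) CfsgLib.Symp.form_add_left
      CfsgLib.Symp.form_smul_left CfsgLib.Symp.form_add_right CfsgLib.Symp.form_smul_right
    have hle1 : finrank F U ≤ finrank F W := by
      have hinj : Function.Injective (W.subtype.dualMap ∘ₗ Φ ∘ₗ U.subtype) := by
        rw [injective_iff_map_eq_zero]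
        intro u hu
        exact Subtype.ext (hUperp u u.2 fun w hw => LinearMap.congr_fun hu ⟨w, hw⟩)
      simpa [Subspace.dual_finrank_eq] using LinearMap.finrank_le_finrank_of_injective hinj
    have hle2 : finrank F W ≤ finrank F U := by
      have hinj : Function.Injective (U.subtype.dualMap ∘ₗ Φ.flip ∘ₗ W.subtype) := by
        rw [injective_iff_map_eq_zero]
        intro w hw
        exact Subtype.ext (hWperp w w.2 fun u hu => LinearMap.congr_fun hw ⟨u, hu⟩)
      simpa [Subspace.dual_finrank_eq] using LinearMap.finrank_le_finrank_of_injective hinj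
    have hdim := Submodule.finrank_add_eq_of_isCompl hc
    rw [Module.finrank_fintype_fun_eq_card, Fintype.card_sum, Fintype.card_fin] at hdim
    change finrank F U + finrank F W = _ at hdim
    let bU := Module.finBasisOfFinrankEq F U (show finrank F U = d by omega)
    let ψ : W →ₗ[F] (Fin d → F) := LinearMap.pi fun i => Φ (bU i) ∘ₗ W.subtype
    have hψ : Function.Injective ψ := by
      rw [injective_iff_map_eq_zero]
      intro w hw
      refine Subtype.ext (hWperp w w.2 fun u hu => ?_)
      have h1 := congrArg Subtype.val (bU.sum_repr ⟨u, hu⟩)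
      simp only [Submodule.coe_sum, Submodule.coe_smul_of_tower] at h1
      show Φ u w = 0
      rw [← h1, map_sum, LinearMap.sum_apply]
      refine Finset.sum_eq_zero fun i _ => ?_
      rw [map_smul, LinearMap.smul_apply, show Φ (bU i) w = 0 from congrFun hw i, smul_zero]
    let ψe := LinearEquiv.ofInjectiveOfFinrankEq ψ hψ (by rw [Module.finrank_fin_fun]; omega)
    let wv : Fin d → W := fun j => ψe.symm (Pi.single j (-1))
    have hwv : ∀ i j, Cfsg.sympForm d F (bU i) (wv j) = if i = j then (-1 : F) else 0 := fun i j => by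
      have h1 := congrFun (ψe.apply_symm_apply (Pi.single j (-1))) i
      rw [Pi.single_apply] at h1
      exact h1
    let ea : Fin (d + d) → V := fun s => Pi.single (finSumFinEquiv.symm s) (1 : F)
    let eb : Fin (d + d) → V := fun s => Sum.elim (fun i => (bU i : V)) (fun i => (wv i : V)) (finSumFinEquiv.symm s)
    have hea : LinearIndependent F ea := by
      have h := (Pi.basisFun F (Fin d ⊕ Fin d)).linearIndependent.comp _ (finSumFinEquiv (m := d) (n := d)).symm.injective
      convert h using 1
      funext s; simp [ea]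
    have hforms : ∀ s s', CfsgLib.Symp.form (ea s) (ea s') = CfsgLib.Symp.form (eb s) (eb s') := by
      intro s s'
      simp only [ea, eb]
      rcases finSumFinEquiv.symm s with i | i <;> rcases finSumFinEquiv.symm s' with j | j
      · rw [Sum.elim_inl, Sum.elim_inl, CfsgLib.Symp.form_single_inl]
        simp
        exact (hU _ (bU i).2 _ (bU j).2).symm
      · rw [Sum.elim_inl, Sum.elim_inr, CfsgLib.Symp.form_single_inl]
        refine Eq.trans ?_ (hwv i j).symm
        by_cases h : i = j
        · simp [h]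
        · simp [h]
      · rw [Sum.elim_inl, Sum.elim_inr, CfsgLib.Symp.form_single_inr, CfsgLib.Symp.form_swap (wv i : V)]
        refine Eq.trans ?_ (congrArg Neg.neg (hwv j i).symm)
        by_cases h : i = j
        · simp [h]
        · simp [h, Ne.symm h]
      · rw [Sum.elim_inr, Sum.elim_inr, CfsgLib.Symp.form_single_inr]
        simp
        exact (hW _ (wv i).2 _ (wv j).2).symm
    have heb : LinearIndependent F eb := by
      rw [Fintype.linearIndependent_iff]
      intro c hc0
      refine Fintype.linearIndependent_iff.1 hea c (CfsgLib.Symp.eq_zero_of_form_eq_zero fun u => ?_)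
      have hfl : Φ u (∑ s, c s • ea s) = 0 := by
        have hall : ∀ s', Φ (ea s') (∑ s, c s • ea s) = 0 := fun s' => by
          have h1 : Φ (eb s') (∑ s, c s • eb s) = 0 := by rw [hc0, map_zero]
          rw [map_sum] at h1 ⊢
          refine Eq.trans (Finset.sum_congr rfl fun s _ => ?_) h1
          rw [map_smul, map_smul]
          exact congrArg _ (hforms s' s)
        have hu' : u = ∑ s', u (finSumFinEquiv.symm s') • ea s' := by
          conv_lhs => rw [← (Pi.basisFun F (Fin d ⊕ Fin d)).sum_repr u, ← finSumFinEquiv.symm.sum_comp]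
          simp [ea]
        rw [hu', map_sum Φ, LinearMap.sum_apply]
        exact Finset.sum_eq_zero fun s' _ => by rw [map_smul, LinearMap.smul_apply, hall, smul_zero]
      exact hfl
    obtain ⟨g, hg⟩ := CfsgLib.Symp.Geometry.exists_sp_family ea eb hea heb hforms
    refine ⟨g, Subtype.ext (Prod.ext ?_ ?_)⟩
    · symm
      refine Submodule.eq_of_le_of_finrank_eq ?_ ?_
      · intro u hu
        have h1 := congrArg Subtype.val (bU.sum_repr ⟨u, hu⟩)
        simp only [Submodule.coe_sum, Submodule.coe_smul_of_tower] at h1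
        show u ∈ A.map (L g)
        rw [← h1]
        refine Submodule.sum_mem _ fun i _ => Submodule.smul_mem _ _ ⟨Pi.single (Sum.inl i) 1, (hA _).2 fun k => by simp, ?_⟩
        have h2 := hg (finSumFinEquiv (Sum.inl i))
        simp only [ea, eb, Equiv.symm_apply_apply, Sum.elim_inl] at h2
        exact h2
      · show finrank F U = finrank F (A.map (L g))
        rw [← (Submodule.equivMapOfInjective _ (hLinj g) A).finrank_eq]
        have h1 := LinearMap.finrank_range_add_finrank_ker (LinearMap.funLeft F F (Sum.inr : Fin d → Fin d ⊕ Fin d))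
        rw [LinearMap.range_eq_top.2 (LinearMap.funLeft_surjective_of_injective F F _ Sum.inr_injective),
          finrank_top, Module.finrank_fin_fun, Module.finrank_fintype_fun_eq_card, Fintype.card_sum,
          Fintype.card_fin] at h1
        change d + finrank F A = _ at h1
        omega
    · symm
      refine Submodule.eq_of_le_of_finrank_eq ?_ ?_
      · intro w hw
        obtain ⟨c, hc'⟩ : ∃ c : Fin d → F, ψe ⟨w, hw⟩ = ∑ j, c j • Pi.single j (-1) :=
          ⟨fun j => -(ψe ⟨w, hw⟩ j), funext fun i => by simp [Finset.sum_apply, Pi.single_apply]⟩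
        have h1 : (⟨w, hw⟩ : W) = ∑ j, c j • wv j := ψe.injective (by simp [hc', wv, map_sum, map_smul])
        have h2 := congrArg Subtype.val h1
        simp only [Submodule.coe_sum, Submodule.coe_smul_of_tower] at h2
        show w ∈ B.map (L g)
        rw [h2]
        refine Submodule.sum_mem _ fun i _ => Submodule.smul_mem _ _ ⟨Pi.single (Sum.inr i) 1, (hB _).2 fun k => by simp, ?_⟩
        have h3 := hg (finSumFinEquiv (Sum.inr i))
        simp only [ea, eb, Equiv.symm_apply_apply, Sum.elim_inr] at h3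
        exact h3
      · show finrank F W = finrank F (B.map (L g))
        rw [← (Submodule.equivMapOfInjective _ (hLinj g) B).finrank_eq]
        have h1 := LinearMap.finrank_range_add_finrank_ker (LinearMap.funLeft F F (Sum.inl : Fin d → Fin d ⊕ Fin d))
        rw [LinearMap.range_eq_top.2 (LinearMap.funLeft_surjective_of_injective F F _ Sum.inl_injective),
          finrank_top, Module.finrank_fin_fun, Module.finrank_fintype_fun_eq_card, Fintype.card_sum,
          Fintype.card_fin] at h1
        change d + finrank F B = _ at h1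
        omega
  set H := (CfsgLib.Symp.Geometry.stabSub A) ⊓ (CfsgLib.Symp.Geometry.stabSub B)
  have hH : H = (CfsgLib.Symp.Torus.levi (F := F) (m := d)).range := by
    rw [CfsgLib.Symp.Torus.levi_range]
    ext g
    simp only [H, Subgroup.mem_inf]
    constructor
    · rintro ⟨h1, h2⟩
      exact ⟨fun v => (hA v).symm.trans ((h1 v).trans (hA _)), fun v => (hB v).symm.trans ((h2 v).trans (hB _))⟩
    · rintro ⟨h1, h2⟩
      exact ⟨fun v => by rw [hA, hA]; exact h1 v, fun v => by rw [hB, hB]; exact h2 v⟩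
  have hmem : ∀ g, g ∈ H ↔ φ g = φ 1 := by
    intro g
    have key : ∀ S : Submodule F V, g ∈ CfsgLib.Symp.Geometry.stabSub S ↔ S.map (L g) = S.map (L 1) := fun S => by
      rw [hL1, Submodule.map_id, CfsgLib.Symp.Geometry.mem_stabSub_iff_le]
      refine ⟨fun h => Submodule.eq_of_le_of_finrank_eq (fun _ ⟨v, hv, e⟩ => e ▸ h v hv)
        (Submodule.equivMapOfInjective _ (hLinj g) S).finrank_eq.symm, fun h v hv => ?_⟩
      have h1 : L g v ∈ S.map (L g) := Submodule.mem_map_of_mem hv
      rw [h] at h1
      exact h1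
    simp only [H, Subgroup.mem_inf, key]
    exact ⟨fun h => Subtype.ext (Prod.ext h.1 h.2), fun h =>
      ⟨congrArg (fun p : LagrPairs F d => p.1.1) h, congrArg (fun p : LagrPairs F d => p.1.2) h⟩⟩
  have hmove : ∀ k g g', φ g = φ g' → φ (k * g) = φ (k * g') := fun k g g' h => by
    refine Subtype.ext (Prod.ext ?_ ?_)
    · show A.map (L (k * g)) = A.map (L (k * g'))
      rw [hL, hL, Submodule.map_comp, Submodule.map_comp,
        show A.map (L g) = A.map (L g') from congrArg (fun p : LagrPairs F d => p.1.1) h]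
    · show B.map (L (k * g)) = B.map (L (k * g'))
      rw [hL, hL, Submodule.map_comp, Submodule.map_comp,
        show B.map (L g) = B.map (L g') from congrArg (fun p : LagrPairs F d => p.1.2) h]
  have hiff : ∀ g g', φ g = φ g' ↔ g⁻¹ * g' ∈ H := fun g g' => by
    rw [hmem]
    refine ⟨fun h => by simpa using (hmove g⁻¹ g g' h).symm, fun h => by simpa using (hmove g _ _ h).symm⟩
  let e : Matrix.symplecticGroup (Fin d) F ⧸ H ≃ LagrPairs F d :=
    Equiv.ofBijective (Quotient.lift φ fun g g' hgg => (hiff g g').2 (QuotientGroup.leftRel_apply.1 hgg))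
      ⟨by
        intro a b
        induction a using Quotient.inductionOn with | h g =>
        induction b using Quotient.inductionOn with | h g' =>
        exact fun h => QuotientGroup.eq.2 ((hiff g g').1 h),
      fun p => by obtain ⟨g, hg⟩ := hsurj p; exact ⟨QuotientGroup.mk g, hg⟩⟩
  rw [← Nat.card_congr e, ← Nat.card_congr (MonoidHom.ofInjective CfsgLib.Symp.Torus.levi_injective).toEquiv.symm,
    ← hH]
  exact (Subgroup.card_eq_card_quotient_mul_card_subgroup H).symm

theorem dvd_pow_add_one_of_dvd_lagrPairs {p r : ℕ} [Fact p.Prime] [CharP F p] [hr : Fact r.Prime] (hrp : r ≠ p)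
    (h : r ∣ Nat.card (LagrPairs F d)) : ∃ i < d, r ∣ Fintype.card F ^ (i + 1) + 1 := by
  classical
  set q := Fintype.card F with hq
  have hrq : ¬ r ∣ q := fun hh => card_ne_zero_mod (F := F) hrp ((ZMod.natCast_eq_zero_iff _ _).2 hh)
  have h0 := card_lagrPairs (F := F) (d := d)
  rw [CfsgLib.Symp.card_Sp, Matrix.card_GL_field, Nat.card_eq_fintype_card (α := F)] at h0
  have hcol : ∀ i : Fin d, q ^ d - q ^ (i : ℕ) = q ^ (i : ℕ) * (q ^ (d - (i : ℕ)) - 1) := fun i => by
    rw [Nat.mul_sub_one, ← pow_add, show (i : ℕ) + (d - i) = d by omega]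
  have hrefl : ∏ i : Fin d, (q ^ (d - (i : ℕ)) - 1) = ∏ i ∈ Finset.range d, (q ^ (i + 1) - 1) := by
    rw [Fin.prod_univ_eq_prod_range (fun i => q ^ (d - i) - 1) d, ← Finset.prod_range_reflect]
    exact Finset.prod_congr rfl fun i hi => by
      rw [Finset.mem_range] at hi
      rw [show d - (d - 1 - i) = i + 1 by omega]
  rw [Finset.prod_congr rfl (fun i _ => hcol i), Finset.prod_mul_distrib, hrefl,
    Finset.prod_congr rfl (fun i _ => show q ^ (2 * (i + 1)) - 1 = (q ^ (i + 1) + 1) * (q ^ (i + 1) - 1) by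
      rw [← Nat.sq_sub_sq, ← pow_mul, Nat.mul_comm, one_pow]), Finset.prod_mul_distrib, ← mul_assoc,
    ← mul_assoc] at h0
  have hpos : 0 < ∏ i ∈ Finset.range d, (q ^ (i + 1) - 1) := Finset.prod_pos fun i _ => by
    have : 1 < q ^ (i + 1) := Nat.one_lt_pow (by omega) Fintype.one_lt_card
    omega
  have h1 := Nat.eq_of_mul_eq_mul_right hpos h0
  have h2 : r ∣ q ^ d ^ 2 * ∏ i ∈ Finset.range d, (q ^ (i + 1) + 1) := h1 ▸ dvd_mul_of_dvd_left h _
  rcases hr.out.dvd_mul.1 h2 with h3 | h3
  · exact absurd (hr.out.dvd_of_dvd_pow h3) hrq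
  · obtain ⟨i, hi, hi'⟩ := (Prime.dvd_finsetProd_iff hr.out.prime _).1 h3
    exact ⟨i, Finset.mem_range.1 hi, hi'⟩

end CfsgLib.Elusive
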