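import Cfsg.Agent.Quad.Orders
import Cfsg.Agent.QuadStd.Split
import Cfsg.Agent.AutPOm.Types
import Cfsg.Agent.Elusive.Construct

/-!
Isometries of odd prime order of a minus space without non-zero fixed vectors.
-/

set_option autoImplicit false

namespace CfsgLib.Elusive

open CfsgLib.Quad Module

variable {F : Type*} [Field F] [Fintype F]

/-- If `r ∣ q^(k+1) + 1`, some isometry of order `r` of the minus space fixes only `0`. -/
theorem exists_minus_fpf {p r : ℕ} [Fact p.Prime] [CharP F p] [hrf : Fact r.Prime] (hrp : r ≠ p) (hr2 : r ≠ 2)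
    {a b : F} (hab : ∀ z₁ z₂ : F, z₁ ^ 2 + a * z₁ * z₂ + b * z₂ ^ 2 = 0 → z₁ = 0 ∧ z₂ = 0) (k : ℕ)
    (hr : r ∣ Fintype.card F ^ (k + 1) + 1) :
    ∃ g : oGroup (minusQ k a b), g ^ r = 1 ∧ g ≠ 1 ∧ ∀ v, g.1 v = v → v = 0 := by
  classical
  set x : ZMod r := ((Fintype.card F : ℕ) : ZMod r) with hx
  have hxk : x ^ (k + 1) = -1 := by
    have h := (ZMod.natCast_eq_zero_iff _ r).2 hr
    rw [Nat.cast_add, Nat.cast_pow, Nat.cast_one] at h
    exact eq_neg_of_add_eq_zero_left h
  have hne : (-1 : ZMod r) ≠ 1 := fun e => hr2 (by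
    have h : ((2 : ℕ) : ZMod r) = 0 := by push_cast; linear_combination -e
    exact (Nat.prime_dvd_prime_iff_eq hrf.out Nat.prime_two).1 ((ZMod.natCast_eq_zero_iff _ _).1 h))
  set i := orderOf x with hi
  have hi2 : i ∣ (k + 1) * 2 := orderOf_dvd_of_pow_eq_one (by rw [pow_mul, hxk]; ring)
  have hik : ¬ i ∣ k + 1 := fun h => hne (by rw [← hxk]; exact orderOf_dvd_iff_pow_eq_one.1 h)
  obtain ⟨j, hj⟩ : 2 ∣ i := by
    by_contra h
    exact hik ((Nat.Coprime.dvd_of_dvd_mul_right ((Nat.coprime_two_right).2 (Nat.odd_iff.2 (by omega))) hi2))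
  obtain ⟨s, hs⟩ : j ∣ k + 1 := by
    obtain ⟨c, hc⟩ := hi2
    exact ⟨c, by rw [hj] at hc; linarith⟩
  obtain ⟨l, rfl⟩ : ∃ l, j = l + 1 := ⟨j - 1, by rcases j with _ | j <;> simp at hs ⊢⟩
  have hrl : r ∣ Fintype.card F ^ (l + 1) + 1 := by
    rw [← ZMod.natCast_eq_zero_iff, Nat.cast_add, Nat.cast_pow, Nat.cast_one, ← hx]
    have h1 : x ^ (l + 1) * x ^ (l + 1) = 1 := by
      rw [← pow_add, ← two_mul, ← hj, hi]; exact pow_orderOf_eq_one x
    rcases mul_self_eq_one_iff.1 h1 with e | e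
    · exact absurd (orderOf_dvd_of_pow_eq_one e) (fun h => absurd (Nat.le_of_dvd (by omega) h) (by omega))
    · rw [e]; ring
  have hcard : r ∣ Nat.card (oGroup (minusQ l a b)) := by
    rw [← Int.natCast_dvd_natCast, card_oGroup_minus (q := Fintype.card F) Nat.card_eq_fintype_card hab]
    exact ((by exact_mod_cast hrl : (r : ℤ) ∣ (Fintype.card F : ℤ) ^ (l + 1) + 1).mul_left _).mul_right _
  haveI : Finite (oGroup (minusQ l a b)) :=
    Finite.of_injective (fun g => ⇑g.1) fun g g' e => Subtype.ext (LinearEquiv.ext (congrFun e))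
  obtain ⟨g0, hg0⟩ := exists_prime_orderOf_dvd_card' r hcard
  have hr0 : (r : F) ≠ 0 := cast_ne_zero_of_ne (p := p) hrp
  let f : Module.End F ((Fin l ⊕ Fin l) ⊕ Fin 2 → F) := g0.1.toLinearMap
  have hfk : ∀ m : ℕ, f ^ m = (g0 ^ m).1.toLinearMap := fun m => by
    induction m with
    | zero => rfl
    | succ m ih => rw [pow_succ, pow_succ, ih]; rfl
  have hg0r : g0 ^ r = 1 := hg0 ▸ pow_orderOf_eq_one g0
  have hfr : f ^ r = 1 := by rw [hfk, hg0r]; rfl
  have hg01 : g0 ≠ 1 := fun e => hrf.out.one_lt.ne' (by rw [← hg0, e, orderOf_one])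
  have hl : finrank F ((Fin l ⊕ Fin l) ⊕ Fin 2 → F) = i := by
    rw [finrank_fintype_fun_eq_card, hj]; simp; ring
  have hmov : finrank F (movS f) = i := by
    have h := mov_dvd hfr hr0 (W := ⊤) (fun w _ => Submodule.mem_top)
    rw [Submodule.map_top] at h
    refine Nat.le_antisymm (hl ▸ Submodule.finrank_le _) (Nat.le_of_dvd (Nat.pos_of_ne_zero fun e => hg01 ?_) h)
    have h0 := Submodule.finrank_eq_zero.1 e
    refine Subtype.ext (LinearEquiv.ext fun v => ?_)
    have := LinearMap.congr_fun (LinearMap.range_eq_bot.1 h0) v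
    rw [LinearMap.sub_apply, Module.End.one_apply, LinearMap.zero_apply, sub_eq_zero] at this
    exact this
  have hf0 : ∀ v, g0.1 v = v → v = 0 := fun v hv => by
    have h := fix_add_mov (f := f)
    rw [hmov, hl] at h
    have : v ∈ fixS f := mem_fixS.2 hv
    rw [Submodule.finrank_eq_zero.1 (show finrank F (fixS f) = 0 by omega)] at this
    exact this
  -- the sum of `s` copies
  let P : QuadraticForm F (Fin s → ((Fin l ⊕ Fin l) ⊕ Fin 2 → F)) := QuadraticMap.pi fun _ => minusQ l a b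
  have hPv : ∀ v : (Fin s → ((Fin l ⊕ Fin l) ⊕ Fin 2 → F)), P v = ∑ t, minusQ l a b (v t) := fun v => QuadraticMap.pi_apply _ v
  have hP : (QuadraticMap.polarBilin P).Nondegenerate := by
    have hsep : ∀ u : (Fin s → ((Fin l ⊕ Fin l) ⊕ Fin 2 → F)), (∀ v, QuadraticMap.polar P u v = 0) → u = 0 := fun u h => by
      funext t
      refine (minusQ_nondeg hab l).1 (u t) fun w => ?_
      have := h (Pi.single t w)
      simp only [QuadraticMap.polar, hPv, ← Finset.sum_sub_distrib, Pi.add_apply] at this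
      rw [Finset.sum_eq_single t (fun t' _ ht' => by simp [Pi.single_eq_of_ne ht'])
        (fun h => absurd (Finset.mem_univ t) h), Pi.single_eq_same] at this
      exact this
    exact ⟨fun u h => hsep u h, fun u h => hsep u fun v => by rw [QuadraticMap.polar_comm]; exact h v⟩
  have hdim : finrank F (Fin s → ((Fin l ⊕ Fin l) ⊕ Fin 2 → F)) = 2 * (k + 1) := by
    rw [Module.finrank_pi_fintype, Finset.sum_const, Finset.card_univ, Fintype.card_fin, hl, smul_eq_mul, hs, hj]
    ring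
  let G : oGroup P := ⟨LinearEquiv.piCongrRight fun _ => g0.1, fun v => by
    rw [hPv, hPv]
    exact Finset.sum_congr rfl fun t _ => g0.2 (v t)⟩
  have hG0 : ∀ v, G.1 v = v → v = 0 := fun v hv => funext fun t => hf0 (v t) (congrFun hv t)
  have hGk : ∀ (m : ℕ) (v : (Fin s → ((Fin l ⊕ Fin l) ⊕ Fin 2 → F))) t, (G ^ m).1 v t = (g0 ^ m).1 (v t) := by
    intro m
    induction m with
    | zero => intro v t; rfl
    | succ m ih => intro v t; rw [pow_succ, pow_succ]; exact ih (G.1 v) t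
  have hGr : G ^ r = 1 := Subtype.ext (LinearEquiv.ext fun v => funext fun t => by rw [hGk, hg0r]; rfl)
  rcases CfsgLib.QuadStd.classify_even hP hdim with ⟨φ, hφ⟩ | ⟨ζ, φ, -, hζ, hφ⟩
  · exfalso
    have hN : ¬ r ∣ Nat.card {v // plusQ (F := F) (k + 1) v ≠ 0} := by
      intro h
      have hz := zeros_plus (F := F) (q := Fintype.card F) Nat.card_eq_fintype_card (k + 1)
      have hsplit : (Nat.card {v // plusQ (F := F) (k + 1) v = 0} : ℤ) +
          Nat.card {v // plusQ (F := F) (k + 1) v ≠ 0} = (Fintype.card F : ℤ) ^ (2 * (k + 1)) := by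
        have h := Nat.card_congr (Equiv.sumCompl fun v : Fin (k + 1) ⊕ Fin (k + 1) → F => plusQ (k + 1) v = 0)
        rw [Nat.card_sum, Nat.card_fun, Nat.card_sum, Nat.card_fin, Nat.card_eq_fintype_card (α := F)] at h
        rw [show 2 * (k + 1) = k + 1 + (k + 1) by ring]
        exact_mod_cast h
      have e := congrArg (fun n : ℤ => (n : ZMod r)) hz
      have e2 := congrArg (fun n : ℤ => (n : ZMod r)) hsplit
      push_cast at e e2
      rw [(ZMod.natCast_eq_zero_iff _ r).2 h] at e2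
      rw [← hx, show x ^ (k + 1 + 1) = x ^ (k + 1) * x from pow_succ x (k + 1),
        show 2 * (k + 1) = (k + 1) + (k + 1) by ring, pow_add, hxk] at e
      rw [← hx, show 2 * (k + 1) = (k + 1) + (k + 1) by ring, pow_add, hxk] at e2
      have h20 : (2 : ZMod r) * x = 2 := by linear_combination e - x * e2
      have h2 : (2 : ZMod r) ≠ 0 := fun e => hne (by linear_combination -e)
      have hx1 : x = 1 := mul_left_cancel₀ h2 (h20.trans (mul_one _).symm)
      rw [hx1, one_pow] at hxk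
      exact hne hxk.symm
    let g := oGroupCongr φ (fun v => (hφ v).symm) G
    let σ : Equiv.Perm {v // plusQ (F := F) (k + 1) v ≠ 0} :=
      g.1.toEquiv.subtypeEquiv fun v => by
        show plusQ (k + 1) v ≠ 0 ↔ plusQ (k + 1) (g.1 v) ≠ 0
        rw [g.2]
    have hσk : ∀ (m : ℕ) v, ((σ ^ m) v).1 = (g ^ m).1 v.1 := by
      intro m
      induction m with
      | zero => intro v; rfl
      | succ m ih => intro v; rw [pow_succ, pow_succ, Equiv.Perm.mul_apply, ih]; rfl
    have hσ : σ ^ r ^ 1 = 1 := Equiv.ext fun v => Subtype.ext (by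
      rw [pow_one, hσk, ← map_pow, hGr, map_one]; rfl)
    have := Fintype.ofFinite {v // plusQ (F := F) (k + 1) v ≠ 0}
    obtain ⟨v, hv⟩ := Equiv.Perm.exists_fixed_point_of_prime (by rwa [← Nat.card_eq_fintype_card]) hσ
    have h1 : φ (G.1 (φ.symm v.1)) = v.1 := congrArg Subtype.val hv
    have h2 : φ.symm v.1 = 0 := hG0 _ (φ.injective (h1.trans (φ.apply_symm_apply _).symm))
    exact v.2 (by rw [φ.symm.map_eq_zero_iff.1 h2, QuadraticMap.map_zero])
  · obtain ⟨ψ, hψ⟩ := CfsgLib.AutPOm.minusQ_isometric (K := F) k hab (CfsgLib.QuadStd.plane_aniso hζ)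
    refine ⟨oGroupCongr (φ.trans ψ) (fun v => by rw [LinearEquiv.trans_apply, hψ, hφ]; rfl) G,
      by rw [← map_pow, hGr, map_one], fun e => ?_, fun v hv => ?_⟩
    · have := (map_eq_one_iff _ (MulEquiv.injective _)).1 e
      have h0 : ∀ v : (Fin s → ((Fin l ⊕ Fin l) ⊕ Fin 2 → F)), v = 0 := fun v => hG0 v (by rw [this]; rfl)
      have : finrank F (Fin s → ((Fin l ⊕ Fin l) ⊕ Fin 2 → F)) = 0 := finrank_zero_iff.2 ⟨fun u v => (h0 u).trans (h0 v).symm⟩
      omega
    · change (φ.trans ψ) (G.1 ((φ.trans ψ).symm v)) = v at hv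
      have := hG0 _ ((LinearEquiv.eq_symm_apply _).2 hv)
      exact (φ.trans ψ).symm.map_eq_zero_iff.1 this

end CfsgLib.Elusive
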