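import Cfsg.Agent.Elusive.Jordan
import Mathlib.LinearAlgebra.Determinant
import Mathlib.LinearAlgebra.Projection
import Mathlib.LinearAlgebra.Prod

/-!
A `0`-`1` normal form for nilpotent maps, and determinants of maps commuting with them.
-/

set_option autoImplicit false

namespace CfsgLib.Elusive

open Module

variable {F : Type*} [Field F] {V : Type*} [AddCommGroup V] [Module F V] [FiniteDimensional F V]

/-- A chain `w, N w, …, N^k w` with `N^k w ≠ 0` and `N^(k+1) w = 0` is independent. -/
theorem chain_independent {N : V →ₗ[F] V} {w : V} {k : ℕ} (h0 : (N ^ (k + 1)) w = 0)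
    (h1 : (N ^ k) w ≠ 0) : LinearIndependent F fun l : Fin (k + 1) => (N ^ (l : ℕ)) w := by
  classical
  refine Fintype.linearIndependent_iff.2 fun c hc => ?_
  by_contra hne
  push Not at hne
  obtain ⟨j₀, hj₀⟩ := hne
  obtain ⟨j₁, hj₁, hmin⟩ := Finset.exists_min_image (Finset.univ.filter fun j => c j ≠ 0)
    (fun j => (j : ℕ)) ⟨j₀, by simpa using hj₀⟩
  rw [Finset.mem_filter] at hj₁
  have h2 := congrArg (N ^ (k - (j₁ : ℕ))) hc
  simp only [map_sum, map_smul, map_zero, ← Module.End.mul_apply, ← pow_add] at h2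
  rw [Finset.sum_eq_single j₁ (fun j _ hne' => ?_) (fun h => absurd (Finset.mem_univ _) h),
    Nat.sub_add_cancel (by omega)] at h2
  · exact hj₁.2 ((smul_eq_zero.1 h2).resolve_right h1)
  · by_cases hcj : c j = 0
    · rw [hcj, zero_smul]
    · have h3 := hmin j (by simpa using hcj)
      have h4 : (j₁ : ℕ) ≠ j := fun e => hne' (Fin.ext e.symm)
      rw [show k - (j₁ : ℕ) + (j : ℕ) = (k - (j₁ : ℕ) + (j : ℕ) - (k + 1)) + (k + 1) by omega, pow_add,
        Module.End.mul_apply, h0, map_zero, smul_zero]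

/-- A basis of an invariant space that a nilpotent map permutes up to zero. -/
theorem exists_chain_basis {N : V →ₗ[F] V} {p : ℕ} (hN : N ^ p = 0) :
    ∀ (n : ℕ) (T : Submodule F V), finrank F T = n → Inv N T →
      ∃ b : Fin n → V, LinearIndependent F b ∧ Submodule.span F (Set.range b) = T ∧
        ∀ j, N (b j) = 0 ∨ ∃ i, N (b j) = b i := by
  classical
  intro n
  induction n using Nat.strong_induction_on with
  | _ n ih =>
    intro T hdim hT
    rcases Nat.eq_zero_or_pos n with hn | hn
    · subst hn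
      refine ⟨Fin.elim0, linearIndependent_empty_type, ?_, fun j => j.elim0⟩
      rw [Submodule.finrank_eq_zero.1 hdim, Set.range_eq_empty, Submodule.span_empty]
    have hex : ∃ k, ∀ t ∈ T, (N ^ k) t = 0 := ⟨p, fun t _ => by rw [hN]; rfl⟩
    have hk0 : Nat.find hex ≠ 0 := fun e => by
      have hs := Nat.find_spec hex
      rw [e] at hs
      have : T = ⊥ := (Submodule.eq_bot_iff _).2 fun t ht => by simpa using hs t ht
      rw [this, finrank_bot] at hdim
      omega
    obtain ⟨k, hk⟩ : ∃ k, Nat.find hex = k + 1 := ⟨Nat.find hex - 1, by omega⟩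
    have hspec : ∀ t ∈ T, (N ^ (k + 1)) t = 0 := hk ▸ Nat.find_spec hex
    obtain ⟨v, hv, hvk⟩ : ∃ v ∈ T, (N ^ k) v ≠ 0 := by
      by_contra hno
      push Not at hno
      exact Nat.find_min hex (show k < Nat.find hex by omega) hno
    obtain ⟨U, W, hU, hW, hsup, hinf, hUd, hker⟩ := exists_block hT hspec hv hvk
    obtain ⟨w, hw, hwk⟩ : ∃ w ∈ U, (N ^ k) w ≠ 0 := by
      by_contra hno
      push Not at hno
      have h := hker k
      rw [kerDim, inf_eq_left.2 (fun u hu => LinearMap.mem_ker.2 (hno u hu)), hUd,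
        min_eq_left (Nat.le_succ k)] at h
      omega
    have hd := Submodule.finrank_sup_add_finrank_inf_eq U W
    rw [hsup, hinf, finrank_bot, hdim, hUd, add_zero] at hd
    obtain ⟨bW, hliW, hspW, hNW⟩ := ih (finrank F W) (by omega) W rfl hW
    set c : Fin (k + 1) → V := fun l => (N ^ (l : ℕ)) w with hc
    have hUT : U ≤ T := hsup ▸ le_sup_left
    have hliU : LinearIndependent F c := chain_independent (hspec w (hUT hw)) hwk
    have hspU : Submodule.span F (Set.range c) = U :=
      Submodule.eq_of_le_of_finrank_eq (Submodule.span_le.2 (by rintro _ ⟨l, rfl⟩; exact hU.pow _ w hw))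
        (by rw [finrank_span_eq_card hliU, Fintype.card_fin, hUd])
    let e : Fin n ≃ Fin (k + 1) ⊕ Fin (finrank F W) := (finCongr hd).trans finSumFinEquiv.symm
    refine ⟨Sum.elim c bW ∘ e, ?_, ?_, fun j => ?_⟩
    · exact (hliU.sum_type hliW (by rw [hspU, hspW, disjoint_iff, hinf])).comp _ e.injective
    · rw [e.surjective.range_comp, Set.Sum.elim_range, Submodule.span_union, hspU, hspW, hsup]
    · rcases h : e j with l | l
      · rcases Nat.lt_or_ge ((l : ℕ) + 1) (k + 1) with hl | hl
        · refine Or.inr ⟨e.symm (Sum.inl ⟨(l : ℕ) + 1, hl⟩), ?_⟩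
          simp [h, c, pow_succ', Module.End.mul_apply]
        · refine Or.inl ?_
          simp only [Function.comp_apply, h, Sum.elim_inl, c, ← Module.End.mul_apply, ← pow_succ']
          rw [show (l : ℕ) + 1 = k + 1 by omega]
          exact hspec w (hUT hw)
      · rcases hNW l with h' | ⟨i, h'⟩
        · exact Or.inl (by simp [h, h'])
        · exact Or.inr ⟨e.symm (Sum.inr i), by simp [h, h']⟩

/-- The `0`-`1` matrix of a unipotent map. -/
theorem exists_unipotent_normal {n : ℕ} {g : (Fin n → F) →ₗ[F] (Fin n → F)} {p : ℕ} (hg : (g - 1) ^ p = 0) :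
    ∃ (b : Basis (Fin n) F (Fin n → F)) (X : Matrix (Fin n) (Fin n) F),
      (∀ j, g (b j) = ∑ i, X i j • b i) ∧ ∀ i j, X i j = 0 ∨ X i j = 1 := by
  classical
  obtain ⟨b, hli, hsp, hN⟩ := exists_chain_basis hg n ⊤ (by rw [finrank_top, Module.finrank_fin_fun])
    (fun v _ => Submodule.mem_top)
  let B := Basis.mk hli hsp.ge
  have hB : ∀ j, B j = b j := fun j => by simp [B]
  have hne : ∀ j i, (g - 1) (b j) = b i → i ≠ j := fun j i h e => by
    subst e
    have hpow : ∀ m : ℕ, ((g - 1) ^ m) (b i) = b i := fun m => by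
      induction m with
      | zero => rfl
      | succ m ih => rw [pow_succ', Module.End.mul_apply, ih, h]
    have := hpow p
    rw [hg] at this
    exact hli.ne_zero i this.symm
  refine ⟨B, Matrix.of fun i j => if i = j ∨ (g - 1) (b j) = b i then 1 else 0, fun j => ?_, fun i j => by
    simp only [Matrix.of_apply]; split_ifs <;> simp⟩
  have hgN : g (b j) = b j + (g - 1) (b j) := by simp
  rw [hB, hgN, ← Finset.add_sum_erase _ _ (Finset.mem_univ j)]
  simp only [hB, Matrix.of_apply, true_or, if_true, one_smul]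
  congr 1
  rcases hN j with h | ⟨i, h⟩
  · rw [h]
    refine (Finset.sum_eq_zero fun i hi => ?_).symm
    rw [if_neg, zero_smul]
    rintro (e | e)
    · exact Finset.ne_of_mem_erase hi e
    · exact hli.ne_zero i e.symm
  · rw [h, Finset.sum_eq_single i]
    · rw [if_pos (Or.inr rfl), one_smul]
    · intro i' hi' hne'
      rw [if_neg, zero_smul]
      rintro (e | e)
      · exact Finset.ne_of_mem_erase hi' e
      · exact hne' (hli.injective e).symm
    · intro hi
      exact absurd (Finset.mem_erase.2 ⟨hne j i h, Finset.mem_univ i⟩) hi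

/-- With a Jordan block of size `3`, commuting maps realise every cube as determinant. -/
theorem exists_commute_det_cube {N : V →ₗ[F] V} (h3 : N ^ 3 = 0) (h2 : N ^ 2 ≠ 0) (s : F) :
    ∃ D : V →ₗ[F] V, LinearMap.det D = s ^ 3 ∧ D * N = N * D := by
  obtain ⟨v, hv⟩ : ∃ v, (N ^ 2) v ≠ 0 := by
    by_contra hno
    push Not at hno
    exact h2 (LinearMap.ext hno)
  obtain ⟨U, W, hU, hW, hsup, hinf, hUd, -⟩ := exists_block (T := (⊤ : Submodule F V))
    (fun t _ => Submodule.mem_top) (fun t _ => by rw [h3]; rfl) (Submodule.mem_top (x := v)) hv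
  have hc : IsCompl U W := ⟨disjoint_iff.2 hinf, codisjoint_iff.2 hsup⟩
  let e := Submodule.prodEquivOfIsCompl U W hc
  let D : V →ₗ[F] V := e.toLinearMap ∘ₗ ((s • LinearMap.id).prodMap LinearMap.id) ∘ₗ e.symm.toLinearMap
  refine ⟨D, ?_, LinearMap.ext fun v => ?_⟩
  · rw [LinearMap.det_conj, LinearMap.det_prodMap, LinearMap.det_smul, LinearMap.det_id, LinearMap.det_id, hUd,
      mul_one, mul_one]
  · have hD : ∀ (u : U) (w : W), D ((u : V) + w) = s • (u : V) + w := fun u w => by
      have hs : e.symm ((u : V) + w) = (u, w) := by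
        rw [LinearEquiv.symm_apply_eq]; rfl
      simp only [D, LinearMap.comp_apply, LinearEquiv.coe_coe, hs]
      rfl
    obtain ⟨⟨u, w⟩, rfl⟩ := e.surjective v
    show D (N ((u : V) + w)) = N (D ((u : V) + w))
    rw [hD, map_add N, map_add N, map_smul N]
    exact hD ⟨_, hU u u.2⟩ ⟨_, hW w w.2⟩

/-- With a Jordan block of size `1`, commuting maps have every determinant. -/
theorem exists_commute_det {N : V →ₗ[F] V} (hne : LinearMap.range N ⊔ LinearMap.ker N ≠ LinearMap.range N) (s : F) :
    ∃ D : V →ₗ[F] V, LinearMap.det D = s ∧ D * N = N * D := by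
  obtain ⟨e, he, heR⟩ : ∃ e ∈ LinearMap.ker N, e ∉ LinearMap.range N := by
    by_contra hno
    push Not at hno
    exact hne (sup_eq_left.2 hno)
  obtain ⟨φ, hφ, hφR⟩ := Submodule.exists_dual_map_eq_bot_of_notMem heR inferInstance
  have hφe : φ ((φ e)⁻¹ • e) = 1 := by rw [map_smul, smul_eq_mul, inv_mul_cancel₀ hφ]
  set e' := (φ e)⁻¹ • e with he'
  let D : V →ₗ[F] V := LinearMap.id + ((s - 1) • φ).smulRight e'
  refine ⟨D, ?_, LinearMap.ext fun v => ?_⟩
  · let b := Module.finBasis F V
    rw [← LinearMap.det_toMatrix b]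
    have : LinearMap.toMatrix b b D =
        1 + Matrix.replicateCol Unit (b.repr e') * Matrix.replicateRow Unit (fun j => (s - 1) * φ (b j)) := by
      ext i j
      simp [D, LinearMap.toMatrix_apply, Matrix.one_apply, Matrix.mul_apply, Finsupp.single_apply, eq_comm (a := i)]
      ring
    rw [this, Matrix.det_one_add_replicateCol_mul_replicateRow]
    have h1 : φ e' = ∑ j, b.repr e' j * φ (b j) := by
      conv_lhs => rw [← b.sum_repr e', map_sum]
      simp
    rw [dotProduct, Finset.sum_congr rfl (fun j _ =>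
      show (s - 1) * φ (b j) * b.repr e' j = (s - 1) * (b.repr e' j * φ (b j)) by ring), ← Finset.mul_sum, ← h1, hφe]
    ring
  · have h1 : φ (N v) = 0 := by
      have : φ (N v) ∈ (LinearMap.range N).map φ := Submodule.mem_map_of_mem (LinearMap.mem_range_self N v)
      rw [hφR, Submodule.mem_bot] at this
      exact this
    have h2 : N e' = 0 := by rw [he', map_smul, LinearMap.mem_ker.1 he, smul_zero]
    simp [D, h1, h2]

end CfsgLib.Elusive
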