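import Cfsg.Agent.Elusive.Decomp
import Mathlib.Dynamics.PeriodicPts.Defs
import Mathlib.GroupTheory.Perm.Cycle.Basic
import Mathlib.LinearAlgebra.Basis.Basic
import Mathlib.GroupTheory.GroupAction.Quotient

/-! Elements of odd prime order and imprimitive decompositions. -/

set_option autoImplicit false
set_option linter.unusedSectionVars false

namespace CfsgLib.Elusive

open Module

variable {F V : Type*} [Field F] [Fintype F] [AddCommGroup V] [Module F V] [FiniteDimensional F V]
variable {f : V →ₗ[F] V} {a t r : ℕ} [hr' : Fact r.Prime]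

theorem Splits.cycle {D : Fin r → Submodule F V} (hd : ∀ j, finrank F (D j) = a)
    (h : ∀ j, (D j).map f = D (finRotate r j)) : Splits f a (iSup D) r :=
  ⟨D, hd, rfl, finRotate r, h⟩

theorem split_dims (hf : f ^ r = 1) {U W T : Submodule F V} (hU : Inv f U) (hW : Inv f W)
    (h1 : U ⊔ W = T) (h2 : U ⊓ W = ⊥) :
    finrank F ↥(T ⊓ fixS f) = finrank F ↥(U ⊓ fixS f) + finrank F ↥(W ⊓ fixS f) ∧
      finrank F (T.map (f - 1)) = finrank F (U.map (f - 1)) + finrank F (W.map (f - 1)) := by
  have ha := Submodule.finrank_sup_add_finrank_inf_eq (U.map (f - 1)) (W.map (f - 1))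
  rw [← Submodule.map_sup, h1,
    le_bot_iff.1 ((inf_le_inf hU.map_sub.2 hW.map_sub.2).trans h2.le), finrank_bot] at ha
  have hT := dim_split (f := f) T
  have hU' := dim_split (f := f) U
  have hW' := dim_split (f := f) W
  have := dim_compl h1 h2
  omega

theorem comp_zero {t : ℕ} {D : Fin t → Submodule F V} (hi : iSupIndep D) {w : Fin t → V}
    (hw : ∀ k, w k ∈ D k) (hsum : ∑ k, w k = 0) (j : Fin t) : w j = 0 := by
  classical
  refine Submodule.disjoint_def.1 (hi j) _ (hw j) ?_
  rw [← Finset.add_sum_erase _ _ (Finset.mem_univ j)] at hsum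
  rw [eq_neg_of_add_eq_zero_left hsum]
  refine Submodule.neg_mem _ (Submodule.sum_mem _ fun k hk => ?_)
  exact Submodule.mem_iSup_of_mem k (Submodule.mem_iSup_of_mem (Finset.ne_of_mem_erase hk) (hw k))

section Orbit

variable {D : Fin t → Submodule F V} {σ : Equiv.Perm (Fin t)}
  (hσ : ∀ j, (D j).map f = D (σ j))
include hσ

theorem map_pow_eq (i : ℕ) (j : Fin t) : (D j).map (f ^ i) = D ((σ ^ i) j) := by
  induction i generalizing j with
  | zero => rw [pow_zero, pow_zero]; exact Submodule.map_id _
  | succ i ih => rw [pow_succ', Module.End.mul_eq_comp, Submodule.map_comp, ih, hσ, pow_succ']; rfl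

variable (hd : ∀ j, finrank F (D j) = a) (ha : 0 < a) (hi : iSupIndep D) (hf : f ^ r = 1)
include hd ha hi

theorem D_injective : Function.Injective D := by
  intro j k e
  by_contra hne
  have h1 := (hi j).mono_right
    (le_iSup₂_of_le (f := fun k (_ : k ≠ j) => D k) k (Ne.symm hne) le_rfl)
  rw [← e, disjoint_self] at h1
  have := hd j
  rw [h1, finrank_bot] at this
  omega

include hf

theorem perm_pow (j : Fin t) : (σ ^ r) j = j :=
  D_injective hσ hd ha hi (by rw [← map_pow_eq hσ, hf]; exact Submodule.map_id _)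

theorem orbit_injective {j : Fin t} (hj : σ j ≠ j) :
    Function.Injective fun i : Fin r => (σ ^ (i : ℕ)) j := by
  have key : ∀ i, 0 < i → i < r → (σ ^ i) j ≠ j := by
    intro i h0 h1 e
    have hg := Function.IsPeriodicPt.gcd (f := σ) (x := j)
      (show Function.IsPeriodicPt σ i j by
        rw [Function.IsPeriodicPt, Function.IsFixedPt, ← Equiv.Perm.coe_pow]; exact e)
      (show Function.IsPeriodicPt σ r j by
        rw [Function.IsPeriodicPt, Function.IsFixedPt, ← Equiv.Perm.coe_pow]
        exact perm_pow hσ hd ha hi hf j)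
    rw [show Nat.gcd i r = 1 from Nat.Coprime.symm ((Nat.Prime.coprime_iff_not_dvd hr'.out).2
      (fun hd => by have := Nat.le_of_dvd h0 hd; omega))] at hg
    exact hj hg
  intro i k e
  simp only at e
  rcases Nat.lt_trichotomy (i : ℕ) k with h | h | h
  · refine absurd ((σ ^ (i : ℕ)).injective ?_) (key ((k : ℕ) - i) (by omega) (by omega))
    rw [← Equiv.Perm.mul_apply, ← pow_add, Nat.add_sub_cancel' h.le, e]
  · exact Fin.ext h
  · refine absurd ((σ ^ (k : ℕ)).injective ?_) (key ((i : ℕ) - k) (by omega) (by omega))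
    rw [← Equiv.Perm.mul_apply, ← pow_add, Nat.add_sub_cancel' h.le, e]

theorem trace_mem_fix (v : V) : (∑ i : Fin r, (f ^ (i : ℕ)) v) ∈ fixS f := by
  rw [mem_fixS, map_sum, Fin.sum_univ_eq_sum_range (fun i => f ((f ^ i) v)),
    Fin.sum_univ_eq_sum_range (fun i => (f ^ i) v)]
  have h1 := Finset.sum_range_succ' (fun i => (f ^ i) v) r
  have h2 := Finset.sum_range_succ (fun i => (f ^ i) v) r
  rw [hf] at h2
  simp only [pow_succ', Module.End.mul_apply, pow_zero, Module.End.one_apply] at h1 h2
  rw [h2] at h1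
  exact (add_right_cancel h1).symm

/-- The component of a trace at a moved block. -/
theorem trace_comp {j : Fin t} (hj : σ j ≠ j) {v : V} (hv : v ∈ D j)
    (h0 : (∑ i : Fin r, (f ^ (i : ℕ)) v) = 0) : v = 0 := by
  classical
  have hinj := orbit_injective hσ hd ha hi hf hj
  let w : Fin t → V := fun k => ∑ i : Fin r, if (σ ^ (i : ℕ)) j = k then (f ^ (i : ℕ)) v else 0
  have hw : ∀ k, w k ∈ D k := fun k => Submodule.sum_mem _ fun i _ => by
    split
    · rename_i h
      exact h ▸ map_pow_eq hσ (i : ℕ) j ▸ Submodule.mem_map_of_mem hv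
    · exact Submodule.zero_mem _
  have hsum : ∑ k, w k = 0 := by
    simp only [w]
    rw [Finset.sum_comm]
    simpa using h0
  have hz := comp_zero hi hw hsum j
  simp only [w] at hz
  rw [Finset.sum_eq_single (⟨0, hr'.out.pos⟩ : Fin r) (fun i _ hne => if_neg fun e => hne (hinj (by
    simpa using e))) (fun h => absurd (Finset.mem_univ _) h)] at hz
  simpa using hz

theorem le_fix {j : Fin t} (hj : σ j ≠ j) : a ≤ finrank F (fixS f) := by
  let φ : D j →ₗ[F] V := (∑ i : Fin r, f ^ (i : ℕ)).domRestrict (D j)
  have hinj : Function.Injective φ := by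
    rw [← LinearMap.ker_eq_bot, Submodule.eq_bot_iff]
    intro v hv
    exact Subtype.ext (trace_comp hσ hd ha hi hf hj v.2 (by simpa [φ] using hv))
  rw [← hd j, ← LinearMap.finrank_range_of_inj hinj]
  refine Submodule.finrank_mono ?_
  rintro _ ⟨v, rfl⟩
  simpa [φ] using trace_mem_fix hσ hd ha hi hf (v : V)

theorem le_mov {j : Fin t} (hj : σ j ≠ j) : (r - 1) * a ≤ finrank F (movS f) := by
  classical
  have hinj := orbit_injective hσ hd ha hi hf hj
  let Φ : (Fin (r - 1) → D j) →ₗ[F] V :=
    ∑ i : Fin (r - 1), ((f - 1) ∘ₗ (f ^ (i : ℕ)) ∘ₗ (D j).subtype) ∘ₗ LinearMap.proj i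
  have hΦ : ∀ v, Φ v = ∑ i : Fin (r - 1), ((f ^ ((i : ℕ) + 1)) (v i : V) - (f ^ (i : ℕ)) (v i : V)) :=
    fun v => by simp [Φ, pow_succ']
  have hΦinj : Function.Injective Φ := by
    rw [← LinearMap.ker_eq_bot, Submodule.eq_bot_iff]
    intro v hv
    rw [LinearMap.mem_ker, hΦ] at hv
    have hlt : r - 1 ≤ r := Nat.sub_le r 1
    let u : ℕ → V := fun i => if h : i < r - 1 then (v ⟨i, h⟩ : V) else 0
    let x : Fin t → V := fun k => ∑ i : Fin r, if (σ ^ (i : ℕ)) j = k then
      ((if (i : ℕ) = 0 then 0 else (f ^ (i : ℕ)) (u ((i : ℕ) - 1))) - (f ^ (i : ℕ)) (u i)) else 0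
    have hu : ∀ i, u i ∈ D j := fun i => by simp only [u]; split <;> simp
    have hmem : ∀ (i : ℕ) w, w ∈ D j → (f ^ i) w ∈ D ((σ ^ i) j) := fun i w hw =>
      map_pow_eq hσ i j ▸ Submodule.mem_map_of_mem hw
    have hx : ∀ k, x k ∈ D k := fun k => Submodule.sum_mem _ fun i _ => by
      split
      · rename_i h
        refine Submodule.sub_mem _ ?_ (h ▸ hmem _ _ (hu _))
        split
        · exact Submodule.zero_mem _
        · exact h ▸ hmem _ _ (hu _)
      · exact Submodule.zero_mem _
    have hsum : ∑ k, x k = 0 := by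
      simp only [x]
      rw [Finset.sum_comm]
      simp only [Finset.sum_ite_eq, Finset.mem_univ, if_true, Finset.sum_sub_distrib]
      rw [Fin.sum_univ_eq_sum_range (fun i => if i = 0 then (0 : V) else (f ^ i) (u (i - 1))),
        Fin.sum_univ_eq_sum_range (fun i => (f ^ i) (u i))]
      have e1 : r = (r - 1) + 1 := by have := hr'.out.one_lt; omega
      rw [e1, Finset.sum_range_succ', Finset.sum_range_succ]
      simp only [u, lt_irrefl, dite_false, map_zero, add_zero, if_true, Nat.succ_ne_zero, if_false,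
        Nat.add_sub_cancel]
      rw [← Finset.sum_sub_distrib, ← hv, ← Fin.sum_univ_eq_sum_range]
      exact Finset.sum_congr rfl fun i _ => by simp [i.isLt]
    have hstep : ∀ i, i < r →
        (if i = 0 then (0 : V) else (f ^ i) (u (i - 1))) - (f ^ i) (u i) = 0 := by
      intro i hilt
      have hz := comp_zero hi hx hsum ((σ ^ i) j)
      simp only [x] at hz
      rw [Finset.sum_eq_single (⟨i, hilt⟩ : Fin r) (fun k _ hne => if_neg fun e => hne (hinj e))
        (fun h => absurd (Finset.mem_univ _) h), if_pos rfl] at hz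
      exact hz
    have hfinj : ∀ i : ℕ, Function.Injective (f ^ i) := by
      have h1 : Function.Injective f := fun y z e => by
        have hrr : r = (r - 1) + 1 := by have := hr'.out.one_lt; omega
        have h2 := LinearMap.congr_fun hf y
        have h3 := LinearMap.congr_fun hf z
        rw [hrr, pow_succ, Module.End.mul_apply, Module.End.one_apply] at h2 h3
        rw [← h2, ← h3, e]
      intro i
      rw [Module.End.coe_pow]
      exact h1.iterate i
    have hu0 : ∀ i, i < r - 1 → u i = 0 := by
      intro i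
      induction i with
      | zero =>
        intro _
        have := hstep 0 (by omega)
        simpa using this
      | succ i ih =>
        intro hlt
        have := hstep (i + 1) (by omega)
        simp only [Nat.succ_ne_zero, if_false, Nat.add_sub_cancel, ih (by omega), map_zero, zero_sub,
          neg_eq_zero] at this
        exact hfinj (i + 1) (this.trans (map_zero _).symm)
    funext i
    have := hu0 i i.isLt
    simp only [u, i.isLt, dite_true, Fin.eta] at this
    exact Subtype.ext this
  have h1 := LinearMap.finrank_range_of_inj hΦinj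
  rw [Module.finrank_pi_fintype, Finset.sum_congr rfl (fun i _ => hd j), Finset.sum_const,
    Finset.card_univ, Fintype.card_fin, smul_eq_mul] at h1
  rw [← h1]
  refine Submodule.finrank_mono ?_
  rintro _ ⟨v, rfl⟩
  rw [hΦ]
  exact Submodule.sum_mem _ fun i _ => ⟨(f ^ (i : ℕ)) (v i : V), by simp [pow_succ']⟩

end Orbit

theorem sum_fixed {D : Fin t → Submodule F V} (hi : iSupIndep D) (hd : ∀ j, finrank F (D j) = a)
    (hn : finrank F V = a * t) :
    ∑ j, finrank F ↥(D j ⊓ fixS f) = finrank F (fixS f) ∨
      ∃ j, ¬ Inv f (D j) := by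
  classical
  by_cases hall : ∀ j, Inv f (D j)
  swap
  · push Not at hall
    exact Or.inr hall
  left
  have hsum : ∀ (E : Fin t → Submodule F V), (∀ j, E j ≤ D j) →
      ∀ s : Finset (Fin t), finrank F ↥(s.sup E) = ∑ j ∈ s, finrank F (E j) := by
    intro E hE s
    induction s using Finset.induction_on with
    | empty => simp
    | insert b s hb ih =>
      have h0 : E b ⊓ s.sup E = ⊥ := le_bot_iff.1 ((inf_le_inf (hE b) (Finset.sup_le fun k hk =>
        (hE k).trans (le_iSup₂_of_le (f := fun k (_ : k ≠ b) => D k) k (ne_of_mem_of_not_mem hk hb)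
          le_rfl))).trans (hi b).eq_bot.le)
      have h1 := Submodule.finrank_sup_add_finrank_inf_eq (E b) (s.sup E)
      rw [h0, finrank_bot, ih, Nat.add_zero] at h1
      rw [Finset.sup_insert, Finset.sum_insert hb, h1]
  have hA := hsum (fun j => D j ⊓ fixS f) (fun j => inf_le_left) Finset.univ
  have hB := hsum (fun j => (D j).map (f - 1)) (fun j => (hall j).map_sub.2) Finset.univ
  have hA' : finrank F ↥(Finset.univ.sup fun j => D j ⊓ fixS f) ≤ finrank F (fixS f) :=
    Submodule.finrank_mono (Finset.sup_le fun j _ => inf_le_right)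
  have hB' : finrank F ↥(Finset.univ.sup fun j => (D j).map (f - 1)) ≤ finrank F (movS f) :=
    Submodule.finrank_mono (Finset.sup_le fun j _ => LinearMap.map_le_range)
  have hsumD : ∑ j, finrank F ↥(D j ⊓ fixS f) + ∑ j, finrank F ((D j).map (f - 1)) = a * t := by
    rw [← Finset.sum_add_distrib, Finset.sum_congr rfl (fun j _ => (dim_split (f := f) (D j)).symm.trans (hd j)),
      Finset.sum_const, Finset.card_univ, Fintype.card_fin, smul_eq_mul, Nat.mul_comm]
  have := fix_add_mov (f := f)
  omega

/-- Few fixed points force few blocks when the blocks are lines. -/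
theorem le_mul_fix {D : Fin t → Submodule F V} {σ : Equiv.Perm (Fin t)}
    (hσ : ∀ j, (D j).map f = D (σ j)) (hd : ∀ j, finrank F (D j) = a) (ha : 0 < a)
    (hi : iSupIndep D) (hf : f ^ r = 1) (hr : (r : F) ≠ 0) (ha1 : a = 1)
    (hroot : ∀ z : F, z ^ r = 1 → z = 1) : t ≤ r * finrank F (fixS f) := by
  classical
  have hpick : ∀ j, ∃ v, v ∈ D j ∧ v ≠ 0 := fun j => by
    obtain ⟨v, hv, hv0⟩ := (D j).exists_mem_ne_zero_of_ne_bot fun h => by
      have := hd j; rw [h, finrank_bot] at this; omega
    exact ⟨v, hv, hv0⟩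
  choose v hvD hv0 using hpick
  let orb : Fin t → Finset (Fin t) := fun j => Finset.univ.image fun i : Fin r => (σ ^ (i : ℕ)) j
  have horb : ∀ j, (orb j).Nonempty := fun j => ⟨j, Finset.mem_image.2
    ⟨⟨0, hr'.out.pos⟩, Finset.mem_univ _, by simp⟩⟩
  let rep : Fin t → Fin t := fun j => (orb j).min' (horb j)
  have hmod : ∀ (i : ℕ) j, (σ ^ i) j = (σ ^ (i % r)) j := by
    intro i j
    have hmul : ∀ m, (σ ^ (r * m)) j = j := fun m => by
      induction m with
      | zero => simp
      | succ m ih => rw [Nat.mul_succ, pow_add, Equiv.Perm.mul_apply, perm_pow hσ hd ha hi hf, ih]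
    conv_lhs => rw [← Nat.mod_add_div i r, pow_add, Equiv.Perm.mul_apply, hmul]
  have hmem : ∀ (j k : Fin t), k ∈ orb j → orb k = orb j := by
    intro j k hk
    obtain ⟨i, -, rfl⟩ := Finset.mem_image.1 hk
    apply Finset.eq_of_subset_of_card_le
    · intro y hy
      obtain ⟨l, -, rfl⟩ := Finset.mem_image.1 hy
      refine Finset.mem_image.2 ⟨⟨((l : ℕ) + i) % r, Nat.mod_lt _ hr'.out.pos⟩, Finset.mem_univ _, ?_⟩
      show (σ ^ (((l : ℕ) + i) % r)) j = _
      rw [← hmod, pow_add, Equiv.Perm.mul_apply]
    · refine Finset.card_le_card fun y hy => ?_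
      obtain ⟨l, -, rfl⟩ := Finset.mem_image.1 hy
      refine Finset.mem_image.2 ⟨⟨((l : ℕ) + (r - i)) % r, Nat.mod_lt _ hr'.out.pos⟩, Finset.mem_univ _, ?_⟩
      show (σ ^ (((l : ℕ) + (r - (i : ℕ))) % r)) ((σ ^ (i : ℕ)) j) = (σ ^ (l : ℕ)) j
      rw [← hmod, ← Equiv.Perm.mul_apply, ← pow_add, Nat.add_assoc, Nat.sub_add_cancel i.isLt.le,
        pow_add, Equiv.Perm.mul_apply, perm_pow hσ hd ha hi hf]
  let R := Finset.univ.image rep
  have hcard : t ≤ R.card * r := by
    have := Finset.card_le_mul_card_image (f := rep) (Finset.univ : Finset (Fin t)) r (fun b hb => by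
      refine (Finset.card_le_card (t := orb b) fun j hj => ?_).trans ?_
      · rw [Finset.mem_filter] at hj
        have h1 : b ∈ orb j := hj.2 ▸ Finset.min'_mem _ _
        rw [hmem j b h1]
        exact Finset.mem_image.2 ⟨⟨0, hr'.out.pos⟩, Finset.mem_univ _, by simp⟩
      · exact Finset.card_image_le.trans (by simp))
    rw [Finset.card_univ, Fintype.card_fin, Nat.mul_comm] at this
    exact this
  let g : R → V := fun j => ∑ i : Fin r, (f ^ (i : ℕ)) (v j)
  have hli : LinearIndependent F g := by
    rw [Fintype.linearIndependent_iff]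
    intro c hc j₀
    let x : Fin t → V := fun k => ∑ j : R, ∑ i : Fin r,
      if (σ ^ (i : ℕ)) j = k then c j • (f ^ (i : ℕ)) (v j) else 0
    have hx : ∀ k, x k ∈ D k := fun k => Submodule.sum_mem _ fun j _ => Submodule.sum_mem _ fun i _ => by
      split
      · rename_i h
        exact Submodule.smul_mem _ _ (h ▸ map_pow_eq hσ (i : ℕ) j.1 ▸ Submodule.mem_map_of_mem (hvD _))
      · exact Submodule.zero_mem _
    have hsum : ∑ k, x k = 0 := by
      simp only [x]
      rw [Finset.sum_comm]
      refine (Finset.sum_congr rfl fun j _ => ?_).trans hc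
      rw [Finset.sum_comm]
      simp only [Finset.sum_ite_eq, Finset.mem_univ, if_true, g, Finset.smul_sum]
    have hz := comp_zero hi hx hsum (j₀ : Fin t)
    simp only [x] at hz
    rw [Finset.sum_eq_single j₀ (fun j _ hne => Finset.sum_eq_zero fun i _ => if_neg fun e => hne (by
      obtain ⟨j', -, hj'⟩ := Finset.mem_image.1 j.2
      obtain ⟨j₀', -, hj₀'⟩ := Finset.mem_image.1 j₀.2
      have hrj : ∀ {y z : Fin t}, rep y = z → rep z = z := fun {y z} h => by
        have h1 : z ∈ orb y := h ▸ Finset.min'_mem _ _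
        show (orb z).min' _ = z
        simp only [hmem y z h1]
        exact h
      have h2 : rep (j₀ : Fin t) = rep (j : Fin t) := by
        show (orb _).min' _ = (orb _).min' _
        simp only [hmem (j : Fin t) (j₀ : Fin t) (Finset.mem_image.2 ⟨i, Finset.mem_univ _, e⟩)]
      rw [hrj hj', hrj hj₀'] at h2
      exact Subtype.ext h2.symm)) (fun h => absurd (Finset.mem_univ _) h)] at hz
    by_cases hj : σ j₀ = j₀
    · have hfix : ∀ i : ℕ, (σ ^ i) (j₀ : Fin t) = j₀ := fun i => by
        induction i with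
        | zero => simp
        | succ i ih => rw [pow_succ, Equiv.Perm.mul_apply, hj, ih]
      simp only [hfix, if_true] at hz
      rw [← Finset.smul_sum, smul_eq_zero] at hz
      refine hz.resolve_right fun h0 => ?_
      -- on an invariant line the element acts trivially
      have hne : v j₀ ∈ fixS f := by
        have hspan : D j₀ = Submodule.span F {v j₀} :=
          (Submodule.eq_of_le_of_finrank_le ((Submodule.span_singleton_le_iff_mem _ _).2 (hvD _))
            (by rw [hd, ha1, finrank_span_singleton (hv0 _)])).symm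
        obtain ⟨z, hz⟩ := Submodule.mem_span_singleton.1
          (hspan ▸ inv_iff.2 (show (D j₀).map f ≤ D j₀ by rw [hσ, hj]) _ (hvD _))
        have hpow : ∀ i : ℕ, (f ^ i) (v j₀) = z ^ i • v j₀ := fun i => by
          induction i with
          | zero => simp
          | succ i ih => rw [pow_succ', Module.End.mul_apply, ih, map_smul, ← hz, smul_smul, ← pow_succ]
        have h1 := hpow r
        rw [hf, Module.End.one_apply] at h1
        have h2 : z ^ r = 1 := by
          have : (z ^ r - 1) • v j₀ = 0 := by rw [sub_smul, one_smul, ← h1, sub_self]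
          exact sub_eq_zero.1 ((smul_eq_zero.1 this).resolve_right (hv0 _))
        rw [mem_fixS, ← hz, hroot z h2, one_smul]
      have hall : ∀ i : ℕ, (f ^ i) (v j₀) = v j₀ := fun i => by
        induction i with
        | zero => simp
        | succ i ih => rw [pow_succ, Module.End.mul_apply, mem_fixS.1 hne, ih]
      simp only [hall, Finset.sum_const, Finset.card_univ, Fintype.card_fin] at h0
      rw [← Nat.cast_smul_eq_nsmul F, smul_eq_zero] at h0
      exact h0.elim hr (hv0 _)
    · rw [Finset.sum_eq_single (⟨0, hr'.out.pos⟩ : Fin r) (fun i _ hne => if_neg fun e => hne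
        (orbit_injective hσ hd ha hi hf hj (by simpa using e)))
        (fun h => absurd (Finset.mem_univ _) h)] at hz
      simp only [pow_zero, Equiv.Perm.one_apply, if_true, Module.End.one_apply, smul_eq_zero] at hz
      exact hz.resolve_right (hv0 _)
  have h1 := finrank_span_eq_card hli
  rw [Fintype.card_coe] at h1
  have h2 : finrank F (Submodule.span F (Set.range g)) ≤ finrank F (fixS f) :=
    Submodule.finrank_mono (Submodule.span_le.2 (by
      rintro _ ⟨j, rfl⟩; exact trace_mem_fix hσ hd ha hi hf _))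
  rw [Nat.mul_comm]
  exact hcard.trans (Nat.mul_le_mul_right r (by omega))

end CfsgLib.Elusive
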