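import Cfsg.Agent.Elusive.Orbits
import Cfsg.Prelude.Def_GeometricClasses

/-! Building decompositions stabilised by elements of odd prime order, and counting decompositions. -/

set_option autoImplicit false
set_option linter.unusedSectionVars false

namespace CfsgLib.Elusive

open Module

variable {F V : Type*} [Field F] [Fintype F] [AddCommGroup V] [Module F V] [FiniteDimensional F V]
variable {f : V →ₗ[F] V} {a t r : ℕ} [hr' : Fact r.Prime]

theorem injective_of_pow (hf : f ^ r = 1) : Function.Injective f := fun y z e => by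
  have hrr : r = (r - 1) + 1 := by have := hr'.out.one_lt; omega
  have h2 := LinearMap.congr_fun hf y
  have h3 := LinearMap.congr_fun hf z
  rw [hrr, pow_succ, Module.End.mul_apply, Module.End.one_apply] at h2 h3
  rw [← h2, ← h3, e]

/-- All summands invariant. -/
theorem splits_fixed (hf : f ^ r = 1) (hr : (r : F) ≠ 0) {c : ℕ}
    (hc : c = orderOf ((Fintype.card F : ℕ) : ZMod r)) (hc0 : 0 < c) (ha : 0 < a)
    (hn : finrank F V = a * t) (hfix : t * (a % c) ≤ finrank F (fixS f)) : Splits f a ⊤ t := by
  refine splits_of_single (injective_of_pow hf)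
    (fun T => finrank F T / a * (a % c) ≤ finrank F ↥(T ⊓ fixS f)) (fun T hP hT hle hpos => ?_) t ⊤ ?_
    (Inv.top f) (by rw [finrank_top, hn]) ha
  · have hs := dim_split (f := f) T
    obtain ⟨w, hw⟩ := hc ▸ mov_dvd hf hr hT
    have hdm := Nat.div_add_mod' a c
    have hone : 1 * (a % c) ≤ finrank F T / a * (a % c) :=
      Nat.mul_le_mul_right _ ((Nat.one_le_div_iff ha).2 hle)
    have hj : min (a / c) w * c ≤ finrank F (T.map (f - 1)) := by
      rw [hw, Nat.mul_comm c w]
      exact Nat.mul_le_mul_right c (min_le_right _ _)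
    have hja : min (a / c) w * c ≤ a / c * c := Nat.mul_le_mul_right c (min_le_left _ _)
    have hcase : a - min (a / c) w * c ≤ finrank F ↥(T ⊓ fixS f) ∧
        (a - min (a / c) w * c = a % c ∨ min (a / c) w * c = finrank F (T.map (f - 1))) := by
      rcases Nat.lt_or_ge w (a / c) with h | h
      · rw [min_eq_right h.le]
        have : w * c = finrank F (T.map (f - 1)) := by rw [hw, Nat.mul_comm]
        exact ⟨by omega, Or.inr this⟩
      · rw [min_eq_left h]
        exact ⟨by omega, Or.inl (by omega)⟩
    obtain ⟨U, hU, hUT, hUd, hUC⟩ := exists_dim hf hr hT hc hc0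
      (a := a - min (a / c) w * c) (j := min (a / c) w) hcase.1 hj
    obtain ⟨W, hW, hcW⟩ := exists_compl (isSemisimple hf hr) hU
    obtain ⟨h1, h2⟩ := compl_inside hcW hUT
    refine ⟨U, W ⊓ T, hU, hW.inf hT, h1, h2, by omega, ?_⟩
    obtain ⟨hde, hdd⟩ := split_dims hf hU (hW.inf hT) h1 h2
    have hTd := dim_compl h1 h2
    have hUs := dim_split (f := f) U
    have hWs := dim_split (f := f) (W ⊓ T)
    obtain ⟨w', hw'⟩ := hc ▸ mov_dvd hf hr (hW.inf hT)
    have hq : finrank F ↥(W ⊓ T) / a + 1 = finrank F T / a := by
      rw [hTd, show finrank F U = a by omega, Nat.add_comm a, Nat.add_div_right _ ha]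
    rw [← hq, Nat.add_mul, Nat.one_mul] at hP
    rcases hcase.2 with h | h
    · omega
    · have : finrank F ↥(W ⊓ T) / a * (a % c) ≤ finrank F ↥(W ⊓ T) :=
        (Nat.mul_le_mul_left _ (Nat.mod_le a c)).trans (Nat.div_mul_le_self _ _)
      omega
  · rw [finrank_top, hn, Nat.mul_div_cancel_left t ha, top_inf_eq]
    exact hfix

/-- Lines with orbits of length `r`. -/
theorem splits_orbits (hf : f ^ r = 1) (hr : (r : F) ≠ 0) {c : ℕ}
    (hc : c = orderOf ((Fintype.card F : ℕ) : ZMod r)) (hcr : c = r - 1) :
    ∀ (n : ℕ) (T : Submodule F V), finrank F T = n → Inv f T →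
      finrank F (T.map (f - 1)) ≤ c * finrank F ↥(T ⊓ fixS f) → Splits f 1 T n := by
  have hr2 := hr'.out.two_le
  have hc0 : 0 < c := by omega
  intro n
  induction n using Nat.strong_induction_on with
  | _ n ih =>
    intro T hd hT hP
    have hs := dim_split (f := f) T
    rcases Nat.eq_zero_or_pos n with rfl | hn
    · rw [Submodule.finrank_eq_zero.1 hd]; exact Splits.zero
    by_cases hmov : finrank F (T.map (f - 1)) = 0
    · obtain ⟨U, hU, hUT, hUd, -⟩ := exists_dim hf hr hT hc hc0 (a := 1) (j := 0) (by omega) (by omega)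
      obtain ⟨W, hW, hcW⟩ := exists_compl (isSemisimple hf hr) hU
      obtain ⟨h1, h2⟩ := compl_inside hcW hUT
      obtain ⟨hde, hdd⟩ := split_dims hf hU (hW.inf hT) h1 h2
      have hTd := dim_compl h1 h2
      have h := (Splits.single (f := f) (a := 1) (show finrank F U = 1 by omega)
        (map_eq_of_inv (injective_of_pow hf) hU)).append
        (ih (n - 1) (by omega) (W ⊓ T) (by omega) (hW.inf hT)
          (by rw [show finrank F ((W ⊓ T).map (f - 1)) = 0 by omega]; exact Nat.zero_le _))
      rwa [h1, show 1 + (n - 1) = n by omega] at h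
    · have hfpos : 0 < finrank F ↥(T ⊓ fixS f) := Nat.pos_of_ne_zero fun e => by
        rw [e, Nat.mul_zero] at hP; omega
      obtain ⟨w', hw'⟩ := hc ▸ mov_dvd hf hr hT
      have hge : 1 * c ≤ finrank F (T.map (f - 1)) := by
        rw [Nat.one_mul, hw']
        exact Nat.le_mul_of_pos_right c (Nat.pos_of_ne_zero fun e => hmov (by rw [hw', e, Nat.mul_zero]))
      obtain ⟨U, hU, hUT, hUd, hUC⟩ := exists_dim hf hr hT hc hc0 (a := 0) (j := 1) (Nat.zero_le _) hge
      have hUbot : U ⊓ fixS f = ⊥ := Submodule.finrank_eq_zero.1 hUC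
      obtain ⟨u, huU, hu0⟩ := U.exists_mem_ne_zero_of_ne_bot fun h => by
        rw [h, finrank_bot] at hUd; omega
      obtain ⟨w, hw, hw0⟩ := (T ⊓ fixS f).exists_mem_ne_zero_of_ne_bot fun h => by
        rw [h, finrank_bot] at hfpos; omega
      have hwfix := mem_fixS.1 hw.2
      have hpw : ∀ k : ℕ, (f ^ k) w = w := fun k => by
        induction k with
        | zero => simp
        | succ k ih => rw [pow_succ, Module.End.mul_apply, hwfix, ih]
      let v := u + w
      let D : Fin r → Submodule F V := fun i => Submodule.span F {(f ^ (i : ℕ)) v}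
      have hfinj : ∀ k : ℕ, Function.Injective (f ^ k) := fun k => by
        rw [Module.End.coe_pow]; exact (injective_of_pow hf).iterate k
      have hv0 : v ≠ 0 := fun e => hu0 (by
        have : u ∈ U ⊓ fixS f := ⟨huU, mem_fixS.2 (by
          rw [show u = -w from eq_neg_of_add_eq_zero_left e, map_neg, hwfix])⟩
        rwa [hUbot, Submodule.mem_bot] at this)
      have hDd : ∀ i, finrank F (D i) = 1 := fun i =>
        finrank_span_singleton fun e => hv0 (hfinj _ (e.trans (map_zero _).symm))
      have hmap : ∀ i, (D i).map f = D (finRotate r i) := by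
        intro i
        simp only [D, Submodule.map_span, Set.image_singleton]
        rw [← Module.End.mul_apply, ← pow_succ']
        congr 3
        obtain ⟨r', rfl⟩ : ∃ r', r = r' + 1 := ⟨r - 1, by omega⟩
        rw [coe_finRotate]
        split
        · rename_i h
          subst h
          simp only [Fin.val_last, hf, pow_zero]
        · rfl
      have hfw : f w = w := hwfix
      set X := U ⊔ Submodule.span F {w} with hXdef
      have hXinv : Inv f X := hU.sup fun y hy => by
        obtain ⟨z, rfl⟩ := Submodule.mem_span_singleton.1 hy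
        rw [map_smul, hfw]; exact Submodule.smul_mem _ _ (Submodule.mem_span_singleton_self w)
      have hXT : X ≤ T := sup_le hUT ((Submodule.span_singleton_le_iff_mem _ _).2 hw.1)
      have hUw : U ⊓ Submodule.span F {w} = ⊥ := (Submodule.eq_bot_iff _).2 fun y hy => by
        obtain ⟨z, rfl⟩ := Submodule.mem_span_singleton.1 hy.2
        have : z • w ∈ U ⊓ fixS f := ⟨hy.1, (fixS f).smul_mem z hw.2⟩
        rwa [hUbot, Submodule.mem_bot] at this
      have hXd : finrank F X = r := by
        have := dim_compl (T := X) rfl hUw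
        rw [finrank_span_singleton hw0, hUd] at this
        omega
      have hDX : iSup D = X := by
        refine le_antisymm (iSup_le fun i => (Submodule.span_singleton_le_iff_mem _ _).2
          (hXinv.pow _ v (Submodule.add_mem_sup huU (Submodule.mem_span_singleton_self w)))) ?_
        have hsumU : ∑ i : Fin r, (f ^ (i : ℕ)) u = 0 := by
          have h1 : ∑ i : Fin r, (f ^ (i : ℕ)) u ∈ U ⊓ fixS f :=
            ⟨Submodule.sum_mem _ fun i _ => hU.pow _ u huU, by
              rw [SetLike.mem_coe, mem_fixS, map_sum, Fin.sum_univ_eq_sum_range (fun i => f ((f ^ i) u)),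
                Fin.sum_univ_eq_sum_range (fun i => (f ^ i) u)]
              have h1 := Finset.sum_range_succ' (fun i => (f ^ i) u) r
              have h2 := Finset.sum_range_succ (fun i => (f ^ i) u) r
              rw [hf] at h2
              simp only [pow_succ', Module.End.mul_apply, pow_zero, Module.End.one_apply] at h1 h2
              rw [h2] at h1
              exact (add_right_cancel h1).symm⟩
          rwa [hUbot, Submodule.mem_bot] at h1
        have hwD : w ∈ iSup D := by
          have h1 : (r : F) • w ∈ iSup D := by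
            have : (r : F) • w = ∑ i : Fin r, (f ^ (i : ℕ)) v := by
              simp only [v, map_add, hpw, Finset.sum_add_distrib, hsumU, zero_add, Finset.sum_const,
                Finset.card_univ, Fintype.card_fin, Nat.cast_smul_eq_nsmul]
            rw [this]
            exact Submodule.sum_mem _ fun i _ =>
              Submodule.mem_iSup_of_mem i (Submodule.mem_span_singleton_self _)
          have := (iSup D).smul_mem (r : F)⁻¹ h1
          rwa [smul_smul, inv_mul_cancel₀ hr, one_smul] at this
        refine sup_le ?_ ((Submodule.span_singleton_le_iff_mem _ _).2 hwD)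
        have hinv : Inv f (iSup D) := inv_iff.2 (by
          rw [Submodule.map_iSup]
          exact iSup_le fun i => (hmap i).le.trans (le_iSup D _))
        have huD : u ∈ U ⊓ iSup D := ⟨huU, by
          have h0 : v ∈ iSup D := Submodule.mem_iSup_of_mem (⟨0, hr'.out.pos⟩ : Fin r) (by
            simpa [D] using Submodule.mem_span_singleton_self v)
          have := (iSup D).sub_mem h0 hwD
          simpa [v] using this⟩
        have hIinv : Inv f (U ⊓ iSup D) := hU.inf hinv
        obtain ⟨z, hz⟩ := hc ▸ fpf_dvd hf hIinv (le_bot_iff.1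
          ((inf_le_inf_right _ inf_le_left).trans hUbot.le))
        have hne : finrank F ↥(U ⊓ iSup D) ≠ 0 := fun e => hu0 (by
          rw [Submodule.finrank_eq_zero.1 e] at huD; exact (Submodule.mem_bot F).1 huD)
        have heq : U ⊓ iSup D = U := Submodule.eq_of_le_of_finrank_le inf_le_left (by
          rw [hUd, hz]
          have : 0 < z := Nat.pos_of_ne_zero fun e => hne (by rw [hz, e, Nat.mul_zero])
          have := Nat.le_mul_of_pos_right c this
          omega)
        exact heq ▸ inf_le_right
      obtain ⟨W, hW, hcW⟩ := exists_compl (isSemisimple hf hr) hXinv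
      obtain ⟨h1, h2⟩ := compl_inside hcW hXT
      obtain ⟨hde, hdd⟩ := split_dims hf hXinv (hW.inf hT) h1 h2
      have hTd := dim_compl h1 h2
      obtain ⟨hXe, hXm⟩ : finrank F ↥(X ⊓ fixS f) = 1 ∧ finrank F (X.map (f - 1)) = c := by
        obtain ⟨hxe, hxm⟩ := split_dims (T := X) hf hU (fun y hy => by
          obtain ⟨z, rfl⟩ := Submodule.mem_span_singleton.1 hy
          rw [map_smul, hfw]; exact Submodule.smul_mem _ _ (Submodule.mem_span_singleton_self w))
          (rfl : U ⊔ Submodule.span F {w} = X) hUw
        have hUs := dim_split (f := f) U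
        have hXs := dim_split (f := f) X
        have hws : Submodule.span F {w} ⊓ fixS f = Submodule.span F {w} :=
          inf_eq_left.2 ((Submodule.span_singleton_le_iff_mem _ _).2 hw.2)
        rw [hws, finrank_span_singleton hw0, hUC] at hxe
        have hwd := dim_split (f := f) (Submodule.span F {w})
        rw [hws] at hwd
        omega
      have h := (Splits.cycle (f := f) (a := 1) hDd hmap).append
        (ih (n - r) (by omega) (W ⊓ T) (by omega) (hW.inf hT) (by
          rw [hde, hdd, hXe, hXm, Nat.mul_add, Nat.mul_one] at hP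
          omega))
      rwa [hDX, h1, show r + (n - r) = n by omega] at h

/-- Case of a scalar `r`-th power which is not an `r`-th power. -/
theorem splits_kummer_prime {z : F} (hf : f ^ r = z • 1) (hz : ∀ y : F, y ^ r ≠ z) (hr : (r : F) ≠ 0)
    (ha : 0 < a) (hn : finrank F V = a * t) : Splits f a ⊤ t := by
  have hr2 := hr'.out.two_le
  have hz0 : z ≠ 0 := fun e => hz 0 (by rw [e, zero_pow hr'.out.ne_zero])
  have hss := semisimple_of_pow_eq_smul hf hr hz0
  have hrpow : ∀ v, (f ^ r) v = z • v := fun v => by rw [hf]; rfl
  have hinj : Function.Injective f := fun v w e => by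
    refine smul_right_injective V hz0 ?_
    simp only [← hrpow]
    rw [show r = (r - 1) + 1 by omega, pow_succ, Module.End.mul_apply, Module.End.mul_apply, e]
  have hpick : ∀ {m : ℕ} {T : Submodule F V}, Inv f T → r ∣ m → m ≤ finrank F T →
      ∃ U, Inv f U ∧ U ≤ T ∧ finrank F U = m := by
    rintro _ T hT ⟨j, rfl⟩ hm
    obtain ⟨U, hU, -, hUT, hUd⟩ := greedy (f := f) (i := r) [Polynomial.X ^ r - Polynomial.C z]
      (fun P hP => by
        rw [List.mem_singleton] at hP; subst hP
        exact ⟨Polynomial.monic_X_pow_sub_C z hr'.out.ne_zero, Polynomial.natDegree_X_pow_sub_C.le⟩)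
      (Inv.bot f) hT bot_le
      (fun u _ => by
        rw [List.prod_singleton, map_sub, map_pow, Polynomial.aeval_X, Polynomial.aeval_C, hf,
          Algebra.algebraMap_eq_smul_one, sub_self, LinearMap.zero_apply]
        exact Submodule.zero_mem _)
      (fun X hX _ _ => by rw [finrank_bot, Nat.sub_zero]; exact kum_dvd hf hz hX) j
      (by rw [finrank_bot, Nat.mul_comm]; omega)
    exact ⟨U, hU, hUT, by rw [hUd, finrank_bot, Nat.mul_comm]; omega⟩
  by_cases hra : r ∣ a
  · refine splits_of_single hinj (fun _ => True) (fun T _ hT hle _ => ?_) t ⊤ trivial (Inv.top f)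
      (by rw [finrank_top, hn]) ha
    obtain ⟨U, hU, hUT, hUd⟩ := hpick hT hra hle
    obtain ⟨W, hW, hcW⟩ := exists_compl hss hU
    obtain ⟨h1, h2⟩ := compl_inside hcW hUT
    exact ⟨U, W ⊓ T, hU, hW.inf hT, h1, h2, hUd, trivial⟩
  have htop := kum_dvd hf hz (Inv.top f)
  rw [finrank_top, hn] at htop
  obtain ⟨s, rfl⟩ := (hr'.out.dvd_mul.1 htop).resolve_left hra
  suffices h : ∀ (s : ℕ) (T : Submodule F V), Inv f T → finrank F T = r * a * s → Splits f a T (r * s) from
    h s ⊤ (Inv.top f) (by rw [finrank_top, hn]; ring)
  intro s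
  induction s with
  | zero =>
    intro T _ hd
    rw [Nat.mul_zero] at hd
    rw [Submodule.finrank_eq_zero.1 hd]
    exact Splits.zero
  | succ s ih =>
    intro T hT hd
    rw [Nat.mul_add, Nat.mul_one] at hd
    obtain ⟨X, hX, hXT, hXd⟩ := hpick hT (m := r * a) (dvd_mul_right r a) (by omega)
    let orbS : Submodule F V → Submodule F V := fun U => ⨆ i : Fin r, U.map (f ^ (i : ℕ))
    have hdimS : ∀ U : Submodule F V, finrank F (orbS U) ≤ r * finrank F U := by
      intro U
      have key : ∀ s : Finset (Fin r), finrank F ↥(s.sup fun i : Fin r => U.map (f ^ (i : ℕ))) ≤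
          s.card * finrank F U := by
        intro s
        induction s using Finset.induction_on with
        | empty => simp
        | insert b s hb ih =>
          rw [Finset.sup_insert, Finset.card_insert_of_notMem hb, Nat.add_mul, Nat.one_mul]
          have := Submodule.finrank_add_le_finrank_add_finrank (U.map (f ^ (b : ℕ)))
            (s.sup fun i : Fin r => U.map (f ^ (i : ℕ)))
          have := Submodule.finrank_map_le (f ^ (b : ℕ)) U
          omega
      have := key Finset.univ
      rw [Finset.card_univ, Fintype.card_fin, Finset.sup_univ_eq_iSup] at this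
      exact this
    have hinvS : ∀ U : Submodule F V, Inv f (orbS U) := fun U => inv_iff.2 (by
      rw [Submodule.map_iSup]
      refine iSup_le fun i => ?_
      rw [← Submodule.map_comp, ← Module.End.mul_eq_comp, ← pow_succ']
      rcases Nat.lt_or_ge ((i : ℕ) + 1) r with h | h
      · exact le_iSup (fun i : Fin r => U.map (f ^ (i : ℕ))) ⟨(i : ℕ) + 1, h⟩
      · rw [show (i : ℕ) + 1 = r by omega]
        refine le_trans ?_ (le_iSup (fun i : Fin r => U.map (f ^ (i : ℕ))) ⟨0, by omega⟩)
        rintro _ ⟨u, hu, rfl⟩
        exact ⟨z • u, U.smul_mem z hu, by rw [hrpow]; simp⟩)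
    have hleS : ∀ U, U ≤ orbS U := fun U => by
      refine le_trans ?_ (le_iSup (fun i : Fin r => U.map (f ^ (i : ℕ))) ⟨0, by omega⟩)
      intro u hu
      exact ⟨u, hu, by simp⟩
    have hSX : ∀ U ≤ X, orbS U ≤ X := fun U hU => iSup_le fun i => by
      rintro _ ⟨u, hu, rfl⟩
      exact hX.pow _ u (hU hu)
    have grow : ∀ k ≤ a, ∃ U : Submodule F V, U ≤ X ∧ finrank F U = k ∧ finrank F (orbS U) = r * k := by
      intro k
      induction k with
      | zero => exact fun _ => ⟨⊥, bot_le, finrank_bot F V, by
          have := hdimS ⊥; rw [finrank_bot] at this; omega⟩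
      | succ k ih =>
        intro hk
        obtain ⟨U, hUX, hUd, hY⟩ := ih (by omega)
        have hlt : r * k < r * a := Nat.mul_lt_mul_of_pos_left (by omega) hr'.out.pos
        obtain ⟨v, hvX, hvY⟩ := SetLike.exists_of_lt
          (lt_of_le_of_ne (hSX U hUX) fun e => by rw [e, hXd] at hY; omega)
        have hvspan : finrank F (Submodule.span F ({v} : Set V)) ≤ 1 := by
          have := finrank_span_le_card (R := F) ({v} : Set V)
          simpa using this
        have hU'd : finrank F ↥(U ⊔ Submodule.span F {v}) ≤ k + 1 := by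
          have := Submodule.finrank_add_le_finrank_add_finrank U (Submodule.span F {v})
          omega
        have hlt' : finrank F (orbS U) < finrank F (orbS (U ⊔ Submodule.span F {v})) := by
          refine Submodule.finrank_lt_finrank_of_lt (lt_of_le_of_ne
            (iSup_mono fun i => Submodule.map_mono le_sup_left) fun e => hvY ?_)
          rw [e]
          exact hleS _ (Submodule.mem_sup_right (Submodule.mem_span_singleton_self v))
        obtain ⟨w, hw⟩ := kum_dvd hf hz (hinvS (U ⊔ Submodule.span F {v}))
        have hub := hdimS (U ⊔ Submodule.span F {v})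
        rw [hY, hw] at hlt'
        rw [hw] at hub
        have h1 : k < w := Nat.lt_of_mul_lt_mul_left hlt'
        have h2 : w ≤ finrank F ↥(U ⊔ Submodule.span F {v}) := Nat.le_of_mul_le_mul_left hub hr'.out.pos
        exact ⟨U ⊔ Submodule.span F {v}, sup_le hUX ((Submodule.span_singleton_le_iff_mem _ _).2 hvX),
          by omega, by rw [hw, show w = k + 1 by omega]⟩
    obtain ⟨U, hUX, hUd, hY⟩ := grow a le_rfl
    have hYX : orbS U = X := Submodule.eq_of_le_of_finrank_eq (hSX U hUX) (by rw [hY, hXd])
    have hfinj : ∀ i : ℕ, Function.Injective (f ^ i) := fun i => by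
      rw [Module.End.coe_pow]; exact hinj.iterate i
    have hDd : ∀ i : Fin r, finrank F (U.map (f ^ (i : ℕ))) = a := fun i => by
      rw [← (Submodule.equivMapOfInjective _ (hfinj _) U).finrank_eq, hUd]
    have hmap : ∀ i : Fin r, (U.map (f ^ (i : ℕ))).map f = U.map (f ^ (finRotate r i : ℕ)) := by
      intro i
      rw [← Submodule.map_comp, ← Module.End.mul_eq_comp, ← pow_succ']
      obtain ⟨r', rfl⟩ : ∃ r', r = r' + 1 := ⟨r - 1, by omega⟩
      rw [coe_finRotate]
      split
      · rename_i h
        subst h
        simp only [Fin.val_last, pow_zero, Submodule.map_id, Module.End.one_eq_id]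
        refine le_antisymm ?_ fun u hu => ⟨z⁻¹ • u, U.smul_mem _ hu, ?_⟩
        · rintro _ ⟨u, hu, rfl⟩
          rw [hrpow]; exact U.smul_mem z hu
        · rw [hrpow, smul_smul, mul_inv_cancel₀ hz0, one_smul]
      · rfl
    obtain ⟨W, hW, hcW⟩ := exists_compl hss hX
    obtain ⟨h1, h2⟩ := compl_inside hcW hXT
    have hTd := dim_compl h1 h2
    have h := (Splits.cycle (f := f) (a := a) hDd hmap).append (ih (W ⊓ T) (hW.inf hT) (by omega))
    rwa [show (⨆ i : Fin r, U.map (f ^ (i : ℕ))) = X from hYX, h1,
      show r + r * s = r * (s + 1) by ring] at h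

end CfsgLib.Elusive
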