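import Cfsg.Agent.Elusive.OrthUnipotent
import Cfsg.Agent.QuadStd.DiscStd
import Mathlib.Algebra.BigOperators.Fin
import Mathlib.Algebra.CharP.Lemmas

/-! Unipotent isometries with prescribed Jordan blocks in odd characteristic. -/

set_option autoImplicit false

namespace CfsgLib.Elusive.OrthModel

open Module QuadraticMap CfsgLib.Quad CfsgLib.QuadStd

variable {F : Type*} [Field F] (p : ℕ) (μ : Multiset ℕ)

/-- The coordinates: block size, block number, position. -/
abbrev Idx : Type := Σ e : Fin (p + 1), Fin (μ.count (e : ℕ)) × Fin (e : ℕ)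

/-- Blocks of even size are paired. -/
def sig (e : ℕ) {k : ℕ} (a : Fin k) : Fin k := if Odd e then a else a.rev

/-- The partner of a coordinate. -/
def tau (s : Idx p μ) : Idx p μ := ⟨s.1, (sig (s.1 : ℕ) s.2.1, s.2.2.rev)⟩

/-- The coefficient of a coordinate, with free parameters on the blocks of odd size. -/
def wt (d : (Σ e : Fin (p + 1), Fin (μ.count (e : ℕ))) → F) (s : Idx p μ) : F :=
  (if Odd (s.1 : ℕ) then d ⟨s.1, s.2.1⟩ else if 2 * (s.2.1 : ℕ) < μ.count (s.1 : ℕ) then 1 else -1) *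
    (-1) ^ (s.2.2 : ℕ)

theorem tau_tau (s : Idx p μ) : tau p μ (tau p μ s) = s := by
  obtain ⟨e, a, i⟩ := s
  simp only [tau, sig]
  split <;> simp

/-- The coordinates as a permutation. -/
def tauEquiv : Idx p μ ≃ Idx p μ := ⟨tau p μ, tau p μ, tau_tau p μ, tau_tau p μ⟩

theorem wt_tau (hev : ∀ e : ℕ, Even e → Even (μ.count e))
    (d : (Σ e : Fin (p + 1), Fin (μ.count (e : ℕ))) → F) (s : Idx p μ) :
    wt p μ d (tau p μ s) = wt p μ d s := by
  obtain ⟨e, a, i⟩ := s
  have hi := i.isLt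
  have hsgn : (-1 : F) ^ ((i.rev : Fin _) : ℕ) * (-1) ^ (i : ℕ) = (-1) ^ ((e : ℕ) + 1) := by
    rw [← pow_add, Fin.val_rev, show (e : ℕ) - ((i : ℕ) + 1) + (i : ℕ) = (e : ℕ) - 1 by omega,
      show (e : ℕ) + 1 = (e : ℕ) - 1 + 2 by omega, pow_add]
    simp
  have hsq : (-1 : F) ^ (i : ℕ) * (-1) ^ (i : ℕ) = 1 := by rw [← pow_add, Even.neg_one_pow ⟨_, rfl⟩]
  simp only [wt, tau, sig]
  by_cases he : Odd (e : ℕ)
  · rw [if_pos he, if_pos he, if_pos he]
    rw [he.add_one.neg_one_pow] at hsgn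
    linear_combination (d ⟨e, a⟩ * (-1) ^ (i : ℕ)) * hsgn - (d ⟨e, a⟩ * (-1) ^ ((i.rev : Fin _) : ℕ)) * hsq
  · rw [if_neg he, if_neg he, if_neg he]
    have hee := Nat.not_odd_iff_even.1 he
    rw [hee.add_one.neg_one_pow] at hsgn
    have ha := a.isLt
    obtain ⟨c, hc⟩ := hev _ hee
    have hflip : (2 * ((a.rev : Fin _) : ℕ) < μ.count (e : ℕ)) ↔ ¬ 2 * (a : ℕ) < μ.count (e : ℕ) := by
      rw [Fin.val_rev]; omega
    by_cases hlt : 2 * (a : ℕ) < μ.count (e : ℕ)
    · rw [if_neg fun h => hflip.1 h hlt, if_pos hlt]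
      linear_combination (-(-1 : F) ^ (i : ℕ)) * (hsgn) + ((-1 : F) ^ ((i.rev : Fin _) : ℕ)) * hsq
    · rw [if_pos (hflip.2 hlt), if_neg hlt]
      linear_combination ((-1 : F) ^ (i : ℕ)) * (hsgn) - ((-1 : F) ^ ((i.rev : Fin _) : ℕ)) * hsq

/-- The bilinear form. -/
def form (d : (Σ e : Fin (p + 1), Fin (μ.count (e : ℕ))) → F) : LinearMap.BilinForm F (Idx p μ → F) :=
  LinearMap.mk₂ F (fun x y => ∑ s, wt p μ d s * x s * y (tau p μ s))
    (fun x x' y => by simp only [Pi.add_apply, ← Finset.sum_add_distrib]; congr 1; funext s; ring)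
    (fun c x y => by simp only [Pi.smul_apply, smul_eq_mul, Finset.mul_sum]; congr 1; funext s; ring)
    (fun x y y' => by simp only [Pi.add_apply, ← Finset.sum_add_distrib]; congr 1; funext s; ring)
    (fun c x y => by simp only [Pi.smul_apply, smul_eq_mul, Finset.mul_sum]; congr 1; funext s; ring)

theorem form_apply (d : (Σ e : Fin (p + 1), Fin (μ.count (e : ℕ))) → F) (x y : Idx p μ → F) :
    form p μ d x y = ∑ s, wt p μ d s * x s * y (tau p μ s) := rfl

theorem form_symm (hev : ∀ e : ℕ, Even e → Even (μ.count e))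
    (d : (Σ e : Fin (p + 1), Fin (μ.count (e : ℕ))) → F) (x y : Idx p μ → F) :
    form p μ d x y = form p μ d y x := by
  rw [form_apply, form_apply]
  refine Fintype.sum_equiv (tauEquiv p μ) _ _ fun s => ?_
  show _ = wt p μ d (tau p μ s) * y (tau p μ s) * x (tau p μ (tau p μ s))
  rw [tau_tau, wt_tau p μ hev]
  ring

/-- The quadratic form. -/
def quad (d : (Σ e : Fin (p + 1), Fin (μ.count (e : ℕ))) → F) : QuadraticForm F (Idx p μ → F) :=
  LinearMap.BilinMap.toQuadraticMap (form p μ d)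

theorem polar_quad (hev : ∀ e : ℕ, Even e → Even (μ.count e))
    (d : (Σ e : Fin (p + 1), Fin (μ.count (e : ℕ))) → F) (x y : Idx p μ → F) :
    polar (quad p μ d) x y = 2 * form p μ d x y := by
  rw [quad, LinearMap.BilinMap.polar_toQuadraticMap, form_symm p μ hev d y x, two_mul]

theorem polar_single (hev : ∀ e : ℕ, Even e → Even (μ.count e))
    (d : (Σ e : Fin (p + 1), Fin (μ.count (e : ℕ))) → F) (s : Idx p μ) (y : Idx p μ → F) :
    polar (quad p μ d) (Pi.single s 1) y = 2 * wt p μ d s * y (tau p μ s) := by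
  rw [polar_quad p μ hev, form_apply, Finset.sum_eq_single s (fun t _ ht => by simp [ht])
    (fun h => absurd (Finset.mem_univ _) h), Pi.single_eq_same, mul_one, mul_assoc]

theorem wt_ne_zero {d : (Σ e : Fin (p + 1), Fin (μ.count (e : ℕ))) → F} (hd : ∀ b, d b ≠ 0)
    (s : Idx p μ) : wt p μ d s ≠ 0 := by
  refine mul_ne_zero ?_ (pow_ne_zero _ (neg_ne_zero.2 one_ne_zero))
  split
  · exact hd _
  · split <;> simp

theorem nondeg_quad (h2 : (2 : F) ≠ 0) (hev : ∀ e : ℕ, Even e → Even (μ.count e))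
    {d : (Σ e : Fin (p + 1), Fin (μ.count (e : ℕ))) → F} (hd : ∀ b, d b ≠ 0) :
    (polarBilin (quad p μ d)).Nondegenerate := by
  classical
  have key : ∀ x, (∀ y, polar (quad p μ d) y x = 0) → x = 0 := fun x hx => funext fun s => by
    have h := hx (Pi.single (tau p μ s) 1)
    rw [polar_single p μ hev, tau_tau] at h
    simpa [h2, wt_ne_zero p μ hd] using h
  exact ⟨fun x hx => key x fun y => (polar_comm _ _ _).trans (hx y), fun x hx => key x hx⟩

/-- The shift inside the blocks. -/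
def shift : (Idx p μ → F) →ₗ[F] (Idx p μ → F) where
  toFun x s := if h : (s.2.2 : ℕ) + 1 < (s.1 : ℕ) then x ⟨s.1, (s.2.1, ⟨(s.2.2 : ℕ) + 1, h⟩)⟩ else 0
  map_add' x y := funext fun s => by simp only [Pi.add_apply]; split <;> simp
  map_smul' c x := funext fun s => by simp only [Pi.smul_apply, RingHom.id_apply]; split <;> simp

theorem shift_skew (d : (Σ e : Fin (p + 1), Fin (μ.count (e : ℕ))) → F) (x y : Idx p μ → F) :
    form p μ d (shift p μ x) y + form p μ d x (shift p μ y) = 0 := by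
  classical
  rw [form_apply, form_apply, ← Finset.sum_add_distrib, Fintype.sum_sigma]
  refine Finset.sum_eq_zero fun e _ => ?_
  rw [Fintype.sum_prod_type]
  refine Finset.sum_eq_zero fun a _ => ?_
  rcases Nat.eq_zero_or_pos (e : ℕ) with he | he
  · exact Finset.sum_eq_zero fun i _ => absurd i.isLt (by omega)
  obtain ⟨k, hk⟩ : ∃ k, (e : ℕ) = k + 1 := ⟨(e : ℕ) - 1, by omega⟩
  set C : F := if Odd (e : ℕ) then d ⟨e, a⟩ else if 2 * (a : ℕ) < μ.count (e : ℕ) then 1 else -1 with hC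
  let X : ℕ → F := fun i => if h : i < (e : ℕ) then x ⟨e, (a, ⟨i, h⟩)⟩ else 0
  let Y : ℕ → F := fun i => if h : i < (e : ℕ) then y ⟨e, (sig (e : ℕ) a, ⟨i, h⟩)⟩ else 0
  rw [Finset.sum_add_distrib]
  have h1 : (∑ i : Fin (e : ℕ), wt p μ d ⟨e, (a, i)⟩ * shift p μ x ⟨e, (a, i)⟩ * y (tau p μ ⟨e, (a, i)⟩)) =
      ∑ i ∈ Finset.range k, C * (-1) ^ i * (X (i + 1) * Y (k - i)) := by
    rw [show Finset.sum (Finset.range k) (fun i => C * (-1) ^ i * (X (i + 1) * Y (k - i))) =
      ∑ i ∈ Finset.range (e : ℕ), (if i + 1 < (e : ℕ) then C * (-1) ^ i * (X (i + 1) * Y (k - i)) else 0) by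
      rw [hk, Finset.sum_range_succ, if_neg (by omega), add_zero]
      exact Finset.sum_congr rfl fun i hi => (if_pos (by have := Finset.mem_range.1 hi; omega)).symm,
      ← Fin.sum_univ_eq_sum_range]
    refine Finset.sum_congr rfl fun i _ => ?_
    by_cases h : (i : ℕ) + 1 < (e : ℕ)
    · simp only [shift, LinearMap.coe_mk, AddHom.coe_mk, dif_pos h, if_pos h, wt, tau, X, Y,
        dif_pos (show k - (i : ℕ) < (e : ℕ) by omega), ← hC]
      rw [show (i.rev : Fin (e : ℕ)) = ⟨k - (i : ℕ), by omega⟩ from Fin.ext (by simp only [Fin.val_rev]; omega)]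
      ring
    · simp only [shift, LinearMap.coe_mk, AddHom.coe_mk, dif_neg h, if_neg h]
      ring
  have h3 : (∑ i : Fin (e : ℕ), wt p μ d ⟨e, (a, i)⟩ * x ⟨e, (a, i)⟩ * shift p μ y (tau p μ ⟨e, (a, i)⟩)) =
      ∑ i ∈ Finset.range k, C * (-1) ^ (i + 1) * (X (i + 1) * Y (k - i)) := by
    rw [show Finset.sum (Finset.range k) (fun i => C * (-1) ^ (i + 1) * (X (i + 1) * Y (k - i))) =
      ∑ i ∈ Finset.range (e : ℕ), (if 0 < i then C * (-1) ^ i * (X i * Y (k + 1 - i)) else 0) by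
      rw [hk, Finset.sum_range_succ', if_neg (lt_irrefl 0), add_zero]
      refine Finset.sum_congr rfl fun i _ => ?_
      rw [if_pos i.succ_pos, show k + 1 - (i + 1) = k - i by omega],
      ← Fin.sum_univ_eq_sum_range]
    refine Finset.sum_congr rfl fun i _ => ?_
    have hi := i.isLt
    by_cases h : 0 < (i : ℕ)
    · have h' : ((i.rev : Fin (e : ℕ)) : ℕ) + 1 < (e : ℕ) := by simp only [Fin.val_rev]; omega
      simp only [shift, LinearMap.coe_mk, AddHom.coe_mk, tau, dif_pos h', if_pos h, wt, X, Y,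
        dif_pos i.isLt, dif_pos (show k + 1 - (i : ℕ) < (e : ℕ) by omega), ← hC, Fin.eta]
      rw [show (⟨((i.rev : Fin (e : ℕ)) : ℕ) + 1, h'⟩ : Fin (e : ℕ)) = ⟨k + 1 - (i : ℕ), by omega⟩ from
        Fin.ext (by simp only [Fin.val_rev]; omega)]
      ring
    · have h' : ¬ ((i.rev : Fin (e : ℕ)) : ℕ) + 1 < (e : ℕ) := by simp only [Fin.val_rev]; omega
      simp only [shift, LinearMap.coe_mk, AddHom.coe_mk, tau, dif_neg h', if_neg h]
      ring
  rw [h1, h3, ← Finset.sum_add_distrib]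
  exact Finset.sum_eq_zero fun i _ => by rw [pow_succ]; ring

theorem shift_pow_apply (k : ℕ) (x : Idx p μ → F) (s : Idx p μ) : (shift p μ ^ k) x s =
    if h : (s.2.2 : ℕ) + k < (s.1 : ℕ) then x ⟨s.1, (s.2.1, ⟨(s.2.2 : ℕ) + k, h⟩)⟩ else 0 := by
  induction k generalizing x s with
  | zero => simp [s.2.2.isLt]
  | succ k ih =>
    rw [pow_succ, Module.End.mul_apply, ih]
    by_cases h : (s.2.2 : ℕ) + k < (s.1 : ℕ)
    · rw [dif_pos h]
      show (if h' : (s.2.2 : ℕ) + k + 1 < (s.1 : ℕ) then _ else 0) = _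
      rfl
    · rw [dif_neg h, dif_neg (by omega)]

theorem shift_pow_eq_zero : (shift p μ : (Idx p μ → F) →ₗ[F] (Idx p μ → F)) ^ p = 0 :=
  LinearMap.ext fun x => funext fun s => by
    rw [shift_pow_apply, dif_neg (by have := s.1.isLt; omega)]
    rfl

theorem sum_count_mul (hμ : ∀ a ∈ μ, a ≤ p) (f : ℕ → ℕ) :
    ∑ e : Fin (p + 1), μ.count (e : ℕ) * f e = (μ.map f).sum := by
  rw [Fin.sum_univ_eq_sum_range (fun e => μ.count e * f e), Finset.sum_multiset_map_count]
  simp only [smul_eq_mul]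
  refine (Finset.sum_subset (fun a ha => ?_) fun a _ ha => ?_).symm
  · exact Finset.mem_range.2 (Nat.lt_succ_of_le (hμ a (Multiset.mem_toFinset.1 ha)))
  · rw [Multiset.count_eq_zero.2 fun h => ha (Multiset.mem_toFinset.2 h), zero_mul]

theorem card_idx (hμ : ∀ a ∈ μ, a ≤ p) : Fintype.card (Idx p μ) = μ.sum := by
  rw [Fintype.card_sigma]
  simp only [Fintype.card_prod, Fintype.card_fin]
  rw [sum_count_mul p μ hμ fun e => e, Multiset.map_id']

theorem kerDim_shift (hμ : ∀ a ∈ μ, a ≤ p) (k : ℕ) :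
    kerDim (shift p μ : (Idx p μ → F) →ₗ[F] (Idx p μ → F)) ⊤ k = profile μ k := by
  classical
  rw [kerDim, top_inf_eq]
  let J := {s : Idx p μ // (s.2.2 : ℕ) < k}
  let R : LinearMap.ker ((shift p μ : (Idx p μ → F) →ₗ[F] _) ^ k) ≃ₗ[F] (J → F) :=
    { toFun := fun x j => (x : Idx p μ → F) j.1
      map_add' := fun x y => rfl
      map_smul' := fun c x => rfl
      invFun := fun y => ⟨fun i => if h : (i.2.2 : ℕ) < k then y ⟨i, h⟩ else 0, by
        rw [LinearMap.mem_ker]
        funext i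
        rw [shift_pow_apply, Pi.zero_apply]
        split
        · rw [dif_neg]; simp only; omega
        · rfl⟩
      left_inv := fun x => Subtype.ext (funext fun i => by
        show (if h : (i.2.2 : ℕ) < k then (x : Idx p μ → F) i else 0) = _
        split
        · rfl
        · have h := congrFun (LinearMap.mem_ker.1 x.2) ⟨i.1, (i.2.1, ⟨(i.2.2 : ℕ) - k, by omega⟩)⟩
          rw [shift_pow_apply, dif_pos (show (i.2.2 : ℕ) - k + k < (i.1 : ℕ) by omega), Pi.zero_apply] at h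
          rw [← h]
          refine congrArg _ ?_
          exact Sigma.ext rfl (heq_of_eq (Prod.ext rfl (Fin.ext (by simp only; omega)))))
      right_inv := fun y => funext fun j => by
        show (if h : (j.1.2.2 : ℕ) < k then y ⟨j.1, h⟩ else 0) = _
        rw [dif_pos j.2] }
  let e2 : J ≃ Σ e : Fin (p + 1), Fin (μ.count (e : ℕ)) × {b : Fin (e : ℕ) // (b : ℕ) < k} :=
    { toFun := fun j => ⟨j.1.1, (j.1.2.1, ⟨j.1.2.2, j.2⟩)⟩
      invFun := fun x => ⟨⟨x.1, (x.2.1, x.2.2.1)⟩, x.2.2.2⟩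
      left_inv := fun j => rfl
      right_inv := fun x => rfl }
  have hfib : ∀ e : ℕ, Fintype.card {b : Fin e // (b : ℕ) < k} = min k e := fun e => by
    rw [Fintype.card_congr (β := Fin (min k e))
      { toFun := fun b => ⟨(b.1 : ℕ), lt_min b.2 b.1.isLt⟩
        invFun := fun b => ⟨⟨(b : ℕ), (lt_min_iff.1 b.isLt).2⟩, (lt_min_iff.1 b.isLt).1⟩
        left_inv := fun b => rfl
        right_inv := fun b => rfl }, Fintype.card_fin]
  rw [R.finrank_eq, Module.finrank_pi, Fintype.card_congr e2, Fintype.card_sigma]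
  simp only [Fintype.card_prod, Fintype.card_fin, hfib]
  exact sum_count_mul p μ hμ fun e => min k e

/-- Changing the parameter of one block scales the Gram determinant. -/
theorem det_gram_scale [DecidableEq (Σ e : Fin (p + 1), Fin (μ.count (e : ℕ)))]
    (hev : ∀ e : ℕ, Even e → Even (μ.count e)) (b₀ : Σ e : Fin (p + 1), Fin (μ.count (e : ℕ)))
    (hb₀ : Odd (b₀.1 : ℕ)) (t : F) :
    (gram (quad p μ (fun b => if b = b₀ then t else 1)) (Pi.basisFun F (Idx p μ))).det =
      t ^ (b₀.1 : ℕ) * (gram (quad p μ fun _ => 1) (Pi.basisFun F (Idx p μ))).det := by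
  classical
  let m : Idx p μ → F := fun s => if (⟨s.1, s.2.1⟩ : Σ e : Fin (p + 1), Fin (μ.count (e : ℕ))) = b₀ then t else 1
  have hg : gram (quad p μ (fun b => if b = b₀ then t else 1)) (Pi.basisFun F (Idx p μ)) =
      Matrix.diagonal m * gram (quad p μ fun _ => 1) (Pi.basisFun F (Idx p μ)) := by
    ext s s'
    rw [Matrix.diagonal_mul]
    simp only [gram, Matrix.of_apply, Pi.basisFun_apply, polar_single p μ hev]
    have hw : wt p μ (fun b => if b = b₀ then t else 1) s = m s * wt p μ (fun _ => 1) s := by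
      simp only [wt, m]
      by_cases h : (⟨s.1, s.2.1⟩ : Σ e : Fin (p + 1), Fin (μ.count (e : ℕ))) = b₀
      · have ho : Odd (s.1 : ℕ) := by
          rw [← h] at hb₀; exact hb₀
        simp [if_pos h, if_pos ho]
      · simp [if_neg h]
    rw [hw]; ring
  rw [hg, Matrix.det_mul, Matrix.det_diagonal]
  congr 1
  obtain ⟨e₀, a₀⟩ := b₀
  rw [Fintype.prod_sigma, Finset.prod_eq_single e₀ (fun e _ he => ?_) (fun h => absurd (Finset.mem_univ _) h),
    Fintype.prod_prod_type, Finset.prod_eq_single a₀ (fun a _ ha => ?_) (fun h => absurd (Finset.mem_univ _) h)]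
  · simp [m]
  · exact Finset.prod_eq_one fun i _ => by simp [m, ha]
  · exact Finset.prod_eq_one fun s _ => by simp [m, he]

/-- The Cayley transform of the shift. -/
theorem exists_isometry (h2 : (2 : F) ≠ 0) (hev : ∀ e : ℕ, Even e → Even (μ.count e))
    (hμ : ∀ a ∈ μ, a ≤ p) (d : (Σ e : Fin (p + 1), Fin (μ.count (e : ℕ))) → F) :
    ∃ g : oGroup (quad p μ d), (g.1.toLinearMap - 1) ^ p = 0 ∧
      ∀ k, kerDim (g.1.toLinearMap - 1) ⊤ k = profile μ k := by
  set N : Module.End F (Idx p μ → F) := shift p μ with hN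
  have hnil : IsNilpotent N := ⟨p, shift_pow_eq_zero p μ⟩
  obtain ⟨u, hu⟩ := hnil.isUnit_one_sub
  obtain ⟨u', hu'⟩ := hnil.isUnit_one_add
  set G : Module.End F (Idx p μ → F) := (1 + N) * (↑u⁻¹ : Module.End F (Idx p μ → F)) with hG
  have hGu : IsUnit G := (hu' ▸ u'.isUnit : IsUnit (1 + N)).mul u⁻¹.isUnit
  have hiso : ∀ x, quad p μ d (G x) = quad p μ d x := by
    intro x
    set z := (↑u⁻¹ : Module.End F (Idx p μ → F)) x with hz
    have hx : x = z - N z := by
      have h := LinearMap.congr_fun u.mul_inv x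
      rw [Module.End.mul_apply, ← hz, hu] at h
      exact h.symm
    rw [show G x = z + N z from rfl, hx]
    simp only [quad, LinearMap.BilinMap.toQuadraticMap_apply, map_add, map_sub, LinearMap.add_apply,
      LinearMap.sub_apply]
    linear_combination (2 : F) * shift_skew p μ d z z
  let g₁ : (Idx p μ → F) ≃ₗ[F] (Idx p μ → F) :=
    LinearEquiv.ofBijective G ((Module.End.isUnit_iff G).1 hGu)
  let g : oGroup (quad p μ d) := ⟨g₁, fun x => hiso x⟩
  have hN1 : g.1.toLinearMap - 1 = (2 : F) • ((↑u⁻¹ : Module.End F (Idx p μ → F)) * N) := by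
    have hc : Commute (↑u : Module.End F (Idx p μ → F)) N := by
      rw [hu]; exact (Commute.one_left N).sub_left rfl
    show G - 1 = _
    have h1 : (1 : Module.End F (Idx p μ → F)) = (↑u : Module.End F (Idx p μ → F)) * ↑u⁻¹ := u.mul_inv.symm
    rw [(hc.units_inv_left).eq]
    calc G - 1 = (1 + N - ↑u) * ↑u⁻¹ := by rw [sub_mul, ← h1, hG]
      _ = ((2 : F) • N) * ↑u⁻¹ := by rw [hu, two_smul]; congr 1; abel
      _ = (2 : F) • (N * ↑u⁻¹) := smul_mul_assoc _ _ _
  have hcomm : Commute (↑u⁻¹ : Module.End F (Idx p μ → F)) N := by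
    have hc : Commute (↑u : Module.End F (Idx p μ → F)) N := by
      rw [hu]; exact (Commute.one_left N).sub_left rfl
    exact hc.units_inv_left
  have hpow : ∀ k, (g.1.toLinearMap - 1) ^ k =
      (2 : F) ^ k • ((↑(u⁻¹ ^ k) : Module.End F (Idx p μ → F)) * N ^ k) := fun k => by
    rw [hN1, smul_pow, hcomm.mul_pow, Units.val_pow_eq_pow_val]
  refine ⟨g, ?_, fun k => ?_⟩
  · rw [hpow, hN, shift_pow_eq_zero, mul_zero, smul_zero]
  · rw [← kerDim_shift (F := F) p μ hμ k, kerDim, kerDim, top_inf_eq, top_inf_eq, hpow,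
      LinearMap.ker_smul _ _ (pow_ne_zero _ h2), Module.End.mul_eq_comp, LinearMap.ker_comp_of_ker_eq_bot]
    exact LinearMap.ker_eq_bot.2 ((Module.End.isUnit_iff _).1 (u⁻¹ ^ k).isUnit).1

end CfsgLib.Elusive.OrthModel

namespace CfsgLib.Elusive

open Module QuadraticMap CfsgLib.Quad CfsgLib.QuadStd

variable {F V : Type*} [Field F] [AddCommGroup V] [Module F V] [FiniteDimensional F V]

/-- Unipotent isometries in the commutator subgroup, with prescribed Jordan blocks. -/
theorem exists_orth_unipotent [Finite F] {p : ℕ} [hp : Fact p.Prime] [CharP F p] (h2 : (2 : F) ≠ 0)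
    (hpodd : Odd p) {Q : QuadraticForm F V} (hQ : (polarBilin Q).Nondegenerate) {μ : Multiset ℕ}
    (hμ : ∀ a ∈ μ, a ≤ p) (hev : ∀ e : ℕ, Even e → Even (μ.count e)) (hodd : ∃ e ∈ μ, Odd e)
    (hsum : μ.sum = finrank F V) :
    ∃ g : oGroup Q, g ∈ commutator (oGroup Q) ∧ g ^ p = 1 ∧ (g.1.toLinearMap - 1) ^ p = 0 ∧
      ∀ k, kerDim (g.1.toLinearMap - 1) ⊤ k = profile μ k := by
  classical
  have := Fintype.ofFinite F
  obtain ⟨e₀, he₀, ho⟩ := hodd
  let b₀ : Σ e : Fin (p + 1), Fin (μ.count (e : ℕ)) :=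
    ⟨⟨e₀, Nat.lt_succ_of_le (hμ e₀ he₀)⟩, ⟨0, Multiset.count_pos.2 he₀⟩⟩
  have hchar : ringChar F ≠ 2 := fun h => h2 (by
    haveI : CharP F 2 := ringChar.of_eq h
    exact CharP.cast_eq_zero F 2)
  obtain ⟨α, hα⟩ := FiniteField.exists_nonsquare (F := F) hchar
  have hα0 : α ≠ 0 := by rintro rfl; exact hα ⟨0, by simp⟩
  -- a basis of `V`
  let σ : OrthModel.Idx p μ ≃ Fin (finrank F V) :=
    Fintype.equivFinOfCardEq ((OrthModel.card_idx p μ hμ).trans hsum)
  let c : Basis (Fin (finrank F V)) F V := Module.finBasis F V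
  let D := (gram Q c).det
  let G₁ := (gram (OrthModel.quad p μ fun _ => (1 : F)) (Pi.basisFun F (OrthModel.Idx p μ))).det
  have hD : D ≠ 0 := det_gram_ne_zero hQ c
  have hG₁ : G₁ ≠ 0 := det_gram_ne_zero (OrthModel.nondeg_quad p μ h2 hev fun _ => one_ne_zero) _
  obtain ⟨t, ht, hsq⟩ : ∃ t : F, t ≠ 0 ∧ IsSquare (t ^ e₀ * G₁ * D) := by
    by_cases h : IsSquare (G₁ * D)
    · exact ⟨1, one_ne_zero, by rwa [one_pow, one_mul]⟩
    · obtain ⟨r, hr⟩ := ho
      refine ⟨α, hα0, ?_⟩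
      rw [hr, show α ^ (2 * r + 1) * G₁ * D = (α ^ r) ^ 2 * (G₁ * D * α) by ring,
        isSquare_mul_sq_iff (pow_ne_zero r hα0)]
      by_contra hn
      exact h (by_contra fun h' => hn ((isSquare_mul_nonsquare_iff h2 (mul_ne_zero hG₁ hD) hα).2 h') |>.elim)
  set Q' := OrthModel.quad p μ (fun b => if b = b₀ then t else (1 : F)) with hQ'
  have hQ'n : (polarBilin Q').Nondegenerate :=
    OrthModel.nondeg_quad p μ h2 hev fun b => by split <;> simp [ht]
  have hdet : (gram Q' ((Pi.basisFun F (OrthModel.Idx p μ)).reindex σ)).det = t ^ e₀ * G₁ := by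
    rw [show gram Q' ((Pi.basisFun F (OrthModel.Idx p μ)).reindex σ) =
      (gram Q' (Pi.basisFun F (OrthModel.Idx p μ))).submatrix σ.symm σ.symm by
      ext i j; simp [gram], Matrix.det_submatrix_equiv_self, hQ', OrthModel.det_gram_scale p μ hev b₀ ho]
  obtain ⟨e, he⟩ := isometric_of_disc h2 hQ'n hQ ((Pi.basisFun F (OrthModel.Idx p μ)).reindex σ) c
    (by rw [hdet]; exact hsq)
  obtain ⟨g', hg', hprof⟩ := OrthModel.exists_isometry p μ h2 hev hμ (fun b => if b = b₀ then t else (1 : F))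
  let g : oGroup Q := oGroupCongr e he g'
  have hgN : g.1.toLinearMap - 1 = LinearEquiv.conjAlgEquiv F e (g'.1.toLinearMap - 1) := by
    rw [map_sub, map_one]
    rfl
  have hgp : (g.1.toLinearMap - 1) ^ p = 0 := by rw [hgN, ← map_pow, hg', map_zero]
  have hg1 : g ^ p = 1 := by
    rcases subsingleton_or_nontrivial V with hV | hV
    · exact Subtype.ext (LinearEquiv.ext fun v => Subsingleton.elim _ _)
    have : CharP (Module.End F V) p :=
      charP_of_injective_algebraMap (algebraMap F _).injective p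
    have hcoe : ∀ n : ℕ, (g ^ n).1.toLinearMap = g.1.toLinearMap ^ n := fun n => by
      induction n with
      | zero => rfl
      | succ n ih => rw [pow_succ, pow_succ, ← ih]; rfl
    refine Subtype.ext (LinearEquiv.toLinearMap_injective ?_)
    rw [hcoe]
    have h := hgp
    rw [sub_pow_char_of_commute p (Commute.one_right _), one_pow, sub_eq_zero] at h
    exact h
  refine ⟨g, ?_, hg1, hgp, fun k => ?_⟩
  · -- an element of odd order is a square, squares are commutators
    obtain ⟨r, hr⟩ := hpodd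
    have hgen : (∃ t : F, t ≠ 0 ∧ t ≠ 1) ∨ Module.finrank F V ≠ 4 :=
      Or.inl ⟨-1, by simp, fun h => h2 (by linear_combination -h)⟩
    obtain ⟨vs, hvs, hvg⟩ := exists_reflProd hQ hgen (g ^ (r + 1))
    have hsq : g = g ^ (r + 1) * g ^ (r + 1) := by
      rw [← pow_add, show r + 1 + (r + 1) = (2 * r + 1) + 1 by omega, ← hr, pow_add, hg1, one_mul, pow_one]
    rw [hsq, hvg, ← reflProd_append, reflProd_mem_commutator_iff hQ hgen (List.forall_mem_append.2 ⟨hvs, hvs⟩)]
    refine ⟨by simp, ?_⟩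
    rw [List.map_append, List.prod_append]
    exact IsSquare.mul_self _
  · rw [← hprof, kerDim, kerDim, top_inf_eq, top_inf_eq, hgN, ← map_pow]
    rw [show LinearMap.ker (LinearEquiv.conjAlgEquiv F e ((g'.1.toLinearMap - 1) ^ k)) =
      (LinearMap.ker ((g'.1.toLinearMap - 1) ^ k)).map e.toLinearMap by
      ext v
      simp only [LinearMap.mem_ker, LinearEquiv.conjAlgEquiv_apply, LinearMap.comp_apply,
        LinearEquiv.coe_coe, LinearEquiv.map_eq_zero_iff, Submodule.mem_map]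
      exact ⟨fun h => ⟨e.symm v, h, e.apply_symm_apply v⟩,
        fun ⟨w, hw, h⟩ => by rw [← h]; simpa using hw⟩]
    exact LinearEquiv.finrank_map_eq e _

end CfsgLib.Elusive
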