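import Cfsg.Agent.Elusive.OrthModel
import Cfsg.Agent.Elusive.Compl
import Cfsg.Prelude.Def_GeometricClasses

/-! Partitions of `p`-elements of orthogonal groups fixing non-degenerate subspaces. -/

set_option autoImplicit false

namespace CfsgLib.Elusive

open Module QuadraticMap CfsgLib.Quad

variable {F : Type*} [Field F] {ι : Type} [Fintype ι] [DecidableEq ι]

/-- Elements of odd prime order of `Ω` as isometries. -/
theorem exists_omega_elt {p : ℕ} (hpp : p.Prime) [Finite F] {Q : QuadraticForm F (ι → F)}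
    {g : oGroup Q} (hg : g ∈ commutator (oGroup Q)) (hgp : g ^ p = 1) (hg1 : g ≠ 1) [CharP F p] :
    ∃ x : GL ι F, x ∈ Cfsg.Geo.omegaGL ⇑Q ∧ x ^ p = 1 ∧ orderOf x = p ∧
      (∀ z : F, (x : Matrix ι ι F) ≠ z • 1) ∧
      ∀ v, Matrix.toLin' (x : Matrix ι ι F) v = g.1 v := by
  classical
  have := Fact.mk hpp
  obtain ⟨y, rfl⟩ := (isoGroupEquiv Q).surjective g
  have hyp : y ^ p = 1 := (isoGroupEquiv Q).injective (by rw [map_pow, map_one, hgp])
  have hy1 : y ≠ 1 := fun e => hg1 (by rw [e, map_one])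
  have hxp : (y : GL ι F) ^ p = 1 := by rw [← SubmonoidClass.coe_pow, hyp]; rfl
  have hx1 : (y : GL ι F) ≠ 1 := fun e => hy1 (Subtype.ext e)
  refine ⟨(y : GL ι F), ⟨y, (mem_omega_iff Q y).2 hg, rfl⟩, hxp, orderOf_eq_prime hxp hx1, ?_,
    fun v => (Matrix.toLin'_apply _ v).trans rfl⟩
  intro z hz
  refine hx1 (Units.ext ?_)
  have h := congrArg Units.val hxp
  rw [Units.val_pow_eq_pow_val, Units.val_one, hz, smul_pow, one_pow] at h
  rcases isEmpty_or_nonempty ι with hι | ⟨⟨i⟩⟩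
  · exact Subsingleton.elim _ _
  have h1 : z ^ p = 1 := by simpa using congrFun (congrFun h i) i
  have := ExpChar.prime (R := F) hpp
  have h2 : z = 1 := frobenius_inj F p (by rw [frobenius_def, frobenius_def, h1, one_pow])
  rw [hz, h2, one_smul, Units.val_one]

variable [Finite F]

/-- A partition with an odd part and a part larger than one contains the partition of a fixed subspace. -/
theorem orth_sub_partition {p : ℕ} [Fact p.Prime] [CharP F p] (h2 : (2 : F) ≠ 0) (hpodd : Odd p)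
    {Q : QuadraticForm F (ι → F)} (hQ : (polarBilin Q).Nondegenerate) {m : ℕ}
    {P : Submodule F (ι → F) → Prop}
    (hall : ∀ x : GL ι F, x ∈ Cfsg.Geo.omegaGL ⇑Q → x ^ p = 1 → orderOf x = p →
      (∀ z : F, (x : Matrix ι ι F) ≠ z • 1) →
      ∃ W : Submodule F (ι → F), (finrank F W = m ∧ Cfsg.Geo.IsNondegenerateOn (polar ⇑Q) W ∧ P W) ∧
        W.map (Matrix.toLin' (x : Matrix ι ι F)) ≤ W)
    {μ : Multiset ℕ} (hμ : ∀ e ∈ μ, 0 < e ∧ e ≤ p) (hev : ∀ e : ℕ, Even e → Even (μ.count e))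
    (hsum : μ.sum = Fintype.card ι) (hodd : ∃ e ∈ μ, Odd e) (hbig : ∃ e ∈ μ, e ≠ 1) :
    ∃ ν ≤ μ, ν.sum = m ∧ (∀ e : ℕ, Even e → Even (ν.count e)) ∧
      ∃ W : Submodule F (ι → F), P W ∧
        ((∀ e ∈ ν, e = 2) → Cfsg.Geo.IsPlusTypeOn ⇑Q W) := by
  classical
  obtain ⟨g, hg, hgp, hN, hprof⟩ := exists_orth_unipotent h2 hpodd hQ (fun e he => (hμ e he).2) hev hodd
    (hsum.trans (Module.finrank_fintype_fun_eq_card (R := F)).symm)
  have hg1 : g ≠ 1 := by
    rintro rfl
    obtain ⟨e, he, he1⟩ := hbig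
    have h0 : (1 : oGroup Q).1.toLinearMap - 1 = 0 := sub_eq_zero.2 rfl
    have hp1 := hprof 1
    have hp2 := hprof 2
    rw [kerDim, h0, pow_one, LinearMap.ker_zero] at hp1
    rw [kerDim, h0, pow_two, mul_zero, LinearMap.ker_zero] at hp2
    rw [hp1] at hp2
    obtain ⟨μ', rfl⟩ := Multiset.exists_cons_of_mem he
    have h3 : profile μ' 1 ≤ profile μ' 2 := by
      refine Multiset.sum_map_le_sum_map _ _ fun a _ => ?_
      omega
    rw [profile_cons, profile_cons] at hp2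
    have := (hμ e he).1
    omega
  obtain ⟨x, hx, hxp, hxo, hxs, hxg⟩ := exists_omega_elt Fact.out hg hgp hg1
  obtain ⟨W, ⟨hWd, hWn, hP⟩, hWx⟩ := hall x hx hxp hxo hxs
  have hW : ∀ w ∈ W, g.1 w ∈ W := fun w hw => hWx ⟨w, hw, hxg w⟩
  obtain ⟨ν, hν, hνs, hνe, hνk⟩ := exists_orth_sub_partition h2 hQ g hN (fun e he => (hμ e he).1) hprof hW
    fun w hw hw0 => (hWn w hw hw0).1
  refine ⟨ν, hν, hνs.trans hWd, hνe, W, hP, fun hall2 => ?_⟩
  have hrep : ν = Multiset.replicate (Multiset.card ν) 2 := Multiset.eq_replicate_card.2 hall2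
  obtain ⟨U, hU, hU0, hUd⟩ := exists_singular_half h2 g hN hW (c := Multiset.card ν)
    (fun k => by rw [← hrep]; exact hνk k)
    (by rw [← hνs]; conv_lhs => rw [hrep]
        rw [Multiset.sum_replicate, smul_eq_mul, mul_comm])
  exact ⟨U, hU, hU0, hUd⟩

/-- The partition property for partitions with an odd part implies it in general. -/
theorem partition_of_odd_parts {p m n : ℕ} (hpodd : Odd p) (hm : Even m)
    (h : ∀ μ : Multiset ℕ, (∀ e ∈ μ, 0 < e ∧ e ≤ p) → (∀ e : ℕ, Even e → Even (μ.count e)) → μ.sum = n →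
      (∃ e ∈ μ, Odd e) → (∃ e ∈ μ, e ≠ 1) → ∃ ν ≤ μ, ν.sum = m ∧ ∀ e : ℕ, Even e → Even (ν.count e))
    (hmn : m ≤ n) (μ : Multiset ℕ) (hμ : ∀ e ∈ μ, 0 < e ∧ e ≤ p)
    (hev : ∀ e : ℕ, Even e → Even (μ.count e)) (hsum : μ.sum = n) :
    ∃ ν : Multiset ℕ, ν ≤ μ ∧ ν.sum = m ∧ ∀ e : ℕ, Even e → Even (ν.count e) := by
  classical
  by_cases hone : ∀ e ∈ μ, e = 1
  · refine ⟨Multiset.replicate m 1, ?_, by simp, fun e he => ?_⟩
    · rw [Multiset.eq_replicate_card.2 hone] at hsum ⊢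
      rw [Multiset.sum_replicate, smul_eq_mul, mul_one] at hsum
      exact (Multiset.replicate_mono 1 (by omega))
    · rw [Multiset.count_replicate, if_neg (by rintro rfl; exact Nat.not_even_one he)]
      exact Even.zero
  push Not at hone
  by_cases hodd : ∃ e ∈ μ, Odd e
  · exact h μ hμ hev hsum hodd hone
  push Not at hodd
  obtain ⟨k, hk, -⟩ := hone
  have hke : Even k := Nat.not_odd_iff_even.1 (hodd k hk)
  obtain ⟨μ', rfl⟩ : ∃ μ', μ = k ::ₘ k ::ₘ μ' := by
    obtain ⟨r, rfl⟩ := Multiset.exists_cons_of_mem hk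
    obtain ⟨c, hc⟩ := hev k hke
    rw [Multiset.count_cons_self] at hc
    obtain ⟨r', rfl⟩ := Multiset.exists_cons_of_mem (Multiset.count_pos.1 (show 0 < r.count k by omega))
    exact ⟨r', rfl⟩
  have hk0 := (hμ k (by simp)).1
  have hkp := (hμ k (by simp)).2
  have hk2 : 2 ≤ k := by obtain ⟨c, rfl⟩ := hke; omega
  have hkp' : k + 1 ≤ p := by
    rcases Nat.lt_or_ge k p with h1 | h1
    · omega
    · exact absurd (Nat.le_antisymm hkp h1 ▸ hpodd : Odd k) (Nat.not_odd_iff_even.2 hke)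
  have hmem : ∀ e ∈ μ', ¬ Odd e := fun e he => hodd e (by simp [he])
  have hne : ∀ {e : ℕ}, Even e → e ≠ k + 1 ∧ e ≠ k - 1 := fun {e} he => by
    obtain ⟨c, rfl⟩ := hke; obtain ⟨b, rfl⟩ := he; omega
  have hcount : ∀ e : ℕ, Even e → ((k + 1) ::ₘ (k - 1) ::ₘ μ').count e = μ'.count e := fun e he => by
    rw [Multiset.count_cons_of_ne (hne he).1, Multiset.count_cons_of_ne (hne he).2]
  obtain ⟨ν, hν, hνs, hνe⟩ := h ((k + 1) ::ₘ (k - 1) ::ₘ μ')
    (fun e he => by
      simp only [Multiset.mem_cons] at he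
      rcases he with rfl | rfl | he
      · omega
      · omega
      · exact hμ e (by simp [he]))
    (fun e he => by
      rw [hcount e he]
      have h1 := hev e he
      rw [Multiset.count_cons, Multiset.count_cons] at h1
      split at h1
      · rw [Nat.even_iff] at h1 ⊢; omega
      · simpa using h1)
    (by simp only [Multiset.sum_cons] at hsum ⊢; omega)
    ⟨k + 1, by simp, hke.add_one⟩ ⟨k + 1, by simp, by omega⟩
  have hevensum : ∀ s : Multiset ℕ, s ≤ μ' → Even s.sum := fun s hs => by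
    induction s using Multiset.induction_on with
    | empty => simp
    | cons a s ih =>
      rw [Multiset.sum_cons]
      exact (Nat.not_odd_iff_even.1 (hmem a (Multiset.mem_of_le hs (by simp)))).add
        (ih ((Multiset.le_cons_self s a).trans hs))
  by_cases h1 : k + 1 ∈ ν
  · obtain ⟨ν₁, rfl⟩ := Multiset.exists_cons_of_mem h1
    have hν₁ := (Multiset.cons_le_cons_iff _).1 hν
    by_cases h3 : k - 1 ∈ ν₁
    · obtain ⟨ν₂, rfl⟩ := Multiset.exists_cons_of_mem h3
      have hν₂ := (Multiset.cons_le_cons_iff _).1 hν₁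
      refine ⟨k ::ₘ k ::ₘ ν₂, Multiset.cons_le_cons _ (Multiset.cons_le_cons _ hν₂), ?_, fun e he => ?_⟩
      · simp only [Multiset.sum_cons] at hνs ⊢; omega
      · have h4 := hνe e he
        rw [Multiset.count_cons_of_ne (hne he).1, Multiset.count_cons_of_ne (hne he).2] at h4
        rw [Multiset.count_cons, Multiset.count_cons]
        split
        · rw [Nat.even_iff] at h4 ⊢; omega
        · simpa using h4
    · exfalso
      have hν₂ := (Multiset.le_cons_of_notMem h3).1 hν₁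
      have h5 := hevensum ν₁ hν₂
      rw [Multiset.sum_cons] at hνs
      rw [← hνs] at hm
      obtain ⟨c, rfl⟩ := hke
      rw [Nat.even_iff] at hm h5
      omega
  · have hν₁ := (Multiset.le_cons_of_notMem h1).1 hν
    by_cases h3 : k - 1 ∈ ν
    · exfalso
      obtain ⟨ν₂, rfl⟩ := Multiset.exists_cons_of_mem h3
      have h5 := hevensum ν₂ ((Multiset.cons_le_cons_iff _).1 hν₁)
      rw [Multiset.sum_cons] at hνs
      rw [← hνs] at hm
      obtain ⟨c, rfl⟩ := hke
      rw [Nat.even_iff] at hm h5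
      omega
    · exact ⟨ν, ((Multiset.le_cons_of_notMem h3).1 hν₁).trans
        ((Multiset.le_cons_self _ _).trans (Multiset.le_cons_self _ _)), hνs, hνe⟩

/-- A sub-partition of a partition into twos and two odd parts. -/
theorem two_odd_cases {a b c m : ℕ} {ν : Multiset ℕ} (hν : ν ≤ a ::ₘ b ::ₘ Multiset.replicate c 2)
    (hab : a ≠ 2 ∧ b ≠ 2) (hab' : Odd a ∧ Odd b) (hs : ν.sum = m) (hm : Even m)
    (hev : Even (ν.count 2)) : m % 4 = (a + b) % 4 ∨ (m % 4 = 0 ∧ ∀ e ∈ ν, e = 2) := by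
  classical
  have hrep : ∀ s : Multiset ℕ, s ≤ Multiset.replicate c 2 → s.sum = 2 * s.count 2 := fun s hs => by
    have h : ∀ e ∈ s, e = 2 := fun e he => Multiset.eq_of_mem_replicate (Multiset.mem_of_le hs he)
    rw [Multiset.eq_replicate_card.2 h, Multiset.sum_replicate, Multiset.count_replicate_self, smul_eq_mul,
      mul_comm]
  obtain ⟨u, hu⟩ := hev
  rw [Nat.even_iff] at hm
  rw [Nat.odd_iff, Nat.odd_iff] at hab'
  by_cases h1 : a ∈ ν
  · obtain ⟨ν₁, rfl⟩ := Multiset.exists_cons_of_mem h1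
    have hν₁ := (Multiset.cons_le_cons_iff _).1 hν
    rw [Multiset.count_cons_of_ne hab.1.symm] at hu
    by_cases h3 : b ∈ ν₁
    · obtain ⟨ν₂, rfl⟩ := Multiset.exists_cons_of_mem h3
      have h5 := hrep ν₂ ((Multiset.cons_le_cons_iff _).1 hν₁)
      rw [Multiset.count_cons_of_ne hab.2.symm] at hu
      rw [Multiset.sum_cons, Multiset.sum_cons] at hs
      omega
    · have h5 := hrep ν₁ ((Multiset.le_cons_of_notMem h3).1 hν₁)
      rw [Multiset.sum_cons] at hs
      omega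
  · have hν₁ := (Multiset.le_cons_of_notMem h1).1 hν
    by_cases h3 : b ∈ ν
    · obtain ⟨ν₂, rfl⟩ := Multiset.exists_cons_of_mem h3
      have h5 := hrep ν₂ ((Multiset.cons_le_cons_iff _).1 hν₁)
      rw [Multiset.count_cons_of_ne hab.2.symm] at hu
      rw [Multiset.sum_cons] at hs
      omega
    · have hν₂ := (Multiset.le_cons_of_notMem h3).1 hν₁
      refine Or.inr ⟨?_, fun e he => Multiset.eq_of_mem_replicate (Multiset.mem_of_le hν₂ he)⟩
      have h5 := hrep ν hν₂
      omega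

end CfsgLib.Elusive
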