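import Cfsg.Agent.Elusive.Greedy
import Mathlib.FieldTheory.Finite.Extension
import Mathlib.FieldTheory.Finite.Basic
import Mathlib.GroupTheory.Perm.Cycle.Type
import Mathlib.RingTheory.Polynomial.UniqueFactorization

/-! Maps of prime order prime to the characteristic: dimensions of invariant subspaces. -/

set_option autoImplicit false
set_option linter.unusedSectionVars false

namespace CfsgLib.Elusive

open Polynomial Module

variable {F V : Type*} [Field F] [AddCommGroup V] [Module F V]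

/-- The fixed space. -/
def fixS (f : V →ₗ[F] V) : Submodule F V := LinearMap.ker (f - 1)

/-- The moved space. -/
def movS (f : V →ₗ[F] V) : Submodule F V := LinearMap.range (f - 1)

theorem mem_fixS {f : V →ₗ[F] V} {v : V} : v ∈ fixS f ↔ f v = v := by
  rw [fixS, LinearMap.mem_ker, LinearMap.sub_apply, Module.End.one_apply, sub_eq_zero]

variable {f : V →ₗ[F] V} {r : ℕ}

theorem disjoint_fix_mov (hf : f ^ r = 1) (hr : (r : F) ≠ 0) {v : V} (h1 : v ∈ fixS f)
    (h2 : v ∈ movS f) : v = 0 := by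
  obtain ⟨u, hu⟩ := h2
  rw [mem_fixS] at h1
  rw [LinearMap.sub_apply, Module.End.one_apply] at hu
  have key : ∀ k : ℕ, (f ^ k) u = u + (k : F) • v := fun k => by
    induction k with
    | zero => simp
    | succ k ih =>
      rw [pow_succ', Module.End.mul_apply, ih, map_add, map_smul, h1, Nat.cast_succ, add_smul,
        one_smul, show f u = u + v by rw [← hu]; abel]
      abel
  have := key r
  rw [hf, Module.End.one_apply, left_eq_add, smul_eq_zero] at this
  exact this.resolve_left hr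

theorem Inv.map_sub {W : Submodule F V} (hW : Inv f W) :
    Inv f (W.map (f - 1)) ∧ W.map (f - 1) ≤ W := by
  refine ⟨?_, ?_⟩
  · rintro _ ⟨w, hw, rfl⟩
    exact ⟨f w, hW w hw, by simp⟩
  · rintro _ ⟨w, hw, rfl⟩
    rw [LinearMap.sub_apply, Module.End.one_apply]
    exact W.sub_mem (hW w hw) hw

variable [Fintype F] [FiniteDimensional F V] [hr' : Fact r.Prime]

theorem fpf_dvd (hf : f ^ r = 1) {W : Submodule F V} (hW : Inv f W) (h : W ⊓ fixS f = ⊥) :
    orderOf ((Fintype.card F : ℕ) : ZMod r) ∣ finrank F W := by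
  classical
  let g : W →ₗ[F] W := f.restrict hW
  have hg : ∀ k, ∀ w : W, ((g ^ k) w : V) = (f ^ k) w := fun k => by
    induction k with
    | zero => simp
    | succ k ih =>
      intro w
      rw [pow_succ', pow_succ', Module.End.mul_apply, Module.End.mul_apply, ← ih]
      rfl
  have hgr : ∀ w : W, (g ^ r) w = w := fun w => Subtype.ext (by rw [hg, hf]; rfl)
  have : Finite W := Module.finite_of_finite F
  have := Fintype.ofFinite W
  have hbij : Function.Bijective g := by
    have hr2 : r = (r - 1) + 1 := by have := hr'.out.one_lt; omega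
    refine Finite.injective_iff_bijective.1 fun x y e => ?_
    rw [← hgr x, ← hgr y, hr2, pow_succ, Module.End.mul_apply, Module.End.mul_apply, e]
  let σ : Equiv.Perm W := Equiv.ofBijective g hbij
  have hσ : ∀ (k : ℕ) (w : W), (σ ^ k) w = (g ^ k) w := by
    intro k
    induction k with
    | zero => simp
    | succ k ih =>
      intro w
      rw [pow_succ', pow_succ', Equiv.Perm.mul_apply, Module.End.mul_apply, ih]
      rfl
  have hσr : σ ^ r ^ 1 = 1 := Equiv.ext fun w => by rw [pow_one, hσ, hgr]; rfl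
  have hm := Equiv.Perm.card_compl_support_modEq hσr
  have hsupp : σ.supportᶜ = {(0 : W)} := by
    ext w
    rw [Finset.mem_compl, Equiv.Perm.notMem_support, Finset.mem_singleton]
    refine ⟨fun e => ?_, fun e => e ▸ map_zero g⟩
    have : (w : V) ∈ W ⊓ fixS f := ⟨w.2, mem_fixS.2 (congrArg Subtype.val e)⟩
    rw [h, Submodule.mem_bot] at this
    exact Subtype.ext this
  rw [hsupp, Finset.card_singleton, Module.card_eq_pow_finrank (K := F),
    ← ZMod.natCast_eq_natCast_iff, Nat.cast_one, Nat.cast_pow] at hm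
  exact orderOf_dvd_iff_pow_eq_one.2 hm.symm

theorem mov_dvd (hf : f ^ r = 1) (hr : (r : F) ≠ 0) {W : Submodule F V} (hW : Inv f W) :
    orderOf ((Fintype.card F : ℕ) : ZMod r) ∣ finrank F (W.map (f - 1)) := by
  refine fpf_dvd hf hW.map_sub.1 ((Submodule.eq_bot_iff _).2 ?_)
  rintro v ⟨⟨w, -, rfl⟩, h2⟩
  exact disjoint_fix_mov hf hr h2 ⟨w, rfl⟩

theorem dim_split (W : Submodule F V) :
    finrank F W = finrank F ↥(W ⊓ fixS f) + finrank F (W.map (f - 1)) := by
  have h := LinearMap.finrank_range_add_finrank_ker ((f - 1).domRestrict W)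
  rw [show LinearMap.range ((f - 1).domRestrict W) = W.map (f - 1) from
      LinearMap.range_domRestrict ..,
    show LinearMap.ker ((f - 1).domRestrict W) = (fixS f).comap W.subtype from rfl] at h
  have e : finrank F ((fixS f).comap W.subtype) = finrank F ↥(W ⊓ fixS f) := by
    rw [← Submodule.map_comap_subtype W (fixS f)]
    exact (Submodule.finrank_map_subtype_eq W ((fixS f).comap W.subtype)).symm
  rw [e] at h
  omega

/-- A list of monic polynomials of small degree with product `X ^ r - 1`. -/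
theorem exists_factors (hr : r ≠ ringChar F) (i : ℕ)
    (hi : orderOf ((Fintype.card F : ℕ) : ZMod r) ∣ i) (hi0 : 0 < i) :
    ∃ Ps : List F[X], Ps.prod = X ^ r - 1 ∧ ∀ P ∈ Ps, P.Monic ∧ P.natDegree ≤ i := by
  classical
  have hm : (X ^ r - 1 : F[X]).Monic := monic_X_pow_sub_C 1 hr'.out.ne_zero
  refine ⟨(UniqueFactorizationMonoid.normalizedFactors (X ^ r - 1 : F[X])).toList, ?_, fun P hP => ?_⟩
  · rw [Multiset.prod_toList, UniqueFactorizationMonoid.prod_normalizedFactors_eq hm.ne_zero,
      hm.normalize_eq_self]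
  rw [Multiset.mem_toList] at hP
  have hirr := UniqueFactorizationMonoid.irreducible_of_normalized_factor P hP
  have hmon : P.Monic :=
    Polynomial.normalize_eq_self_iff_monic hirr.ne_zero |>.1
      (UniqueFactorizationMonoid.normalize_normalized_factor P hP)
  refine ⟨hmon, Nat.le_of_dvd hi0 (hirr.natDegree_dvd_iff_dvd_X_pow_card_pow_sub_X.2 ?_)⟩
  refine (UniqueFactorizationMonoid.dvd_of_mem_normalizedFactors hP).trans ?_
  have h1 : r ∣ Fintype.card F ^ i - 1 := by
    rw [← ZMod.natCast_eq_zero_iff, Nat.cast_sub (Nat.one_le_pow _ _ Fintype.card_pos),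
      Nat.cast_pow, Nat.cast_one, orderOf_dvd_iff_pow_eq_one.1 hi, sub_self]
  rw [Nat.card_eq_fintype_card]
  obtain ⟨w, hw⟩ := h1
  have h2 : (X : F[X]) ^ Fintype.card F ^ i - X = (X ^ (Fintype.card F ^ i - 1) - 1) * X := by
    rw [sub_mul, one_mul, ← pow_succ, Nat.sub_add_cancel (Nat.one_le_pow _ _ Fintype.card_pos)]
  rw [h2, hw, pow_mul]
  exact Dvd.dvd.mul_right (sub_one_dvd_pow_sub_one _ _) _

theorem isSemisimple (hf : f ^ r = 1) (hr : (r : F) ≠ 0) : Module.End.IsSemisimple f := by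
  refine Module.End.isSemisimple_of_squarefree_aeval_eq_zero (p := X ^ r - 1) ?_ ?_
  · exact ((X_pow_sub_one_separable_iff (F := F)).2 hr).squarefree
  · rw [map_sub, map_pow, aeval_X, map_one, hf, sub_self]

/-- Invariant subspaces of dimension `a + j * i` inside an invariant subspace. -/
theorem exists_dim (hf : f ^ r = 1) (hr : (r : F) ≠ 0) {T : Submodule F V} (hT : Inv f T)
    {i : ℕ} (hi : i = orderOf ((Fintype.card F : ℕ) : ZMod r)) (hi0 : 0 < i) {a j : ℕ}
    (ha : a ≤ finrank F ↥(T ⊓ fixS f)) (hj : j * i ≤ finrank F (T.map (f - 1))) :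
    ∃ X, Inv f X ∧ X ≤ T ∧ finrank F X = a + j * i ∧ finrank F ↥(X ⊓ fixS f) = a := by
  obtain ⟨A, hAle, hA⟩ : ∃ A ≤ T ⊓ fixS f, finrank F A = a := by
    let b := Module.finBasis F ↥(T ⊓ fixS f)
    refine ⟨(Submodule.span F (Set.range (b ∘ Fin.castLE ha))).map (T ⊓ fixS f).subtype,
      Submodule.map_subtype_le _ _, ?_⟩
    rw [Submodule.finrank_map_subtype_eq, finrank_span_eq_card
      (b.linearIndependent.comp _ (Fin.castLE_injective ha)), Fintype.card_fin]
  set D := T.map (f - 1) with hD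
  have hAinv : Inv f A := fun v hv => by rw [mem_fixS.1 (hAle hv).2]; exact hv
  have hDT : D ≤ T := hT.map_sub.2
  have hDC : ∀ v ∈ D, v ∈ fixS f → v = 0 := by
    rintro _ ⟨w, -, rfl⟩ h2
    exact disjoint_fix_mov hf hr h2 ⟨w, rfl⟩
  have hAD : A ⊓ D = ⊥ := (Submodule.eq_bot_iff _).2 fun v hv => hDC v hv.2 (hAle hv.1).2
  have hTdim : finrank F ↥(A ⊔ D) = a + finrank F D := by
    have := Submodule.finrank_sup_add_finrank_inf_eq A D
    rw [hAD, finrank_bot, hA] at this
    omega
  have hXC : ∀ X, A ≤ X → X ≤ A ⊔ D → X ⊓ fixS f = A := fun X h1 h2 => by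
    refine le_antisymm (fun v hv => ?_) (le_inf h1 fun v hv => (hAle hv).2)
    obtain ⟨x, hx, y, hy, rfl⟩ := Submodule.mem_sup.1 (h2 hv.1)
    have : y = 0 := hDC y hy (by simpa using (fixS f).sub_mem hv.2 (hAle hx).2)
    rw [this, add_zero]; exact hx
  obtain ⟨Ps, hprod, hPs⟩ := exists_factors (F := F) (r := r)
    (fun e => hr (by rw [e]; exact ringChar.Nat.cast_ringChar)) i hi.symm.dvd hi0
  obtain ⟨X, hX, hAX, hXle, hdim⟩ := greedy (f := f) Ps hPs hAinv
    (T := A ⊔ D) (hAinv.sup hT.map_sub.1) le_sup_left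
    (fun u _ => by rw [hprod, map_sub, map_pow, aeval_X, map_one, hf, sub_self]; exact A.zero_mem)
    (fun X hX h1 h2 => by
      rw [dim_split (f := f) X, hXC X h1 h2, hA, Nat.add_sub_cancel_left, hi]
      exact mov_dvd hf hr hX) j (by omega)
  exact ⟨X, hX, hXle.trans (sup_le (hAle.trans inf_le_left) hDT), by omega,
    by rw [hXC X hAX hXle, hA]⟩

theorem exists_inv_iff (hf : f ^ r = 1) (hr : (r : F) ≠ 0) {i : ℕ}
    (hi : i = orderOf ((Fintype.card F : ℕ) : ZMod r)) (hi0 : 0 < i) (m : ℕ) :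
    (∃ W, Inv f W ∧ finrank F W = m) ↔
      ∃ a j, a ≤ finrank F (fixS f) ∧ j * i ≤ finrank F (movS f) ∧ m = a + j * i := by
  constructor
  · rintro ⟨W, hW, rfl⟩
    obtain ⟨w, hw⟩ := hi ▸ mov_dvd hf hr hW
    refine ⟨finrank F ↥(W ⊓ fixS f), w, Submodule.finrank_mono inf_le_right, ?_, ?_⟩
    · rw [Nat.mul_comm, ← hw]
      exact Submodule.finrank_mono (LinearMap.map_le_range)
    · rw [Nat.mul_comm, ← hw]; exact dim_split W
  · rintro ⟨a, j, ha, hj, rfl⟩
    obtain ⟨X, hX, -, hdim, -⟩ := exists_dim hf hr (Inv.top f) hi hi0 (a := a) (j := j)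
      (by rwa [top_inf_eq]) (by rwa [Submodule.map_top])
    exact ⟨X, hX, hdim⟩

theorem fix_add_mov : finrank F (fixS f) + finrank F (movS f) = finrank F V := by
  rw [add_comm]; exact LinearMap.finrank_range_add_finrank_ker _

end CfsgLib.Elusive
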