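import Cfsg.Agent.Elusive.SympPlanes
import Cfsg.Agent.Elusive.ExtField
import Cfsg.Agent.Elusive.Semisimple
import Cfsg.Agent.Classical.SympGeometry
import Mathlib.LinearAlgebra.Matrix.BilinearForm
import Mathlib.LinearAlgebra.Matrix.SesquilinearForm
import Mathlib.LinearAlgebra.Determinant
import Mathlib.FieldTheory.Finite.Basic

/-!
Anti-self-adjoint maps with non-square square for an alternating form, in odd characteristic, and
isometries of odd prime order commuting with them.
-/

set_option autoImplicit false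
open scoped Matrix

namespace CfsgLib.Elusive

open Module

variable {F V : Type*} [Field F] [AddCommGroup V] [Module F V] [FiniteDimensional F V]

/-- A space with a map squaring to a non-square has even dimension. -/
theorem even_finrank_of_sq {T : V →ₗ[F] V} {α : F} (hα : ∀ c : F, c ^ 2 ≠ α) (hT : ∀ v, T (T v) = α • v) :
    Even (finrank F V) := by
  rcases Nat.even_or_odd (finrank F V) with h | ⟨m, hm⟩
  · exact h
  exfalso
  have hα0 : α ≠ 0 := fun h => hα 0 (by rw [h]; ring)
  have h1 : LinearMap.det T * LinearMap.det T = α ^ finrank F V := by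
    rw [← map_mul, show T * T = α • (1 : V →ₗ[F] V) from LinearMap.ext fun v => by simpa using hT v,
      LinearMap.det_smul, map_one, mul_one]
  rw [hm] at h1
  refine hα (LinearMap.det T / α ^ m) ?_
  field_simp
  linear_combination h1

/-- No map of odd prime order without fixed points on an odd-dimensional space preserves a non-degenerate form. -/
theorem no_fpf_isometry_odd (h2F : (2 : F) ≠ 0) {r : ℕ} (hr : Odd r) {T : V →ₗ[F] V} (hT : T ^ r = 1) (b : LinearMap.BilinForm F V)
    (hb : ∀ u, (∀ v, b u v = 0) → u = 0) (hbT : ∀ u v, b (T u) (T v) = b u v) (hodd : Odd (finrank F V))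
    (hfix : ∀ v, T v = v → v = 0) : False := by
  let e := Module.finBasis F V
  set M := LinearMap.toMatrix e e T with hM
  set G := LinearMap.BilinForm.toMatrix e b with hG
  have hG0 : G.det ≠ 0 := by
    intro h
    obtain ⟨v, hv0, hv⟩ := Matrix.exists_vecMul_eq_zero_iff.2 h
    refine hv0 ?_
    have h0 : ∑ i, v i • e i = 0 := hb _ fun w => by
      have hlin : b (∑ i, v i • e i) = 0 := e.ext fun j => by
        have := congrFun hv j
        simpa [Matrix.vecMul, dotProduct, hG, LinearMap.BilinForm.toMatrix_apply, map_sum, map_smul,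
          LinearMap.sum_apply] using this
      rw [hlin, LinearMap.zero_apply]
    exact funext (Fintype.linearIndependent_iff.1 e.linearIndependent v h0)
  have h1 : M.transpose * G * M = G := by
    rw [hM, hG, ← LinearMap.BilinForm.toMatrix_comp (b := e) (c := e)]
    congr 1
    exact LinearMap.ext₂ fun u v => hbT u v
  have hd2 : M.det * M.det = 1 := by
    have h := congrArg Matrix.det h1
    rw [Matrix.det_mul, Matrix.det_mul, Matrix.det_transpose] at h
    exact mul_right_cancel₀ hG0 (by linear_combination h)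
  have hdr : M.det ^ r = 1 := by rw [hM, LinearMap.det_toMatrix, ← map_pow, hT, map_one]
  have hd : M.det = 1 := by
    obtain ⟨t, ht⟩ := hr
    rwa [ht, pow_succ, pow_mul, pow_two, hd2, one_pow, one_mul] at hdr
  have h2 : M.transpose * G * (M - 1) = (1 - M.transpose) * G := by
    rw [mul_sub, h1, mul_one, sub_mul, one_mul]
  have h3 := congrArg Matrix.det h2
  rw [Matrix.det_mul, Matrix.det_mul, Matrix.det_mul, Matrix.det_transpose, hd, one_mul,
    show (1 : Matrix (Fin (finrank F V)) (Fin (finrank F V)) F) - M.transpose = -((M - 1).transpose) by simp,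
    Matrix.det_neg, Fintype.card_fin, hodd.neg_one_pow, Matrix.det_transpose] at h3
  by_cases h4 : (M - 1).det = 0
  · rw [hM, ← LinearMap.toMatrix_one e, ← map_sub, LinearMap.det_toMatrix] at h4
    obtain ⟨v, hv, hv0⟩ := (Submodule.ne_bot_iff _).1 (ne_of_gt (LinearMap.bot_lt_ker_of_det_eq_zero h4))
    rw [LinearMap.mem_ker, LinearMap.sub_apply, Module.End.one_apply, sub_eq_zero] at hv
    exact hv0 (hfix v hv)
  · have h5 : (2 : F) * (G.det * (M - 1).det) = 0 := by linear_combination h3
    simp [h2F, hG0, h4] at h5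

/-- A family adapted to an anti-self-adjoint map with non-square square. -/
theorem exists_anti_family [Fintype F] (h2 : (2 : F) ≠ 0) {B : LinearMap.BilinForm F V} (hB : ∀ v, B v v = 0)
    (hnd : ∀ u, (∀ v, B u v = 0) → u = 0) {α : F} (hα : ∀ c : F, c ^ 2 ≠ α) {J : V →ₗ[F] V}
    (hJ : ∀ v, J (J v) = α • v) (hanti : ∀ u v, B (J u) v = -B u (J v)) (m : ℕ) (hm : 2 * m ≤ finrank F V) :
    ∃ v : Fin m → V, (∀ i i', B (v i) (v i') = 0) ∧ ∀ i i', B (v i) (J (v i')) = if i = i' then 1 else 0 := by
  have hsk : ∀ a b, B b a = -B a b := fun a b => by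
    have := hB (a + b)
    simp only [map_add, LinearMap.add_apply, hB] at this
    linear_combination this
  induction m with
  | zero => exact ⟨Fin.elim0, fun i => i.elim0, fun i => i.elim0⟩
  | succ m ih =>
    obtain ⟨v, hvv, hvJ⟩ := ih (by omega)
    have hJJ : ∀ i i', B (J (v i)) (J (v i')) = 0 := fun i i' => by
      rw [hanti, hJ, map_smul, hvv, smul_zero, neg_zero]
    have hJv : ∀ i i', B (J (v i)) (v i') = -if i = i' then 1 else 0 := fun i i' => by
      rw [hanti, hvJ]
    let π : V →ₗ[F] (Fin m → F) × (Fin m → F) :=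
      (LinearMap.pi fun i => B (v i)).prod (LinearMap.pi fun i => B (J (v i)))
    have hmem : ∀ x, x ∈ LinearMap.ker π ↔ (∀ i, B (v i) x = 0) ∧ ∀ i, B (J (v i)) x = 0 := fun x => by
      simp [π, Prod.ext_iff, funext_iff]
    obtain ⟨x, hxP, hx⟩ : ∃ x ∈ LinearMap.ker π, B x (J x) ≠ 0 := by
      by_contra h
      push Not at h
      have hbot : LinearMap.ker π ≠ ⊥ := fun hb => by
        have h1 := LinearMap.finrank_range_add_finrank_ker π
        have h2 := (LinearMap.range π).finrank_le
        rw [hb, finrank_bot] at h1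
        rw [Module.finrank_prod, Module.finrank_fintype_fun_eq_card, Fintype.card_fin] at h2
        omega
      obtain ⟨x, hxP, hx0⟩ := (Submodule.ne_bot_iff _).1 hbot
      refine hx0 (hnd x fun y => ?_)
      set y' := y + ∑ i, B (J (v i)) y • v i - ∑ i, B (v i) y • J (v i) with hy'
      have hxv : ∀ i, B x (v i) = 0 := fun i => by rw [hsk, ((hmem x).1 hxP).1, neg_zero]
      have hxJ : ∀ i, B x (J (v i)) = 0 := fun i => by rw [hsk, ((hmem x).1 hxP).2, neg_zero]
      have hy'P : y' ∈ LinearMap.ker π := by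
        refine (hmem y').2 ⟨fun i => ?_, fun i => ?_⟩ <;> simp [hy', hvv, hvJ, hJv, hJJ]
      have hJP : J y' ∈ LinearMap.ker π := by
        obtain ⟨e1, e2⟩ := (hmem y').1 hy'P
        refine (hmem _).2 ⟨fun i => ?_, fun i => ?_⟩
        · rw [← neg_neg (B (v i) (J y')), ← hanti, e2, neg_zero]
        · rw [hanti, hJ, map_smul, e1, smul_zero, neg_zero]
      have e3 := h _ (add_mem hxP hJP)
      simp only [map_add, LinearMap.add_apply, hJ, map_smul, h x hxP, h _ hJP, smul_eq_mul] at e3
      have e4 : B (J y') (α • y') = 0 := by rw [← hJ y']; exact h _ hJP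
      rw [map_smul, smul_eq_mul] at e4
      have e5 : B (J y') (J x) = α * B x y' := by
        rw [hanti, hJ, map_smul, smul_eq_mul, hsk x y']; ring
      have e6 : B x y' = B x y := by simp [hy', hxv, hxJ]
      have hα0 : α ≠ 0 := fun h => hα 0 (by rw [h]; ring)
      have e7 : (2 : F) * α * B x y = 0 := by rw [← e6]; linear_combination e3 - e4 - e5
      simpa [h2, hα0] using e7
    obtain ⟨s, t, hst⟩ := FiniteField.exists_root_sum_quadratic (R := F)
      (f := Polynomial.X ^ 2 - Polynomial.C (B x (J x))⁻¹) (g := Polynomial.C (-α) * Polynomial.X ^ 2)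
      (Polynomial.degree_X_pow_sub_C (by norm_num) _)
      (Polynomial.degree_C_mul_X_pow 2 (neg_ne_zero.2 fun h => hα 0 (by rw [h]; ring)))
      (FiniteField.odd_card_of_char_ne_two fun h => h2 (by
        have := CharP.cast_eq_zero F (ringChar F)
        rw [h] at this; simpa using this))
    simp only [Polynomial.eval_sub, Polynomial.eval_pow, Polynomial.eval_X, Polynomial.eval_C, Polynomial.eval_mul] at hst
    set x' := s • x + t • J x with hx'
    have hxx : B x' (J x') = 1 := by
      have h := inv_mul_cancel₀ hx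
      simp [hx', hJ, hB, hsk x (J x)]
      linear_combination h + B x (J x) * hst
    obtain ⟨e1, e2⟩ := (hmem x).1 hxP
    have hvJx : ∀ i, B (v i) (J x) = 0 := fun i => by rw [← neg_neg (B (v i) (J x)), ← hanti, e2, neg_zero]
    have hv' : ∀ i, B (v i) x' = 0 ∧ B (v i) (J x') = 0 ∧ B x' (J (v i)) = 0 := fun i => by
      refine ⟨by simp [hx', e1, hvJx], by simp [hx', hJ, e1, hvJx], ?_⟩
      rw [hsk]
      simp [hx', e2, hanti _ (J x), hJ, e1]
    refine ⟨Fin.snoc v x', ?_, ?_⟩
    · intro i i'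
      induction i using Fin.lastCases <;> induction i' using Fin.lastCases <;>
        simp [hB, hvv, (hv' _).1, hsk (v _) x']
    · intro i i'
      induction i using Fin.lastCases <;> induction i' using Fin.lastCases <;>
        simp [hxx, hvJ, (hv' _).2.1, (hv' _).2.2, Fin.castSucc_ne_last, (Fin.castSucc_ne_last _).symm]

/-- An adapted family of full length is a basis, together with its image. -/
theorem anti_family_basis {d : ℕ} {B : LinearMap.BilinForm F V} (hB : ∀ v, B v v = 0) (hd : finrank F V = 2 * d)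
    {α : F} {J : V →ₗ[F] V} (hJ : ∀ v, J (J v) = α • v) (hanti : ∀ u v, B (J u) v = -B u (J v))
    {v : Fin d → V} (hvv : ∀ i i', B (v i) (v i') = 0)
    (hvJ : ∀ i i', B (v i) (J (v i')) = if i = i' then 1 else 0) :
    LinearIndependent F (Sum.elim v (J ∘ v)) ∧ Submodule.span F (Set.range (Sum.elim v (J ∘ v))) = ⊤ := by
  have hJJ : ∀ i i', B (J (v i)) (J (v i')) = 0 := fun i i' => by
    rw [hanti, hJ, map_smul, hvv, smul_zero, neg_zero]
  have hsk : ∀ a b, B b a = -B a b := fun a b => by
    have := hB (a + b)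
    simp only [map_add, LinearMap.add_apply, hB] at this
    linear_combination this
  have hli : LinearIndependent F (Sum.elim v (J ∘ v)) := by
    refine Fintype.linearIndependent_iff.2 fun c hc i => ?_
    rcases i with i | i
    · have := congrArg (fun w => B w (J (v i))) hc
      simpa [Fintype.sum_sum_type, hvJ, hJJ] using this
    · have := congrArg (fun w => B (v i) w) hc
      simpa [Fintype.sum_sum_type, hvJ, hvv] using this
  refine ⟨hli, hli.span_eq_top_of_card_eq_finrank' ?_⟩
  rw [hd, Fintype.card_sum, Fintype.card_fin, two_mul]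

variable {d : ℕ}

/-- Two anti-self-adjoint maps with the same non-square square are conjugate in the symplectic group. -/
theorem exists_conj_anti [Fintype F] (h2 : (2 : F) ≠ 0) {α : F} (hα : ∀ c : F, c ^ 2 ≠ α)
    {j j' : Matrix (Fin d ⊕ Fin d) (Fin d ⊕ Fin d) F} (hj : j * j = α • 1) (hj' : j' * j' = α • 1)
    (hanti : ∀ u v, Cfsg.sympForm d F (j *ᵥ u) v = -Cfsg.sympForm d F u (j *ᵥ v))
    (hanti' : ∀ u v, Cfsg.sympForm d F (j' *ᵥ u) v = -Cfsg.sympForm d F u (j' *ᵥ v)) :
    ∃ g ∈ Cfsg.spGL d F, (g : Matrix (Fin d ⊕ Fin d) (Fin d ⊕ Fin d) F) * j' =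
      j * (g : Matrix (Fin d ⊕ Fin d) (Fin d ⊕ Fin d) F) := by
  classical
  set B := sympBilin d F
  have hB : ∀ v, B v v = 0 := fun v => CfsgLib.Symp.form_self v
  have hnd : ∀ u, (∀ v, B u v = 0) → u = 0 := fun u h => CfsgLib.Symp.eq_zero_of_form_eq_zero fun w => by
    rw [CfsgLib.Symp.form_swap, show CfsgLib.Symp.form u w = 0 from h w, neg_zero]
  have hsq : ∀ {k : Matrix (Fin d ⊕ Fin d) (Fin d ⊕ Fin d) F}, k * k = α • 1 →
      ∀ v, Matrix.toLin' k (Matrix.toLin' k v) = α • v := fun hk v => by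
    rw [Matrix.toLin'_apply, Matrix.toLin'_apply, Matrix.mulVec_mulVec, hk, Matrix.smul_mulVec, Matrix.one_mulVec]
  have hdim : finrank F (Fin d ⊕ Fin d → F) = 2 * d := by
    rw [Module.finrank_fintype_fun_eq_card, Fintype.card_sum, Fintype.card_fin, two_mul]
  obtain ⟨v, hvv, hvJ⟩ := exists_anti_family h2 hB hnd hα (hsq hj) hanti d hdim.ge
  obtain ⟨w, hww, hwJ⟩ := exists_anti_family h2 hB hnd hα (hsq hj') hanti' d hdim.ge
  obtain ⟨hvli, -⟩ := anti_family_basis hB hdim (hsq hj) hanti hvv hvJ
  obtain ⟨hwli, hwsp⟩ := anti_family_basis hB hdim (hsq hj') hanti' hww hwJ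
  have hgram : ∀ {k : Matrix (Fin d ⊕ Fin d) (Fin d ⊕ Fin d) F} {u : Fin d → (Fin d ⊕ Fin d → F)}, k * k = α • 1 →
      (∀ a b, Cfsg.sympForm d F (k *ᵥ a) b = -Cfsg.sympForm d F a (k *ᵥ b)) → (∀ i i', B (u i) (u i') = 0) →
      (∀ i i', B (u i) (Matrix.toLin' k (u i')) = if i = i' then 1 else 0) →
      ∀ s t, B (Sum.elim u (Matrix.toLin' k ∘ u) s) (Sum.elim u (Matrix.toLin' k ∘ u) t) =
        Matrix.fromBlocks 0 1 (-1) (0 : Matrix (Fin d) (Fin d) F) s t := by
    intro k u hk ha huu huk s t
    have hanti2 : ∀ a b, B (Matrix.toLin' k a) b = -B a (Matrix.toLin' k b) := ha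
    rcases s with s | s <;> rcases t with t | t
    · exact huu s t
    · simpa [Matrix.one_apply] using huk s t
    · simp only [Sum.elim_inr, Sum.elim_inl, Function.comp_apply, hanti2, huk]; simp [Matrix.one_apply]
    · simp only [Sum.elim_inr, Function.comp_apply, Matrix.fromBlocks_apply₂₂, Matrix.zero_apply]
      rw [hanti2, hsq hk, map_smul, huu, smul_zero, neg_zero]
  let e : Fin (d + d) ≃ Fin d ⊕ Fin d := finSumFinEquiv.symm
  obtain ⟨s, hs⟩ := CfsgLib.Symp.Geometry.exists_sp_family (l := Fin d) (Sum.elim w (Matrix.toLin' j' ∘ w) ∘ e)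
    (Sum.elim v (Matrix.toLin' j ∘ v) ∘ e) (hwli.comp _ e.injective) (hvli.comp _ e.injective)
    (fun i i' => (hgram hj' hanti' hww hwJ (e i) (e i')).trans (hgram hj hanti hvv hvJ (e i) (e i')).symm)
  refine ⟨(Matrix.symplecticGroup (Fin d) F).subtype.toHomUnits s, fun a b => CfsgLib.Symp.form_smul_smul s a b,
    Matrix.toLin'.injective (LinearMap.ext_on_range hwsp fun i => ?_)⟩
  have hs' : ∀ i, (s : Matrix (Fin d ⊕ Fin d) (Fin d ⊕ Fin d) F) *ᵥ Sum.elim w (Matrix.toLin' j' ∘ w) i =
      Sum.elim v (Matrix.toLin' j ∘ v) i := fun i => by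
    have h := hs (e.symm i)
    rw [Function.comp_apply, Function.comp_apply, e.apply_symm_apply] at h
    exact h
  show Matrix.toLin' ((s : Matrix (Fin d ⊕ Fin d) (Fin d ⊕ Fin d) F) * j') _ =
    Matrix.toLin' (j * (s : Matrix (Fin d ⊕ Fin d) (Fin d ⊕ Fin d) F)) _
  rw [Matrix.toLin'_apply, Matrix.toLin'_apply, ← Matrix.mulVec_mulVec, ← Matrix.mulVec_mulVec, hs']
  rcases i with i | i
  · exact hs' (Sum.inr i)
  · show _ *ᵥ (j' *ᵥ (j' *ᵥ w i)) = j *ᵥ (j *ᵥ v i)
    rw [Matrix.mulVec_mulVec _ j' j', hj', Matrix.mulVec_mulVec _ j j, hj, Matrix.smul_mulVec, Matrix.smul_mulVec,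
      Matrix.one_mulVec, Matrix.one_mulVec, Matrix.mulVec_smul]
    exact congrArg (α • ·) (hs' (Sum.inl i))

/-- An element with scalar square normalises an anti-self-adjoint map with prescribed square. -/
theorem exists_anti_involution [Fintype F] (hd : 0 < d) (h2 : (2 : F) ≠ 0) (α : F)
    {x : ↥(Matrix.symplecticGroup (Fin d) F)} {z : F}
    (hx : ((x ^ 2 : ↥(Matrix.symplecticGroup (Fin d) F)) : Matrix (Fin d ⊕ Fin d) (Fin d ⊕ Fin d) F) = z • 1) :
    ∃ (j' : Matrix (Fin d ⊕ Fin d) (Fin d ⊕ Fin d) F) (ε : F), j' * j' = α • 1 ∧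
      (∀ u v, Cfsg.sympForm d F (j' *ᵥ u) v = -Cfsg.sympForm d F u (j' *ᵥ v)) ∧
      (x : Matrix (Fin d ⊕ Fin d) (Fin d ⊕ Fin d) F) * j' = ε • (j' * (x : Matrix (Fin d ⊕ Fin d) (Fin d ⊕ Fin d) F)) := by
  classical
  obtain ⟨u, w, ⟨huu, hww, huw, hne, hact⟩, hsp⟩ := exists_planes_symp hd h2 hx
  set B := sympBilin d F
  have hsk : ∀ a b, B b a = -B a b := fun a b => CfsgLib.Symp.form_swap b a
  let b : Basis (Fin d ⊕ Fin d) F (Fin d ⊕ Fin d → F) := basisOfTopLeSpanOfCardEqFinrank (Sum.elim u w)
    (by rw [Set.Sum.elim_range, Submodule.span_union, hsp])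
    (by rw [Module.finrank_fintype_fun_eq_card])
  have hb : ∀ i, b i = Sum.elim u w i := fun i => by simp [b]
  -- a map acting on each plane through a fixed traceless matrix
  have key : ∀ a c e : F, a * a + c * e = α → ∀ ε : F,
      (∀ i, Matrix.toLin' (x : Matrix (Fin d ⊕ Fin d) (Fin d ⊕ Fin d) F) (a • u i + c • w i) =
          ε • ((Matrix.toLin' (x : Matrix (Fin d ⊕ Fin d) (Fin d ⊕ Fin d) F) (u i)) |> b.constr F (Sum.elim (fun i => a • u i + c • w i) (fun i => e • u i - a • w i))) ∧
        Matrix.toLin' (x : Matrix (Fin d ⊕ Fin d) (Fin d ⊕ Fin d) F) (e • u i - a • w i) =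
          ε • ((Matrix.toLin' (x : Matrix (Fin d ⊕ Fin d) (Fin d ⊕ Fin d) F) (w i)) |> b.constr F (Sum.elim (fun i => a • u i + c • w i) (fun i => e • u i - a • w i)))) →
      ∃ (j' : Matrix (Fin d ⊕ Fin d) (Fin d ⊕ Fin d) F) (ε : F), j' * j' = α • 1 ∧
        (∀ u v, Cfsg.sympForm d F (j' *ᵥ u) v = -Cfsg.sympForm d F u (j' *ᵥ v)) ∧
        (x : Matrix (Fin d ⊕ Fin d) (Fin d ⊕ Fin d) F) * j' = ε • (j' * (x : Matrix (Fin d ⊕ Fin d) (Fin d ⊕ Fin d) F)) := by
    intro a c e hace ε hε
    set J := b.constr F (Sum.elim (fun i => a • u i + c • w i) (fun i => e • u i - a • w i)) with hJdef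
    have hJu : ∀ i, J (u i) = a • u i + c • w i := fun i => by
      have := b.constr_basis F (Sum.elim (fun i => a • u i + c • w i) (fun i => e • u i - a • w i)) (Sum.inl i)
      rwa [hb] at this
    have hJw : ∀ i, J (w i) = e • u i - a • w i := fun i => by
      have := b.constr_basis F (Sum.elim (fun i => a • u i + c • w i) (fun i => e • u i - a • w i)) (Sum.inr i)
      rwa [hb] at this
    refine ⟨LinearMap.toMatrix' J, ε, ?_, ?_, ?_⟩
    · rw [← LinearMap.toMatrix'_comp, ← LinearMap.toMatrix'_id, ← map_smul]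
      refine congrArg _ (b.ext fun i => ?_)
      rw [hb]
      rcases i with i | i <;>
        simp only [Sum.elim_inl, Sum.elim_inr, LinearMap.comp_apply, LinearMap.smul_apply, LinearMap.id_apply, hJu,
          hJw, map_add, map_sub, map_smul, ← hace] <;> module
    · intro s t
      rw [LinearMap.toMatrix'_mulVec, LinearMap.toMatrix'_mulVec]
      suffices h : B.compl₁₂ J LinearMap.id = -(B.compl₁₂ LinearMap.id J) from LinearMap.congr_fun₂ h s t
      refine b.ext fun i => b.ext fun i' => ?_
      rw [hb, hb]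
      simp only [LinearMap.neg_apply, LinearMap.compl₁₂_apply, LinearMap.id_apply]
      have huu' : ∀ i i', B (u i) (u i') = 0 := huu
      have hww' : ∀ i i', B (w i) (w i') = 0 := hww
      rcases i with i | i <;> rcases i' with i' | i' <;> by_cases hii : i = i' <;>
        first
          | (subst hii; simp [hJu, hJw, huu', hww', hsk (u i) (w i)])
          | simp [hJu, hJw, huu', hww', huw i i' hii, hsk (u i') (w i), huw i' i (Ne.symm hii)]
    · refine Matrix.toLin'.injective (b.ext fun i => ?_)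
      rw [hb, map_smul, LinearMap.smul_apply, Matrix.toLin'_mul, Matrix.toLin'_mul, Matrix.toLin'_toMatrix',
        LinearMap.comp_apply, LinearMap.comp_apply]
      rcases i with i | i
      · rw [Sum.elim_inl, hJu]; exact (hε i).1
      · rw [Sum.elim_inr, hJw]; exact (hε i).2
  rcases hact with ⟨-, hs⟩ | ⟨-, hs⟩
  · refine key 0 1 α (by ring) 1 fun i => ?_
    obtain ⟨s, -, hsu, hsw⟩ := hs i
    have hu := b.constr_basis F (Sum.elim (fun i => (0 : F) • u i + (1 : F) • w i) (fun i => α • u i - (0 : F) • w i)) (Sum.inl i)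
    have hw := b.constr_basis F (Sum.elim (fun i => (0 : F) • u i + (1 : F) • w i) (fun i => α • u i - (0 : F) • w i)) (Sum.inr i)
    rw [hb] at hu hw
    simp only [Sum.elim_inl, Sum.elim_inr] at hu hw
    refine ⟨?_, ?_⟩
    · rw [hsu, map_smul _ s (u i), hu, map_add, map_smul, map_smul, hsu, hsw]; module
    · rw [hsw, map_smul _ s (w i), hw, map_sub, map_smul, map_smul, hsu, hsw]; module
  · obtain ⟨a, c, hac⟩ := exists_sum_two_squares (F := F) α
    refine key a c c (by linear_combination hac) (-1) fun i => ?_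
    obtain ⟨hsu, hsw⟩ := hs i
    have hu := b.constr_basis F (Sum.elim (fun i => a • u i + c • w i) (fun i => c • u i - a • w i)) (Sum.inl i)
    have hw := b.constr_basis F (Sum.elim (fun i => a • u i + c • w i) (fun i => c • u i - a • w i)) (Sum.inr i)
    rw [hb] at hu hw
    simp only [Sum.elim_inl, Sum.elim_inr] at hu hw
    refine ⟨?_, ?_⟩
    · rw [hsu, hw, map_add, map_smul, map_smul, hsu, hsw]; module
    · rw [hsw, map_neg _ (u i), hu, map_sub, map_smul, map_smul, hsu, hsw]; module

end CfsgLib.Elusive
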