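import Mathlib.FieldTheory.Finite.Basic
import Mathlib.LinearAlgebra.Matrix.Charpoly.Coeff
import Mathlib.LinearAlgebra.Matrix.GeneralLinearGroup.Defs
import Mathlib.LinearAlgebra.Matrix.Adjugate
import Mathlib.Tactic

/-! Two by two matrices over finite fields. -/

set_option autoImplicit false
set_option linter.unusedSectionVars false

namespace CfsgLib.Elusive

open Matrix

variable {F : Type*} [Field F] [Fintype F]

theorem nonscalar_entries {A : Matrix (Fin 2) (Fin 2) F} (hA : ∀ z : F, A ≠ z • 1) :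
    A 0 1 ≠ 0 ∨ A 1 0 ≠ 0 ∨ A 0 0 ≠ A 1 1 := by
  by_contra h
  push Not at h
  refine hA (A 0 0) ?_
  ext i j
  fin_cases i <;> fin_cases j <;> simp [h.1, h.2.1, h.2.2]

/-- Two matrices commuting with a non-scalar one commute. -/
theorem commute_of_commute_nonscalar {A B C : Matrix (Fin 2) (Fin 2) F} (hA : ∀ z : F, A ≠ z • 1)
    (hB : A * B = B * A) (hC : A * C = C * A) : B * C = C * B := by
  have e : ∀ {M : Matrix (Fin 2) (Fin 2) F}, A * M = M * A →
      A 0 1 * M 1 0 = M 0 1 * A 1 0 ∧ M 0 1 * (A 0 0 - A 1 1) = A 0 1 * (M 0 0 - M 1 1) ∧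
        M 1 0 * (A 0 0 - A 1 1) = A 1 0 * (M 0 0 - M 1 1) := by
    intro M h
    have h1 := congrFun (congrFun h 0) 0
    have h2 := congrFun (congrFun h 0) 1
    have h3 := congrFun (congrFun h 1) 0
    simp only [Matrix.mul_apply, Fin.sum_univ_two] at h1 h2 h3
    exact ⟨by linear_combination h1, by linear_combination h2, by linear_combination -h3⟩
  obtain ⟨b1, b2, b3⟩ := e hB
  obtain ⟨c1, c2, c3⟩ := e hC
  -- the three cross terms vanish
  have key : B 0 1 * C 1 0 = C 0 1 * B 1 0 ∧ B 0 1 * (C 0 0 - C 1 1) = C 0 1 * (B 0 0 - B 1 1) ∧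
      B 1 0 * (C 0 0 - C 1 1) = C 1 0 * (B 0 0 - B 1 1) := by
    rcases nonscalar_entries hA with h | h | h
    · refine ⟨mul_left_cancel₀ h ?_, mul_left_cancel₀ h ?_, mul_left_cancel₀ h ?_⟩
      · linear_combination B 0 1 * c1 - C 0 1 * b1
      · linear_combination C 0 1 * b2 - B 0 1 * c2
      · linear_combination (C 0 0 - C 1 1) * b1 - (B 0 0 - B 1 1) * c1 -
          A 1 0 * (mul_left_cancel₀ h (show A 0 1 * (C 0 1 * (B 0 0 - B 1 1)) =
            A 0 1 * (B 0 1 * (C 0 0 - C 1 1)) by linear_combination B 0 1 * c2 - C 0 1 * b2))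
    · refine ⟨mul_left_cancel₀ h ?_, mul_left_cancel₀ h ?_, mul_left_cancel₀ h ?_⟩
      · linear_combination C 1 0 * (-b1) + B 1 0 * c1
      · linear_combination (B 0 0 - B 1 1) * c1 - (C 0 0 - C 1 1) * b1 +
          A 0 1 * (mul_left_cancel₀ h (show A 1 0 * (B 1 0 * (C 0 0 - C 1 1)) =
            A 1 0 * (C 1 0 * (B 0 0 - B 1 1)) by linear_combination C 1 0 * b3 - B 1 0 * c3))
      · linear_combination C 1 0 * b3 - B 1 0 * c3
    · have h' : A 0 0 - A 1 1 ≠ 0 := sub_ne_zero.2 h
      have k3 : B 1 0 * (C 0 0 - C 1 1) = C 1 0 * (B 0 0 - B 1 1) := mul_left_cancel₀ h'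
        (by linear_combination (C 0 0 - C 1 1) * b3 - (B 0 0 - B 1 1) * c3)
      refine ⟨mul_left_cancel₀ h' ?_, mul_left_cancel₀ h' ?_, k3⟩
      · linear_combination C 1 0 * b2 - B 1 0 * c2 - A 0 1 * k3
      · linear_combination (C 0 0 - C 1 1) * b2 - (B 0 0 - B 1 1) * c2
  obtain ⟨k1, k2, k3⟩ := key
  ext i j
  fin_cases i <;> fin_cases j <;> simp [Matrix.mul_apply, Fin.sum_univ_two]
  · linear_combination k1
  · linear_combination -k2
  · linear_combination k3
  · linear_combination -k1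

theorem cayley_two (A : Matrix (Fin 2) (Fin 2) F) : A * A = A.trace • A - A.det • 1 := by
  ext i j
  fin_cases i <;> fin_cases j <;>
    simp [Matrix.mul_apply, Matrix.trace_fin_two, Matrix.det_fin_two] <;> ring

theorem coeff_of_nonscalar {A : Matrix (Fin 2) (Fin 2) F} (hA : ∀ z : F, A ≠ z • 1) {a b : F}
    (h : a • A = b • 1) : a = 0 ∧ b = 0 := by
  by_cases ha : a = 0
  · subst ha
    have := congrFun (congrFun h 0) 0
    simpa [eq_comm] using this
  · exact absurd (show A = (a⁻¹ * b) • 1 by rw [← smul_smul, ← h, smul_smul, inv_mul_cancel₀ ha, one_smul])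
      (hA _)

theorem trace_det_of_quadratic {A : Matrix (Fin 2) (Fin 2) F} (hA : ∀ z : F, A ≠ z • 1) {a b : F}
    (h : A * A = a • A - b • 1) : A.trace = a ∧ A.det = b := by
  rw [cayley_two] at h
  obtain ⟨h1, h2⟩ := coeff_of_nonscalar hA (a := A.trace - a) (b := A.det - b)
    (by rw [sub_smul, sub_smul]; linear_combination (norm := abel) h)
  exact ⟨sub_eq_zero.1 h1, sub_eq_zero.1 h2⟩

/-- The norm form of a separable quadratic algebra takes every value. -/
theorem exists_norm_eq (h2 : (2 : F) ≠ 0) {t : F} (ht : t ^ 2 ≠ 4) (c : F) :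
    ∃ a b : F, a ^ 2 + t * a * b + b ^ 2 = c := by
  open Polynomial in
  have hD : (1 : F) - (t / 2) ^ 2 ≠ 0 := by
    intro e
    refine ht ?_
    field_simp at e
    linear_combination -e
  have hchar : Fintype.card F % 2 = 1 := by
    refine FiniteField.odd_card_of_char_ne_two fun e => h2 ?_
    have := CharP.cast_eq_zero F (ringChar F)
    rwa [e, Nat.cast_two] at this
  obtain ⟨a, b, hab⟩ := FiniteField.exists_root_sum_quadratic (R := F) (f := Polynomial.X ^ 2)
    (g := Polynomial.C (1 - (t / 2) ^ 2) * Polynomial.X ^ 2 - Polynomial.C c)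
    (Polynomial.degree_X_pow 2)
    (by
      rw [sub_eq_add_neg, ← map_neg, Polynomial.degree_add_C (by
        rw [Polynomial.degree_C_mul_X_pow 2 hD]; decide), Polynomial.degree_C_mul_X_pow 2 hD]
      rfl) hchar
  simp only [Polynomial.eval_pow, Polynomial.eval_X, Polynomial.eval_sub, Polynomial.eval_mul,
    Polynomial.eval_C] at hab
  refine ⟨a - t / 2 * b, b, ?_⟩
  field_simp at hab ⊢
  linear_combination hab

/-- Non-scalar matrices of determinant one with equal trace (not `±2`) are conjugate by determinant one. -/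
theorem exists_conj_two (h2 : (2 : F) ≠ 0) {A B : Matrix (Fin 2) (Fin 2) F} (hA : ∀ z : F, A ≠ z • 1)
    (hB : ∀ z : F, B ≠ z • 1) (hAd : A.det = 1) (hBd : B.det = 1) (ht : A.trace = B.trace)
    (ht4 : A.trace ^ 2 ≠ 4) : ∃ P : Matrix (Fin 2) (Fin 2) F, P.det = 1 ∧ A * P = P * B := by
  have cyc : ∀ C : Matrix (Fin 2) (Fin 2) F, (∀ z : F, C ≠ z • 1) → C.det = 1 →
      ∃ M : Matrix (Fin 2) (Fin 2) F, M.det ≠ 0 ∧ C * M = M * !![0, -1; 1, C.trace] := by
    intro C hC hCd
    rw [Matrix.det_fin_two] at hCd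
    have key : ∀ v w : F, C 1 0 * v ^ 2 + (C 1 1 - C 0 0) * v * w - C 0 1 * w ^ 2 ≠ 0 →
        ∃ M : Matrix (Fin 2) (Fin 2) F, M.det ≠ 0 ∧ C * M = M * !![0, -1; 1, C.trace] := by
      intro v w h
      refine ⟨!![v, C 0 0 * v + C 0 1 * w; w, C 1 0 * v + C 1 1 * w], ?_, ?_⟩
      · rw [Matrix.det_fin_two_of]
        intro e
        exact h (by linear_combination e)
      · ext i j
        fin_cases i <;> fin_cases j <;> simp [Matrix.mul_apply, Fin.sum_univ_two, Matrix.trace_fin_two]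
        · linear_combination -v * hCd
        · linear_combination -w * hCd
    by_cases h10 : C 1 0 = 0
    · by_cases h01 : C 0 1 = 0
      · refine key 1 1 ?_
        rcases nonscalar_entries hC with h | h | h
        · exact absurd h01 h
        · exact absurd h10 h
        · rw [h10, h01]; intro e; exact h (by linear_combination -e)
      · exact key 0 1 (by simpa using h01)
    · exact key 1 0 (by simpa using h10)
  obtain ⟨M, hM, hMe⟩ := cyc A hA hAd
  obtain ⟨N, hN, hNe⟩ := cyc B hB hBd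
  rw [← ht] at hNe
  set K := !![0, -1; 1, A.trace]
  obtain ⟨a, b, hab⟩ := exists_norm_eq h2 (t := A.trace) ht4 (N.det / M.det)
  have hNi : IsUnit N.det := isUnit_iff_ne_zero.2 hN
  refine ⟨M * (a • 1 + b • K) * N⁻¹, ?_, ?_⟩
  · rw [Matrix.det_mul, Matrix.det_mul, Matrix.det_nonsing_inv, Ring.inverse_eq_inv']
    have : (a • 1 + b • K).det = a ^ 2 + A.trace * a * b + b ^ 2 := by
      simp [K, Matrix.det_fin_two]; ring
    rw [this, hab]
    field_simp
  · have hcomm : K * (a • 1 + b • K) = (a • 1 + b • K) * K := by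
      simp [mul_add, add_mul]
    have hKN : K * N⁻¹ = N⁻¹ * B := by
      calc K * N⁻¹ = N⁻¹ * (N * K) * N⁻¹ := by rw [← mul_assoc, Matrix.nonsing_inv_mul N hNi, one_mul]
        _ = N⁻¹ * B := by rw [← hNe, mul_assoc, mul_assoc, Matrix.mul_nonsing_inv N hNi, mul_one]
    calc A * (M * (a • 1 + b • K) * N⁻¹) = (A * M) * (a • 1 + b • K) * N⁻¹ := by simp only [mul_assoc]
      _ = M * ((K * (a • 1 + b • K)) * N⁻¹) := by rw [hMe]; simp only [mul_assoc]
      _ = M * (a • 1 + b • K) * (K * N⁻¹) := by rw [hcomm]; simp only [mul_assoc]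
      _ = M * (a • 1 + b • K) * N⁻¹ * B := by rw [hKN]; simp only [mul_assoc]

end CfsgLib.Elusive
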