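import Cfsg.Agent.Elusive.Singer
import Cfsg.Agent.Elusive.TwoByTwo
import Cfsg.Agent.Forms.OfBilin
import Mathlib.LinearAlgebra.Matrix.Block

/-! Block normal forms and similitudes of symplectic forms. -/

set_option autoImplicit false
set_option linter.unusedSectionVars false

namespace CfsgLib.Elusive

open Module Matrix Cfsg.Geo

variable {F : Type*} [Field F] [Fintype F] {n m : ℕ}

/-- The symplectic form on two coordinates. -/
def pairForm (F : Type*) [Field F] : Matrix (Fin 2) (Fin 2) F := !![0, 1; -1, 0]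

theorem exists_pair_basis {f : (Fin n → F) → (Fin n → F) → F} (hf : IsSymplecticForm f) :
    ∃ (m : ℕ) (c : Basis (Fin 2 × Fin m) F (Fin n → F)), n = 2 * m ∧
      ∀ a i b j, f (c (a, i)) (c (b, j)) = if i = j then pairForm F a b else 0 := by
  let B : LinearMap.BilinForm F (Fin n → F) := LinearMap.mk₂ F f hf.bilinear.add_left hf.bilinear.smul_left
    (fun x y z => hf.bilinear.add_right x y z) (fun c x y => hf.bilinear.smul_right c x y)
  obtain ⟨m, k, b, h1, h2, h3, h4⟩ :=
    CfsgLib.Forms.exists_symplectic_basis n _ B (fun v => hf.alternating v) (Module.finrank_fin_fun F)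
  have hk : k = 0 := by
    by_contra hne
    have j : Fin k := ⟨0, Nat.pos_of_ne_zero hne⟩
    obtain ⟨-, x, hx⟩ := hf.nondegenerate (b (Sum.inr j)) (b.ne_zero _)
    exact hx (h4 j x)
  subst hk
  let e : (Fin m ⊕ Fin m) ⊕ Fin 0 ≃ Fin 2 × Fin m :=
    (Equiv.sumEmpty _ _).trans
      { toFun := Sum.elim (fun i => (0, i)) (fun i => (1, i))
        invFun := fun p => if p.1 = 0 then Sum.inl p.2 else Sum.inr p.2
        left_inv := fun s => by rcases s with i | i <;> simp
        right_inv := fun p => by obtain ⟨a, i⟩ := p; fin_cases a <;> simp }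
  refine ⟨m, b.reindex e, ?_, ?_⟩
  · have := Module.finrank_eq_card_basis (b.reindex e)
    rw [Module.finrank_fin_fun, Fintype.card_prod, Fintype.card_fin, Fintype.card_fin] at this
    exact this
  · intro a i c j
    fin_cases a <;> fin_cases c <;> simp [e, pairForm]
    · exact h2 i j
    · exact h1 i j
    · rw [hf.skew, show f (b (Sum.inl (Sum.inl j))) (b (Sum.inl (Sum.inr i))) = _ from h1 j i]
      by_cases h : i = j
      · subst h; simp
      · rw [if_neg (Ne.symm h), if_neg h, neg_zero]
    · exact h3 i j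

section Blocks

variable {V : Type*} [AddCommGroup V] [Module F V]

theorem blocks_apply (c : Basis (Fin 2 × Fin m) F V) (H : Fin m → Matrix (Fin 2) (Fin 2) F) (a : Fin 2)
    (i : Fin m) : Matrix.toLin c c (blockDiagonal H) (c (a, i)) = ∑ s, H i s a • c (s, i) := by
  rw [Matrix.toLin_self, Fintype.sum_prod_type]
  refine Finset.sum_congr rfl fun s _ => ?_
  rw [Finset.sum_eq_single i]
  · rw [blockDiagonal_apply_eq]
  · intro j _ hj; rw [blockDiagonal_apply_ne _ _ _ hj, zero_smul]
  · intro h; exact absurd (Finset.mem_univ _) h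

theorem blocks_similitude (c : Basis (Fin 2 × Fin m) F V) (B : LinearMap.BilinForm F V)
    (hc : ∀ a i b j, B (c (a, i)) (c (b, j)) = if i = j then pairForm F a b else 0)
    (H : Fin m → Matrix (Fin 2) (Fin 2) F) {μ : F} (hH : ∀ i, (H i).det = μ) (u v : V) :
    B (Matrix.toLin c c (blockDiagonal H) u) (Matrix.toLin c c (blockDiagonal H) v) = μ * B u v := by
  set h := Matrix.toLin c c (blockDiagonal H)
  suffices hb : B.compl₁₂ h h = μ • B by
    have := LinearMap.congr_fun (LinearMap.congr_fun hb u) v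
    simpa using this
  refine c.ext fun p => c.ext fun q => ?_
  obtain ⟨a, i⟩ := p
  obtain ⟨b, j⟩ := q
  simp only [LinearMap.compl₁₂_apply, h, blocks_apply, Fin.sum_univ_two, map_add, map_smul,
    LinearMap.add_apply, LinearMap.smul_apply, smul_eq_mul, hc]
  by_cases hij : i = j
  · subst hij
    rw [← hH i, Matrix.det_fin_two]
    fin_cases a <;> fin_cases b <;> simp [pairForm] <;> ring
  · simp [hij]

end Blocks

/-- An element with a block normal form is conjugate to a similitude. -/
theorem conj_into_similarity {f : (Fin n → F) → (Fin n → F) → F} (hf : IsSymplecticForm f)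
    {m : ℕ} (c : Basis (Fin 2 × Fin m) F (Fin n → F))
    (hc : ∀ a i b j, f (c (a, i)) (c (b, j)) = if i = j then pairForm F a b else 0)
    (x : Matrix.SpecialLinearGroup (Fin n) F) (b : Basis (Fin 2 × Fin m) F (Fin n → F))
    (H : Fin m → Matrix (Fin 2) (Fin 2) F) {μ : F} (hμ : μ ≠ 0) (hH : ∀ i, (H i).det = μ)
    (hb : ∀ a i, Matrix.toLin' (x : Matrix (Fin n) (Fin n) F) (b (a, i)) = ∑ s, H i s a • b (s, i))
    (i₀ : Fin m)
    (hadj : ∀ d : F, d ≠ 0 → ∃ U : Matrix (Fin 2) (Fin 2) F, U.det = d ∧ U * H i₀ = H i₀ * U) :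
    ∃ P : Matrix.SpecialLinearGroup (Fin n) F, P⁻¹ * x * P ∈ (similarityGroup f).comap
      (Matrix.SpecialLinearGroup.toGL : Matrix.SpecialLinearGroup (Fin n) F →* GL (Fin n) F) := by
  classical
  let e₀ := c.equiv b (Equiv.refl _)
  set h := Matrix.toLin c c (blockDiagonal H) with hh
  have he₀ : ∀ v, Matrix.toLin' (x : Matrix (Fin n) (Fin n) F) (e₀ v) = e₀ (h v) :=
    LinearMap.congr_fun (show Matrix.toLin' (x : Matrix (Fin n) (Fin n) F) ∘ₗ e₀.toLinearMap =
      e₀.toLinearMap ∘ₗ h from c.ext fun p => by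
        obtain ⟨a, i⟩ := p
        simp only [LinearMap.comp_apply, LinearEquiv.coe_coe, h, blocks_apply, e₀, Module.Basis.equiv_apply,
          Equiv.refl_apply, hb, map_sum, map_smul])
  obtain ⟨U, hUd, hU⟩ := hadj (LinearMap.det (e₀ : (Fin n → F) →ₗ[F] (Fin n → F)))⁻¹
    (inv_ne_zero (LinearEquiv.isUnit_det' e₀).ne_zero)
  let Us : Fin m → Matrix (Fin 2) (Fin 2) F := Function.update (fun _ => 1) i₀ U
  set u := Matrix.toLin c c (blockDiagonal Us) with hu
  have hud : LinearMap.det u = (LinearMap.det (e₀ : (Fin n → F) →ₗ[F] (Fin n → F)))⁻¹ := by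
    rw [hu, LinearMap.det_toLin, det_blockDiagonal, Finset.prod_eq_single i₀]
    · simp [Us, hUd]
    · intro j _ hj; simp [Us, Function.update_of_ne hj]
    · intro h; exact absurd (Finset.mem_univ _) h
  have huh : u ∘ₗ h = h ∘ₗ u := by
    rw [hu, hh, ← Matrix.toLin_mul, ← Matrix.toLin_mul, ← blockDiagonal_mul, ← blockDiagonal_mul]
    congr 2
    funext i
    by_cases hi : i = i₀
    · subst hi; simpa [Us] using hU
    · simp [Us, Function.update_of_ne hi]
  obtain ⟨P, hP⟩ := exists_sl (n := n) (f := (e₀ : (Fin n → F) →ₗ[F] (Fin n → F)) ∘ₗ u) (by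
    rw [LinearMap.det_comp, hud, mul_inv_cancel₀ (LinearEquiv.isUnit_det' e₀).ne_zero])
  have hxP : Matrix.toLin' ((P⁻¹ * x * P : Matrix.SpecialLinearGroup (Fin n) F) : Matrix (Fin n) (Fin n) F) = h := by
    have h1 : Matrix.toLin' ((x * P : Matrix.SpecialLinearGroup (Fin n) F) : Matrix (Fin n) (Fin n) F) =
        Matrix.toLin' (P : Matrix (Fin n) (Fin n) F) ∘ₗ h := by
      rw [Matrix.SpecialLinearGroup.coe_mul, Matrix.toLin'_mul, hP, LinearMap.comp_assoc, huh]
      exact LinearMap.ext fun v => by simp [he₀]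
    rw [mul_assoc, Matrix.SpecialLinearGroup.coe_mul, Matrix.toLin'_mul, h1, ← LinearMap.comp_assoc,
      ← Matrix.toLin'_mul, ← Matrix.SpecialLinearGroup.coe_mul, inv_mul_cancel,
      Matrix.SpecialLinearGroup.coe_one, Matrix.toLin'_one, LinearMap.id_comp]
  let B : LinearMap.BilinForm F (Fin n → F) := LinearMap.mk₂ F f hf.bilinear.add_left hf.bilinear.smul_left
    (fun x y z => hf.bilinear.add_right x y z) (fun c x y => hf.bilinear.smul_right c x y)
  refine ⟨P, Units.mk0 μ hμ, fun v w => ?_⟩
  show f (((P⁻¹ * x * P : Matrix.SpecialLinearGroup (Fin n) F) : Matrix (Fin n) (Fin n) F) *ᵥ v)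
    (((P⁻¹ * x * P : Matrix.SpecialLinearGroup (Fin n) F) : Matrix (Fin n) (Fin n) F) *ᵥ w) = μ * f v w
  rw [← Matrix.toLin'_apply, ← Matrix.toLin'_apply, hxP]
  exact blocks_similitude c B hc H hH v w

section NormalForms

variable {V : Type*} [AddCommGroup V] [Module F V] [FiniteDimensional F V] {g : V →ₗ[F] V}

/-- A square root of a non-square scalar. -/
theorem exists_kummer_basis {z : F} (hg : g * g = z • 1) (hz : ∀ y : F, y ^ 2 ≠ z)
    (hd : finrank F V = 2 * m) :
    ∃ b : Basis (Fin 2 × Fin m) F V, ∀ i, g (b (0, i)) = b (1, i) ∧ g (b (1, i)) = z • b (0, i) := by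
  have hgg : ∀ v, g (g v) = z • v := fun v => LinearMap.congr_fun hg v
  have key : ∀ k ≤ m, ∃ v : Fin k → V,
      LinearIndependent F (fun p : Fin k × Fin 2 => if p.2 = 0 then v p.1 else g (v p.1)) := by
    intro k
    induction k with
    | zero => exact fun _ => ⟨Fin.elim0, linearIndependent_empty_type⟩
    | succ k ih =>
      intro hk
      obtain ⟨v, hv⟩ := ih (by omega)
      set S := Submodule.span F (Set.range fun p : Fin k × Fin 2 => if p.2 = 0 then v p.1 else g (v p.1))
      have hS : ∀ y ∈ S, g y ∈ S := fun y hy => by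
        have : S.map g ≤ S := by
          rw [Submodule.map_span, Submodule.span_le]
          rintro _ ⟨_, ⟨⟨i, a⟩, rfl⟩, rfl⟩
          fin_cases a
          · exact Submodule.subset_span ⟨(i, 1), by simp⟩
          · show g (if (1 : Fin 2) = 0 then v i else g (v i)) ∈ S
            rw [if_neg (by decide), hgg]
            exact S.smul_mem z (Submodule.subset_span ⟨(i, 0), by simp⟩)
        exact this ⟨y, hy, rfl⟩
      have hSd : finrank F S = k * 2 := by
        rw [finrank_span_eq_card hv, Fintype.card_prod, Fintype.card_fin, Fintype.card_fin]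
      obtain ⟨w, -, hw⟩ := SetLike.exists_of_lt (show S < ⊤ from lt_top_iff_ne_top.2 fun e => by
        rw [e, finrank_top, hd] at hSd; omega)
      have hind : ∀ a b : F, a • w + b • g w ∈ S → a = 0 ∧ b = 0 := by
        intro a b hab
        have hb0 : b = 0 := by
          by_contra hb
          have h2 := hS _ hab
          rw [map_add, map_smul, map_smul, hgg, smul_smul] at h2
          have h3 := S.sub_mem (S.smul_mem a hab) (S.smul_mem b h2)
          rw [show a • (a • w + b • g w) - b • (a • g w + (b * z) • w) = (a * a - b * b * z) • w by module] at h3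
          have h4 : a * a - b * b * z = 0 := by
            by_contra h5
            exact hw ((S.smul_mem_iff h5).1 h3)
          exact hz (a / b) (by
            rw [div_pow, div_eq_iff (pow_ne_zero 2 hb)]; linear_combination h4)
        subst hb0
        rw [zero_smul, add_zero] at hab
        exact ⟨by_contra fun h => hw ((S.smul_mem_iff h).1 hab), rfl⟩
      refine ⟨Fin.snoc v w, ?_⟩
      rw [Fintype.linearIndependent_iff]
      intro c hc
      rw [Fintype.sum_prod_type, Fin.sum_univ_castSucc] at hc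
      simp only [Fin.snoc_castSucc, Fin.snoc_last, Fin.sum_univ_two, if_true,
        show ((1 : Fin 2) = 0) = False from eq_false (by decide), if_false] at hc
      have hmem : c (Fin.last k, 0) • w + c (Fin.last k, 1) • g w ∈ S := by
        rw [eq_neg_of_add_eq_zero_right hc]
        refine S.neg_mem (S.sum_mem fun i _ => S.add_mem (S.smul_mem _ ?_) (S.smul_mem _ ?_))
        · exact Submodule.subset_span ⟨(i, 0), by simp⟩
        · exact Submodule.subset_span ⟨(i, 1), by simp⟩
      obtain ⟨h0, h1⟩ := hind _ _ hmem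
      rw [h0, h1, zero_smul, zero_smul, add_zero, add_zero] at hc
      have hrest := Fintype.linearIndependent_iff.1 hv (fun p => c (p.1.castSucc, p.2)) (by
        rw [Fintype.sum_prod_type]
        simpa [Fin.sum_univ_two] using hc)
      rintro ⟨i, a⟩
      induction i using Fin.lastCases with
      | last => fin_cases a <;> assumption
      | cast i => exact hrest (i, a)
  obtain ⟨v, hv⟩ := key m le_rfl
  let b := basisOfTopLeSpanOfCardEqFinrank _ (by
    rw [Submodule.eq_top_of_finrank_eq (K := F)
      (S := Submodule.span F (Set.range fun p : Fin m × Fin 2 => if p.2 = 0 then v p.1 else g (v p.1))) (by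
      rw [finrank_span_eq_card hv, Fintype.card_prod, Fintype.card_fin, Fintype.card_fin, hd, Nat.mul_comm])])
    (by rw [Fintype.card_prod, Fintype.card_fin, Fintype.card_fin, hd, Nat.mul_comm])
  refine ⟨b.reindex (Equiv.prodComm _ _), fun i => ?_⟩
  simp [b, hgg]

/-- An involution in characteristic two. -/
theorem exists_unipotent_basis (hN : (g - 1) * (g - 1) = 0) (hd : finrank F V = 2 * m) :
    ∃ (k : ℕ) (b : Basis (Fin 2 × Fin m) F V), ∀ i : Fin m, g (b (0, i)) = b (0, i) ∧
      g (b (1, i)) = b (1, i) + if (i : ℕ) < k then b (0, i) else 0 := by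
  set N := g - 1 with hNdef
  have hNN : ∀ v, N (N v) = 0 := fun v => LinearMap.congr_fun hN v
  let R := LinearMap.range N
  let K := LinearMap.ker N
  have hRK : R ≤ K := by rintro _ ⟨v, rfl⟩; exact hNN v
  set k := finrank F R with hk
  have hrn : finrank F R + finrank F K = finrank F V := LinearMap.finrank_range_add_finrank_ker N
  have hkm : k + k ≤ 2 * m := by have := Submodule.finrank_mono hRK; omega
  obtain ⟨C, hC⟩ := exists_isCompl (R.comap K.subtype)
  have hRd : finrank F (R.comap K.subtype) = k :=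
    (Submodule.comapSubtypeEquivOfLe hRK).finrank_eq
  have hCd : finrank F C = (m - k) + (m - k) := by
    have h1 := Submodule.finrank_add_eq_of_isCompl hC
    have h2 : finrank F K + k = 2 * m := by omega
    omega
  let w := Module.finBasisOfFinrankEq F R hk.symm
  have hu : ∀ i, ∃ u, N u = (w i : V) := fun i => (w i).2
  choose u hu using hu
  let cb := Module.finBasisOfFinrankEq F C hCd
  let fam : Fin 2 × Fin m → V := fun p =>
    if h : (p.2 : ℕ) < k then (if p.1 = 0 then (w ⟨p.2, h⟩ : V) else u ⟨p.2, h⟩)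
    else (if p.1 = 0 then ((cb (Fin.castAdd _ ⟨(p.2 : ℕ) - k, by omega⟩) : K) : V)
      else ((cb (Fin.natAdd _ ⟨(p.2 : ℕ) - k, by omega⟩) : K) : V))
  have hspan : ⊤ ≤ Submodule.span F (Set.range fam) := by
    set S := Submodule.span F (Set.range fam)
    have hRS : R ≤ S := by
      intro y hy
      obtain ⟨c, rfl⟩ : ∃ c : Fin k → F, (∑ i, c i • (w i : V)) = y :=
        ⟨fun i => w.repr ⟨y, hy⟩ i, by
          have := congrArg Subtype.val (w.sum_repr ⟨y, hy⟩)
          simpa only [Submodule.coe_sum, Submodule.coe_smul_of_tower] using this⟩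
      exact S.sum_mem fun i _ => S.smul_mem _ (Submodule.subset_span ⟨(0, ⟨i, by omega⟩), by simp [fam]⟩)
    have hCS : ∀ y : K, y ∈ C → (y : V) ∈ S := by
      intro y hy
      have := congrArg (fun z : C => ((z : K) : V)) (cb.sum_repr ⟨y, hy⟩)
      simp only [Submodule.coe_sum, Submodule.coe_smul_of_tower] at this
      rw [← this]
      refine S.sum_mem fun l _ => S.smul_mem _ ?_
      induction l using Fin.addCases with
      | left l => exact Submodule.subset_span ⟨(0, ⟨k + l, by omega⟩), by simp [fam] <;> rfl⟩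
      | right l => exact Submodule.subset_span ⟨(1, ⟨k + l, by omega⟩), by simp [fam] <;> rfl⟩
    intro v _
    obtain ⟨c, hc⟩ : ∃ c : Fin k → F, (∑ i, c i • (w i : V)) = N v :=
      ⟨fun i => w.repr ⟨N v, v, rfl⟩ i, by
        have := congrArg Subtype.val (w.sum_repr ⟨N v, v, rfl⟩)
        simpa only [Submodule.coe_sum, Submodule.coe_smul_of_tower] using this⟩
    have hker : v - ∑ i, c i • u i ∈ K := by
      simp [K, map_sum, hu, hc]
    obtain ⟨y₁, hy₁, y₂, hy₂, hy⟩ := Submodule.mem_sup.1
      (show (⟨_, hker⟩ : K) ∈ R.comap K.subtype ⊔ C by rw [hC.sup_eq_top]; exact Submodule.mem_top)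
    have hy' : (y₁ : V) + y₂ = v - ∑ i, c i • u i := congrArg Subtype.val hy
    rw [show v = (y₁ : V) + y₂ + ∑ i, c i • u i by rw [hy']; abel]
    refine S.add_mem (S.add_mem (hRS hy₁) (hCS _ hy₂)) (S.sum_mem fun i _ => S.smul_mem _ ?_)
    exact Submodule.subset_span ⟨(1, ⟨i, by omega⟩), by simp [fam] <;> rfl⟩
  let b := basisOfTopLeSpanOfCardEqFinrank fam hspan
    (by rw [Fintype.card_prod, Fintype.card_fin, Fintype.card_fin, hd])
  refine ⟨k, b, fun i => ?_⟩
  have hgv : ∀ v, g v = v + N v := fun v => by simp [hNdef]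
  have hb : ∀ p, b p = fam p := fun p => by simp [b]
  rw [hb, hb, hgv, hgv]
  by_cases h : (i : ℕ) < k
  · obtain ⟨v, hv⟩ := (w ⟨i, h⟩).2
    simp only [fam, dif_pos h, if_pos h, if_true, show ((1 : Fin 2) = 0) = False from eq_false (by decide),
      if_false, hu]
    exact ⟨by rw [← hv, hNN, add_zero], trivial⟩
  · simp only [fam, dif_neg h, if_neg h, if_true, show ((1 : Fin 2) = 0) = False from eq_false (by decide),
      if_false]
    exact ⟨by rw [LinearMap.mem_ker.1 (cb _ : K).2, add_zero],
      by rw [LinearMap.mem_ker.1 (cb _ : K).2]⟩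

/-- A reflection with both eigenspaces of even dimension. -/
theorem exists_involution_basis (hg : g * g = 1) (h2 : (2 : F) ≠ 0) {k : ℕ}
    (hd : finrank F V = 2 * m) (hk : finrank F (LinearMap.ker (g - 1)) = k + k) :
    ∃ b : Basis (Fin 2 × Fin m) F V, ∀ (a : Fin 2) (i : Fin m),
      g (b (a, i)) = (if (i : ℕ) < k then (1 : F) else -1) • b (a, i) := by
  have hgg : ∀ v, g (g v) = v := fun v => LinearMap.congr_fun hg v
  let A := LinearMap.ker (g - 1)
  let B := LinearMap.ker (g + 1)
  have hmA : ∀ v ∈ A, g v = v := fun v hv => sub_eq_zero.1 hv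
  have hmB : ∀ v ∈ B, g v = -v := fun v hv => eq_neg_of_add_eq_zero_left hv
  have hc : IsCompl A B := by
    refine ⟨Submodule.disjoint_def.2 fun v ha hb => ?_, codisjoint_iff.2 (eq_top_iff.2 fun v _ => ?_)⟩
    · have : (2 : F) • v = 0 := by rw [two_smul]; nth_rw 1 [← hmA v ha]; rw [hmB v hb, neg_add_cancel]
      exact (smul_eq_zero.1 this).resolve_left h2
    · refine Submodule.mem_sup.2 ⟨(2 : F)⁻¹ • (v + g v), ?_, (2 : F)⁻¹ • (v - g v), ?_, ?_⟩
      · simp [A, hgg]; abel
      · simp [B, hgg]
      · rw [← smul_add, show v + g v + (v - g v) = (2 : F) • v by rw [two_smul]; abel, smul_smul,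
          inv_mul_cancel₀ h2, one_smul]
  have hAB := Submodule.finrank_add_eq_of_isCompl hc
  let cA := Module.finBasisOfFinrankEq F A hk
  let cB := Module.finBasisOfFinrankEq F B (show finrank F B = (m - k) + (m - k) by
    have : finrank F A = k + k := hk; omega)
  have hkm : k ≤ m := by have : finrank F A = k + k := hk; omega
  let fam : Fin 2 × Fin m → V := fun p =>
    if h : (p.2 : ℕ) < k then (if p.1 = 0 then (cA (Fin.castAdd _ ⟨p.2, h⟩) : V) else cA (Fin.natAdd _ ⟨p.2, h⟩))
    else (if p.1 = 0 then (cB (Fin.castAdd _ ⟨(p.2 : ℕ) - k, by omega⟩) : V)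
      else cB (Fin.natAdd _ ⟨(p.2 : ℕ) - k, by omega⟩))
  have hspan : ⊤ ≤ Submodule.span F (Set.range fam) := by
    set S := Submodule.span F (Set.range fam)
    rw [← hc.sup_eq_top]
    refine sup_le (fun y hy => ?_) (fun y hy => ?_)
    · have := congrArg Subtype.val (cA.sum_repr ⟨y, hy⟩)
      simp only [Submodule.coe_sum, Submodule.coe_smul_of_tower] at this
      rw [← this]
      refine S.sum_mem fun l _ => S.smul_mem _ ?_
      induction l using Fin.addCases with
      | left l => exact Submodule.subset_span ⟨(0, ⟨l, by omega⟩), by simp [fam] <;> rfl⟩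
      | right l => exact Submodule.subset_span ⟨(1, ⟨l, by omega⟩), by simp [fam] <;> rfl⟩
    · have := congrArg Subtype.val (cB.sum_repr ⟨y, hy⟩)
      simp only [Submodule.coe_sum, Submodule.coe_smul_of_tower] at this
      rw [← this]
      refine S.sum_mem fun l _ => S.smul_mem _ ?_
      induction l using Fin.addCases with
      | left l => exact Submodule.subset_span ⟨(0, ⟨k + l, by omega⟩), by simp [fam] <;> rfl⟩
      | right l => exact Submodule.subset_span ⟨(1, ⟨k + l, by omega⟩), by simp [fam] <;> rfl⟩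
  let b := basisOfTopLeSpanOfCardEqFinrank fam hspan
    (by rw [Fintype.card_prod, Fintype.card_fin, Fintype.card_fin, hd])
  refine ⟨b, fun a i => ?_⟩
  have hb : ∀ p, b p = fam p := fun p => by simp [b]
  rw [hb]
  by_cases h : (i : ℕ) < k
  · simp only [fam, dif_pos h, if_pos h, one_smul]
    split <;> exact hmA _ (cA _).2
  · simp only [fam, dif_neg h, if_neg h, neg_one_smul]
    split <;> exact hmB _ (cB _).2

end NormalForms

end CfsgLib.Elusive
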