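import Cfsg.Agent.Elusive.Construct
import Cfsg.Agent.Elusive.SympNormal
import Cfsg.Agent.Elusive.SympAnti
import Cfsg.Agent.QuadStd.Disc
import Cfsg.Agent.Quad.Orders
import Cfsg.Agent.Quad.Matrices
import Cfsg.Agent.Geo.Basic
import Cfsg.Agent.Classical.LinearOrder
import Cfsg.Prelude.Def_GeometricClasses

/-! Conjugating into the group of similitudes of a quadratic form. -/

set_option autoImplicit false

namespace CfsgLib.Elusive

open Module Matrix QuadraticMap CfsgLib.Quad CfsgLib.QuadStd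

variable {F : Type*} [Field F]

theorem exists_ne_zero_value {n : ℕ} {Q : QuadraticForm F (Fin n → F)} (hQ : (polarBilin Q).Nondegenerate)
    (hn : 0 < n) : ∃ v, Q v ≠ 0 := by
  by_contra h
  push Not at h
  have hb : (Pi.single (⟨0, hn⟩ : Fin n) (1 : F) : Fin n → F) = 0 :=
    hQ.1 _ fun w => by simp [polarBilin_apply_apply, polar, h]
  simpa using congrFun hb ⟨0, hn⟩

/-- A matrix with a similar symmetric form of the right discriminant is conjugate to a similitude. -/
theorem exists_sl_conj_similitude [Finite F] (h2 : (2 : F) ≠ 0) {n : ℕ} (hn : 0 < n)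
    {Q : QuadraticForm F (Fin n → F)} (hQ : (polarBilin Q).Nondegenerate) {x : GL (Fin n) F}
    {M K G : Matrix (Fin n) (Fin n) F} {μ : F} (hμ : μ ≠ 0)
    (hxM : (x : Matrix (Fin n) (Fin n) F) * M = M * K) (hK : Kᵀ * G * K = μ • G) (hsym : Gᵀ = G)
    (hM : M.det ≠ 0)
    (hd : ((2 : F) • G).det = M.det ^ 2 * (QuadStd.gram Q (Pi.basisFun F (Fin n))).det) :
    ∃ g ∈ Cfsg.Geo.specialLinear (Fin n) F, g⁻¹ * x * g ∈ Cfsg.Geo.quadSimilarityGroup ⇑Q := by
  classical
  set b := Pi.basisFun F (Fin n) with hb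
  have hD : (QuadStd.gram Q b).det ≠ 0 := det_gram_ne_zero hQ b
  set R : QuadraticForm F (Fin n → F) := LinearMap.BilinMap.toQuadraticMap (Matrix.toLinearMap₂' F G) with hR
  have hRv : ∀ v, R v = v ⬝ᵥ G *ᵥ v := fun v => by
    rw [hR, LinearMap.BilinMap.toQuadraticMap_apply, Matrix.toLinearMap₂'_apply']
  have hpol : ∀ u v, polar R u v = u ⬝ᵥ ((2 : F) • G) *ᵥ v := fun u v => by
    rw [hR, LinearMap.BilinMap.polar_toQuadraticMap, Matrix.toLinearMap₂'_apply', Matrix.toLinearMap₂'_apply',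
      dotProduct_mulVec v, dotProduct_comm (v ᵥ* G), ← Matrix.mulVec_transpose, hsym, Matrix.smul_mulVec,
      dotProduct_smul, smul_eq_mul, two_mul]
  have hG2 : ((2 : F) • G).det ≠ 0 := by rw [hd]; exact mul_ne_zero (pow_ne_zero 2 hM) hD
  have hleft : ∀ u, (∀ v, polar R u v = 0) → u = 0 := fun u hu =>
    Matrix.eq_zero_of_vecMul_eq_zero hG2 (funext fun i => by
      have h := hu (Pi.single i 1)
      rw [hpol, dotProduct_mulVec] at h
      simpa using h)
  have hRn : (polarBilin R).Nondegenerate :=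
    ⟨fun u hu => hleft u fun v => hu v, fun u hu => hleft u fun v => (polar_comm _ _ _).trans (hu v)⟩
  have hgR : QuadStd.gram R b = (2 : F) • G := by
    ext i j
    simp [QuadStd.gram, hpol, hb, Matrix.mulVec_single_one, Matrix.col]
  obtain ⟨g0, hg0⟩ := isometric_of_disc h2 hRn hQ b b ⟨M.det * (QuadStd.gram Q b).det, by rw [hgR, hd]; ring⟩
  obtain ⟨g1, hg1, hdet⟩ : ∃ g1 : (Fin n → F) ≃ₗ[F] (Fin n → F), (∀ v, Q (g1 v) = R v) ∧
      LinearMap.det g1.toLinearMap = M.det := by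
    have hsq : LinearMap.det g0.toLinearMap ^ 2 = M.det ^ 2 := by
      have hfam : QuadStd.gram Q (fun i => g0 (b i)) = (2 : F) • G := by
        rw [← hgR]
        ext i j
        simp [QuadStd.gram, polar, ← hg0]
      have h1 := congrArg Matrix.det (gram_family Q b fun i => g0 (b i))
      rw [hfam, Matrix.det_mul, Matrix.det_mul, Matrix.det_transpose, hd] at h1
      have h2' : (b.toMatrix fun i => g0 (b i)).det = LinearMap.det g0.toLinearMap := by
        rw [← LinearMap.det_toMatrix b]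
        congr 1
        ext i j
        simp [Basis.toMatrix_apply, LinearMap.toMatrix_apply]
      rw [h2'] at h1
      exact mul_right_cancel₀ hD (by linear_combination -h1)
    rcases sq_eq_sq_iff_eq_or_eq_neg.1 hsq with h | h
    · exact ⟨g0, hg0, h⟩
    · obtain ⟨d, hd'⟩ := exists_ne_zero_value hQ hn
      refine ⟨g0.trans (refl Q d).1, fun v => ?_, ?_⟩
      · rw [LinearEquiv.trans_apply, (refl Q d).2, hg0]
      · have h1 := detO_refl hd'
        rw [detO_val] at h1
        rw [LinearEquiv.coe_trans, LinearMap.det_comp, h1, h]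
        ring
  set N := LinearMap.toMatrix' g1.toLinearMap with hN
  have hNdet : N.det = M.det := by rw [hN, LinearMap.det_toMatrix', hdet]
  have hhdet : (N * M⁻¹).det = 1 := by
    rw [Matrix.det_mul, Matrix.det_nonsing_inv, Ring.inverse_eq_inv', hNdet, mul_inv_cancel₀ hM]
  let h : GL (Fin n) F := Matrix.GeneralLinearGroup.mkOfDetNeZero (N * M⁻¹) (by rw [hhdet]; exact one_ne_zero)
  have hmem : h ∈ Cfsg.Geo.specialLinear (Fin n) F := CfsgLib.Geo.mem_specialLinear.2 hhdet
  refine ⟨h⁻¹, inv_mem hmem, ?_⟩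
  rw [inv_inv]
  refine ⟨Units.mk0 μ hμ, fun v => ?_⟩
  set y := ((h * x * h⁻¹ : GL (Fin n) F) : Matrix (Fin n) (Fin n) F) with hy
  have hhM : (h : Matrix (Fin n) (Fin n) F) * M = N :=
    Matrix.nonsing_inv_mul_cancel_right M N (isUnit_iff_ne_zero.2 hM)
  have hyN : y * N = N * K := by
    rw [hy, Units.val_mul, Units.val_mul, ← hhM, Matrix.mul_assoc _ _ ((h : Matrix (Fin n) (Fin n) F) * M),
      ← Matrix.mul_assoc ((h⁻¹ : GL (Fin n) F) : Matrix (Fin n) (Fin n) F), Units.inv_mul, Matrix.one_mul,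
      Matrix.mul_assoc _ (x : Matrix (Fin n) (Fin n) F), hxM]
    simp only [Matrix.mul_assoc]
  have hNv : ∀ w, N *ᵥ w = g1 w := fun w => LinearMap.toMatrix'_mulVec _ _
  obtain ⟨w, rfl⟩ := g1.surjective v
  rw [← hNv, Matrix.mulVec_mulVec, hyN, ← Matrix.mulVec_mulVec, hNv, hNv, hg1, hg1, Units.val_mk0, hRv, hRv,
    Matrix.mulVec_mulVec, dotProduct_mulVec, ← Matrix.vecMul_transpose, Matrix.vecMul_vecMul, ← dotProduct_mulVec,
    ← Matrix.mul_assoc, hK, Matrix.smul_mulVec, dotProduct_smul, smul_eq_mul]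

/-- A map of order dividing `r`, the field having the `r`-th roots of one, is diagonalisable. -/
theorem exists_diag_basis {V : Type*} [AddCommGroup V] [Module F V] [FiniteDimensional F V] {n r : ℕ}
    (hd : finrank F V = n) {S : V →ₗ[F] V} (hS : S ^ r = 1) {ζ : F} (hζ : IsPrimitiveRoot ζ r)
    (hr : (r : F) ≠ 0) : ∃ b : Basis (Fin n) F V, ∀ i, ∃ k : ℕ, S (b i) = ζ ^ k • b i := by
  classical
  set s : Set V := {v | ∃ k : ℕ, S v = ζ ^ k • v} with hs
  have hr0 : r ≠ 0 := fun h => hr (by simp [h])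
  have hζ0 : ζ ≠ 0 := hζ.ne_zero hr0
  have hspan : ⊤ ≤ Submodule.span F s := fun v _ => by
    have hP : ∀ k : ℕ, (∑ j ∈ Finset.range r, ((ζ ^ k)⁻¹ • S) ^ j) v ∈ s := fun k => by
      refine ⟨k, ?_⟩
      have h1 : ((ζ ^ k)⁻¹ • S) ^ r = 1 := by
        rw [smul_pow, hS, inv_pow, ← pow_mul, mul_comm, pow_mul, hζ.pow_eq_one, one_pow, inv_one, one_smul]
      have h2 := LinearMap.congr_fun (mul_geom_sum ((ζ ^ k)⁻¹ • S) r) v
      rw [h1, sub_self, LinearMap.zero_apply, Module.End.mul_apply, LinearMap.sub_apply, Module.End.one_apply,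
        sub_eq_zero, LinearMap.smul_apply, inv_smul_eq_iff₀ (pow_ne_zero _ hζ0)] at h2
      exact h2
    have hsum : ∑ k ∈ Finset.range r, (∑ j ∈ Finset.range r, ((ζ ^ k)⁻¹ • S) ^ j) v = (r : F) • v := by
      simp only [LinearMap.sum_apply, smul_pow, LinearMap.smul_apply]
      rw [Finset.sum_comm]
      simp only [← Finset.sum_smul]
      rw [Finset.sum_eq_single 0]
      · simp
      · intro j hj hj0
        rw [Finset.mem_range] at hj
        have hne : ((ζ ^ j)⁻¹) ≠ 1 := by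
          rw [Ne, inv_eq_one]
          exact fun h => hj0 (Nat.eq_zero_of_dvd_of_lt (hζ.dvd_of_pow_eq_one j h) hj)
        rw [Finset.sum_congr rfl (g := fun k => ((ζ ^ j)⁻¹) ^ k) (fun k _ => by
          rw [inv_pow, inv_pow, ← pow_mul, ← pow_mul, mul_comm]), geom_sum_eq hne,
          inv_pow, ← pow_mul, mul_comm, pow_mul, hζ.pow_eq_one, one_pow, inv_one, sub_self, zero_div, zero_smul]
      · intro h; exact absurd (Finset.mem_range.2 (Nat.pos_of_ne_zero hr0)) h
    rw [← inv_smul_smul₀ hr v, ← hsum]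
    exact Submodule.smul_mem _ _ (Submodule.sum_mem _ fun k _ => Submodule.subset_span (hP k))
  let b0 := Basis.ofSpan hspan
  refine ⟨b0.reindex (b0.indexEquiv (Module.finBasisOfFinrankEq F V hd)), fun i => ?_⟩
  rw [Basis.reindex_apply]
  exact Basis.ofSpan_subset hspan ⟨_, rfl⟩

/-- A symmetric colouring has a compatible involution. -/
theorem exists_pairing {ι α : Type*} [Fintype ι] [DecidableEq α] [AddCommGroup α] {e : ι → α} {c : α}
    (h : ∀ v, (Finset.univ.filter fun i => e i = c - v).card = (Finset.univ.filter fun i => e i = v).card) :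
    ∃ σ : Equiv.Perm ι, Function.Involutive σ ∧ ∀ i, e i + e (σ i) = c := by
  classical
  let E : ι ≃ Σ v : α, Fin (Fintype.card {i // e i = v}) :=
    (Equiv.sigmaFiberEquiv e).symm.trans (Equiv.sigmaCongrRight fun v => Fintype.equivFin {i // e i = v})
  have hc : ∀ v, Fintype.card {i // e i = v} = Fintype.card {i // e i = c - v} := fun v => by
    rw [Fintype.card_subtype, Fintype.card_subtype, h]
  let T : (Σ v : α, Fin (Fintype.card {i // e i = v})) → (Σ v : α, Fin (Fintype.card {i // e i = v})) :=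
    fun p => ⟨c - p.1, Fin.cast (hc p.1) p.2⟩
  have hT : Function.Involutive T := fun p => by
    obtain ⟨v, a⟩ := p
    refine Sigma.ext (by simp [T]) ?_
    refine (Fin.heq_ext_iff (congrArg (fun v => Fintype.card {i // e i = v}) (show c - (c - v) = v by abel))).2 ?_
    simp [T]
  refine ⟨E.trans (hT.toPerm.trans E.symm), fun i => by simp [hT (E i)], fun i => ?_⟩
  have hE : ∀ p, e (E.symm p) = p.1 := fun p => ((Fintype.equivFin {i // e i = p.1}).symm p.2).2
  have h1 : (E i).1 = e i := rfl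
  simp [hE, T, h1]

theorem symm_colouring_three : ∀ e : Fin 3 → ZMod 3, ∑ i, e i = 0 → ∃ c : ZMod 3, ∀ v,
    (Finset.univ.filter fun i => e i = c - v).card = (Finset.univ.filter fun i => e i = v).card := by
  decide +kernel

theorem symm_colouring_five : ∀ e : Fin 5 → ZMod 5, ∑ i, e i = 0 → ∃ c : ZMod 5, ∀ v,
    (Finset.univ.filter fun i => e i = c - v).card = (Finset.univ.filter fun i => e i = v).card := by
  decide +kernel

theorem exists_nonzero_perm {n : ℕ} {G : Matrix (Fin n) (Fin n) F} (hG : G.det ≠ 0) :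
    ∃ σ : Equiv.Perm (Fin n), ∀ i, G (σ i) i ≠ 0 := by
  by_contra h
  push Not at h
  refine hG ?_
  rw [Matrix.det_apply]
  refine Finset.sum_eq_zero fun σ _ => ?_
  obtain ⟨i, hi⟩ := h σ
  rw [Finset.prod_eq_zero (f := fun i => G (σ i) i) (Finset.mem_univ i) hi, smul_zero]

/-- The eigenvalues of a diagonal matrix conjugate to a similitude are symmetric. -/
theorem diag_similitude_symm [DecidableEq F] {n : ℕ} {Q : QuadraticForm F (Fin n → F)}
    (hQ : (polarBilin Q).Nondegenerate) {x g : GL (Fin n) F} {δ : Fin n → F}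
    (hx : (x : Matrix (Fin n) (Fin n) F) = Matrix.diagonal δ)
    (hg : g⁻¹ * x * g ∈ Cfsg.Geo.quadSimilarityGroup ⇑Q) :
    ∃ μ : F, μ ≠ 0 ∧ ∀ ν : F, ν ≠ 0 → (Finset.univ.filter fun i => δ i = ν).card =
      (Finset.univ.filter fun i => δ i = μ / ν).card := by
  obtain ⟨μ, hμ⟩ := hg
  let L : (Fin n → F) →ₗ[F] (Fin n → F) := Matrix.toLin' ((g⁻¹ : GL (Fin n) F) : Matrix (Fin n) (Fin n) F)
  let b := Pi.basisFun F (Fin n)
  let G : Matrix (Fin n) (Fin n) F := Matrix.of fun i k => polar Q (L (b i)) (L (b k))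
  have hG : G.det ≠ 0 := by
    let L' : (Fin n → F) ≃ₗ[F] (Fin n → F) :=
      { L with
        invFun := fun v => (g : Matrix (Fin n) (Fin n) F) *ᵥ v
        left_inv := fun v => by simp [L, Matrix.mulVec_mulVec]
        right_inv := fun v => by simp [L, Matrix.mulVec_mulVec] }
    exact det_gram_ne_zero hQ (b.map L')
  have hsim : ∀ i k, δ i * δ k * G i k = (μ : F) * G i k := by
    have hcom : ∀ v, ((g⁻¹ * x * g : GL (Fin n) F) : Matrix (Fin n) (Fin n) F) *ᵥ L v =
        L (Matrix.diagonal δ *ᵥ v) := fun v => by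
      simp only [L, Matrix.toLin'_apply, Matrix.mulVec_mulVec, ← hx, ← Units.val_mul]
      simp [mul_assoc]
    have hbd : ∀ i, L (Matrix.diagonal δ *ᵥ b i) = δ i • L (b i) := fun i => by
      rw [← map_smul]
      congr 1
      funext k
      by_cases h : k = i
      · subst h; simp [b, Matrix.mulVec_diagonal]
      · simp [b, Matrix.mulVec_diagonal, h]
    intro i k
    have h : polar Q (δ i • L (b i)) (δ k • L (b k)) = (μ : F) * polar Q (L (b i)) (L (b k)) := by
      rw [← hbd, ← hbd, ← hcom, ← hcom]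
      simp only [polar, ← Matrix.mulVec_add, hμ]
      ring
    rw [polar_smul_left, polar_smul_right, smul_eq_mul, smul_eq_mul] at h
    simp only [G, Matrix.of_apply]
    linear_combination h
  obtain ⟨σ, hσ⟩ := exists_nonzero_perm hG
  have hδ : ∀ i, δ (σ i) * δ i = μ := fun i => mul_right_cancel₀ (hσ i) (hsim _ _)
  refine ⟨μ, μ.ne_zero, fun ν hν => ?_⟩
  refine Finset.card_bij (fun i _ => σ i) (fun i hi => ?_) (fun a _ b _ h => σ.injective h) (fun k hk => ?_)
  · rw [Finset.mem_filter] at hi ⊢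
    refine ⟨Finset.mem_univ _, ?_⟩
    rw [← hδ i, hi.2, mul_div_assoc, div_self hν, mul_one]
  · refine ⟨σ.symm k, ?_, σ.apply_symm_apply k⟩
    rw [Finset.mem_filter] at hk ⊢
    refine ⟨Finset.mem_univ _, ?_⟩
    have h := hδ (σ.symm k)
    rw [σ.apply_symm_apply, hk.2] at h
    field_simp at h
    exact h

/-- A permutation of order `r` without fixed points on the non-zero zeros of a form. -/
theorem card_zeros_modEq [Fintype F] {n r : ℕ} [Fact r.Prime] {Q : QuadraticForm F (Fin n → F)}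
    {T : (Fin n → F) →ₗ[F] (Fin n → F)} (hT : T ^ r = 1) (hfix : ∀ v, T v = v → v = 0)
    (hzero : ∀ v, Q v = 0 → Q (T v) = 0) : ((Nat.card {v // Q v = 0} : ℕ) : ZMod r) = 1 := by
  classical
  let f : Function.End {v // Q v = 0} := fun v => ⟨T v, hzero v v.2⟩
  have hpow : ∀ (k : ℕ) v, ((f ^ k) v : {v // Q v = 0}).1 = (T ^ k) v.1 := by
    intro k
    induction k with
    | zero => intro v; rfl
    | succ k ih =>
      intro v
      rw [pow_succ', pow_succ', Module.End.mul_apply, ← ih]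
      rfl
  have hf : f ^ r ^ 1 = 1 := funext fun v => Subtype.ext (by rw [pow_one, hpow, hT]; rfl)
  have h := Equiv.Perm.card_fixedPoints_modEq hf
  rw [Nat.card_eq_fintype_card, (ZMod.natCast_eq_natCast_iff _ _ _).2 h,
    Fintype.card_eq_one_iff.2 ⟨⟨⟨0, QuadraticMap.map_zero _⟩, Subtype.ext (map_zero T)⟩, fun y => ?_⟩, Nat.cast_one]
  exact Subtype.ext (Subtype.ext (hfix _ (congrArg Subtype.val y.2)))

theorem prod_cast (q k : ℕ) (hq : 0 < q) :
    ((∏ i ∈ Finset.range k, (q ^ (2 * (i + 1)) - 1) : ℕ) : ℤ) =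
      ∏ i ∈ Finset.range k, ((q : ℤ) ^ (2 * (i + 1)) - 1) := by
  rw [Nat.cast_prod]
  refine Finset.prod_congr rfl fun i _ => ?_
  rw [Nat.cast_sub (Nat.one_le_pow _ _ hq)]
  simp

theorem prod_parity (f : ℕ → ℕ) (m : ℕ) : ∏ k ∈ Finset.range (2 * m), f k =
    (∏ k ∈ Finset.range m, f (2 * k)) * ∏ k ∈ Finset.range m, f (2 * k + 1) := by
  induction m with
  | zero => simp
  | succ m ih =>
    rw [show 2 * (m + 1) = 2 * m + 1 + 1 by ring, Finset.prod_range_succ, Finset.prod_range_succ, ih,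
      Finset.prod_range_succ, Finset.prod_range_succ]
    ring

theorem dvd_prod_odd {r q A m n : ℕ} (hr : r.Prime) (hq : ¬ r ∣ q) {X : ℕ} (hX : X = q ^ A)
    (hm : 2 * m ≤ n + 1) (h : r ∣ X * ∏ k ∈ Finset.range m, (q ^ (2 * k + 1) - 1)) :
    ∃ k, Odd k ∧ k ≤ n ∧ r ∣ q ^ k - 1 := by
  subst hX
  rcases hr.dvd_mul.1 h with h | h
  · exact absurd (hr.dvd_of_dvd_pow h) hq
  · obtain ⟨i, hi, hi'⟩ := (Prime.dvd_finsetProd_iff hr.prime _).1 h
    rw [Finset.mem_range] at hi
    exact ⟨2 * i + 1, ⟨i, rfl⟩, by omega, hi'⟩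

/-- A prime dividing the index of an orthogonal group of similitudes. -/
theorem index_cases [Fintype F] {p r n : ℕ} [Fact p.Prime] [CharP F p] [hr : Fact r.Prime] (hrp : r ≠ p)
    (h2 : (2 : F) ≠ 0) {Q : QuadraticForm F (Fin n → F)} (hQ : (polarBilin Q).Nondegenerate) (hn : 0 < n)
    (hΩ : r ∣ (Cfsg.Geo.quadSimilarityGroup ⇑Q).relIndex (Cfsg.Geo.specialLinear (Fin n) F)) :
    (∃ k, Odd k ∧ k ≤ n ∧ r ∣ Fintype.card F ^ k - 1) ∨
      ∃ m, n = 2 * m ∧ ((Fintype.card F : ℕ) : ZMod r) ^ (2 * m) = 1 ∧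
        ((Fintype.card F : ℕ) : ZMod r) * (Nat.card {v // Q v = 0} : ℕ) = 2 - (Fintype.card F : ℕ) := by
  classical
  set q := Fintype.card F with hq
  have hqN : Nat.card F = q := Nat.card_eq_fintype_card
  have hq1 : 1 < q := Fintype.one_lt_card
  have hrq : ¬ r ∣ q := fun h => card_ne_zero_mod (F := F) hrp ((ZMod.natCast_eq_zero_iff _ _).2 h)
  -- the group of isometries of determinant one
  set SL := Cfsg.Geo.specialLinear (Fin n) F with hSL
  set S := Cfsg.isometryGroup F ⇑Q ⊓ SL with hS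
  have hSH : S ≤ Cfsg.Geo.quadSimilarityGroup ⇑Q := fun g hg => ⟨1, fun v => by
    rw [Units.val_one, one_mul]
    exact hg.1 v 0⟩
  have h1 : r * Nat.card S ∣ Nat.card SL := by
    have h := (S.subgroupOf SL).index_mul_card
    rw [Nat.card_congr (Subgroup.subgroupOfEquivOfLe (show S ≤ SL from inf_le_right)).toEquiv] at h
    rw [← h]
    exact Nat.mul_dvd_mul_right (hΩ.trans (Subgroup.relIndex_dvd_of_le_left _ hSH)) _
  have h3 : Nat.card (oGroup Q) ∣ 2 * Nat.card S := by
    let φ : Cfsg.isometryGroup F ⇑Q →* Fˣ := (detO Q).comp (isoGroupEquiv Q).toMonoidHom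
    have hker : Nat.card φ.ker = Nat.card S := by
      refine Nat.card_congr
        { toFun := fun g => ⟨g.1.1, g.1.2, CfsgLib.Geo.mem_specialLinear.2 ?_⟩
          invFun := fun g => ⟨⟨g.1, g.2.1⟩, Units.ext ?_⟩
          left_inv := fun g => rfl
          right_inv := fun g => rfl }
      · rw [← det_isoGroupEquiv]
        exact congrArg Units.val g.2
      · exact (det_isoGroupEquiv Q ⟨g.1, g.2.1⟩).trans (CfsgLib.Geo.mem_specialLinear.1 g.2.2)
    have h := φ.ker.index_mul_card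
    rw [hker, Subgroup.index_ker, Nat.card_congr (isoGroupEquiv Q).toEquiv] at h
    rw [← h]
    refine Nat.mul_dvd_mul_right ?_ _
    have hle : φ.range ≤ rootsOfUnity 2 F := by
      rintro _ ⟨g, rfl⟩
      rw [mem_rootsOfUnity, Units.ext_iff, Units.val_pow_eq_pow_val, Units.val_one]
      rcases detO_eq_or hQ (isoGroupEquiv Q g) with e | e <;>
        simp [φ, MonoidHom.comp_apply, e]
    refine (Subgroup.card_dvd_of_le hle).trans ?_
    rw [CfsgLib.Linear.card_rootsOfUnity_eq]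
    exact Nat.gcd_dvd_right _ _
  have h4 := CfsgLib.Linear.card_SL_mul (F := F) hq.symm n hn
  rw [Nat.card_congr CfsgLib.Linear.slEquivDetKer.toEquiv] at h4
  change (q - 1) * Nat.card SL = _ at h4
  have h5 : r * Nat.card (oGroup Q) ∣ 2 * ∏ i : Fin n, (q ^ n - q ^ (i : ℕ)) := by
    refine (Nat.mul_dvd_mul_left r h3).trans ?_
    rw [← h4, mul_left_comm]
    exact Nat.mul_dvd_mul_left 2 (h1.trans (dvd_mul_left _ _))
  have hcol : ∀ i : Fin n, q ^ n - q ^ (i : ℕ) = q ^ (i : ℕ) * (q ^ (n - (i : ℕ)) - 1) := fun i => by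
    rw [Nat.mul_sub_one, ← pow_add, show (i : ℕ) + (n - i) = n by omega]
  obtain ⟨A, hA⟩ : ∃ A, ∏ i : Fin n, q ^ (i : ℕ) = q ^ A := ⟨_, Finset.prod_pow_eq_pow_sum _ _ _⟩
  have hrefl : ∏ i : Fin n, (q ^ (n - (i : ℕ)) - 1) = ∏ i ∈ Finset.range n, (q ^ (i + 1) - 1) := by
    rw [Fin.prod_univ_eq_prod_range (fun i => q ^ (n - i) - 1) n, ← Finset.prod_range_reflect]
    exact Finset.prod_congr rfl fun i hi => by
      rw [Finset.mem_range] at hi
      rw [show n - (n - 1 - i) = i + 1 by omega]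
  rw [Finset.prod_congr rfl (fun i _ => hcol i), Finset.prod_mul_distrib, hA, hrefl] at h5
  have hpos : ∀ m, 0 < ∏ i ∈ Finset.range m, (q ^ (2 * (i + 1)) - 1) := fun m => Finset.prod_pos fun i _ => by
    have : 1 < q ^ (2 * (i + 1)) := Nat.one_lt_pow (by omega) hq1
    omega
  rcases Nat.even_or_odd n with ⟨m, hm⟩ | ⟨m, hm⟩
  · -- even dimension
    have hnm : n = 2 * m := by omega
    obtain ⟨k, rfl⟩ : ∃ k, m = k + 1 := ⟨m - 1, by omega⟩
    set E := ∏ i ∈ Finset.range k, (q ^ (2 * (i + 1)) - 1) with hE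
    rw [show Finset.range n = Finset.range (2 * (k + 1)) by rw [hnm], prod_parity (fun i => q ^ (i + 1) - 1), Finset.prod_range_succ] at h5
    rw [Finset.prod_range_succ (fun i => q ^ (2 * i + 1 + 1) - 1) k, show (∏ i ∈ Finset.range k, (q ^ (2 * i + 1 + 1) - 1)) = E from
      Finset.prod_congr rfl fun i _ => rfl, show q ^ (2 * k + 1 + 1) - 1 = (q ^ (k + 1) + 1) * (q ^ (k + 1) - 1) by
        rw [← Nat.sq_sub_sq, one_pow, ← pow_mul]; ring_nf, ← Finset.prod_range_succ (fun i => q ^ (2 * i + 1) - 1) k] at h5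
    set O := ∏ i ∈ Finset.range (k + 1), (q ^ (2 * i + 1) - 1) with hO
    set a := q ^ (k + 1) - 1 with ha
    have ha0 : 0 < a := by
      have : 1 < q ^ (k + 1) := Nat.one_lt_pow (by omega) hq1
      omega
    -- the two types
    have key : ∀ (c c' : ℕ), 0 < c → Nat.card (oGroup Q) = 2 * q ^ ((k + 1) * k) * c * E →
        (q ^ (k + 1) + 1) * a = c * c' → ¬ (∃ j, Odd j ∧ j ≤ n ∧ r ∣ q ^ j - 1) → r ∣ c' := by
      intro c c' hc hcard hcc hno
      have h6 : r * (2 * (c * E)) ∣ (q ^ A * O * c') * (2 * (c * E)) := by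
        refine (dvd_trans ?_ h5).trans (dvd_of_eq ?_)
        · rw [hcard]
          exact Dvd.intro (q ^ ((k + 1) * k)) (by ring)
        · calc 2 * (q ^ A * (O * (E * ((q ^ (k + 1) + 1) * a)))) = 2 * (q ^ A * (O * (E * (c * c')))) := by rw [hcc]
            _ = _ := by ring
      have h7 := Nat.dvd_of_mul_dvd_mul_right (Nat.mul_pos two_pos (Nat.mul_pos hc (hpos k))) h6
      rcases hr.out.dvd_mul.1 h7 with h8 | h8
      · exact absurd (dvd_prod_odd hr.out hrq rfl (n := n) (by omega) h8) hno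
      · exact h8
    by_cases hno : ∃ j, Odd j ∧ j ≤ n ∧ r ∣ q ^ j - 1
    · exact Or.inl hno
    refine Or.inr ⟨k + 1, hnm, ?_⟩
    rcases classify_even hQ (m := k + 1) (by rw [Module.finrank_fin_fun, hnm]) with ⟨φ, hφ⟩ | ⟨ζ, φ, -, hζ, hφ⟩
    · have hc : Nat.card (oGroup Q) = 2 * q ^ ((k + 1) * k) * a * E := by
        rw [Nat.card_congr (oGroupCongr φ fun v => (hφ v).symm).toEquiv]
        zify [Nat.one_le_pow (k + 1) q (by omega)]
        rw [card_oGroup_plus hqN, hE, prod_cast q k (by omega), ha,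
          Nat.cast_sub (Nat.one_le_pow _ _ (by omega))]
        push_cast
        ring
      have hdvd := key a (q ^ (k + 1) + 1) ha0 hc (mul_comm _ _) hno
      rw [← ZMod.natCast_eq_zero_iff, Nat.cast_add, Nat.cast_pow, Nat.cast_one, add_eq_zero_iff_eq_neg] at hdvd
      refine ⟨by rw [mul_comm 2, pow_mul, hdvd, neg_one_sq], ?_⟩
      rw [Nat.card_congr (Equiv.subtypeEquiv φ.toEquiv (p := fun v => Q v = 0)
        (q := fun v => plusQ (k + 1) v = 0) fun v => by rw [hφ]; rfl)]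
      have hz := congrArg (fun t : ℤ => (t : ZMod r)) (zeros_plus (F := F) hqN (k + 1))
      push_cast at hz
      rw [hz, pow_succ _ (k + 1), show 2 * (k + 1) = (k + 1) * 2 by ring, pow_mul, hdvd]
      ring
    · obtain ⟨hab⟩ : Nonempty (∀ z₁ z₂ : F, z₁ ^ 2 + 1 * z₁ * z₂ + ζ * z₂ ^ 2 = 0 → z₁ = 0 ∧ z₂ = 0) :=
        ⟨plane_aniso hζ⟩
      have hc : Nat.card (oGroup Q) = 2 * q ^ ((k + 1) * k) * (q ^ (k + 1) + 1) * E := by
        rw [Nat.card_congr (oGroupCongr φ fun v => (hφ v).symm).toEquiv]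
        zify
        rw [card_oGroup_minus hqN hab, hE, prod_cast q k (by omega)]
        push_cast
        ring_nf
      have hdvd := key (q ^ (k + 1) + 1) a (by omega) hc rfl hno
      rw [ha, ← ZMod.natCast_eq_zero_iff, Nat.cast_sub (Nat.one_le_pow _ _ (by omega)), Nat.cast_pow,
        Nat.cast_one, sub_eq_zero] at hdvd
      refine ⟨by rw [mul_comm 2, pow_mul, hdvd, one_pow], ?_⟩
      rw [Nat.card_congr (Equiv.subtypeEquiv φ.toEquiv (p := fun v => Q v = 0)
        (q := fun v => minusQ (k + 1 - 1) 1 ζ v = 0) fun v => by rw [hφ]; rfl)]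
      have hz := congrArg (fun t : ℤ => (t : ZMod r)) (zeros_minus (F := F) hqN hab k)
      push_cast at hz
      change ((q : ℕ) : ZMod r) * ((Nat.card {v // minusQ k 1 ζ v = 0} : ℕ) : ZMod r) = _
      rw [hz, pow_succ _ (k + 1), show 2 * k + 2 = (k + 1) * 2 by ring, pow_mul, hdvd]
      ring
  · -- odd dimension
    left
    set E := ∏ i ∈ Finset.range m, (q ^ (2 * (i + 1)) - 1) with hE
    have hcard : Nat.card (oGroup Q) = 2 * q ^ (m ^ 2) * E := by
      obtain ⟨c, φ, hc, -, hφ⟩ := classify_odd hQ (m := m) (by rw [Module.finrank_fin_fun, hm])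
      let sc : (Unit ⊕ (Fin m ⊕ Fin m) → F) ≃ₗ[F] (Unit ⊕ (Fin m ⊕ Fin m) → F) :=
        LinearEquiv.piCongrRight fun i => LinearEquiv.smulOfUnit
          (Sum.elim (fun _ => (1 : Fˣ)) (Sum.elim (fun _ => (Units.mk0 c hc)⁻¹) fun _ => 1) i)
      have hsame : oGroup (c⁻¹ • Q) = oGroup Q := by
        refine Subgroup.ext fun g => forall_congr' fun v => ?_
        simp [hc]
      have he : ∀ v, oddQ m ((φ.trans sc) v) = (c⁻¹ • Q) v := fun v => by
        rw [QuadraticMap.smul_apply, hφ, oddQ_coe]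
        simp [Cfsg.quadFormOdd, Cfsg.quadFormPlus, sc, smul_eq_mul, mul_add, Finset.mul_sum, mul_assoc,
          hc, Units.smul_def, LinearEquiv.smulOfUnit]
      rw [← hsame, Nat.card_congr (oGroupCongr (φ.trans sc) he).toEquiv]
      zify
      rw [card_oGroup_odd hqN h2, hE, prod_cast q m (by omega)]
    rw [show Finset.range n = Finset.range (2 * m + 1) by rw [hm], Finset.prod_range_succ, prod_parity (fun i => q ^ (i + 1) - 1), show (∏ i ∈ Finset.range m,
      (q ^ (2 * i + 1 + 1) - 1)) = E from Finset.prod_congr rfl fun i _ => rfl] at h5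
    have h6 : r * (2 * E) ∣ (q ^ A * ∏ i ∈ Finset.range (m + 1), (q ^ (2 * i + 1) - 1)) * (2 * E) := by
      refine (dvd_trans ?_ h5).trans (dvd_of_eq ?_)
      · rw [hcard]
        exact Dvd.intro (q ^ (m ^ 2)) (by ring)
      · rw [Finset.prod_range_succ]; ring
    exact dvd_prod_odd hr.out hrq rfl (by omega) (Nat.dvd_of_mul_dvd_mul_right (Nat.mul_pos two_pos (hpos m)) h6)

end CfsgLib.Elusive
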