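import Cfsg.Agent.Elusive.Jordan
import Cfsg.Agent.Quad.OmegaMem
import Cfsg.Agent.AutPOm.SingDefect

/-! Jordan blocks of unipotent isometries of quadratic forms in odd characteristic. -/

set_option autoImplicit false

namespace CfsgLib.Elusive

open Module QuadraticMap CfsgLib.Quad

variable {F V : Type*} [Field F] [AddCommGroup V] [Module F V] [FiniteDimensional F V]

/-- For an isometry `1 + N` with `N` nilpotent, the images of high powers of `N` are orthogonal. -/
theorem bilin_pow_vanish (B : LinearMap.BilinForm F V) {N : V →ₗ[F] V} {p : ℕ} (hN : N ^ p = 0)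
    (hiso : ∀ u v, B (u + N u) (v + N v) = B u v) {k : ℕ} {v : V} (hv : (N ^ k) v = 0) :
    ∀ a b : ℕ, k ≤ a + b → ∀ u, B ((N ^ a) u) ((N ^ b) v) = 0 := by
  have hrel : ∀ x y, B (N x) y + B x (N y) + B (N x) (N y) = 0 := fun x y => by
    have h := hiso x y
    simp only [map_add, LinearMap.add_apply] at h
    linear_combination h
  have hbig : ∀ (x : V) (j : ℕ), k ≤ j → (N ^ j) v = 0 := fun _ j hj => by
    rw [show j = (j - k) + k by omega, pow_add, Module.End.mul_apply, hv, map_zero]
  -- downward induction on `a + b`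
  suffices h : ∀ (t a b : ℕ), k ≤ a + b → p + k ≤ a + b + t → ∀ u, B ((N ^ a) u) ((N ^ b) v) = 0 from
    fun a b hab => h (p + k) a b hab (by omega)
  intro t
  induction t with
  | zero =>
    intro a b _ hs u
    rcases Nat.lt_or_ge b k with hb | hb
    · rw [show a = (a - p) + p by omega, pow_add, hN, mul_zero, LinearMap.zero_apply, map_zero,
        LinearMap.zero_apply]
    · rw [hbig v b hb, map_zero]
  | succ t ih =>
    intro a
    induction a with
    | zero => intro b hb _ u; rw [hbig v b (by omega), map_zero]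
    | succ a iha =>
      intro b hab hs u
      have h := hrel ((N ^ a) u) ((N ^ b) v)
      rw [← Module.End.mul_apply, ← pow_succ', ← Module.End.mul_apply, ← pow_succ',
        iha (b + 1) (by omega) (by omega) u, ih (a + 1) (b + 1) (by omega) (by omega) u, add_zero,
        add_zero] at h
      exact h

/-- Even Jordan blocks of a unipotent isometry of a symmetric form have even multiplicity. -/
theorem even_count_of_isometry (h2 : (2 : F) ≠ 0) {Q : QuadraticForm F V}
    (hQ : (polarBilin Q).Nondegenerate) {N : V →ₗ[F] V} {p : ℕ} (hN : N ^ p = 0)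
    (hiso : ∀ u, Q (u + N u) = Q u) {μ : Multiset ℕ} (hμ : ∀ a ∈ μ, 0 < a)
    (hprof : ∀ k, kerDim N ⊤ k = profile μ k) (e : ℕ) (he : Even e) : Even (μ.count e) := by
  set B : LinearMap.BilinForm F V := polarBilin Q with hB
  have hBiso : ∀ u v, B (u + N u) (v + N v) = B u v := fun u v => by
    simp only [hB, polarBilin_apply_apply, polar]
    rw [show u + N u + (v + N v) = (u + v) + N (u + v) by rw [map_add]; abel, hiso, hiso, hiso]
  have hsymm : ∀ u v, B u v = B v u := fun u v => polar_comm _ _ _
  rcases e with _ | k'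
  · rw [Multiset.count_eq_zero.2 fun h => (hμ 0 h).false]
    exact Even.zero
  have hkodd : Odd k' := Nat.even_add_one.1 he |> Nat.not_even_iff_odd.1
  have hvan := fun {k : ℕ} {v : V} (hv : (N ^ k) v = 0) => bilin_pow_vanish B hN hBiso hv
  set K := fun j => LinearMap.ker (N ^ j) with hK
  set R := LinearMap.range N with hR
  have hd : ∀ j, finrank F (K j) = profile μ j := fun j => by
    rw [← hprof, kerDim, top_inf_eq]
  -- the form on `ker N ^ (k'+1)`
  let f : LinearMap.BilinForm F (K (k' + 1)) :=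
    (B ∘ₗ (N ^ k')).compl₁₂ (K (k' + 1)).subtype (K (k' + 1)).subtype
  have hf : ∀ u v : K (k' + 1), f u v = B ((N ^ k') (u : V)) (v : V) := fun u v => rfl
  have hswap : ∀ (u v : K (k' + 1)) (a : ℕ), a ≤ k' →
      B ((N ^ (k' - a)) (u : V)) ((N ^ a) (v : V)) = (-1) ^ a * B ((N ^ k') (u : V)) (v : V) := by
    intro u v a
    induction a with
    | zero => intro _; simp
    | succ a ih =>
      intro ha
      have h : B ((N ^ (k' - a)) (u : V)) ((N ^ a) (v : V)) +
          B ((N ^ (k' - (a + 1))) (u : V)) ((N ^ (a + 1)) (v : V)) +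
          B ((N ^ (k' - a)) (u : V)) ((N ^ (a + 1)) (v : V)) = 0 := by
        have h := hBiso ((N ^ (k' - (a + 1))) (u : V)) ((N ^ a) (v : V))
        simp only [map_add, LinearMap.add_apply] at h
        rw [← Module.End.mul_apply, ← Module.End.mul_apply, ← pow_succ', ← pow_succ',
          show k' - (a + 1) + 1 = k' - a by omega] at h
        linear_combination h
      rw [hvan (LinearMap.mem_ker.1 v.2) (k' - a) (a + 1) (by omega), add_zero, ih (by omega)] at h
      rw [pow_succ (-1 : F)]
      linear_combination h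
  have halt : f.IsAlt := fun u => by
    have h := hswap u u k' le_rfl
    rw [Nat.sub_self, pow_zero, Module.End.one_apply, hkodd.neg_one_pow, hsymm] at h
    rw [hf]
    have : (2 : F) * B ((N ^ k') (u : V)) (u : V) = 0 := by linear_combination h
    exact (mul_eq_zero.1 this).resolve_left h2
  -- the orthogonal space of `ker N ^ (k'+1)`
  have hperp : ∀ y, (∀ v ∈ K (k' + 1), B y v = 0) → ∃ w, (N ^ (k' + 1)) w = y := by
    intro y hy
    have hle : LinearMap.range (N ^ (k' + 1)) ≤ perpS Q (K (k' + 1)) := by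
      rintro _ ⟨w, rfl⟩ v hv
      have h := hvan (LinearMap.mem_ker.1 hv) (k' + 1) 0 (by omega) w
      rw [pow_zero, Module.End.one_apply, hsymm] at h
      exact h
    have heq := Submodule.eq_of_le_of_finrank_eq hle (by
      have h1 := LinearMap.finrank_range_add_finrank_ker (N ^ (k' + 1))
      have h2 := finrank_perpS hQ (K (k' + 1))
      change _ + finrank F ↥(K (k' + 1)) = _ at h1
      omega)
    have : y ∈ perpS Q (K (k' + 1)) := fun v hv => (hsymm v y).trans (hy v hv)
    rwa [← heq] at this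
  have hmono : ∀ i j, i ≤ j → K i ≤ K j := fun i j hij v hv => by
    rw [hK, LinearMap.mem_ker, show j = (j - i) + i by omega, pow_add, Module.End.mul_apply,
      LinearMap.mem_ker.1 hv, map_zero]
  -- the radical
  have hrad : (LinearMap.ker f).map (K (k' + 1)).subtype = K k' ⊔ (R ⊓ K (k' + 1)) := by
    apply le_antisymm
    · rintro _ ⟨u, hu, rfl⟩
      obtain ⟨w, hw⟩ := hperp ((N ^ k') (u : V)) fun v hv => by
        have h := LinearMap.congr_fun (LinearMap.mem_ker.1 hu) ⟨v, hv⟩
        rwa [hf, LinearMap.zero_apply] at h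
      have h1 : (u : V) - N w ∈ K k' := by
        show (N ^ k') ((u : V) - N w) = 0
        rw [map_sub, ← Module.End.mul_apply, ← pow_succ, hw, sub_self]
      refine Submodule.mem_sup.2 ⟨_, h1, N w, ⟨⟨w, rfl⟩, ?_⟩, by simp⟩
      have := (K (k' + 1)).sub_mem u.2 (hmono k' (k' + 1) (by omega) h1)
      simpa using this
    · refine sup_le (fun x hx => ?_) fun x hx => ?_
      · refine ⟨⟨x, hmono k' (k' + 1) (by omega) hx⟩, LinearMap.mem_ker.2 (LinearMap.ext fun v => ?_), rfl⟩
        rw [hf]
        simp [LinearMap.mem_ker.1 hx]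
      · obtain ⟨⟨w, rfl⟩, hx2⟩ := hx
        refine ⟨⟨N w, hx2⟩, LinearMap.mem_ker.2 (LinearMap.ext fun v => ?_), rfl⟩
        rw [hf]
        have h := hvan (LinearMap.mem_ker.1 v.2) (k' + 1) 0 (by omega) w
        rwa [pow_zero, Module.End.one_apply, pow_succ, Module.End.mul_apply] at h
  have hRK : ∀ j, finrank F ↥(R ⊓ K j) + profile μ 1 = profile μ (j + 1) := by
    intro j
    have h := LinearMap.finrank_range_add_finrank_ker (N.domRestrict (K (j + 1)))
    have h1 : LinearMap.range (N.domRestrict (K (j + 1))) = R ⊓ K j := by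
      apply le_antisymm
      · rintro _ ⟨x, rfl⟩
        refine ⟨⟨x, rfl⟩, ?_⟩
        show (N ^ j) (N x) = 0
        rw [← Module.End.mul_apply, ← pow_succ]
        exact x.2
      · rintro _ ⟨⟨x, rfl⟩, hx⟩
        refine ⟨⟨x, ?_⟩, rfl⟩
        show (N ^ (j + 1)) x = 0
        rw [pow_succ, Module.End.mul_apply]
        exact hx
    have h3 : (LinearMap.ker (N.domRestrict (K (j + 1)))).map (K (j + 1)).subtype = K 1 := by
      ext x
      constructor
      · rintro ⟨y, hy, rfl⟩
        show (N ^ 1) (y : V) = 0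
        rw [pow_one]; exact hy
      · intro hx
        refine ⟨⟨x, hmono 1 (j + 1) (by omega) hx⟩, ?_, rfl⟩
        have h4 : (N ^ 1) x = 0 := hx
        rwa [pow_one] at h4
    rw [h1, ← Submodule.finrank_map_subtype_eq (K (j + 1)) (LinearMap.ker _), h3, hd, hd] at h
    exact h
  have hr : finrank F (LinearMap.ker f) + profile μ (k' + 1) = profile μ k' + profile μ (k' + 2) := by
    have h := Submodule.finrank_sup_add_finrank_inf_eq (K k') (R ⊓ K (k' + 1))
    rw [← hrad, Submodule.finrank_map_subtype_eq, hd, show K k' ⊓ (R ⊓ K (k' + 1)) = R ⊓ K k' by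
      rw [inf_left_comm, inf_eq_left.2 (hmono k' (k' + 1) (by omega))]] at h
    have h1 := hRK k'
    have h2 := hRK (k' + 1)
    rw [show k' + 1 + 1 = k' + 2 from rfl] at h2
    omega
  have hev := CfsgLib.AutPOm.even_add_finrank_ker_of_isAlt f halt
  have hc := count_of_profile μ hμ k'
  rw [hd] at hev
  rw [Nat.even_iff] at hev ⊢
  omega

/-- An invariant non-degenerate subspace of a unipotent isometry splits its Jordan blocks. -/
theorem exists_orth_sub_partition (h2 : (2 : F) ≠ 0) {Q : QuadraticForm F V}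
    (hQ : (polarBilin Q).Nondegenerate) (g : oGroup Q) {p : ℕ}
    (hp : (g.1.toLinearMap - 1) ^ p = 0) {μ : Multiset ℕ} (hμ : ∀ a ∈ μ, 0 < a)
    (hprof : ∀ k, kerDim (g.1.toLinearMap - 1) ⊤ k = profile μ k) {W : Submodule F V}
    (hW : ∀ w ∈ W, g.1 w ∈ W) (hWn : ∀ w ∈ W, w ≠ 0 → ∃ x ∈ W, polar Q x w ≠ 0) :
    ∃ ν ≤ μ, ν.sum = finrank F W ∧ (∀ e : ℕ, Even e → Even (ν.count e)) ∧
      ∀ k, kerDim (g.1.toLinearMap - 1) W k = profile ν k := by
  set N := g.1.toLinearMap - 1 with hNdef
  have hNi : Inv N W := fun w hw => W.sub_mem (hW w hw) hw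
  set U := perpS Q W with hU
  have hUi : Inv N U := fun u hu => by
    refine U.sub_mem (fun w hw => ?_) hu
    obtain ⟨w', hw'⟩ := LinearMap.surjective_of_injective
      (f := g.1.toLinearMap.restrict hW) (fun a b e => Subtype.ext (g.1.injective (congrArg Subtype.val e))) ⟨w, hw⟩
    rw [← show g.1 (w' : V) = w from congrArg Subtype.val hw']
    exact (polar_oGroup g _ _).trans (hu _ w'.2)
  have hdisj : W ⊓ U = ⊥ := (Submodule.eq_bot_iff _).2 fun x hx => by
    by_contra hne
    obtain ⟨y, hy, hyx⟩ := hWn x hx.1 hne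
    exact hyx (hx.2 y hy)
  have htop : W ⊔ U = ⊤ := Submodule.eq_top_of_finrank_eq (by
    have h1 := Submodule.finrank_sup_add_finrank_inf_eq W U
    rw [hdisj, finrank_bot] at h1
    have h2 := finrank_perpS hQ W
    rw [← hU] at h2
    omega)
  have hpz : ∀ v, (N ^ p) v = 0 := fun v => by rw [hp, LinearMap.zero_apply]
  obtain ⟨μ₁, h1, hs1, hk1, -⟩ := exists_jordan _ W rfl hNi fun t _ => hpz t
  obtain ⟨μ₂, h3, -, hk2, -⟩ := exists_jordan _ U rfl hUi fun t _ => hpz t
  have hsum : μ₁ + μ₂ = μ := profile_injective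
    (fun a ha => (Multiset.mem_add.1 ha).elim (fun h => (h1 a h).1) (fun h => (h3 a h).1)) hμ
    fun k => by rw [profile_add, ← hk1, ← hk2, ← kerDim_sup hNi hUi hdisj, htop, hprof]
  refine ⟨μ₁, hsum ▸ Multiset.le_add_right _ _, hs1, ?_, hk1⟩
  -- apply the parity lemma on `W`
  have hQW : (polarBilin (Q.comp W.subtype)).Nondegenerate := by
    constructor
    · intro x hx
      by_contra hne
      obtain ⟨y, hy, hyx⟩ := hWn x x.2 fun e => hne (Subtype.ext e)
      refine hyx ?_
      rw [polar_comm]
      simpa [polar] using hx ⟨y, hy⟩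
    · intro x hx
      by_contra hne
      obtain ⟨y, hy, hyx⟩ := hWn x x.2 fun e => hne (Subtype.ext e)
      refine hyx ?_
      simpa [polar] using hx ⟨y, hy⟩
  refine even_count_of_isometry h2 hQW (N := N.restrict hNi) (p := p) ?_ (fun u => ?_)
    (fun a ha => (h1 a ha).1) fun k => ?_
  · rw [Module.End.pow_restrict p hNi]
    exact LinearMap.ext fun x => Subtype.ext (hpz x)
  · show Q ((u : V) + N u) = Q u
    rw [show (u : V) + N u = g.1 u by simp [hNdef]]
    exact g.2 _
  · have hker : (LinearMap.ker (N.restrict hNi ^ k)).map W.subtype = W ⊓ LinearMap.ker (N ^ k) := by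
      rw [Module.End.pow_restrict k hNi]
      ext x
      constructor
      · rintro ⟨y, hy, rfl⟩
        exact ⟨y.2, congrArg Subtype.val (LinearMap.mem_ker.1 hy)⟩
      · intro hx
        exact ⟨⟨x, hx.1⟩, Subtype.ext hx.2, rfl⟩
    rw [← hk1, kerDim, kerDim, top_inf_eq, ← hker, Submodule.finrank_map_subtype_eq]

/-- An invariant subspace with all blocks of size two has a totally singular half. -/
theorem exists_singular_half (h2 : (2 : F) ≠ 0) {Q : QuadraticForm F V} (g : oGroup Q) {p : ℕ}
    (hp : (g.1.toLinearMap - 1) ^ p = 0) {W : Submodule F V} (hW : ∀ w ∈ W, g.1 w ∈ W) {c : ℕ}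
    (hprof : ∀ k, kerDim (g.1.toLinearMap - 1) W k = profile (Multiset.replicate c 2) k)
    (hWd : finrank F W = 2 * c) :
    ∃ U : Submodule F V, U ≤ W ∧ (∀ u ∈ U, Q u = 0) ∧ 2 * finrank F U = finrank F W := by
  set N := g.1.toLinearMap - 1 with hNdef
  have hprofile : ∀ k, profile (Multiset.replicate c 2) k = c * min k 2 := fun k => by
    simp [profile]
  have hK : W ⊓ LinearMap.ker (N ^ 2) = W := Submodule.eq_of_le_of_finrank_eq inf_le_left (by
    have h := hprof 2
    rw [kerDim, hprofile] at h
    rw [h, hWd]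
    simp [mul_comm])
  refine ⟨W.map N, ?_, ?_, ?_⟩
  · rintro _ ⟨w, hw, rfl⟩
    exact W.sub_mem (hW w hw) hw
  · rintro _ ⟨w, hw, rfl⟩
    have hw2 : (N ^ 2) w = 0 := (hK.ge hw).2
    have h := bilin_pow_vanish (polarBilin Q) hp (k := 2) (fun u v => by
      have hu : ∀ z, z + N z = g.1 z := fun z => by simp [hNdef]
      rw [hu, hu]
      exact polar_oGroup g u v) hw2 1 1 le_rfl w
    rw [pow_one, polarBilin_apply_apply, polar_self, nsmul_eq_mul, Nat.cast_ofNat] at h
    exact (mul_eq_zero.1 h).resolve_left h2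
  · have h := LinearMap.finrank_range_add_finrank_ker (N.domRestrict W)
    have h1 : (LinearMap.ker (N.domRestrict W)).map W.subtype = W ⊓ LinearMap.ker (N ^ 1) := by
      ext x
      constructor
      · rintro ⟨y, hy, rfl⟩
        exact ⟨y.2, by rw [pow_one]; exact hy⟩
      · intro hx
        have h4 := hx.2
        rw [SetLike.mem_coe, pow_one] at h4
        exact ⟨⟨x, hx.1⟩, h4, rfl⟩
    have h3 : LinearMap.range (N.domRestrict W) = W.map N := by
      rw [LinearMap.domRestrict, LinearMap.range_comp, Submodule.range_subtype]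
    have h5 : finrank F ↥(LinearMap.ker (N.domRestrict W)) = c := by
      rw [← Submodule.finrank_map_subtype_eq W, h1]
      have := hprof 1
      rw [kerDim, hprofile] at this
      rw [this]
      simp
    rw [h3, h5] at h
    omega

end CfsgLib.Elusive
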