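import Cfsg.Agent.Elusive.PauliFrame

/-!
An element of odd prime order normalising a symplectic-type group of order 64 of `GL_4` has order 3 or 5,
and a small centraliser in the matrix algebra.
-/

set_option autoImplicit false
set_option linter.unusedSectionVars false
open scoped Matrix

namespace CfsgLib.Elusive.Pauli

/-- A permutation of prime order: the moved points fill orbits of that length, so few representatives suffice. -/
theorem exists_reps {α : Type*} [Fintype α] [DecidableEq α] {r : ℕ} (hr : r.Prime) (π : Equiv.Perm α)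
    (hπ : π ^ r = 1) :
    r ∣ π.support.card ∧ ∃ S : Finset α, S.card * r ≤ π.supportᶜ.card * r + π.support.card ∧
      ∀ q, ∃ a ∈ S, π.SameCycle a q := by
  have hall : ∀ l ∈ π.cycleType, l = r := fun l hl => by
    have h1 : l ∣ r := (Equiv.Perm.dvd_of_mem_cycleType hl).trans (orderOf_dvd_of_pow_eq_one hπ)
    have h2 := Equiv.Perm.two_le_of_mem_cycleType hl
    rcases (Nat.dvd_prime hr).1 h1 with h | h <;> omega
  have hcard : π.support.card = π.cycleFactorsFinset.card * r := by
    rw [← Equiv.Perm.sum_cycleType, Multiset.eq_replicate_card.2 hall, Multiset.sum_replicate, smul_eq_mul,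
      Equiv.Perm.cycleType_def, Multiset.card_map, Finset.card_def]
  refine ⟨hcard ▸ dvd_mul_left _ _, ?_⟩
  have hrep : ∀ σ : {σ // σ ∈ π.cycleFactorsFinset}, ∃ a, a ∈ σ.1.support := fun σ => by
    have h : σ.1 ≠ 1 := (Equiv.Perm.mem_cycleFactorsFinset_iff.1 σ.2).1.ne_one
    rw [Ne, ← Equiv.Perm.support_eq_empty_iff] at h
    exact Finset.nonempty_of_ne_empty h
  choose rep hrep using hrep
  refine ⟨π.supportᶜ ∪ π.cycleFactorsFinset.attach.image rep, ?_, fun q => ?_⟩
  · rw [hcard, ← Nat.add_mul]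
    refine Nat.mul_le_mul_right _ ((Finset.card_union_le _ _).trans (Nat.add_le_add_left ?_ _))
    exact Finset.card_image_le.trans (Finset.card_attach).le
  · by_cases hq : q ∈ π.support
    · have hσ : π.cycleOf q ∈ π.cycleFactorsFinset := Equiv.Perm.cycleOf_mem_cycleFactorsFinset_iff.2 hq
      refine ⟨rep ⟨_, hσ⟩, Finset.mem_union_right _ (Finset.mem_image.2 ⟨⟨_, hσ⟩, Finset.mem_attach _ _, rfl⟩), ?_⟩
      have := hrep ⟨_, hσ⟩
      exact ((Equiv.Perm.mem_support_cycleOf_iff.1 this).1).symm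
    · exact ⟨q, Finset.mem_union_left _ (Finset.mem_compl.2 hq), Equiv.Perm.SameCycle.refl _ _⟩

variable {F : Type*} [Field F] {R : Subgroup (GL (Fin 4) F)} {i : F}

theorem Sym.mem_center_iff (hS : Sym R i) (z : R) :
    z ∈ Subgroup.center R ↔ ∃ c : F, ((z : GL (Fin 4) F) : Matrix (Fin 4) (Fin 4) F) = c • 1 := by
  constructor
  · intro hz
    refine hS.commutant _ fun g hg => ?_
    exact (congrArg (fun u : R => ((u : GL (Fin 4) F) : Matrix (Fin 4) (Fin 4) F))
      (Subgroup.mem_center_iff.1 hz ⟨g, hg⟩)).symm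
  · rintro ⟨c, hc⟩
    rw [Subgroup.mem_center_iff]
    exact fun g => Subtype.ext (scalar_of_smul_mul hc g).symm

theorem Sym.mk_eq_iff (hS : Sym R i) (u v : R) : (u : R ⧸ Subgroup.center R) = (v : R ⧸ Subgroup.center R) ↔
    ∃ c : F, ((v : GL (Fin 4) F) : Matrix (Fin 4) (Fin 4) F) = c • ((u : GL (Fin 4) F) : Matrix (Fin 4) (Fin 4) F) := by
  rw [QuotientGroup.eq, hS.mem_center_iff]
  constructor
  · rintro ⟨c, hc⟩
    refine ⟨c, ?_⟩
    rw [show (v : GL (Fin 4) F) = (u : GL (Fin 4) F) * ((u⁻¹ * v : R) : GL (Fin 4) F) by simp, Units.val_mul, hc,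
      mul_smul_comm, mul_one]
  · rintro ⟨c, hc⟩
    refine ⟨c, ?_⟩
    rw [Subgroup.coe_mul, Units.val_mul, hc, mul_smul_comm, Subgroup.coe_inv, Units.inv_mul]

theorem Sym.card_quotient (hS : Sym R i) : Nat.card (R ⧸ Subgroup.center R) = 16 := by
  haveI : Finite R := Nat.finite_of_card_ne_zero (by rw [hS.card]; norm_num)
  have hi : IsPrimitiveRoot i 4 := by
    refine IsPrimitiveRoot.mk_of_lt i (by norm_num) hS.i_four fun l h1 h2 hl => ?_
    interval_cases l
    · rw [pow_one] at hl
      exact hS.two (by have := hS.sq_i; rw [hl] at this; linear_combination this)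
    · exact hS.two (by rw [pow_two, hS.sq_i] at hl; linear_combination -hl)
    · exact hS.two (by
        have h4 := hS.i_four
        rw [pow_succ, hl, one_mul] at h4
        have := hS.sq_i; rw [h4] at this; linear_combination this)
  have hZ : Nat.card (Subgroup.center R) = 4 := by
    have hex : ∀ k : Fin 4, ∃ z : Subgroup.center R,
        (((z : R) : GL (Fin 4) F) : Matrix (Fin 4) (Fin 4) F) = i ^ (k : ℕ) • 1 := fun k => by
      obtain ⟨g, hg, hgc⟩ := hS.scal (i ^ (k : ℕ)) (by rw [← pow_mul, mul_comm, pow_mul, hS.i_four, one_pow])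
      exact ⟨⟨⟨g, hg⟩, (hS.mem_center_iff _).2 ⟨_, hgc⟩⟩, hgc⟩
    choose f hf using hex
    have hb : Function.Bijective f := by
      refine ⟨fun a b e => Fin.ext (hi.pow_inj a.2 b.2 ?_), fun z => ?_⟩
      · have h := hf a
        rw [e, hf b] at h
        simpa using (congrFun (congrFun h 0) 0).symm
      · obtain ⟨c, hc⟩ := (hS.mem_center_iff z.1).1 z.2
        have hc4 : c ^ 4 = 1 := by
          have h := congrArg (fun u : GL (Fin 4) F => (u : Matrix (Fin 4) (Fin 4) F) 0 0) (hS.pow_four _ z.1.2)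
          simp only [Units.val_pow_eq_pow_val, hc, smul_pow, one_pow, Units.val_one, Matrix.smul_apply,
            Matrix.one_apply_eq, smul_eq_mul, mul_one] at h
          exact h
        obtain ⟨k, hk, rfl⟩ := hi.eq_pow_of_pow_eq_one hc4
        exact ⟨⟨k, hk⟩, Subtype.ext (Subtype.ext (Units.ext ((hf ⟨k, hk⟩).trans hc.symm)))⟩
    rw [← Nat.card_eq_of_bijective f hb, Nat.card_fin]
  have h := Subgroup.card_eq_card_quotient_mul_card_subgroup (Subgroup.center R)
  rw [hS.card, hZ] at h
  omega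

theorem Sym.centraliser_bound (hS : Sym R i) {x : GL (Fin 4) F}
    (hxN : x ∈ Subgroup.normalizer (R : Set (GL (Fin 4) F))) {r : ℕ} (hr : r.Prime) (hr2 : r ≠ 2) {z : F}
    (hxr : ((x ^ r : GL (Fin 4) F) : Matrix (Fin 4) (Fin 4) F) = z • 1)
    (hxns : ∀ c : F, (x : Matrix (Fin 4) (Fin 4) F) ≠ c • 1) :
    (r = 3 ∨ r = 5) ∧ ∀ (W : Type) [Fintype W] [DecidableEq W] (φ : (W → F) →ₗ[F] Matrix (Fin 4) (Fin 4) F),
      Function.Injective φ → (∀ w, (x : Matrix (Fin 4) (Fin 4) F) * φ w = φ w * x) →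
      Fintype.card W ≤ (if r = 3 then 8 else 4) := by
  classical
  haveI : Finite R := Nat.finite_of_card_ne_zero (by rw [hS.card]; norm_num)
  let Q := R ⧸ Subgroup.center R
  haveI : Fintype Q := Fintype.ofFinite Q
  have hQ : Fintype.card Q = 16 := by rw [← Nat.card_eq_fintype_card]; exact hS.card_quotient
  let cj : R → R := fun u => ⟨x * u * x⁻¹, (Subgroup.mem_normalizer_iff.1 hxN u).1 u.2⟩
  let cj' : R → R := fun u => ⟨x⁻¹ * u * x, by
    have h := (Subgroup.mem_normalizer_iff.1 (inv_mem hxN) u).1 u.2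
    rwa [inv_inv] at h⟩
  let φR : R ≃* R :=
    { toFun := cj
      invFun := cj'
      left_inv := fun u => Subtype.ext (by simp [cj, cj', mul_assoc])
      right_inv := fun u => Subtype.ext (by simp [cj, cj', mul_assoc])
      map_mul' := fun u v => Subtype.ext (by simp [cj, mul_assoc]) }
  have hmapZ : (Subgroup.center R).map φR.toMonoidHom = Subgroup.center R := by
    exact (Subgroup.characteristic_iff_map_eq.1 inferInstance φR)
  let φQ : Q ≃* Q := QuotientGroup.congr _ _ φR hmapZ
  let π : Equiv.Perm Q := φQ.toEquiv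
  have hπmk : ∀ u : R, π (u : Q) = ((cj u : R) : Q) := fun u => rfl
  have hπpow : ∀ (j : ℕ) (u : R), ∃ v : R, (π ^ j) (u : Q) = (v : Q) ∧
      (v : GL (Fin 4) F) = x ^ j * u * (x ^ j)⁻¹ := fun j => by
    induction j with
    | zero => intro u; exact ⟨u, rfl, by simp⟩
    | succ j ih =>
      intro u
      obtain ⟨v, hv, hvx⟩ := ih u
      refine ⟨cj v, by rw [pow_succ', Equiv.Perm.mul_apply, hv, hπmk], ?_⟩
      show x * (v : GL (Fin 4) F) * x⁻¹ = _
      rw [hvx, pow_succ']; group
  have hπr : π ^ r = 1 := Equiv.ext fun q => by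
    obtain ⟨u, rfl⟩ := QuotientGroup.mk_surjective q
    obtain ⟨v, hv, hvx⟩ := hπpow r u
    rw [hv, Equiv.Perm.one_apply]
    congr 1
    refine Subtype.ext ?_
    rw [hvx, scalar_of_smul_mul hxr, mul_inv_cancel_right]
  let u : Q → Matrix (Fin 4) (Fin 4) F := fun q => ((Quotient.out q : R) : GL (Fin 4) F).1
  have huR : ∀ q, InR R (u q) := fun q => ⟨_, (Quotient.out q : R).2, rfl⟩
  have hout : ∀ q : Q, ((Quotient.out q : R) : Q) = q := fun q => QuotientGroup.out_eq' q
  have hu_eq : ∀ (q : Q) (v : R), (v : Q) = q → ∃ c : F, ((v : GL (Fin 4) F) : Matrix (Fin 4) (Fin 4) F) = c • u q :=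
    fun q v hv => (hS.mk_eq_iff _ v).1 ((hout q).trans hv.symm)
  have hconj : ∀ q, ∃ s : F, s ≠ 0 ∧ (x : Matrix (Fin 4) (Fin 4) F) * u q = s • (u (π q) * x) := fun q => by
    obtain ⟨s, hs⟩ := hu_eq (π q) (cj (Quotient.out q)) (by rw [← hπmk, hout])
    refine ⟨s, fun e => ?_, ?_⟩
    · rw [e, zero_smul] at hs
      exact ((cj (Quotient.out q) : R) : GL (Fin 4) F).ne_zero hs
    · rw [← smul_mul_assoc, ← hs]
      show _ = ((x * ((Quotient.out q : R) : GL (Fin 4) F) * x⁻¹ : GL (Fin 4) F) : Matrix (Fin 4) (Fin 4) F) * x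
      rw [Units.val_mul, Units.val_mul, Units.inv_mul_cancel_right]
  choose s hs0 hs using hconj
  -- a basis of the matrix algebra
  have hlin : LinearIndependent F u := by
    rw [Fintype.linearIndependent_iff]
    intro c hc q₀
    have h := congrArg (fun M => Matrix.trace ((((Quotient.out q₀ : R) : GL (Fin 4) F)⁻¹ : GL (Fin 4) F).1 * M)) hc
    simp only [Matrix.mul_sum, mul_smul_comm, Matrix.trace_sum, Matrix.trace_smul, mul_zero, Matrix.trace_zero,
      smul_eq_mul] at h
    rw [Finset.sum_eq_single q₀] at h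
    · rw [show u q₀ = (((Quotient.out q₀ : R) : GL (Fin 4) F) : Matrix (Fin 4) (Fin 4) F) from rfl,
        Units.inv_mul, Matrix.trace_one, Fintype.card_fin, Nat.cast_ofNat,
        show (4 : F) = 2 * 2 by norm_num] at h
      exact (mul_eq_zero.1 h).resolve_right (mul_ne_zero hS.two hS.two)
    · intro q _ hq
      have hmemR : InR R ((((Quotient.out q₀ : R) : GL (Fin 4) F)⁻¹ : GL (Fin 4) F).1 * u q) :=
        InR.mul ⟨_, inv_mem (Quotient.out q₀ : R).2, rfl⟩ (huR q)
      rw [hS.trace_eq_zero hmemR fun d hd => hq ?_, mul_zero]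
      rw [← hout q, ← hout q₀, eq_comm]
      refine (hS.mk_eq_iff _ _).2 ⟨d, ?_⟩
      show u q = _
      rw [← one_mul (u q), ← Units.mul_inv ((Quotient.out q₀ : R) : GL (Fin 4) F), mul_assoc, hd, mul_smul_comm,
        mul_one]
    · simp
  have hspan : Submodule.span F (Set.range u) = ⊤ := hlin.span_eq_top_of_card_eq_finrank' (by
    rw [hQ, Module.finrank_matrix, Module.finrank_self, Fintype.card_fin])
  let b : Module.Basis Q F (Matrix (Fin 4) (Fin 4) F) := Module.Basis.mk hlin hspan.ge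
  have hb : ∀ q, b q = u q := fun q => Module.Basis.mk_apply _ _ q
  -- the fixed points
  let Fx : Subgroup Q := MonoidHom.eqLocus φQ.toMonoidHom (MonoidHom.id Q)
  have hFx : π.supportᶜ.card = Nat.card Fx := by
    rw [Nat.card_eq_fintype_card, Fintype.card_subtype]
    refine congrArg Finset.card (Finset.ext fun q => ?_)
    rw [Finset.mem_compl, Equiv.Perm.notMem_support]
    simp only [Finset.mem_filter, Finset.mem_univ, true_and]
    rfl
  have hdvd : π.supportᶜ.card ∣ 16 := by
    rw [hFx, ← hQ, ← Nat.card_eq_fintype_card]; exact Subgroup.card_subgroup_dvd_card Fx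
  obtain ⟨hrd, S, hScard, hSall⟩ := exists_reps hr π hπr
  have hsum : π.supportᶜ.card + π.support.card = 16 := by
    rw [Finset.card_compl_add_card, hQ]
  have hne16 : π.supportᶜ.card ≠ 16 := by
    intro h16
    have hfix : ∀ q, π q = q := fun q => Equiv.Perm.notMem_support.1 fun hq =>
      absurd (Finset.card_pos.2 ⟨q, hq⟩) (by omega)
    have hcomm : ∀ g ∈ R, (x : Matrix (Fin 4) (Fin 4) F) * g = g * x := by
      intro g hg
      obtain ⟨c, hc⟩ := (hS.mk_eq_iff ⟨g, hg⟩ (cj ⟨g, hg⟩)).1 ((hfix _).symm.trans (hπmk _))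
      have hc' : ((x * g * x⁻¹ : GL (Fin 4) F) : Matrix (Fin 4) (Fin 4) F) = c • (g : Matrix (Fin 4) (Fin 4) F) := hc
      have hc4 : c ^ 4 = 1 := by
        have h1 : (((x * g * x⁻¹) ^ 4 : GL (Fin 4) F) : Matrix (Fin 4) (Fin 4) F) = 1 := by
          rw [conj_pow, hS.pow_four g hg]; simp
        rw [Units.val_pow_eq_pow_val, hc', smul_pow, ← Units.val_pow_eq_pow_val, hS.pow_four g hg, Units.val_one] at h1
        simpa using congrFun (congrFun h1 0) 0
      have hcr : c ^ r = 1 := by
        have hiter : ∀ j : ℕ, ((x ^ j * g * (x ^ j)⁻¹ : GL (Fin 4) F) : Matrix (Fin 4) (Fin 4) F) =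
            c ^ j • (g : Matrix (Fin 4) (Fin 4) F) := fun j => by
          induction j with
          | zero => simp
          | succ j ih =>
            rw [show x ^ (j + 1) * g * (x ^ (j + 1))⁻¹ = x * (x ^ j * g * (x ^ j)⁻¹) * x⁻¹ by
              rw [pow_succ']; group, Units.val_mul, Units.val_mul, ih, mul_smul_comm, smul_mul_assoc,
              ← Units.val_mul, ← Units.val_mul, hc', smul_smul, ← pow_succ]
        have h := hiter r
        rw [scalar_of_smul_mul hxr, mul_inv_cancel_right] at h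
        by_contra hne
        have h2 : ((c ^ r - 1) • (g : Matrix (Fin 4) (Fin 4) F)) = 0 := by rw [sub_smul, one_smul, ← h, sub_self]
        exact g.ne_zero ((smul_eq_zero.1 h2).resolve_left (sub_ne_zero.2 hne))
      have hcop : Nat.gcd 4 r = 1 := by
        show Nat.Coprime 4 r
        rw [show 4 = 2 ^ 2 by norm_num]
        exact Nat.Coprime.pow_left _ ((Nat.coprime_primes Nat.prime_two hr).2 (Ne.symm hr2))
      have hc1 : c = 1 := by
        have := pow_gcd_eq_one (a := c) (m := 4) (n := r) |>.2 ⟨hc4, hcr⟩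
        rwa [hcop, pow_one] at this
      rw [hc1, one_smul] at hc'
      calc (x : Matrix (Fin 4) (Fin 4) F) * g = ((x * g * x⁻¹ * x : GL (Fin 4) F) : Matrix (Fin 4) (Fin 4) F) := by
            rw [inv_mul_cancel_right, Units.val_mul]
        _ = _ := by rw [Units.val_mul, hc']
    obtain ⟨c, hc⟩ := hS.commutant _ hcomm
    exact hxns c hc
  have hcases : π.supportᶜ.card = 1 ∧ (r = 3 ∨ r = 5) ∨ π.supportᶜ.card = 4 ∧ r = 3 ∨
      π.supportᶜ.card = 2 ∧ r = 7 := by
    obtain ⟨k, hk, hf⟩ := (Nat.dvd_prime_pow Nat.prime_two).1 (show π.supportᶜ.card ∣ 2 ^ 4 from hdvd)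
    obtain ⟨m, hm⟩ := hrd
    have hr3 : 3 ≤ r := by have := hr.two_le; omega
    interval_cases k
    · left
      refine ⟨by simpa using hf, ?_⟩
      have h15 : r * m = 15 := by simp at hf; omega
      have : r ∣ 3 * 5 := ⟨m, by omega⟩
      rcases hr.dvd_mul.1 this with h | h
      · exact Or.inl ((Nat.prime_dvd_prime_iff_eq hr Nat.prime_three).1 h)
      · exact Or.inr ((Nat.prime_dvd_prime_iff_eq hr (by norm_num)).1 h)
    · right; right
      refine ⟨by simpa using hf, ?_⟩
      have : r ∣ 2 * 7 := ⟨m, by simp at hf; omega⟩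
      rcases hr.dvd_mul.1 this with h | h
      · exact absurd ((Nat.prime_dvd_prime_iff_eq hr Nat.prime_two).1 h) hr2
      · exact (Nat.prime_dvd_prime_iff_eq hr (by norm_num)).1 h
    · right; left
      refine ⟨by simpa using hf, ?_⟩
      have : r ∣ 4 * 3 := ⟨m, by simp at hf; omega⟩
      rcases hr.dvd_mul.1 this with h | h
      · exact absurd ((Nat.prime_dvd_prime_iff_eq hr Nat.prime_two).1
          (hr.dvd_of_dvd_pow (show r ∣ 2 ^ 2 from h))) hr2
      · exact (Nat.prime_dvd_prime_iff_eq hr Nat.prime_three).1 h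
    · exfalso
      have : r ∣ 2 ^ 3 := ⟨m, by simp at hf ⊢; omega⟩
      exact hr2 ((Nat.prime_dvd_prime_iff_eq hr Nat.prime_two).1 (hr.dvd_of_dvd_pow this))
    · simp at hf; omega
  -- order seven: the perpendicular of the fixed point
  have hno7 : ¬ (π.supportᶜ.card = 2 ∧ r = 7) := by
    rintro ⟨h2, rfl⟩
    obtain ⟨q₀, hq₀, hq₀1⟩ : ∃ q₀ ∈ π.supportᶜ, q₀ ≠ 1 := Finset.exists_mem_ne (by omega) 1
    rw [Finset.mem_compl, Equiv.Perm.notMem_support] at hq₀
    have hu₀ns : ∀ c : F, u q₀ ≠ c • 1 := fun c hc => hq₀1 (by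
      rw [← hout q₀, QuotientGroup.eq_one_iff, hS.mem_center_iff]; exact ⟨c, hc⟩)
    obtain ⟨T, ⟨t, htR, rfl⟩, hanti⟩ := hS.exists_anti (huR q₀) hu₀ns
    let P₀ : Finset Q := Finset.univ.filter fun q => u q₀ * u q = u q * u q₀
    have hexcl : ∀ q, u q₀ * u q = u q * u q₀ → u q₀ * u q = -(u q * u q₀) → False := fun q h1 h2' => by
      have h3 : (2 : F) • (u q * u q₀) = 0 := by
        rw [two_smul]; nth_rw 1 [← h1]; rw [h2', neg_add_cancel]
      obtain ⟨g, -, hg⟩ := InR.mul (huR q) (huR q₀)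
      exact g.ne_zero (hg.trans ((smul_eq_zero.1 h3).resolve_left hS.two))
    let tq : Q := ((⟨t, htR⟩ : R) : Q)
    have hmul : ∀ q, ∃ c : F, c ≠ 0 ∧ u q * (t : Matrix (Fin 4) (Fin 4) F) = c • u (q * tq) := fun q => by
      obtain ⟨c, hc⟩ := hu_eq (q * tq) (Quotient.out q * ⟨t, htR⟩) (by rw [QuotientGroup.mk_mul, hout])
      refine ⟨c, fun e => ?_, hc⟩
      rw [e, zero_smul] at hc
      exact ((Quotient.out q * ⟨t, htR⟩ : R) : GL (Fin 4) F).ne_zero hc
    have hflip : ∀ q, q ∈ P₀ ↔ q * tq ∉ P₀ := fun q => by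
      obtain ⟨c, hc0, hc⟩ := hmul q
      simp only [P₀, Finset.mem_filter, Finset.mem_univ, true_and]
      constructor
      · intro h h'
        have h1 : u q₀ * (u q * (t : Matrix (Fin 4) (Fin 4) F)) = -((u q * (t : Matrix (Fin 4) (Fin 4) F)) * u q₀) := by
          rw [← mul_assoc, h, mul_assoc, hanti, mul_neg, ← mul_assoc]
        rw [hc, mul_smul_comm, smul_mul_assoc, ← smul_neg] at h1
        exact hexcl (q * tq) h' ((smul_right_injective _ hc0) h1)
      · intro h'
        rcases hS.comm' (huR q₀) (huR q) with h | h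
        · exact h
        · exfalso; apply h'
          have h1 : u q₀ * (u q * (t : Matrix (Fin 4) (Fin 4) F)) = (u q * (t : Matrix (Fin 4) (Fin 4) F)) * u q₀ := by
            rw [← mul_assoc, h, neg_mul, mul_assoc, hanti, mul_neg, neg_neg, ← mul_assoc]
          rw [hc, mul_smul_comm, smul_mul_assoc] at h1
          exact (smul_right_injective _ hc0) h1
    have hP8 : P₀.card = 8 := by
      have h1 : P₀.card = P₀ᶜ.card := by
        refine Finset.card_equiv (Equiv.mulRight tq) fun q => ?_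
        rw [Finset.mem_compl, Equiv.coe_mulRight]; exact hflip q
      have h3 := Finset.card_compl_add_card P₀
      omega
    have hstab : ∀ q, π q ∈ P₀ ↔ q ∈ P₀ := fun q => by
      simp only [P₀, Finset.mem_filter, Finset.mem_univ, true_and]
      have e0 := hs q₀
      rw [hq₀] at e0
      have e1 := hs q
      have k1 : (x : Matrix (Fin 4) (Fin 4) F) * (u q₀ * u q) = (s q₀ * s q) • (u q₀ * u (π q) * x) := by
        rw [← mul_assoc, e0, smul_mul_assoc, mul_assoc, e1, mul_smul_comm, smul_smul, mul_assoc]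
      have k2 : (x : Matrix (Fin 4) (Fin 4) F) * (u q * u q₀) = (s q₀ * s q) • (u (π q) * u q₀ * x) := by
        rw [← mul_assoc, e1, smul_mul_assoc, mul_assoc, e0, mul_smul_comm, smul_smul, mul_assoc, mul_comm (s q)]
      constructor
      · intro h
        refine x.isUnit.mul_right_injective ?_
        show (x : Matrix (Fin 4) (Fin 4) F) * _ = x * _
        rw [k1, k2, h]
      · intro h
        have h1 := k1.symm.trans ((congrArg ((x : Matrix (Fin 4) (Fin 4) F) * ·) h).trans k2)
        exact x.isUnit.mul_left_injective ((smul_right_injective _ (mul_ne_zero (hs0 q₀) (hs0 q))) h1)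
    let π₀ : Equiv.Perm {q // q ∈ P₀} := π.subtypePerm fun q => hstab q
    have hπ₀ : π₀ ^ 7 = 1 := by
      rw [Equiv.Perm.subtypePerm_pow]
      exact Equiv.ext fun q => Subtype.ext (by show (π ^ 7) (q : Q) = (q : Q); rw [hπr]; rfl)
    obtain ⟨⟨m, hm⟩, -⟩ := exists_reps (by norm_num : Nat.Prime 7) π₀ hπ₀
    have h1mem : (1 : Q) ∈ P₀ := by
      simp only [P₀, Finset.mem_filter, Finset.mem_univ, true_and]
      obtain ⟨c, hc⟩ := (hS.mem_center_iff (Quotient.out (1 : Q) : R)).1 ((QuotientGroup.eq_one_iff _).1 (hout 1))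
      rw [show u 1 = c • 1 from hc]; simp
    have hq₀mem : q₀ ∈ P₀ := by simp [P₀]
    have hfix : ({⟨1, h1mem⟩, ⟨q₀, hq₀mem⟩} : Finset {q // q ∈ P₀}) ⊆ π₀.supportᶜ := by
      intro q hq
      rw [Finset.mem_compl, Equiv.Perm.notMem_support]
      simp only [Finset.mem_insert, Finset.mem_singleton] at hq
      rcases hq with rfl | rfl
      · exact Subtype.ext (map_one φQ)
      · exact Subtype.ext hq₀
    have h6 : π₀.support.card ≤ 6 := by
      have h1 := Finset.card_le_card hfix
      rw [Finset.card_pair (fun e => hq₀1 (congrArg Subtype.val e).symm), Finset.card_compl, Fintype.card_coe,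
        hP8] at h1
      omega
    have hzero : π₀.support = ∅ := Finset.card_eq_zero.1 (by omega)
    have hall8 : P₀ ⊆ π.supportᶜ := fun q hq => by
      rw [Finset.mem_compl, Equiv.Perm.notMem_support]
      exact congrArg Subtype.val (Equiv.Perm.notMem_support.1 (by rw [hzero]; simp : (⟨q, hq⟩ : {q // q ∈ P₀}) ∉ π₀.support))
    have := Finset.card_le_card hall8
    omega
  have hr35 : r = 3 ∨ r = 5 := by tauto
  refine ⟨hr35, fun W _ _ φ hφ hcom => ?_⟩
  -- coefficients of a commuting matrix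
  let L : (W → F) →ₗ[F] (S → F) := LinearMap.pi fun a => (b.coord a.1).comp φ
  have hL : Function.Injective L := by
    refine (injective_iff_map_eq_zero L).2 fun w hw => hφ ?_
    rw [map_zero]
    set M := φ w with hM
    set c := fun q => b.coord q M with hc
    have hMsum : M = ∑ q, c q • u q := by
      conv_lhs => rw [← b.sum_repr M]
      exact Finset.sum_congr rfl fun q _ => by rw [hb]; rfl
    have hrel : ∀ q, c (π q) = s q * c q := by
      have h1 : ∑ q, c (π q) • u (π q) = ∑ q, (s q * c q) • u (π q) := by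
        rw [Equiv.sum_comp π (fun q => c q • u q), ← hMsum]
        refine x.isUnit.mul_left_injective ?_
        show M * (x : Matrix (Fin 4) (Fin 4) F) = _ * (x : Matrix (Fin 4) (Fin 4) F)
        rw [← hcom w, ← hM]
        conv_lhs => rw [hMsum]
        rw [Finset.mul_sum, Finset.sum_mul]
        exact Finset.sum_congr rfl fun q _ => by
          rw [mul_smul_comm, hs, smul_smul, smul_mul_assoc, mul_comm (s q)]
      intro q
      have h2 : ∑ q, (c (π q) - s q * c q) • u (π q) = 0 := by
        simp only [sub_smul, Finset.sum_sub_distrib, h1, sub_self]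
      exact sub_eq_zero.1 (Fintype.linearIndependent_iff.1 (hlin.comp π π.injective) _ h2 q)
    have hzero : ∀ q, c q = 0 := by
      intro q
      obtain ⟨a, haS, hcyc⟩ := hSall q
      obtain ⟨j, -, -, rfl⟩ := hcyc.exists_pow_eq π
      have ha : c a = 0 := congrFun hw ⟨a, haS⟩
      clear hcyc
      induction j with
      | zero => exact ha
      | succ j ih => rw [pow_succ', Equiv.Perm.mul_apply, hrel, ih, mul_zero]
    rw [hMsum]
    exact Finset.sum_eq_zero fun q _ => by rw [hzero q, zero_smul]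
  have h1 := LinearMap.finrank_le_finrank_of_injective hL
  rw [Module.finrank_fintype_fun_eq_card, Module.finrank_fintype_fun_eq_card, Fintype.card_coe] at h1
  rcases hcases with ⟨hf, rfl | rfl⟩ | ⟨hf, rfl⟩ | h
  · rw [if_pos rfl]; omega
  · rw [if_neg (by norm_num)]; omega
  · rw [if_pos rfl]; omega
  · exact absurd h hno7

end CfsgLib.Elusive.Pauli
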