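import Cfsg.Agent.Elusive.SubfieldCharpoly
import Cfsg.Agent.Elusive.ConjBasis

/-!
# Characteristic polynomials of elements of order 3 or 5 of `GL_4(p)`

If `p` has multiplicative order `r - 1` modulo `r`, then such an element is determined up to conjugacy by whether it has a fixed vector.
-/

set_option autoImplicit false
open scoped MatrixGroups

namespace CfsgLib.Elusive.Pauli

open Polynomial

/-- Eigenvalues of a matrix over the field with `p` elements are permuted by the `p`-th power map. -/
theorem roots_frobenius {F : Type*} [Field F] [Fintype F] {p : ℕ} [Fact p.Prime] [CharP F p]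
    (hF : Fintype.card F = p) (h : GL (Fin 4) F) :
    ((h : Matrix (Fin 4) (Fin 4) F).map (algebraMap F (AlgebraicClosure F))).charpoly.roots.map (fun l => l ^ p) =
      ((h : Matrix (Fin 4) (Fin 4) F).map (algebraMap F (AlgebraicClosure F))).charpoly.roots := by
  let K := AlgebraicClosure F
  let alg : F →+* K := algebraMap F K
  haveI : CharP K p := charP_of_injective_algebraMap alg.injective p
  haveI : ExpChar K p := ExpChar.prime Fact.out
  let φ : K →+* K := frobenius K p
  have hφ : ∀ a : K, φ a = a ^ p := fun a => frobenius_def p a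
  set M := (h : Matrix (Fin 4) (Fin 4) F).map alg with hM
  set L := M.charpoly.roots with hL
  have hsplit : M.charpoly = (L.map fun l => X - C l).prod :=
    (IsAlgClosed.splits M.charpoly).eq_prod_roots_of_monic (Matrix.charpoly_monic M)
  have h1 : M.charpoly.map φ = M.charpoly := by
    rw [hM, Matrix.charpoly_map, Polynomial.map_map]
    congr 1
    refine RingHom.ext fun a => ?_
    rw [RingHom.comp_apply, hφ, ← map_pow, ← hF, FiniteField.pow_card]
  conv_lhs at h1 => rw [hsplit, Polynomial.map_multiset_prod, Multiset.map_map]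
  have h2 := congrArg Polynomial.roots h1
  rw [show L.map ((Polynomial.map φ) ∘ fun l => X - C l) = (L.map φ).map fun l => X - C l by
      rw [Multiset.map_map]; exact Multiset.map_congr rfl fun l _ => by simp,
    roots_multiset_prod_X_sub_C] at h2
  exact h2

/-- Elements of order `r` in dimension four whose eigenvalues are permuted by a power map of order `r - 1` modulo `r`
are determined up to conjugacy by having a fixed vector. -/
theorem charpoly_eq_of_shift {F : Type*} [Field F] [Fintype F] {p : ℕ} [Fact p.Prime] [CharP F p]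
    {r : ℕ} [hr : Fact r.Prime] (hrp : r ≠ p) (hr3 : r = 3 ∨ r = 5) (m : ℕ)
    (hord : orderOf ((m : ℕ) : ZMod r) = r - 1) {g g' : GL (Fin 4) F} (hg : g ^ r = 1) (hg' : g' ^ r = 1)
    (hg1 : g ≠ 1) (hg'1 : g' ≠ 1)
    (hshift : ((g : Matrix (Fin 4) (Fin 4) F).map (algebraMap F (AlgebraicClosure F))).charpoly.roots.map (fun l => l ^ m) =
      ((g : Matrix (Fin 4) (Fin 4) F).map (algebraMap F (AlgebraicClosure F))).charpoly.roots)
    (hshift' : ((g' : Matrix (Fin 4) (Fin 4) F).map (algebraMap F (AlgebraicClosure F))).charpoly.roots.map (fun l => l ^ m) =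
      ((g' : Matrix (Fin 4) (Fin 4) F).map (algebraMap F (AlgebraicClosure F))).charpoly.roots)
    (h3 : r = 3 → (((g : Matrix (Fin 4) (Fin 4) F) - 1).det = 0 ↔ ((g' : Matrix (Fin 4) (Fin 4) F) - 1).det = 0)) :
    (g : Matrix (Fin 4) (Fin 4) F).charpoly = (g' : Matrix (Fin 4) (Fin 4) F).charpoly := by
  classical
  let K := AlgebraicClosure F
  let alg : F →+* K := algebraMap F K
  haveI : CharP K p := charP_of_injective_algebraMap alg.injective p
  have hrK : ((r : ℕ) : K) ≠ 0 := by
    rw [Ne, CharP.cast_eq_zero_iff K p]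
    exact fun h => hrp ((Nat.prime_dvd_prime_iff_eq Fact.out hr.out).1 h).symm
  haveI : NeZero ((r : ℕ) : K) := ⟨hrK⟩
  obtain ⟨ζ, hζ⟩ := HasEnoughRootsOfUnity.exists_primitiveRoot K r
  have hshape : ∀ h : GL (Fin 4) F, h ^ r = 1 → h ≠ 1 →
      ((h : Matrix (Fin 4) (Fin 4) F).map alg).charpoly.roots.map (fun l => l ^ m) =
        ((h : Matrix (Fin 4) (Fin 4) F).map alg).charpoly.roots → ∃ a b : ℕ, 1 ≤ b ∧ a + (r - 1) * b = 4 ∧
      ((h : Matrix (Fin 4) (Fin 4) F).map alg).charpoly.roots =
        Multiset.replicate a 1 + b • ((nthRootsFinset r (1 : K)).erase 1).val ∧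
      (0 < a ↔ ((h : Matrix (Fin 4) (Fin 4) F) - 1).det = 0) := by
    intro h hhr hh1 hfix
    set M := (h : Matrix (Fin 4) (Fin 4) F).map alg with hM
    have hMr : M ^ r = 1 := by
      rw [hM, show (h : Matrix (Fin 4) (Fin 4) F).map alg = alg.mapMatrix (h : Matrix (Fin 4) (Fin 4) F) from rfl,
        ← map_pow, ← Units.val_pow_eq_pow_val, hhr, Units.val_one, map_one]
    set L := M.charpoly.roots with hL
    have hLr : ∀ l ∈ L, l ^ r = 1 := fun l hl => SubField.root_pow_eq_one M hMr hl
    have hsplit : M.charpoly = (L.map fun l => X - C l).prod :=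
      (IsAlgClosed.splits M.charpoly).eq_prod_roots_of_monic (Matrix.charpoly_monic M)
    have hmono : ∀ (j : ℕ) (l : K), L.count l ≤ L.count (l ^ m ^ j) := fun j => by
      induction j with
      | zero => intro l; rw [pow_zero, pow_one]
      | succ j ih =>
        intro l
        refine (ih l).trans ?_
        rw [pow_succ, pow_mul]
        conv_rhs => rw [← hfix]
        rw [Multiset.count_map, Multiset.count_eq_card_filter_eq]
        exact Multiset.card_le_card (Multiset.monotone_filter_right _ fun a e => by rw [← e])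
    have hcount : ∀ j : ℕ, L.count (ζ ^ m ^ j) = L.count ζ := fun j => by
      refine le_antisymm ?_ (hmono j ζ)
      have h1 := hmono ((r - 2) * j) (ζ ^ m ^ j)
      rw [← pow_mul, ← pow_add, show j + (r - 2) * j = (r - 1) * j by
        obtain ⟨k, hk⟩ := Nat.le.dest hr.out.two_le
        rw [show r - 2 = k by omega, show r - 1 = k + 1 by omega]; ring] at h1
      have h2 : ((m ^ ((r - 1) * j) : ℕ) : ZMod r) = ((1 : ℕ) : ZMod r) := by
        rw [Nat.cast_pow, pow_mul, ← hord, pow_orderOf_eq_one, one_pow, Nat.cast_one]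
      rw [pow_eq_pow_mod (m ^ ((r - 1) * j)) hζ.pow_eq_one, (ZMod.natCast_eq_natCast_iff' _ _ _).1 h2,
        Nat.mod_eq_of_lt hr.out.one_lt, pow_one] at h1
      exact h1
    have horb : ∀ l : K, l ^ r = 1 → l ≠ 1 → ∃ j : ℕ, ζ ^ m ^ j = l := by
      intro l hl hl1
      obtain ⟨e, he, rfl⟩ := hζ.eq_pow_of_pow_eq_one hl
      have he0 : ((e : ℕ) : ZMod r) ≠ 0 := fun h0 => hl1 (by
        rw [hζ.pow_eq_one_iff_dvd]; exact (ZMod.natCast_eq_zero_iff e r).1 h0)
      have hp0 : ((m : ℕ) : ZMod r) ≠ 0 := fun h0 => by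
        rw [h0, orderOf_zero] at hord
        have := hr.out.two_le
        omega
      have hgen : Subgroup.zpowers (Units.mk0 ((m : ℕ) : ZMod r) hp0) = ⊤ :=
        Subgroup.eq_top_of_card_eq _ (by
          rw [Nat.card_zpowers, Nat.card_eq_fintype_card, ZMod.card_units, ← orderOf_units, Units.val_mk0, hord])
      have hmem : Units.mk0 ((e : ℕ) : ZMod r) he0 ∈ Subgroup.zpowers (Units.mk0 ((m : ℕ) : ZMod r) hp0) := by
        rw [hgen]; exact Subgroup.mem_top _
      obtain ⟨j, hj⟩ := mem_powers_iff_mem_zpowers.2 hmem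
      refine ⟨j, ?_⟩
      have h1 : ((m ^ j : ℕ) : ZMod r) = ((e : ℕ) : ZMod r) := by
        rw [Nat.cast_pow]; exact congrArg Units.val hj
      rw [pow_eq_pow_mod (m ^ j) hζ.pow_eq_one, (ZMod.natCast_eq_natCast_iff' _ _ _).1 h1, Nat.mod_eq_of_lt he]
    set a := L.count 1 with ha
    set b := L.count ζ with hb
    have hLeq : L = Multiset.replicate a 1 + b • ((nthRootsFinset r (1 : K)).erase 1).val := by
      refine Multiset.ext.2 fun l => ?_
      rw [Multiset.count_add, Multiset.count_nsmul, Multiset.count_replicate,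
        Multiset.count_eq_of_nodup ((nthRootsFinset r (1 : K)).erase 1).nodup]
      by_cases h1 : l = 1
      · subst h1
        rw [if_pos rfl, if_neg (fun e : (1 : K) ∈ ((nthRootsFinset r (1 : K)).erase 1).val => (Finset.mem_erase.1 e).1 rfl)]
        simp [ha]
      · by_cases hlr : l ^ r = 1
        · obtain ⟨j, rfl⟩ := horb l hlr h1
          have hmem : ζ ^ m ^ j ∈ (nthRootsFinset r (1 : K)).erase 1 :=
            Finset.mem_erase.2 ⟨h1, (mem_nthRootsFinset hr.out.pos 1).2 hlr⟩
          rw [if_neg (fun e => h1 e.symm), if_pos (show ζ ^ m ^ j ∈ ((nthRootsFinset r (1 : K)).erase 1).val from hmem), hcount]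
          ring
        · have hmem : l ∉ (nthRootsFinset r (1 : K)).erase 1 := fun hm => hlr
            ((mem_nthRootsFinset hr.out.pos 1).1 (Finset.mem_of_mem_erase hm))
          rw [if_neg (fun e => h1 e.symm), if_neg (fun e : l ∈ ((nthRootsFinset r (1 : K)).erase 1).val => hmem e),
            Multiset.count_eq_zero.2 fun hl => hlr (hLr l hl)]
          simp
    have hcard : a + (r - 1) * b = 4 := by
      have h1 : Multiset.card L = 4 := by
        rw [hL, ← Polynomial.Splits.natDegree_eq_card_roots (IsAlgClosed.splits M.charpoly),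
          Matrix.charpoly_natDegree_eq_dim, Fintype.card_fin]
      rw [hLeq, Multiset.card_add, Multiset.card_replicate, Multiset.card_nsmul, Finset.card_val,
        Finset.card_erase_of_mem ((mem_nthRootsFinset hr.out.pos 1).2 (one_pow r)),
        hζ.card_nthRootsFinset] at h1
      rw [mul_comm]; exact h1
    refine ⟨a, b, ?_, hcard, hLeq, ?_⟩
    · by_contra hb0
      have hb0' : b = 0 := by omega
      have hch : (h : Matrix (Fin 4) (Fin 4) F).charpoly = ((1 : GL (Fin 4) F) : Matrix (Fin 4) (Fin 4) F).charpoly := by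
        refine Polynomial.map_injective alg alg.injective ?_
        rw [← Matrix.charpoly_map, ← hM, hsplit, hLeq, hb0', zero_nsmul, add_zero,
          show a = 4 by rw [hb0'] at hcard; omega, Units.val_one, Matrix.charpoly_one, Fintype.card_fin]
        simp
        ring
      have hcop : (orderOf h).Coprime p := Nat.Coprime.coprime_dvd_left (orderOf_dvd_of_pow_eq_one hhr)
        ((Nat.coprime_primes hr.out Fact.out).2 hrp)
      exact hh1 (isConj_one_right.1 (CfsgLib.GLClass.isConj_of_charpoly_eq p hcop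
        (by rw [orderOf_one]; exact Nat.coprime_one_left p) hch).symm)
    · rw [ha, Multiset.count_pos, hL, Polynomial.mem_roots (Matrix.charpoly_monic M).ne_zero, IsRoot.def, hM,
        Matrix.charpoly_map, ← map_one alg, Polynomial.eval_map_apply, map_eq_zero, Matrix.eval_charpoly,
        map_one, ← neg_sub, Matrix.det_neg, Fintype.card_fin, show (-1 : F) ^ 4 = 1 by norm_num, one_mul]
  obtain ⟨a, b, hb, hab, hL, ha⟩ := hshape g hg hg1 hshift
  obtain ⟨a', b', hb', hab', hL', ha'⟩ := hshape g' hg' hg'1 hshift'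
  have heq : a = a' ∧ b = b' := by
    rcases hr3 with rfl | rfl
    · have hiff := (ha.trans (h3 rfl)).trans ha'.symm
      omega
    · omega
  refine Polynomial.map_injective alg alg.injective ?_
  rw [← Matrix.charpoly_map, ← Matrix.charpoly_map,
    (IsAlgClosed.splits _).eq_prod_roots_of_monic (Matrix.charpoly_monic ((g : Matrix (Fin 4) (Fin 4) F).map alg)),
    (IsAlgClosed.splits _).eq_prod_roots_of_monic (Matrix.charpoly_monic ((g' : Matrix (Fin 4) (Fin 4) F).map alg)),
    hL, hL', heq.1, heq.2]

/-- Elements of order `r` of `GL_4(p)`, `p` of order `r - 1` modulo `r`, are determined up to conjugacy by having a fixed vector. -/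
theorem charpoly_eq_of_full_order {F : Type*} [Field F] [Fintype F] {p : ℕ} [Fact p.Prime] [CharP F p]
    (hF : Fintype.card F = p) {r : ℕ} [hr : Fact r.Prime] (hrp : r ≠ p) (hr3 : r = 3 ∨ r = 5)
    (hord : orderOf ((p : ℕ) : ZMod r) = r - 1) {g g' : GL (Fin 4) F} (hg : g ^ r = 1) (hg' : g' ^ r = 1)
    (hg1 : g ≠ 1) (hg'1 : g' ≠ 1)
    (h3 : r = 3 → (((g : Matrix (Fin 4) (Fin 4) F) - 1).det = 0 ↔ ((g' : Matrix (Fin 4) (Fin 4) F) - 1).det = 0)) :
    (g : Matrix (Fin 4) (Fin 4) F).charpoly = (g' : Matrix (Fin 4) (Fin 4) F).charpoly := by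
  classical
  refine charpoly_eq_of_shift hrp hr3 p hord hg hg' hg1 hg'1 (roots_frobenius hF g) (roots_frobenius hF g') h3

end CfsgLib.Elusive.Pauli
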