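import Cfsg.Agent.Elusive.PauliFrame

/-!
Explicit elements normalising a symplectic-type group of order 64 written in its frame: a reflection,
two elements of order three, one of order five.
-/

set_option autoImplicit false
set_option linter.unusedSectionVars false
open scoped Matrix

namespace CfsgLib.Elusive.Pauli

variable {F : Type*} [Field F]

/-- A group in standard position. -/
structure Std (R : Subgroup (GL (Fin 4) F)) (i : F) : Prop extends Sym R i where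
  a₁ : InR R (A₁ F)
  a₂ : InR R (A₂ F)
  b₁ : InR R (B₁ F)
  b₂ : InR R (B₂ F)
  gen : ∀ g ∈ R, ∃ c : F, c ^ 4 = 1 ∧ ∃ a b d e : ℕ,
    (g : Matrix (Fin 4) (Fin 4) F) = c • (A₁ F ^ a * A₂ F ^ b * B₁ F ^ d * B₂ F ^ e)

theorem exists_std [Fintype F] {R : Subgroup (GL (Fin 4) F)} {i : F} (hS : Sym R i) :
    ∃ P : GL (Fin 4) F, Std (R.map (MulAut.conj P⁻¹).toMonoidHom) i := by
  obtain ⟨P, hF, hS'⟩ := exists_frame hS
  exact ⟨P, { toSym := hS', a₁ := hF.a₁, a₂ := hF.a₂, b₁ := hF.b₁, b₂ := hF.b₂, gen := hF.gen }⟩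

variable {R : Subgroup (GL (Fin 4) F)} {i : F}

theorem InR.pow {M : Matrix (Fin 4) (Fin 4) F} (hM : InR R M) (n : ℕ) : InR R (M ^ n) := by
  induction n with
  | zero => rw [pow_zero]; exact InR.one
  | succ n ih => rw [pow_succ]; exact ih.mul hM

/-- An invertible matrix moving the four generators into the group normalises it. -/
theorem Std.mem_normalizer (hS : Std R i) (y : GL (Fin 4) F)
    (h₁ : ∃ X, InR R X ∧ (y : Matrix (Fin 4) (Fin 4) F) * A₁ F = X * y)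
    (h₂ : ∃ X, InR R X ∧ (y : Matrix (Fin 4) (Fin 4) F) * A₂ F = X * y)
    (h₃ : ∃ X, InR R X ∧ (y : Matrix (Fin 4) (Fin 4) F) * B₁ F = X * y)
    (h₄ : ∃ X, InR R X ∧ (y : Matrix (Fin 4) (Fin 4) F) * B₂ F = X * y) :
    y ∈ Subgroup.normalizer (R : Set (GL (Fin 4) F)) := by
  classical
  haveI : Finite R := Nat.finite_of_card_ne_zero (by rw [hS.card]; norm_num)
  let C : Matrix (Fin 4) (Fin 4) F → Prop := fun M => ∃ X, InR R X ∧ (y : Matrix (Fin 4) (Fin 4) F) * M = X * y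
  have hmul : ∀ {M N}, C M → C N → C (M * N) := fun {M N} ⟨X, hX, e⟩ ⟨Z, hZ, e'⟩ =>
    ⟨X * Z, hX.mul hZ, by rw [← mul_assoc, e, mul_assoc, e', mul_assoc]⟩
  have hpow : ∀ {M} (n : ℕ), C M → C (M ^ n) := fun {M} n hM => by
    induction n with
    | zero => exact ⟨1, InR.one, by rw [pow_zero, mul_one, one_mul]⟩
    | succ n ih => rw [pow_succ]; exact hmul ih hM
  have hmaps : ∀ g ∈ R, y * g * y⁻¹ ∈ R := by
    intro g hg
    obtain ⟨c, hc, a, b, d, e, hgM⟩ := hS.gen g hg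
    obtain ⟨X, hX, hXe⟩ := hmul (hmul (hmul (hpow a h₁) (hpow b h₂)) (hpow d h₃)) (hpow e h₄)
    obtain ⟨w, hw, hwX⟩ := hS.smul_mem hX hc
    have : y * g * y⁻¹ = w := Units.ext (by
      rw [Units.val_mul, Units.val_mul, hgM, mul_smul_comm, hXe, smul_mul_assoc, mul_assoc, Units.mul_inv, mul_one,
        hwX])
    rw [this]; exact hw
  let f : R → R := fun g => ⟨y * g * y⁻¹, hmaps g g.2⟩
  have hf : Function.Surjective f := Finite.surjective_of_injective fun a b h => Subtype.ext (by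
    have h' : y * (a : GL (Fin 4) F) * y⁻¹ = y * b * y⁻¹ := congrArg Subtype.val h
    simpa using h')
  rw [Subgroup.mem_normalizer_iff]
  refine fun g => ⟨hmaps g, fun hg => ?_⟩
  obtain ⟨a, ha⟩ := hf ⟨_, hg⟩
  have h' : y * (a : GL (Fin 4) F) * y⁻¹ = y * g * y⁻¹ := congrArg Subtype.val ha
  have : (a : GL (Fin 4) F) = g := by simpa using h'
  exact this ▸ a.2

theorem smul_mul_cancel {s : F} {M N X : Matrix (Fin 4) (Fin 4) F} (hs : M * N = X * M) :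
    (s • M) * N = X * (s • M) := by rw [smul_mul_assoc, hs, mul_smul_comm]

/-- The reflection. -/
def refl (F : Type*) [Field F] : Matrix (Fin 4) (Fin 4) F := Matrix.diagonal ![1, 1, 1, -1]

/-- Twice an element of order three without fixed vectors. -/
def N₁ (i : F) : Matrix (Fin 4) (Fin 4) F :=
  !![-1 - i, -1 - i, 0, 0; 1 - i, -1 + i, 0, 0; 0, 0, -1 - i, -1 - i; 0, 0, 1 - i, -1 + i]

/-- Twice an element of order three with fixed vectors. -/
def N₂ (i : F) : Matrix (Fin 4) (Fin 4) F :=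
  !![i, i, i, i; -1, 1, -1, 1; -1, -1, 1, 1; -i, i, i, -i]

/-- An element of order five modulo scalars. -/
def Y₅ (i : F) : Matrix (Fin 4) (Fin 4) F :=
  !![0, 0, 1, -1; -1, -1, 0, 0; -i, i, 0, 0; 0, 0, -i, -i]

section calc_
variable (hi : i * i = -1)
include hi

theorem N₁_cube : N₁ i ^ 3 = (8 : F) • 1 := by
  have h2 : N₁ i * N₁ i = !![-2 + 2 * i, 2 + 2 * i, 0, 0; -2 + 2 * i, -2 - 2 * i, 0, 0;
      0, 0, -2 + 2 * i, 2 + 2 * i; 0, 0, -2 + 2 * i, -2 - 2 * i] := by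
    ext a b; fin_cases a <;> fin_cases b <;> simp [N₁, Matrix.mul_apply, Fin.sum_univ_four] <;>
      ring_nf <;> simp only [pow_two, hi] <;> ring
  rw [pow_succ, pow_two, h2]
  ext a b; fin_cases a <;> fin_cases b <;> simp [N₁, Matrix.mul_apply, Fin.sum_univ_four] <;>
    ring_nf <;> simp only [pow_two, hi] <;> ring

theorem N₂_cube : N₂ i ^ 3 = (8 : F) • 1 := by
  have h2 : N₂ i * N₂ i = !![-2 * i, -2, -2, 2 * i; -2 * i, 2, -2, -2 * i;
      -2 * i, -2, 2, -2 * i; -2 * i, 2, 2, 2 * i] := by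
    ext a b; fin_cases a <;> fin_cases b <;> simp [N₂, Matrix.mul_apply, Fin.sum_univ_four] <;>
      ring_nf <;> simp only [pow_two, hi] <;> ring
  rw [pow_succ, pow_two, h2]
  ext a b; fin_cases a <;> fin_cases b <;> simp [N₂, Matrix.mul_apply, Fin.sum_univ_four] <;>
    ring_nf <;> simp only [pow_two, hi] <;> ring

theorem Y₅_pow : Y₅ i ^ 5 = (-4 - 4 * i) • 1 := by
  have h2 : Y₅ i * Y₅ i = !![-i, i, i, i; 1, 1, -1, 1; -i, -i, -i, i; -1, 1, -1, -1] := by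
    ext a b; fin_cases a <;> fin_cases b <;> simp [Y₅, Matrix.mul_apply, Fin.sum_univ_four] <;>
      ring_nf <;> simp only [pow_two, hi] <;> ring
  have h4 : (Y₅ i * Y₅ i) * (Y₅ i * Y₅ i) = !![0, 2 + 2 * i, 2 - 2 * i, 0; 0, 2 + 2 * i, -2 + 2 * i, 0;
      -2 - 2 * i, 0, 0, 2 - 2 * i; 2 + 2 * i, 0, 0, 2 - 2 * i] := by
    rw [h2]
    ext a b; fin_cases a <;> fin_cases b <;> simp [Matrix.mul_apply, Fin.sum_univ_four] <;>
      ring_nf <;> simp only [pow_two, hi] <;> ring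
  rw [show Y₅ i ^ 5 = (Y₅ i * Y₅ i) * (Y₅ i * Y₅ i) * Y₅ i by simp only [pow_succ, pow_zero, one_mul, mul_assoc], h4]
  ext a b; fin_cases a <;> fin_cases b <;> simp [Y₅, Matrix.mul_apply, Fin.sum_univ_four] <;>
    ring_nf <;> simp only [pow_two, hi] <;> ring

theorem N₂_fix : N₂ i *ᵥ ![2, -1 - i, -1 - i, -2 * i] = (2 : F) • ![2, -1 - i, -1 - i, -2 * i] := by
  funext a; fin_cases a <;> simp [N₂, Matrix.mulVec, dotProduct, Fin.sum_univ_four] <;>
    ring_nf <;> simp only [pow_two, hi] <;> ring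

theorem N₁_det : (N₁ i - (2 : F) • 1).det = 144 := by
  rw [Matrix.det_succ_row_zero]
  simp [N₁, Fin.sum_univ_four, Matrix.det_fin_three, Matrix.submatrix, Fin.succAbove, Matrix.one_apply]
  linear_combination (4 * (i * i) - 44) * hi


end calc_

variable (hS : Std R i)
include hS

theorem Std.refl_mem (y : GL (Fin 4) F) {s : F} (hy : (y : Matrix (Fin 4) (Fin 4) F) = s • refl F) :
    y ∈ Subgroup.normalizer (R : Set (GL (Fin 4) F)) := by
  refine hS.mem_normalizer y ⟨_, hS.a₁, ?_⟩ ⟨_, hS.a₂, ?_⟩ ⟨_, hS.a₂.mul hS.b₁, ?_⟩ ⟨_, hS.a₁.mul hS.b₂, ?_⟩ <;>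
    rw [hy] <;> refine smul_mul_cancel ?_ <;> ext a b <;> fin_cases a <;> fin_cases b <;>
    simp [refl, A₁, A₂, B₁, B₂, Matrix.mul_apply, Fin.sum_univ_four]

theorem Std.a₁_mem (y : GL (Fin 4) F) {s : F} (hy : (y : Matrix (Fin 4) (Fin 4) F) = s • A₁ F) :
    y ∈ Subgroup.normalizer (R : Set (GL (Fin 4) F)) := by
  refine hS.mem_normalizer y ⟨_, hS.a₁, ?_⟩ ⟨_, hS.a₂, ?_⟩
    ⟨_, hS.smul_mem hS.b₁ (c := -1) (by norm_num), ?_⟩ ⟨_, hS.b₂, ?_⟩ <;>
    rw [hy] <;> refine smul_mul_cancel ?_ <;> ext a b <;> fin_cases a <;> fin_cases b <;>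
    simp [A₁, A₂, B₁, B₂, Matrix.mul_apply, Fin.sum_univ_four]

theorem Std.n₁_mem (y : GL (Fin 4) F) {s : F} (hy : (y : Matrix (Fin 4) (Fin 4) F) = s • N₁ i) :
    y ∈ Subgroup.normalizer (R : Set (GL (Fin 4) F)) := by
  have hi := hS.sq_i
  have hi4 : (-i) ^ 4 = 1 := by linear_combination (i * i - 1) * hi
  refine hS.mem_normalizer y ⟨_, hS.a₁, ?_⟩ ⟨_, hS.smul_mem (hS.a₂.mul hS.b₂) hi4, ?_⟩
    ⟨_, hS.b₁, ?_⟩ ⟨_, hS.a₂, ?_⟩ <;>
    rw [hy] <;> refine smul_mul_cancel ?_ <;> ext a b <;> fin_cases a <;> fin_cases b <;>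
    simp [N₁, A₁, A₂, B₁, B₂, Matrix.mul_apply, Fin.sum_univ_four] <;> first | done | grind

theorem Std.n₂_mem (y : GL (Fin 4) F) {s : F} (hy : (y : Matrix (Fin 4) (Fin 4) F) = s • N₂ i) :
    y ∈ Subgroup.normalizer (R : Set (GL (Fin 4) F)) := by
  have hi := hS.sq_i
  have hi4 : (-i) ^ 4 = 1 := by linear_combination (i * i - 1) * hi
  refine hS.mem_normalizer y ⟨_, hS.smul_mem (hS.a₁.mul hS.b₁) hi4, ?_⟩
    ⟨_, hS.smul_mem (hS.a₂.mul hS.b₂) hi4, ?_⟩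
    ⟨_, hS.a₁, ?_⟩ ⟨_, hS.a₂, ?_⟩ <;>
    rw [hy] <;> refine smul_mul_cancel ?_ <;> ext a b <;> fin_cases a <;> fin_cases b <;>
    simp [N₂, A₁, A₂, B₁, B₂, Matrix.mul_apply, Fin.sum_univ_four] <;> first | done | grind

theorem Std.y₅_mem (y : GL (Fin 4) F) {s : F} (hy : (y : Matrix (Fin 4) (Fin 4) F) = s • Y₅ i) :
    y ∈ Subgroup.normalizer (R : Set (GL (Fin 4) F)) := by
  have hi := hS.sq_i
  have hi4 : i ^ 4 = 1 := hS.toSym.i_four
  have hm4 : (-1 : F) ^ 4 = 1 := by norm_num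
  refine hS.mem_normalizer y ⟨_, hS.smul_mem (hS.a₁.mul hS.a₂) hm4, ?_⟩
    ⟨_, hS.smul_mem ((hS.a₂.mul hS.b₁).mul hS.b₂) hi4, ?_⟩
    ⟨_, hS.smul_mem ((hS.a₁.mul hS.a₂).mul hS.b₁) hi4, ?_⟩ ⟨_, hS.smul_mem hS.a₂ hm4, ?_⟩ <;>
    rw [hy] <;> refine smul_mul_cancel ?_ <;> ext a b <;> fin_cases a <;> fin_cases b <;>
    simp [Y₅, A₁, A₂, B₁, B₂, Matrix.mul_apply, Fin.sum_univ_four] <;> first | done | grind

end CfsgLib.Elusive.Pauli
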