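import Cfsg.Prelude.Def_GeometricClasses
import Cfsg.Agent.KGroup.Symplectic
import Mathlib

/-!
Absolutely irreducible symplectic-type 2-groups of order 64 in `GL_4`: the Pauli frame and a bound for
the centraliser of an element of odd prime order normalising such a group.
-/

set_option autoImplicit false
set_option linter.unusedSectionVars false
open scoped Matrix

namespace CfsgLib.Elusive.Pauli

open Cfsg.Geo

variable {F : Type*} [Field F]

/-- The facts about the group used below. -/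
structure Sym (R : Subgroup (GL (Fin 4) F)) (i : F) : Prop where
  two : (2 : F) ≠ 0
  sq_i : i * i = -1
  commutant : ∀ M : Matrix (Fin 4) (Fin 4) F,
    (∀ g ∈ R, M * (g : Matrix (Fin 4) (Fin 4) F) = g * M) → ∃ c : F, M = c • 1
  scal : ∀ c : F, c ^ 4 = 1 → ∃ g ∈ R, (g : Matrix (Fin 4) (Fin 4) F) = c • 1
  comm : ∀ x ∈ R, ∀ y ∈ R, (x : Matrix (Fin 4) (Fin 4) F) * y = y * x ∨
    (x : Matrix (Fin 4) (Fin 4) F) * y = -((y : Matrix (Fin 4) (Fin 4) F) * x)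
  card : Nat.card R = 64
  pow_four : ∀ x ∈ R, x ^ 4 = 1

theorem scalar_of_smul_mul {x : GL (Fin 4) F} {c : F}
    (h : (x : Matrix (Fin 4) (Fin 4) F) = c • 1) (y : GL (Fin 4) F) : x * y = y * x :=
  Units.ext (by rw [Units.val_mul, Units.val_mul, h, smul_mul_assoc, one_mul, mul_smul_comm, mul_one])

theorem sym_of_data [Fintype F] (R : Subgroup (GL (Fin 4) F))
    (hR : IsLinearSymplecticTypeData 2 R) (hR6 : Nat.card R = 2 ^ 6) {p : ℕ} (hF : Fintype.card F = p)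
    (hp4 : p % 4 = 1) : ∃ i, Sym R i := by
  classical
  have h2 : (2 : F) ≠ 0 := by
    intro e
    have hch : ringChar F = 2 := CharP.ringChar_of_prime_eq_zero Nat.prime_two (by exact_mod_cast e)
    have := FiniteField.even_card_iff_char_two.1 hch
    omega
  obtain ⟨i, hi⟩ : IsSquare (-1 : F) := FiniteField.isSquare_neg_one_iff.2 (by omega)
  refine ⟨i, ?_⟩
  haveI : Finite (GL (Fin 4) F) := inferInstance
  have h4 : ∀ x ∈ R, x ^ 4 = 1 := fun x hx => by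
    have h := Monoid.pow_exponent_eq_one (⟨x, hx⟩ : R)
    rw [hR.symplecticType.exponent_eq] at h
    exact congrArg Subtype.val h
  have hcomm := CfsgLib.Symp.comm_central_aux (Nat.card R) R rfl hR.symplecticType.pGroup
    (fun x => Subtype.ext (h4 x.1 x.2)) hR.symplecticType.cyclic_of_characteristic
  have hM : ∀ M : Matrix (Fin 4) (Fin 4) F,
      (∀ g ∈ R, M * (g : Matrix (Fin 4) (Fin 4) F) = g * M) → ∃ c : F, M = c • 1 := fun M h =>
    hR.absIrred.2 M (by rintro _ ⟨g, hg, rfl⟩; exact h g hg)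
  have hcent : ∀ z : R, z ∈ Subgroup.center R →
      ∃ c : F, ((z : GL (Fin 4) F) : Matrix (Fin 4) (Fin 4) F) = c • 1 ∧ c ^ 4 = 1 := fun z hz => by
    obtain ⟨c, hc⟩ := hM (z : GL (Fin 4) F) (fun g hg => by
      have := Subgroup.mem_center_iff.1 hz ⟨g, hg⟩
      exact (congrArg (fun u : R => ((u : GL (Fin 4) F) : Matrix (Fin 4) (Fin 4) F)) this).symm)
    refine ⟨c, hc, ?_⟩
    have h := congrArg (fun u : GL (Fin 4) F => (u : Matrix (Fin 4) (Fin 4) F) 0 0) (h4 z z.2)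
    simp only [Units.val_pow_eq_pow_val, hc, smul_pow, one_pow, Matrix.smul_apply, Units.val_one,
      Matrix.one_apply_eq, smul_eq_mul, mul_one] at h
    exact h
  have hZ4 : Nat.card (Subgroup.center R) = 4 := by
    obtain ⟨_, _, -, -, hcases⟩ := hR.field
    rcases hcases with ⟨ho, -⟩ | ⟨-, -, h, -⟩ | ⟨-, -, h, -⟩
    · exact absurd ho (by decide)
    · exact h
    · simp at h
  refine ⟨h2, hi.symm, hM, ?_, ?_, hR6, h4⟩
  · intro c hc
    choose f hf hf4 using fun z : Subgroup.center R => hcent z.1 z.2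
    have hinj : Function.Injective f := fun a b e => Subtype.ext (Subtype.ext (Units.ext (by rw [hf, hf, e])))
    let S : Finset F := (Polynomial.nthRoots 4 (1 : F)).toFinset
    have hS : S.card ≤ 4 := (Multiset.toFinset_card_le _).trans (Polynomial.card_nthRoots 4 1)
    haveI : Fintype (Subgroup.center R) := Fintype.ofFinite _
    have himg : Finset.univ.image f = S := by
      refine Finset.eq_of_subset_of_card_le ?_ ?_
      · intro y hy
        obtain ⟨z, -, rfl⟩ := Finset.mem_image.1 hy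
        exact Multiset.mem_toFinset.2 ((Polynomial.mem_nthRoots (by norm_num)).2 (hf4 z))
      · rw [Finset.card_image_of_injective _ hinj, Finset.card_univ, ← Nat.card_eq_fintype_card, hZ4]
        exact hS
    have hmem : c ∈ Finset.univ.image f := by
      rw [himg]; exact Multiset.mem_toFinset.2 ((Polynomial.mem_nthRoots (by norm_num)).2 hc)
    obtain ⟨z, -, rfl⟩ := Finset.mem_image.1 hmem
    exact ⟨_, z.1.2, hf z⟩
  · intro x hx y hy
    obtain ⟨hz, hzz⟩ := hcomm ⟨x, hx⟩ ⟨y, hy⟩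
    obtain ⟨c, hc, -⟩ := hcent _ hz
    have hxy : (x : Matrix (Fin 4) (Fin 4) F) * y = c • ((y : Matrix (Fin 4) (Fin 4) F) * x) := by
      rw [← one_mul ((y : Matrix (Fin 4) (Fin 4) F) * x), ← smul_mul_assoc, ← hc, ← Units.val_mul,
        ← Units.val_mul, ← Units.val_mul]
      refine congrArg Units.val ?_
      show x * y = x * y * x⁻¹ * y⁻¹ * (y * x)
      group
    have hc2 : c * c = 1 := by
      have h := congrArg (fun u : R => ((u : GL (Fin 4) F) : Matrix (Fin 4) (Fin 4) F) 0 0) hzz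
      simp only [Subgroup.coe_mul, Units.val_mul] at h
      simp only [Subgroup.coe_mul, Units.val_mul] at hc
      rw [hc] at h
      simpa using h
    rcases mul_self_eq_one_iff.1 hc2 with rfl | rfl
    · exact Or.inl (by rw [hxy, one_smul])
    · exact Or.inr (by rw [hxy, neg_one_smul])

variable {R : Subgroup (GL (Fin 4) F)} {i : F}

/-- Matrices of elements of the group. -/
def InR (R : Subgroup (GL (Fin 4) F)) (M : Matrix (Fin 4) (Fin 4) F) : Prop :=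
  ∃ g ∈ R, (g : Matrix (Fin 4) (Fin 4) F) = M

theorem InR.mul {M N : Matrix (Fin 4) (Fin 4) F} (hM : InR R M) (hN : InR R N) : InR R (M * N) := by
  obtain ⟨g, hg, rfl⟩ := hM
  obtain ⟨h, hh, rfl⟩ := hN
  exact ⟨g * h, mul_mem hg hh, rfl⟩

theorem InR.one : InR R (1 : Matrix (Fin 4) (Fin 4) F) := ⟨1, R.one_mem, rfl⟩

variable (hS : Sym R i)
include hS

theorem Sym.i_four : i ^ 4 = 1 := by linear_combination (i * i - 1) * hS.sq_i

theorem Sym.smul_mem {M : Matrix (Fin 4) (Fin 4) F} (hM : InR R M) {c : F} (hc : c ^ 4 = 1) :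
    InR R (c • M) := by
  obtain ⟨g, hg, hgc⟩ := hS.scal c hc
  have := InR.mul ⟨g, hg, hgc⟩ hM
  rwa [smul_mul_assoc, one_mul] at this

theorem Sym.comm' {M N : Matrix (Fin 4) (Fin 4) F} (hM : InR R M) (hN : InR R N) :
    M * N = N * M ∨ M * N = -(N * M) := by
  obtain ⟨g, hg, rfl⟩ := hM
  obtain ⟨h, hh, rfl⟩ := hN
  exact hS.comm g hg h hh

theorem Sym.exists_anti {M : Matrix (Fin 4) (Fin 4) F} (hM : InR R M) (hns : ∀ c : F, M ≠ c • 1) :
    ∃ N, InR R N ∧ M * N = -(N * M) := by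
  by_contra hno
  obtain ⟨c, hc⟩ := hS.commutant M fun g hg => (hS.comm' hM ⟨g, hg, rfl⟩).resolve_right fun e =>
    hno ⟨_, ⟨g, hg, rfl⟩, e⟩
  exact hns c hc

theorem Sym.sq {M : Matrix (Fin 4) (Fin 4) F} (hM : InR R M) :
    ∃ c : F, c ^ 4 = 1 ∧ (c • M) * (c • M) = 1 := by
  obtain ⟨g, hg, rfl⟩ := hM
  obtain ⟨s, hs⟩ := hS.commutant ((g : Matrix (Fin 4) (Fin 4) F) * g) fun h hh => by
    rcases hS.comm g hg h hh with e | e
    · rw [mul_assoc, e, ← mul_assoc, e, mul_assoc]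
    · rw [mul_assoc, e, mul_neg, ← mul_assoc, e, neg_mul, neg_neg, mul_assoc]
  have hs2 : s * s = 1 := by
    have h := congrArg (fun u : GL (Fin 4) F => (u : Matrix (Fin 4) (Fin 4) F) 0 0) (hS.pow_four g hg)
    simp only [Units.val_pow_eq_pow_val, Units.val_one] at h
    rw [show (g : Matrix (Fin 4) (Fin 4) F) ^ 4 = ((g : Matrix (Fin 4) (Fin 4) F) * g) * ((g : Matrix (Fin 4) (Fin 4) F) * g) by noncomm_ring, hs] at h
    simpa using h
  rcases mul_self_eq_one_iff.1 hs2 with rfl | rfl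
  · exact ⟨1, one_pow _, by rw [one_smul, hs, one_smul]⟩
  · refine ⟨i, hS.i_four, ?_⟩
    rw [smul_mul_smul_comm, hs, smul_smul, hS.sq_i, neg_mul_neg, one_mul, one_smul]

theorem Sym.trace_eq_zero {M : Matrix (Fin 4) (Fin 4) F} (hM : InR R M) (hns : ∀ c : F, M ≠ c • 1) :
    M.trace = 0 := by
  obtain ⟨N, ⟨h, hh, rfl⟩, e⟩ := hS.exists_anti hM hns
  have h1 : ((h⁻¹ : GL (Fin 4) F) : Matrix (Fin 4) (Fin 4) F) * (M * h) = -M := by
    rw [e, mul_neg, ← mul_assoc, Units.inv_mul, one_mul]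
  have h2 := congrArg Matrix.trace h1
  rw [Matrix.trace_mul_comm, mul_assoc, Units.mul_inv, mul_one, Matrix.trace_neg] at h2
  have : (2 : F) * M.trace = 0 := by linear_combination h2
  exact (mul_eq_zero.1 this).resolve_left hS.two

end CfsgLib.Elusive.Pauli

namespace CfsgLib.Elusive.Pauli

variable {F : Type*} [Field F]

/-- The matrices of the frame. -/
def A₁ (F : Type*) [Field F] : Matrix (Fin 4) (Fin 4) F := Matrix.diagonal ![1, 1, -1, -1]
def A₂ (F : Type*) [Field F] : Matrix (Fin 4) (Fin 4) F := Matrix.diagonal ![1, -1, 1, -1]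
def B₁ (F : Type*) [Field F] : Matrix (Fin 4) (Fin 4) F :=
  !![0, 0, 1, 0; 0, 0, 0, 1; 1, 0, 0, 0; 0, 1, 0, 0]
def B₂ (F : Type*) [Field F] : Matrix (Fin 4) (Fin 4) F :=
  !![0, 1, 0, 0; 1, 0, 0, 0; 0, 0, 0, 1; 0, 0, 1, 0]

/-- A frame of the group: its four generators in standard form. -/
structure Frame (R : Subgroup (GL (Fin 4) F)) (P : GL (Fin 4) F) : Prop where
  a₁ : InR (R.map (MulAut.conj P⁻¹).toMonoidHom) (A₁ F)
  a₂ : InR (R.map (MulAut.conj P⁻¹).toMonoidHom) (A₂ F)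
  b₁ : InR (R.map (MulAut.conj P⁻¹).toMonoidHom) (B₁ F)
  b₂ : InR (R.map (MulAut.conj P⁻¹).toMonoidHom) (B₂ F)
  gen : ∀ g ∈ R.map (MulAut.conj P⁻¹).toMonoidHom, ∃ c : F, c ^ 4 = 1 ∧ ∃ a b d e : ℕ,
    (g : Matrix (Fin 4) (Fin 4) F) = c • (A₁ F ^ a * A₂ F ^ b * B₁ F ^ d * B₂ F ^ e)

theorem A₁_sq : A₁ F * A₁ F = 1 := by
  rw [A₁, Matrix.diagonal_mul_diagonal, ← Matrix.diagonal_one]; congr 1; funext j; fin_cases j <;> simp

theorem A₂_sq : A₂ F * A₂ F = 1 := by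
  rw [A₂, Matrix.diagonal_mul_diagonal, ← Matrix.diagonal_one]; congr 1; funext j; fin_cases j <;> simp

theorem commutant_std (h2 : (2 : F) ≠ 0) {M : Matrix (Fin 4) (Fin 4) F} (h1 : M * A₁ F = A₁ F * M)
    (h1' : M * A₂ F = A₂ F * M) (h3 : M * B₁ F = B₁ F * M) (h4 : M * B₂ F = B₂ F * M) :
    ∃ c : F, M = c • 1 := by
  have hd : ∀ j l : Fin 4, j ≠ l → M j l = 0 := by
    intro j l hjl
    have e1 := congrFun (congrFun h1 j) l
    have e2 := congrFun (congrFun h1' j) l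
    simp only [A₁, A₂, Matrix.mul_diagonal, Matrix.diagonal_mul] at e1 e2
    fin_cases j <;> fin_cases l <;> simp at hjl e1 e2 ⊢ <;>
      first
        | exact (mul_eq_zero.1 (show (2 : F) * _ = 0 by linear_combination e1)).resolve_left h2
        | exact (mul_eq_zero.1 (show (2 : F) * _ = 0 by linear_combination -e1)).resolve_left h2
        | exact (mul_eq_zero.1 (show (2 : F) * _ = 0 by linear_combination e2)).resolve_left h2
        | exact (mul_eq_zero.1 (show (2 : F) * _ = 0 by linear_combination -e2)).resolve_left h2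
  have e02 := congrFun (congrFun h3 0) 2
  have e13 := congrFun (congrFun h3 1) 3
  have e01 := congrFun (congrFun h4 0) 1
  simp [B₁, B₂, Matrix.mul_apply, Fin.sum_univ_four] at e02 e13 e01
  refine ⟨M 0 0, Matrix.ext fun j l => ?_⟩
  by_cases hjl : j = l
  · subst hjl
    fin_cases j <;> simp
    · exact e01.symm
    · exact e02.symm
    · rw [← e13]; exact e01.symm
  · simp [Matrix.one_apply, hjl, hd j l hjl]

theorem exists_frame {R : Subgroup (GL (Fin 4) F)} {i : F} (hS : Sym R i) :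
    ∃ P : GL (Fin 4) F, Frame R P ∧ Sym (R.map (MulAut.conj P⁻¹).toMonoidHom) i := by
  classical
  have hfin : Finite R := Nat.finite_of_card_ne_zero (by rw [hS.card]; norm_num)
  -- a non-scalar element
  have hsmall : ∀ S : Finset (Matrix (Fin 4) (Fin 4) F), (∀ g ∈ R, (g : Matrix (Fin 4) (Fin 4) F) ∈ S) →
      64 ≤ S.card := by
    intro S hSmem
    rw [← hS.card]
    refine le_trans (Nat.card_le_card_of_injective (fun g : R => (⟨_, hSmem g g.2⟩ : S))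
      (fun a b e => Subtype.ext (Units.ext (congrArg Subtype.val e)))) (Nat.card_eq_finsetCard S).le
  set roots : Finset F := (Polynomial.nthRoots 4 (1 : F)).toFinset with hroots
  have hroots4 : roots.card ≤ 4 := (Multiset.toFinset_card_le _).trans (Polynomial.card_nthRoots 4 1)
  have hmemroots : ∀ c : F, c ^ 4 = 1 → c ∈ roots := fun c hc =>
    Multiset.mem_toFinset.2 ((Polynomial.mem_nthRoots (by norm_num)).2 hc)
  have hscal4 : ∀ {M : Matrix (Fin 4) (Fin 4) F} (c : F), InR R M → M = c • 1 → c ^ 4 = 1 := by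
    rintro M c ⟨g, hg, rfl⟩ hc
    have h := congrArg (fun u : GL (Fin 4) F => (u : Matrix (Fin 4) (Fin 4) F) 0 0) (hS.pow_four g hg)
    simp only [Units.val_pow_eq_pow_val, hc, smul_pow, one_pow, Units.val_one, Matrix.smul_apply,
      Matrix.one_apply_eq, smul_eq_mul, mul_one] at h
    exact h
  have hinv : ∀ {M : Matrix (Fin 4) (Fin 4) F}, InR R M → (∀ c : F, M ≠ c • 1) →
      ∃ a, InR R a ∧ a * a = 1 ∧ (∀ c : F, a ≠ c • 1) ∧ ∃ s : F, a = s • M := by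
    intro M hM hns
    obtain ⟨c, hc, hcc⟩ := hS.sq hM
    have hc0 : c ≠ 0 := fun e => by simp [e] at hc
    refine ⟨c • M, hS.smul_mem hM hc, hcc, fun d e => hns (c⁻¹ * d) ?_, c, rfl⟩
    rw [← smul_smul, ← e, smul_smul, inv_mul_cancel₀ hc0, one_smul]
  obtain ⟨a₁, ha₁, ha₁2, ha₁ns, -⟩ : ∃ a, InR R a ∧ a * a = 1 ∧ (∀ c : F, a ≠ c • 1) ∧ True := by
    by_contra hno
    have h := hsmall (roots.image fun c => c • (1 : Matrix (Fin 4) (Fin 4) F)) fun g hg => by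
      by_cases h : ∃ c : F, (g : Matrix (Fin 4) (Fin 4) F) = c • 1
      · obtain ⟨c, hc⟩ := h
        exact Finset.mem_image.2 ⟨c, hmemroots c (hscal4 c ⟨g, hg, rfl⟩ hc), hc.symm⟩
      · push Not at h
        obtain ⟨a, h1, h2, h3, -⟩ := hinv ⟨g, hg, rfl⟩ h
        exact absurd ⟨a, h1, h2, h3, trivial⟩ hno
    have := h.trans Finset.card_image_le
    omega
  obtain ⟨N₁, hN₁, hanti₁⟩ := hS.exists_anti ha₁ ha₁ns
  have hns_of_anti : ∀ {a N : Matrix (Fin 4) (Fin 4) F}, a * a = 1 → InR R N → a * N = -(N * a) →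
      ∀ c : F, N ≠ c • 1 := by
    intro a N ha hN hanti c hc
    rw [hc, smul_mul_assoc, one_mul, mul_smul_comm, mul_one] at hanti
    have h1 : c * c = 0 ∨ True := Or.inr trivial
    have h0 : (2 * c) • a = 0 := by rw [mul_smul, two_smul]; nth_rw 1 [hanti]; exact neg_add_cancel _
    rcases smul_eq_zero.1 h0 with h | h
    · have hc0 : c = 0 := (mul_eq_zero.1 h).resolve_left hS.two
      have h4 := hscal4 c hN hc
      rw [hc0] at h4; simp at h4
    · rw [h, mul_zero] at ha; exact zero_ne_one ha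
  obtain ⟨b₁, hb₁, hb₁2, -, s₁, hs₁⟩ := hinv hN₁ (hns_of_anti ha₁2 hN₁ hanti₁)
  have hab₁ : a₁ * b₁ = -(b₁ * a₁) := by rw [hs₁, mul_smul_comm, hanti₁, smul_neg, smul_mul_assoc]
  have hba₁ : b₁ * a₁ = -(a₁ * b₁) := by rw [hab₁, neg_neg]
  -- move an element into the centraliser of the pair
  have hcorr : ∀ {u : Matrix (Fin 4) (Fin 4) F}, InR R u → ∃ u' w : Matrix (Fin 4) (Fin 4) F,
      InR R u' ∧ u' * a₁ = a₁ * u' ∧ u' * b₁ = b₁ * u' ∧
      (w = 1 ∨ w = a₁ ∨ w = b₁ ∨ w = a₁ * b₁) ∧ u = u' * w := by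
    intro u hu
    rcases hS.comm' hu ha₁ with e | e <;> rcases hS.comm' hu hb₁ with e' | e'
    · exact ⟨u, 1, hu, e, e', Or.inl rfl, (mul_one u).symm⟩
    · refine ⟨u * a₁, a₁, hu.mul ha₁, ?_, ?_, Or.inr (Or.inl rfl), ?_⟩
      · rw [e, mul_assoc, e]
      · rw [mul_assoc, hab₁, mul_neg, ← mul_assoc, e', neg_mul, neg_neg, mul_assoc]
      · rw [mul_assoc, ha₁2, mul_one]
    · refine ⟨u * b₁, b₁, hu.mul hb₁, ?_, ?_, Or.inr (Or.inr (Or.inl rfl)), ?_⟩
      · rw [mul_assoc, hba₁, mul_neg, ← mul_assoc, e, neg_mul, neg_neg, mul_assoc]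
      · rw [e', mul_assoc, e']
      · rw [mul_assoc, hb₁2, mul_one]
    · refine ⟨u * b₁ * a₁, a₁ * b₁, (hu.mul hb₁).mul ha₁, ?_, ?_, Or.inr (Or.inr (Or.inr rfl)), ?_⟩
      · calc u * b₁ * a₁ * a₁ = u * (b₁ * a₁) * a₁ := by simp only [mul_assoc]
          _ = -(u * a₁ * b₁ * a₁) := by rw [hba₁]; simp only [mul_neg, neg_mul, mul_assoc]
          _ = a₁ * (u * b₁ * a₁) := by rw [e]; simp only [neg_mul, neg_neg, mul_assoc]
      · calc u * b₁ * a₁ * b₁ = u * b₁ * (a₁ * b₁) := by simp only [mul_assoc]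
          _ = -(u * b₁ * (b₁ * a₁)) := by rw [hab₁, mul_neg]
          _ = b₁ * (u * b₁ * a₁) := by
              rw [show u * b₁ * (b₁ * a₁) = -(b₁ * u) * b₁ * a₁ by rw [← e']; simp only [mul_assoc]]
              simp only [neg_mul, neg_neg, mul_assoc]
      · calc u = u * b₁ * (a₁ * a₁) * b₁ := by rw [ha₁2, mul_one, mul_assoc, hb₁2, mul_one]
          _ = u * b₁ * a₁ * (a₁ * b₁) := by simp only [mul_assoc]
  obtain ⟨a₂, ha₂, ha₂2, ha₂ns, ha₂a, ha₂b⟩ : ∃ a, InR R a ∧ a * a = 1 ∧ (∀ c : F, a ≠ c • 1) ∧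
      a * a₁ = a₁ * a ∧ a * b₁ = b₁ * a := by
    by_contra hno
    let T : Finset (Matrix (Fin 4) (Fin 4) F) := {1, a₁, b₁, a₁ * b₁}
    have h := hsmall ((roots ×ˢ T).image fun cw => cw.1 • cw.2) fun g hg => by
      obtain ⟨u', w, hu', hua, hub, hw, hgu⟩ := hcorr (u := (g : Matrix (Fin 4) (Fin 4) F)) ⟨g, hg, rfl⟩
      by_cases h : ∃ c : F, u' = c • 1
      · obtain ⟨c, hc⟩ := h
        refine Finset.mem_image.2 ⟨(c, w), Finset.mem_product.2 ⟨hmemroots c (hscal4 c hu' hc), ?_⟩, ?_⟩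
        · simpa [T] using hw
        · rw [hgu, hc, smul_mul_assoc, one_mul]
      · push Not at h
        obtain ⟨a, h1, h2, h3, s, rfl⟩ := hinv hu' h
        exact absurd ⟨_, h1, h2, h3, by rw [smul_mul_assoc, hua, mul_smul_comm],
          by rw [smul_mul_assoc, hub, mul_smul_comm]⟩ hno
    have hT : T.card ≤ 4 := Finset.card_le_four
    have := h.trans (Finset.card_image_le.trans (Finset.card_product _ _).le)
    have := Nat.mul_le_mul hroots4 hT
    omega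
  obtain ⟨N₂, hN₂, hanti₂⟩ := hS.exists_anti ha₂ ha₂ns
  obtain ⟨b₂, hb₂, hb₂2, hb₂a, hb₂b, hab₂⟩ : ∃ b, InR R b ∧ b * b = 1 ∧ b * a₁ = a₁ * b ∧
      b * b₁ = b₁ * b ∧ a₂ * b = -(b * a₂) := by
    obtain ⟨u', w, hu', hua, hub, hw, hgu⟩ := hcorr hN₂
    have hw2 : a₂ * w = w * a₂ ∧ ∃ w', w * w' = 1 ∧ a₂ * w' = w' * a₂ := by
      rcases hw with h | h | h | h <;> rw [h]
      · simp
      · exact ⟨ha₂a, a₁, ha₁2, ha₂a⟩
      · exact ⟨ha₂b, b₁, hb₁2, ha₂b⟩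
      · refine ⟨by rw [← mul_assoc, ha₂a, mul_assoc, ha₂b, mul_assoc], b₁ * a₁, ?_, ?_⟩
        · rw [mul_assoc, ← mul_assoc b₁ b₁, hb₁2, one_mul, ha₁2]
        · rw [← mul_assoc, ha₂b, mul_assoc, ha₂a, mul_assoc]
    obtain ⟨hwa, w', hww, hw'a⟩ := hw2
    have hanti : a₂ * u' = -(u' * a₂) := by
      have hu'e : u' = N₂ * w' := by rw [hgu, mul_assoc, hww, mul_one]
      rw [hu'e, ← mul_assoc, hanti₂, neg_mul, mul_assoc, hw'a, ← mul_assoc]
    obtain ⟨b, hb, hb2, -, s, rfl⟩ := hinv hu' (hns_of_anti ha₂2 hu' hanti)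
    exact ⟨_, hb, hb2, by rw [smul_mul_assoc, hua, mul_smul_comm], by rw [smul_mul_assoc, hub, mul_smul_comm],
      by rw [mul_smul_comm, hanti, smul_neg, smul_mul_assoc]⟩
  have hba₂ : b₂ * a₂ = -(a₂ * b₂) := by rw [hab₂, neg_neg]
  -- the common eigenvector
  obtain ⟨v, hv0, hv1, hv2⟩ : ∃ v : Fin 4 → F, v ≠ 0 ∧ a₁ *ᵥ v = v ∧ a₂ *ᵥ v = v := by
    have hfix : ∀ (a : Matrix (Fin 4) (Fin 4) F) (w : Fin 4 → F) (s : F), s * s = 1 → a * a = 1 →
        a *ᵥ (w + s • a *ᵥ w) = s • (w + s • a *ᵥ w) := by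
      intro a w s hs ha
      rw [Matrix.mulVec_add, Matrix.mulVec_smul, Matrix.mulVec_mulVec, ha, Matrix.one_mulVec, smul_add, smul_smul,
        hs, one_smul, add_comm]
    have hstep : ∀ (a b : Matrix (Fin 4) (Fin 4) F) (u : Fin 4 → F), a * a = 1 → b * b = 1 → a * b = -(b * a) → u ≠ 0 →
        ∃ u' : Fin 4 → F, u' ≠ 0 ∧ a *ᵥ u' = u' ∧
          ∀ c : Matrix (Fin 4) (Fin 4) F, c *ᵥ u = u → c * a = a * c → c * b = b * c → c *ᵥ u' = u' := by
      intro a b u ha hb hab hu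
      by_cases h : u + (1 : F) • a *ᵥ u = 0
      · have hau : a *ᵥ u = -u := by rw [one_smul] at h; exact eq_neg_of_add_eq_zero_right h
        refine ⟨b *ᵥ u, fun e => hu ?_, ?_, fun c hcu _ hcb => ?_⟩
        · have := congrArg (b *ᵥ ·) e
          simpa [Matrix.mulVec_mulVec, hb] using this
        · rw [Matrix.mulVec_mulVec, hab, Matrix.neg_mulVec, ← Matrix.mulVec_mulVec, hau, Matrix.mulVec_neg, neg_neg]
        · rw [Matrix.mulVec_mulVec, hcb, ← Matrix.mulVec_mulVec, hcu]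
      · refine ⟨_, h, by rw [hfix a u 1 (one_mul 1) ha, one_smul], fun c hcu hca _ => ?_⟩
        rw [Matrix.mulVec_add, Matrix.mulVec_smul, Matrix.mulVec_mulVec, hca, ← Matrix.mulVec_mulVec, hcu]
    obtain ⟨u, hu, hu1, -⟩ := hstep a₁ b₁ (Pi.single 0 1) ha₁2 hb₁2 hab₁ (fun e => by
      simpa using congrFun e 0)
    obtain ⟨v, hv, hv2, hkeep⟩ := hstep a₂ b₂ u ha₂2 hb₂2 hab₂ hu
    exact ⟨v, hv, hkeep a₁ hu1 ha₂a.symm hb₂a.symm, hv2⟩
  let vs : Fin 4 → (Fin 4 → F) := ![v, b₂ *ᵥ v, b₁ *ᵥ v, b₁ *ᵥ (b₂ *ᵥ v)]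
  have e₁ : ∀ j, a₁ *ᵥ vs j = (![1, 1, -1, -1] : Fin 4 → F) j • vs j := by
    intro j
    have hx : a₁ *ᵥ (b₂ *ᵥ v) = b₂ *ᵥ v := by
      rw [Matrix.mulVec_mulVec, ← hb₂a, ← Matrix.mulVec_mulVec, hv1]
    fin_cases j <;> simp [vs]
    · exact hv1
    · rw [← hb₂a, ← Matrix.mulVec_mulVec, hv1]
    · rw [hab₁, Matrix.neg_mulVec, ← Matrix.mulVec_mulVec, hv1]
    · rw [← mul_assoc, hab₁, neg_mul, Matrix.neg_mulVec, mul_assoc, ← hb₂a, ← mul_assoc, ← Matrix.mulVec_mulVec, hv1]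
  have e₂ : ∀ j, a₂ *ᵥ vs j = (![1, -1, 1, -1] : Fin 4 → F) j • vs j := by
    intro j
    have hx : a₂ *ᵥ (b₂ *ᵥ v) = -(b₂ *ᵥ v) := by
      rw [Matrix.mulVec_mulVec, hab₂, Matrix.neg_mulVec, ← Matrix.mulVec_mulVec, hv2]
    fin_cases j <;> simp [vs]
    · exact hv2
    · rw [hab₂, Matrix.neg_mulVec, ← Matrix.mulVec_mulVec, hv2]
    · rw [ha₂b, ← Matrix.mulVec_mulVec, hv2]
    · rw [← mul_assoc, ha₂b, mul_assoc, hab₂, mul_neg, Matrix.neg_mulVec, ← mul_assoc, ← Matrix.mulVec_mulVec, hv2]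
  let Pm : Matrix (Fin 4) (Fin 4) F := Matrix.of fun r j => vs j r
  have hcol : ∀ (M : Matrix (Fin 4) (Fin 4) F) j, (fun r => (M * Pm) r j) = M *ᵥ vs j := fun M j => rfl
  have hvs0 : ∀ j, vs j ≠ 0 := by
    intro j
    fin_cases j <;> simp [vs]
    · exact hv0
    · intro e; apply hv0; simpa [Matrix.mulVec_mulVec, hb₂2] using congrArg (b₂ *ᵥ ·) e
    · intro e; apply hv0; simpa [Matrix.mulVec_mulVec, hb₁2] using congrArg (b₁ *ᵥ ·) e
    · intro e; apply hv0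
      have h' : b₂ *ᵥ v = 0 := by
        have := congrArg (b₁ *ᵥ ·) e
        simpa [Matrix.mulVec_mulVec, ← mul_assoc, hb₁2] using this
      simpa [Matrix.mulVec_mulVec, hb₂2] using congrArg (b₂ *ᵥ ·) h'
  have hker : ∀ d : Fin 4 → F, Pm *ᵥ d = 0 → d = 0 := by
    intro d hd
    have hPd : Pm *ᵥ d = ∑ j, d j • vs j := by
      funext r; simp [Pm, Matrix.mulVec, dotProduct, Finset.sum_apply, mul_comm]
    rw [hPd] at hd
    funext j
    have h4 : ((4 : F) * d j) • vs j = 0 := by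
      set s : Fin 4 → F := ![1, 1, -1, -1] with hs
      set t : Fin 4 → F := ![1, -1, 1, -1] with ht
      have h1 : ∑ l, (d l * (1 + s j * s l) * (1 + t j * t l)) • vs l = 0 := by
        have hE : ∀ w : Fin 4 → F, w = 0 → (w + s j • a₁ *ᵥ w) + t j • a₂ *ᵥ (w + s j • a₁ *ᵥ w) = 0 := by
          rintro w rfl; simp
        refine Eq.trans ?_ (hE _ hd)
        simp only [Matrix.mulVec_sum, Matrix.mulVec_smul, e₁, e₂, smul_smul, Finset.smul_sum, Matrix.mulVec_add,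
          ← Finset.sum_add_distrib, ← add_smul]
        exact Finset.sum_congr rfl fun l _ => by congr 1; ring
      rw [Finset.sum_eq_single j] at h1
      · rw [← h1]
        congr 1
        fin_cases j <;> simp [hs, ht] <;> ring
      · intro l _ hlj
        suffices h : (1 + s j * s l) * (1 + t j * t l) = 0 by rw [mul_assoc, h, mul_zero, zero_smul]
        fin_cases j <;> fin_cases l <;> simp [hs, ht] at hlj ⊢
      · simp
    refine (mul_eq_zero.1 ((smul_eq_zero.1 h4).resolve_right (hvs0 j))).resolve_left ?_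
    rw [show (4 : F) = 2 * 2 by norm_num]
    exact mul_ne_zero hS.two hS.two
  have hdet : Pm.det ≠ 0 := fun e => by
    obtain ⟨d, hd0, hd⟩ := Matrix.exists_mulVec_eq_zero_iff.2 e
    exact hd0 (hker d hd)
  let P : GL (Fin 4) F := Matrix.GeneralLinearGroup.mkOfDetNeZero Pm hdet
  set R' := R.map (MulAut.conj P⁻¹).toMonoidHom with hR'
  have hmem' : ∀ {a X : Matrix (Fin 4) (Fin 4) F}, InR R a → a * Pm = Pm * X → InR R' X := by
    rintro a X ⟨g, hg, rfl⟩ h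
    refine ⟨_, Subgroup.mem_map_of_mem _ hg, ?_⟩
    show ((P⁻¹ * g * P⁻¹⁻¹ : GL (Fin 4) F) : Matrix (Fin 4) (Fin 4) F) = X
    rw [inv_inv, Units.val_mul, Units.val_mul, mul_assoc,
      show ((g : Matrix (Fin 4) (Fin 4) F) * (P : Matrix (Fin 4) (Fin 4) F)) = (P : Matrix (Fin 4) (Fin 4) F) * X from h,
      ← mul_assoc, Units.inv_mul, one_mul]
  have hback : ∀ {X : Matrix (Fin 4) (Fin 4) F}, InR R' X →
      InR R ((P : Matrix (Fin 4) (Fin 4) F) * X * ((P⁻¹ : GL (Fin 4) F) : Matrix (Fin 4) (Fin 4) F)) := by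
    rintro X ⟨g', hg', rfl⟩
    obtain ⟨g, hg, rfl⟩ := Subgroup.mem_map.1 hg'
    refine ⟨g, hg, ?_⟩
    rw [← Units.val_mul, ← Units.val_mul]
    simp [mul_assoc]
  have hS' : Sym R' i := by
    refine ⟨hS.two, hS.sq_i, ?_, ?_, ?_, ?_, ?_⟩
    · intro M hM
      obtain ⟨c, hc⟩ := hS.commutant ((P : Matrix (Fin 4) (Fin 4) F) * M * ((P⁻¹ : GL (Fin 4) F) : Matrix (Fin 4) (Fin 4) F))
        fun g hg => by
          have h := hM _ (Subgroup.mem_map_of_mem (MulAut.conj P⁻¹).toMonoidHom hg)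
          simp only [MulEquiv.coe_toMonoidHom, MulAut.conj_apply, inv_inv, Units.val_mul] at h
          calc _ = (P : Matrix (Fin 4) (Fin 4) F) *
                (M * (((P⁻¹ : GL (Fin 4) F) : Matrix (Fin 4) (Fin 4) F) * g * P)) *
                ((P⁻¹ : GL (Fin 4) F) : Matrix (Fin 4) (Fin 4) F) := by simp [mul_assoc]
            _ = _ := by rw [h]; simp [← mul_assoc]
      refine ⟨c, ?_⟩
      have := congrArg (fun X => ((P⁻¹ : GL (Fin 4) F) : Matrix (Fin 4) (Fin 4) F) * X * (P : Matrix (Fin 4) (Fin 4) F)) hc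
      simpa [mul_assoc] using this
    · intro c hc
      obtain ⟨g, hg, hgc⟩ := hS.scal c hc
      refine ⟨_, Subgroup.mem_map_of_mem _ hg, ?_⟩
      rw [MulEquiv.coe_toMonoidHom, MulAut.conj_apply, ← scalar_of_smul_mul hgc P⁻¹, mul_inv_cancel_right, hgc]
    · rintro _ ⟨x, hx, rfl⟩ _ ⟨y, hy, rfl⟩
      simp only [MulEquiv.coe_toMonoidHom, MulAut.conj_apply, inv_inv, Units.val_mul]
      rcases hS.comm x hx y hy with e | e
      · left; simp [mul_assoc]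
        rw [← mul_assoc (x : Matrix (Fin 4) (Fin 4) F), e, mul_assoc]
      · right; simp [mul_assoc]
        rw [← mul_assoc (x : Matrix (Fin 4) (Fin 4) F), e]; simp [mul_assoc]
    · rw [hR', Subgroup.card_map_of_injective (MulAut.conj P⁻¹).injective, hS.card]
    · rintro _ ⟨x, hx, rfl⟩
      rw [← map_pow, hS.pow_four x hx, map_one]
  have hmk : ∀ (a : Matrix (Fin 4) (Fin 4) F) (X : Matrix (Fin 4) (Fin 4) F),
      (∀ j, a *ᵥ vs j = fun r => (Pm * X) r j) → a * Pm = Pm * X := fun a X h => by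
    ext r j; exact (congrFun (hcol a j) r).trans (congrFun (h j) r)
  have f₁ : a₁ * Pm = Pm * A₁ F := hmk _ _ fun j => by
    rw [e₁]; funext r; simp [A₁, Matrix.mul_diagonal, Pm, mul_comm]
  have f₂ : a₂ * Pm = Pm * A₂ F := hmk _ _ fun j => by
    rw [e₂]; funext r; simp [A₂, Matrix.mul_diagonal, Pm, mul_comm]
  have f₃ : b₁ * Pm = Pm * B₁ F := hmk _ _ fun j => by
    funext r
    fin_cases j <;> simp [B₁, Pm, Matrix.mul_apply, Fin.sum_univ_four, vs, Matrix.mulVec_mulVec, ← mul_assoc, hb₁2]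
  have f₄ : b₂ * Pm = Pm * B₂ F := hmk _ _ fun j => by
    funext r
    fin_cases j <;> simp [B₂, Pm, Matrix.mul_apply, Fin.sum_univ_four, vs, Matrix.mulVec_mulVec, ← mul_assoc, hb₂b, hb₂2]
    rw [mul_assoc, hb₂2, mul_one]
  refine ⟨P, ⟨hmem' ha₁ f₁, hmem' ha₂ f₂, hmem' hb₁ f₃, hmem' hb₂ f₄, ?_⟩, hS'⟩
  have hA₁ := hmem' ha₁ f₁
  have hA₂ := hmem' ha₂ f₂
  have hB₁ := hmem' hb₁ f₃
  have hB₂ := hmem' hb₂ f₄
  have hX₁ : A₁ F * B₁ F = -(B₁ F * A₁ F) := by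
    ext r j; fin_cases r <;> fin_cases j <;> simp [A₁, B₁, Matrix.diagonal_mul, Matrix.mul_diagonal, Matrix.vecMul_diagonal]
  have hX₁' : A₂ F * B₁ F = B₁ F * A₂ F := by
    ext r j; fin_cases r <;> fin_cases j <;> simp [A₂, B₁, Matrix.diagonal_mul, Matrix.mul_diagonal, Matrix.vecMul_diagonal]
  have hX₂' : A₁ F * B₂ F = B₂ F * A₁ F := by
    ext r j; fin_cases r <;> fin_cases j <;> simp [A₁, B₂, Matrix.diagonal_mul, Matrix.mul_diagonal, Matrix.vecMul_diagonal]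
  have hX₂ : A₂ F * B₂ F = -(B₂ F * A₂ F) := by
    ext r j; fin_cases r <;> fin_cases j <;> simp [A₂, B₂, Matrix.diagonal_mul, Matrix.mul_diagonal, Matrix.vecMul_diagonal]
  have hBB : B₁ F * B₂ F = B₂ F * B₁ F := by
    ext r j; fin_cases r <;> fin_cases j <;> simp [B₁, B₂, Matrix.mul_apply, Fin.sum_univ_four]
  have hB₁2 : B₁ F * B₁ F = 1 := by
    ext r j; fin_cases r <;> fin_cases j <;> simp [B₁, Matrix.mul_apply, Fin.sum_univ_four]
  have hB₂2 : B₂ F * B₂ F = 1 := by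
    ext r j; fin_cases r <;> fin_cases j <;> simp [B₂, Matrix.mul_apply, Fin.sum_univ_four]
  have hAA : A₁ F * A₂ F = A₂ F * A₁ F := by
    rw [A₁, A₂, Matrix.diagonal_mul_diagonal, Matrix.diagonal_mul_diagonal]; congr 1; funext l; ring
  intro g hg
  set u := (g : Matrix (Fin 4) (Fin 4) F) with hu
  have hu' : InR R' u := ⟨g, hg, rfl⟩
  -- multiply on the right until it commutes with the frame
  have step : ∀ {w : Matrix (Fin 4) (Fin 4) F} {A B : Matrix (Fin 4) (Fin 4) F}, InR R' w → InR R' A → InR R' B →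
      A * B = -(B * A) → B * B = 1 →
      ∃ (w' : Matrix (Fin 4) (Fin 4) F) (n : ℕ), InR R' w' ∧ w' * A = A * w' ∧ w = w' * B ^ n ∧
        ∀ C, C * B = B * C → w * C = C * w → w' * C = C * w' := by
    intro w A B hw hA hB hAB hB2
    rcases hS'.comm' hw hA with e | e
    · exact ⟨w, 0, hw, e, by rw [pow_zero, mul_one], fun C _ h => h⟩
    · refine ⟨w * B, 1, hw.mul hB, ?_, by rw [pow_one, mul_assoc, hB2, mul_one], fun C hC h => ?_⟩
      · have hBA : B * A = -(A * B) := by rw [hAB, neg_neg]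
        rw [mul_assoc, hBA, mul_neg, ← mul_assoc, e, neg_mul, neg_neg, mul_assoc]
      · rw [mul_assoc, ← hC, ← mul_assoc, h, mul_assoc]
  obtain ⟨w₁, n₁, hw₁, c₁, q₁, -⟩ := step hu' hB₂ hA₂ (by rw [hX₂, neg_neg]) A₂_sq
  obtain ⟨w₂, n₂, hw₂, c₂, q₂, k₂⟩ := step hw₁ hB₁ hA₁ (by rw [hX₁, neg_neg]) A₁_sq
  obtain ⟨w₃, n₃, hw₃, c₃, q₃, k₃⟩ := step hw₂ hA₂ hB₂ hX₂ hB₂2
  obtain ⟨w₄, n₄, hw₄, c₄, q₄, k₄⟩ := step hw₃ hA₁ hB₁ hX₁ hB₁2
  have c₄b₂ : w₄ * B₂ F = B₂ F * w₄ := k₄ _ hBB.symm (k₃ _ rfl (k₂ _ hX₂'.symm c₁))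
  have c₄b₁ : w₄ * B₁ F = B₁ F * w₄ := k₄ _ rfl (k₃ _ hBB c₂)
  have c₄a₂ : w₄ * A₂ F = A₂ F * w₄ := k₄ _ hX₁' c₃
  obtain ⟨c, hc⟩ := commutant_std hS.two c₄ c₄a₂ c₄b₁ c₄b₂
  have hc4 : c ^ 4 = 1 := by
    obtain ⟨g₄, hg₄, e⟩ := hw₄
    have h := congrArg (fun x : GL (Fin 4) F => (x : Matrix (Fin 4) (Fin 4) F) 0 0) (hS'.pow_four g₄ hg₄)
    simp only [Units.val_pow_eq_pow_val, e, hc, smul_pow, one_pow, Units.val_one, Matrix.smul_apply,
      Matrix.one_apply_eq, smul_eq_mul, mul_one] at h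
    exact h
  obtain ⟨δ, hδ4, hδ⟩ : ∃ δ : F, δ ^ 4 = 1 ∧
      B₁ F ^ n₄ * B₂ F ^ n₃ * A₁ F ^ n₂ * A₂ F ^ n₁ = δ • (A₁ F ^ n₂ * A₂ F ^ n₁ * B₁ F ^ n₄ * B₂ F ^ n₃) := by
    have key : ∀ (X Y : Matrix (Fin 4) (Fin 4) F) (ε : F), X * Y = ε • (Y * X) → ∀ a b : ℕ,
        X ^ a * Y ^ b = ε ^ (a * b) • (Y ^ b * X ^ a) := by
      intro X Y ε h a b
      have h1 : ∀ b : ℕ, X * Y ^ b = ε ^ b • (Y ^ b * X) := fun b => by
        induction b with
        | zero => simp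
        | succ b ih => rw [pow_succ, ← mul_assoc, ih, smul_mul_assoc, mul_assoc, h, mul_smul_comm, smul_smul,
            ← pow_succ, ← mul_assoc]
      induction a with
      | zero => simp
      | succ a ih => rw [pow_succ', mul_assoc, ih, mul_smul_comm, ← mul_assoc, h1, smul_mul_assoc, smul_smul,
          mul_assoc, ← pow_succ' X, ← pow_add, Nat.succ_mul]
    have p1 := key (B₂ F) (A₁ F) 1 (by rw [one_smul, hX₂']) n₃ n₂
    have p2 := key (B₁ F) (A₁ F) (-1) (by rw [neg_one_smul, hX₁, neg_neg]) n₄ n₂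
    have p3 := key (B₂ F) (A₂ F) (-1) (by rw [neg_one_smul, hX₂, neg_neg]) n₃ n₁
    have p4 := key (B₁ F) (A₂ F) 1 (by rw [one_smul, hX₁']) n₄ n₁
    rw [one_pow, one_smul] at p1 p4
    refine ⟨(-1) ^ (n₄ * n₂) * (-1) ^ (n₃ * n₁), by
      rw [mul_pow, ← pow_mul, ← pow_mul, Even.neg_one_pow (⟨n₄ * n₂ * 2, by ring⟩),
        Even.neg_one_pow (⟨n₃ * n₁ * 2, by ring⟩), one_mul], ?_⟩
    calc B₁ F ^ n₄ * B₂ F ^ n₃ * A₁ F ^ n₂ * A₂ F ^ n₁
        = B₁ F ^ n₄ * (B₂ F ^ n₃ * A₁ F ^ n₂) * A₂ F ^ n₁ := by simp only [mul_assoc]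
      _ = (B₁ F ^ n₄ * A₁ F ^ n₂) * (B₂ F ^ n₃ * A₂ F ^ n₁) := by rw [p1]; simp only [mul_assoc]
      _ = ((-1 : F) ^ (n₄ * n₂) * (-1) ^ (n₃ * n₁)) •
            (A₁ F ^ n₂ * (B₁ F ^ n₄ * A₂ F ^ n₁) * B₂ F ^ n₃) := by
          rw [p2, p3, smul_mul_smul_comm]; simp only [mul_assoc]
      _ = _ := by rw [p4]; simp only [mul_assoc]
  refine ⟨c * δ, by rw [mul_pow, hc4, hδ4, mul_one], n₂, n₁, n₄, n₃, ?_⟩
  rw [q₁, q₂, q₃, q₄, hc, mul_smul, ← hδ]
  simp only [mul_assoc, smul_mul_assoc, one_mul]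

end CfsgLib.Elusive.Pauli
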