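import Cfsg.Agent.Elusive.SympInvolution
import Cfsg.Agent.Classical.SymplecticBasic
import Cfsg.Prelude.Def_ClassicalGeometry

/-! Involutions of the symplectic group modulo scalars, in odd characteristic. -/

set_option autoImplicit false

namespace CfsgLib.Elusive

open Module Matrix

variable {F : Type*} [Field F] {d : ℕ}

/-- The symplectic form as a bilinear map. -/
def sympBilin (d : ℕ) (F : Type*) [Field F] : LinearMap.BilinForm F (Fin d ⊕ Fin d → F) :=
  LinearMap.mk₂ F (Cfsg.sympForm d F) CfsgLib.Symp.form_add_left CfsgLib.Symp.form_smul_left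
    CfsgLib.Symp.form_add_right CfsgLib.Symp.form_smul_right

theorem sympBilin_apply (u v : Fin d ⊕ Fin d → F) : sympBilin d F u v = Cfsg.sympForm d F u v := rfl

theorem exists_planes_symp (hd : 0 < d) (h2 : (2 : F) ≠ 0) {x : ↥(Matrix.symplecticGroup (Fin d) F)} {z : F}
    (hx : ((x ^ 2 : ↥(Matrix.symplecticGroup (Fin d) F)) : Matrix (Fin d ⊕ Fin d) (Fin d ⊕ Fin d) F) = z • 1) :
    ∃ (u w : Fin d → (Fin d ⊕ Fin d → F)),
      IsPlanes (sympBilin d F) (Matrix.toLin' (x : Matrix (Fin d ⊕ Fin d) (Fin d ⊕ Fin d) F)) z u w ∧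
      Submodule.span F (Set.range u) ⊔ Submodule.span F (Set.range w) = ⊤ := by
  set g := Matrix.toLin' (x : Matrix (Fin d ⊕ Fin d) (Fin d ⊕ Fin d) F) with hgdef
  set B := sympBilin d F
  have hg : ∀ u v, B (g u) (g v) = B u v := fun u v => CfsgLib.Symp.form_smul_smul x u v
  have hgg : ∀ v, g (g v) = z • v := fun v => by
    rw [hgdef, Matrix.toLin'_apply, Matrix.toLin'_apply, Matrix.mulVec_mulVec]
    rw [pow_two, Submonoid.coe_mul] at hx
    rw [hx, Matrix.smul_mulVec, Matrix.one_mulVec]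
  have hne : ∀ v : Fin d ⊕ Fin d → F, v ≠ 0 → ∃ v', B v v' ≠ 0 := fun v hv =>
    CfsgLib.Symp.exists_form_ne_zero hv
  have hz : z = 1 ∨ z = -1 := by
    obtain ⟨v', hv'⟩ := hne (Pi.single (Sum.inl ⟨0, hd⟩) 1) (by simp)
    have h := (hg _ _).trans (hg (Pi.single (Sum.inl ⟨0, hd⟩) 1) v')
    rw [hgg, hgg, map_smul, map_smul, LinearMap.smul_apply, smul_eq_mul, smul_eq_mul, ← mul_assoc] at h
    exact mul_self_eq_one_iff.1 (mul_right_cancel₀ hv' (h.trans (one_mul _).symm))
  obtain ⟨m, u, w, h1, hm, hs⟩ := exists_planes (B := B) (fun v => CfsgLib.Symp.form_self v) hg hgg h2 hz _ ⊤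
    le_rfl (fun _ _ => Submodule.mem_top) (fun v _ hv => by
      obtain ⟨v', hv'⟩ := hne v hv
      exact ⟨v', Submodule.mem_top, hv'⟩)
  obtain rfl : m = d := by
    rw [finrank_top, Module.finrank_fintype_fun_eq_card, Fintype.card_sum, Fintype.card_fin] at hm
    omega
  exact ⟨u, w, h1, hs⟩

/-- The member spanned by a set of planes. -/
theorem planes_coord {B : LinearMap.BilinForm F (Fin d ⊕ Fin d → F)} {g : (Fin d ⊕ Fin d → F) →ₗ[F] (Fin d ⊕ Fin d → F)} {z : F}
    {u w : Fin d → (Fin d ⊕ Fin d → F)} (h : IsPlanes B g z u w) (a b : Fin d → F) (i : Fin d) :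
    B (∑ j, a j • u j + ∑ j, b j • w j) (w i) = a i * B (u i) (w i) := by
  obtain ⟨-, hw, huw, -, -⟩ := h
  simp only [map_add, map_sum, map_smul, LinearMap.add_apply, LinearMap.sum_apply, LinearMap.smul_apply,
    smul_eq_mul, hw, mul_zero, Finset.sum_const_zero, add_zero]
  rw [Finset.sum_eq_single i (fun j _ hj => by rw [huw j i hj, mul_zero]) fun hi => absurd (Finset.mem_univ _) hi]

end CfsgLib.Elusive
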