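import Cfsg.Agent.Elusive.PauliMinusFrame
import Cfsg.Agent.Elusive.SympPlanes
import Cfsg.Agent.Classical.SymplecticBasic

/-!
# A group of minus type of order 32 in dimension four: its normaliser

An element normalising the group permutes the five involutions up to sign; a five-cycle is realised
inside the symplectic group.
-/

set_option autoImplicit false
set_option linter.unusedSimpArgs false
set_option linter.style.haveILetI false
open scoped MatrixGroups Matrix

namespace CfsgLib.Elusive.PauliMinus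

open Cfsg.Geo

variable {F : Type*} [Field F] {R : Subgroup (GL I4 F)}

theorem val_mem_symplectic {x : GL I4 F} (hx : x ∈ Cfsg.spGL 2 F) :
    (x : M4 F) ∈ Matrix.symplecticGroup (Fin 2) F := by
  rw [SymplecticGroup.mem_iff']
  ext i j
  have h : Cfsg.sympForm 2 F ((x : M4 F) *ᵥ Pi.single i 1) ((x : M4 F) *ᵥ Pi.single j 1) =
      Cfsg.sympForm 2 F (Pi.single i 1) (Pi.single j 1) := hx _ _
  simp only [Cfsg.sympForm] at h
  rw [Matrix.mulVec_mulVec, Matrix.mulVec_single_one, Matrix.mulVec_single_one, single_dotProduct, one_mul,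
    Matrix.mulVec_single_one] at h
  rw [Matrix.mul_assoc, Matrix.mul_apply]
  exact h

theorem scalar_sq {x : GL I4 F} (hx : x ∈ Cfsg.spGL 2 F) {c : F} (hc : (x : M4 F) = c • 1) : c = 1 ∨ c = -1 := by
  have h : Cfsg.sympForm 2 F ((x : M4 F) *ᵥ Pi.single (Sum.inl 0) 1) ((x : M4 F) *ᵥ Pi.single (Sum.inr 0) 1) =
      Cfsg.sympForm 2 F (Pi.single (Sum.inl 0) 1) (Pi.single (Sum.inr 0) 1) := hx _ _
  rw [hc] at h
  have hval : Cfsg.sympForm 2 F (Pi.single (Sum.inl 0) 1) (Pi.single (Sum.inr 0) 1) = -1 := by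
    simp [Cfsg.sympForm, Matrix.J, Matrix.fromBlocks, Matrix.one_apply]
  rw [show ∀ u v, Cfsg.sympForm 2 F ((c • (1 : M4 F)) *ᵥ u) ((c • (1 : M4 F)) *ᵥ v) = c * c * Cfsg.sympForm 2 F u v
    from fun u v => by
      simp [Cfsg.sympForm, Matrix.smul_mulVec, Matrix.mulVec_smul, mul_assoc], hval] at h
  exact mul_self_eq_one_iff.1 (by linear_combination -h)

theorem grp_of_data [Fintype F] (h2 : (2 : F) ≠ 0) (hRs : IsSymplecticTypeGroup 2 R)
    (hRi : ActsAbsolutelyIrreducibly (matrixSet R)) (hRf : R ≤ Cfsg.spGL 2 F) (hR5 : Nat.card R = 2 ^ 5)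
    (hRZ : Nat.card (Subgroup.center R) = 2) (hRm : IsOfMinusType 2 R) : Grp R := by
  classical
  have h4 : ∀ x : R, x ^ 4 = 1 := fun x => by
    have h := Monoid.pow_exponent_eq_one x
    rwa [hRs.exponent_eq] at h
  have hcomm := CfsgLib.Symp.comm_central_aux (Nat.card R) R rfl hRs.pGroup h4 hRs.cyclic_of_characteristic
  have hM : ∀ M : M4 F, (∀ g ∈ R, M * (g : M4 F) = g * M) → ∃ c : F, M = c • 1 := fun M h =>
    hRi.2 M (by rintro _ ⟨g, hg, rfl⟩; exact h g hg)
  have hcent : ∀ z : R, z ∈ Subgroup.center R →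
      ((z : GL I4 F) : M4 F) = 1 ∨ ((z : GL I4 F) : M4 F) = -1 := fun z hz => by
    obtain ⟨c, hc⟩ := hM (z : GL I4 F) (fun g hg => by
      have := Subgroup.mem_center_iff.1 hz ⟨g, hg⟩
      exact (congrArg (fun u : R => ((u : GL I4 F) : M4 F)) this).symm)
    rcases scalar_sq (hRf z.2) hc with rfl | rfl
    · exact Or.inl (by rw [hc, one_smul])
    · exact Or.inr (by rw [hc, neg_one_smul])
  refine ⟨h2, hM, ?_, fun g hg c hc => scalar_sq (hRf hg) hc, ?_, by rw [hR5]; norm_num, hRm⟩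
  · by_contra hno
    have hle : Nat.card (Subgroup.center R) ≤ 1 := by
      rw [Finite.card_le_one_iff_subsingleton]
      refine ⟨fun a b => ?_⟩
      have h1 : ∀ z : Subgroup.center R, (((z : R) : GL I4 F) : M4 F) = 1 := fun z =>
        (hcent z.1 z.2).resolve_right fun e => hno (by
          rw [show -(1 : GL I4 F) = ((z : R) : GL I4 F) from Units.ext (by simp [e])]
          exact z.1.2)
      exact Subtype.ext (Subtype.ext (Units.ext ((h1 a).trans (h1 b).symm)))
    omega
  · intro x hx y hy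
    obtain ⟨hz, -⟩ := hcomm ⟨x, hx⟩ ⟨y, hy⟩
    have hxy : ∀ w : M4 F, ((x * y * x⁻¹ * y⁻¹ : GL I4 F) : M4 F) = w → (x : M4 F) * y = w * ((y : M4 F) * x) := by
      intro w hw
      rw [← hw, ← Units.val_mul, ← Units.val_mul, ← Units.val_mul]
      refine congrArg Units.val ?_
      group
    rcases hcent _ hz with e | e
    · exact Or.inl (by rw [hxy 1 e, one_mul])
    · exact Or.inr (by rw [hxy (-1) e, neg_one_mul])

variable {e : Fin 5 → M4 F}

theorem Five.U_mem (hE : Five R e) : ∀ t, InR R (U e t)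
  | Sum.inl _ => InR.one
  | Sum.inr (Sum.inl i) => hE.mem i
  | Sum.inr (Sum.inr p) => (hE.mem p.1.1).mul (hE.mem p.1.2)

theorem Five.U_ne (hS : Grp R) (hE : Five R e) {t t' : Unit ⊕ Fin 5 ⊕ {p : Fin 5 × Fin 5 // p.1 < p.2}}
    (h : U e t = U e t' ∨ U e t = -U e t') : t = t' := by
  classical
  have hR : Finite R := Nat.finite_of_card_ne_zero (by rw [hS.card]; norm_num)
  have hex : ∀ g : R, ∃ q : Bool × (Unit ⊕ Fin 5 ⊕ {p : Fin 5 × Fin 5 // p.1 < p.2}),
      ((g : GL I4 F) : M4 F) = if q.1 then -U e q.2 else U e q.2 := fun g => by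
    obtain ⟨t, ht | ht⟩ := hE.gen g g.2
    · exact ⟨(false, t), ht⟩
    · exact ⟨(true, t), ht⟩
  choose f hf using hex
  have hinj : Function.Injective f := fun a b hab => Subtype.ext (Units.ext (by rw [hf a, hf b, hab]))
  have hsurj := ((Nat.bijective_iff_injective_and_card f).2 ⟨hinj, by
    rw [hS.card, Nat.card_eq_fintype_card]; rfl⟩).2
  obtain ⟨a, ha⟩ := hsurj (false, t)
  have ha' := hf a
  rw [ha] at ha'
  simp only [Bool.false_eq_true, if_false] at ha'
  rcases h with h | h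
  · obtain ⟨b, hb⟩ := hsurj (false, t')
    have hb' := hf b
    rw [hb] at hb'
    simp only [Bool.false_eq_true, if_false] at hb'
    have : a = b := Subtype.ext (Units.ext (by rw [ha', hb', h]))
    rw [this, hb] at ha
    exact (congrArg Prod.snd ha).symm
  · obtain ⟨b, hb⟩ := hsurj (true, t')
    have hb' := hf b
    rw [hb] at hb'
    simp only [if_true] at hb'
    have : a = b := Subtype.ext (Units.ext (by rw [ha', hb', h]))
    rw [this, hb] at ha
    exact absurd (congrArg Prod.fst ha) (by simp)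

theorem Five.e_inj (hS : Grp R) (hE : Five R e) {i j : Fin 5} (h : e i = e j ∨ e i = -e j) : i = j := by
  have := hE.U_ne hS (t := Sum.inr (Sum.inl i)) (t' := Sum.inr (Sum.inl j)) h
  simpa using this

theorem Five.commutant (hS : Grp R) (hE : Five R e) {M : M4 F} (h : ∀ i, M * e i = e i * M) :
    ∃ c : F, M = c • 1 := by
  refine hS.commutant M fun g hg => ?_
  have hU : ∀ t, M * U e t = U e t * M := fun t => by
    rcases t with t | i | p
    · simp [U]
    · exact h i
    · show M * (e _ * e _) = e _ * e _ * M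
      rw [← mul_assoc, h, mul_assoc, h, ← mul_assoc]
  obtain ⟨t, ht | ht⟩ := hE.gen g hg
  · rw [ht]; exact hU t
  · rw [ht, mul_neg, neg_mul, hU t]

theorem trace_eq_zero (hS : Grp R) {M : M4 F} (hM : InR R M) (h1 : M ≠ 1) (h1' : M ≠ -1) :
    M.trace = 0 := by
  obtain ⟨N, ⟨h, hh, rfl⟩, e⟩ := hS.exists_anti hM h1 h1'
  have e1 : ((h⁻¹ : GL I4 F) : M4 F) * (M * h) = -M := by
    rw [e, mul_neg, ← mul_assoc, Units.inv_mul, one_mul]
  have e2 := congrArg Matrix.trace e1
  rw [Matrix.trace_mul_comm, mul_assoc, Units.mul_inv, mul_one, Matrix.trace_neg] at e2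
  have : (2 : F) * M.trace = 0 := by linear_combination e2
  exact (mul_eq_zero.1 this).resolve_left hS.two

theorem Five.trace_detect (hS : Grp R) (hE : Five R e) {M : M4 F} (h : ∀ t, (U e t * M).trace = 0) : M = 0 := by
  classical
  have h4 : (4 : F) ≠ 0 := by
    rw [show (4 : F) = 2 * 2 by norm_num]; exact mul_ne_zero hS.two hS.two
  have hlin : LinearIndependent F (U e) := by
    rw [Fintype.linearIndependent_iff]
    intro c hc t₀
    obtain ⟨g, hg, hgU⟩ := hE.U_mem t₀
    have h' := congrArg (fun X => Matrix.trace (((g⁻¹ : GL I4 F) : M4 F) * X)) hc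
    simp only [Matrix.mul_sum, mul_smul_comm, Matrix.trace_sum, Matrix.trace_smul, mul_zero, Matrix.trace_zero,
      smul_eq_mul] at h'
    rw [Finset.sum_eq_single t₀] at h'
    · rw [← hgU, Units.inv_mul, Matrix.trace_one, Fintype.card_sum, Fintype.card_fin] at h'
      norm_num at h'
      exact h'.resolve_right h4
    · intro t _ ht
      have hmem : InR R (((g⁻¹ : GL I4 F) : M4 F) * U e t) := InR.mul ⟨_, inv_mem hg, rfl⟩ (hE.U_mem t)
      rw [trace_eq_zero hS hmem, mul_zero]
      · intro h1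
        refine ht (hE.U_ne hS (Or.inl ?_))
        rw [← hgU, ← one_mul (U e t), ← Units.mul_inv g, mul_assoc, h1, mul_one]
      · intro h1
        refine ht (hE.U_ne hS (Or.inr ?_))
        rw [← hgU, ← one_mul (U e t), ← Units.mul_inv g, mul_assoc, h1, mul_neg, mul_one]
    · simp
  have hspan : Submodule.span F (Set.range (U e)) = ⊤ := hlin.span_eq_top_of_card_eq_finrank' (by
    rw [Module.finrank_matrix, Module.finrank_self]; rfl)
  have hall : ∀ X : M4 F, (X * M).trace = 0 := fun X => by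
    have hX : X ∈ Submodule.span F (Set.range (U e)) := by rw [hspan]; trivial
    induction hX using Submodule.span_induction with
    | mem x hx => obtain ⟨t, rfl⟩ := hx; exact h t
    | zero => simp
    | add x y _ _ ex ey => rw [add_mul, Matrix.trace_add, ex, ey, add_zero]
    | smul c x _ ex => rw [smul_mul_assoc, Matrix.trace_smul, ex, smul_zero]
  ext a b
  have := hall (Matrix.single b a 1)
  rwa [Matrix.trace_single_mul, one_smul] at this

theorem Five.involution (hS : Grp R) (hE : Five R e) {M : M4 F} (hM : InR R M) (h2 : M * M = 1) (h1 : M ≠ 1)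
    (h1' : M ≠ -1) : ∃ i, M = e i ∨ M = -e i := by
  obtain ⟨g, hg, rfl⟩ := hM
  obtain ⟨t, ht⟩ := hE.gen g hg
  rcases t with t | i | p
  · rcases ht with h | h
    · exact absurd h h1
    · exact absurd h h1'
  · exact ⟨i, ht⟩
  · exfalso
    have hsq : U e (Sum.inr (Sum.inr p)) * U e (Sum.inr (Sum.inr p)) = -1 := by
      show e _ * e _ * (e _ * e _) = _
      rw [mul_assoc, ← mul_assoc (e p.1.2), hE.anti _ _ p.2.ne', neg_mul, mul_assoc, hE.sq, mul_one, mul_neg,
        hE.sq]
    have : (g : M4 F) * g = -1 := by rcases ht with h | h <;> rw [h] <;> simp [hsq]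
    rw [h2] at this
    exact hS.ne_neg InR.one this

/-- The permutation induced by an element of odd order of the normaliser. -/
theorem Five.exists_perm (hS : Grp R) (hE : Five R e) {y : GL I4 F}
    (hy : y ∈ Subgroup.normalizer (R : Set (GL I4 F))) {r : ℕ} (hr : Odd r) (hyr : y ^ r = 1) :
    ∃ π : Equiv.Perm (Fin 5), π ^ r = 1 ∧
      (∀ (k : ℕ) i, ∃ s : F, s * s = 1 ∧ (y : M4 F) ^ k * e i = s • (e ((π ^ k) i) * (y : M4 F) ^ k)) ∧
      (∀ i, π i = i → (y : M4 F) * e i = e i * y) := by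
  classical
  have hconj : ∀ i, ∃ j, ∃ s : F, s * s = 1 ∧ (y : M4 F) * e i = s • (e j * y) := fun i => by
    obtain ⟨g, hg, hge⟩ := hE.mem i
    have hmem : y * g * y⁻¹ ∈ R := (Subgroup.mem_normalizer_iff.1 hy g).1 hg
    have hcc : ∀ c : F, ((y * g * y⁻¹ : GL I4 F) : M4 F) = c • 1 → e i = c • 1 := fun c h => by
      rw [← hge, show g = y⁻¹ * (y * g * y⁻¹) * y by group, Units.val_mul, Units.val_mul, h, mul_smul_comm,
        mul_one, smul_mul_assoc, Units.inv_mul]
    obtain ⟨j, hj⟩ := hE.involution hS ⟨_, hmem, rfl⟩ (by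
        rw [← Units.val_mul, show y * g * y⁻¹ * (y * g * y⁻¹) = y * (g * g) * y⁻¹ by group,
          show g * g = 1 from Units.ext (by rw [Units.val_mul, hge, hE.sq, Units.val_one]), mul_one,
          mul_inv_cancel, Units.val_one])
      (fun h => by
        have h' := hcc 1 (by rw [h, one_smul])
        rw [one_smul] at h'
        exact absurd (hE.U_ne hS (t := Sum.inr (Sum.inl i)) (t' := Sum.inl ()) (Or.inl h')) (by simp))
      (fun h => by
        have h' := hcc (-1) (by rw [h, neg_one_smul])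
        rw [neg_one_smul] at h'
        exact absurd (hE.U_ne hS (t := Sum.inr (Sum.inl i)) (t' := Sum.inl ()) (Or.inr h')) (by simp))
    have h1 : (y : M4 F) * e i = ((y * g * y⁻¹ : GL I4 F) : M4 F) * y := by
      rw [← hge, ← Units.val_mul, ← Units.val_mul]; congr 1; group
    rcases hj with hj | hj
    · exact ⟨j, 1, one_mul 1, by rw [h1, hj, one_smul]⟩
    · exact ⟨j, -1, by ring, by rw [h1, hj, neg_mul, neg_one_smul]⟩
  choose π₀ s hs hπ using hconj
  have hinj : Function.Injective π₀ := fun i j hij => by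
    have h1 : (y : M4 F) * e i = (s i * s j) • ((y : M4 F) * e j) := by
      rw [hπ i, hπ j, hij, smul_smul, mul_assoc, hs j, mul_one]
    have h2 : e i = (s i * s j) • e j := by
      have := congrArg (fun X => ((y⁻¹ : GL I4 F) : M4 F) * X) h1
      simpa only [mul_smul_comm, ← mul_assoc, Units.inv_mul, one_mul] using this
    have hsq : (s i * s j) * (s i * s j) = 1 := by linear_combination (s j * s j) * hs i + hs j
    refine hE.e_inj hS ?_
    rcases mul_self_eq_one_iff.1 hsq with h | h <;> rw [h] at h2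
    · exact Or.inl (by rw [h2, one_smul])
    · exact Or.inr (by rw [h2, neg_one_smul])
  let π : Equiv.Perm (Fin 5) := Equiv.ofBijective π₀ (Finite.injective_iff_bijective.1 hinj)
  have hpow : ∀ (k : ℕ) i, ∃ t : F, t * t = 1 ∧
      (y : M4 F) ^ k * e i = t • (e ((π ^ k) i) * (y : M4 F) ^ k) := fun k => by
    induction k with
    | zero => intro i; exact ⟨1, one_mul 1, by simp⟩
    | succ k ih =>
      intro i
      obtain ⟨t, ht, he⟩ := ih i
      refine ⟨t * s ((π ^ k) i), by linear_combination (s ((π ^ k) i) * s ((π ^ k) i)) * ht + hs ((π ^ k) i), ?_⟩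
      rw [pow_succ', mul_assoc, he, mul_smul_comm, ← mul_assoc, hπ, smul_mul_assoc, smul_smul, pow_succ' π,
        Equiv.Perm.mul_apply, mul_assoc]
      rfl
  refine ⟨π, Equiv.ext fun i => ?_, hpow, fun i hi => ?_⟩
  · obtain ⟨t, ht, he⟩ := hpow r i
    rw [← Units.val_pow_eq_pow_val, hyr, Units.val_one, one_mul, mul_one] at he
    refine (hE.e_inj hS ?_).symm
    rcases mul_self_eq_one_iff.1 ht with rfl | rfl
    · exact Or.inl (by rw [Equiv.Perm.one_apply, he, one_smul])
    · exact Or.inr (by rw [Equiv.Perm.one_apply, he, neg_one_smul])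
  · have hi' : π₀ i = i := hi
    have h := hπ i
    rw [hi'] at h
    rcases mul_self_eq_one_iff.1 (hs i) with h1 | h1
    · rw [h, h1, one_smul]
    · exfalso
      rw [h1, neg_one_smul] at h
      have hit : ∀ k : ℕ, (y : M4 F) ^ k * e i = (-1 : F) ^ k • (e i * (y : M4 F) ^ k) := fun k => by
        induction k with
        | zero => simp
        | succ k ih =>
          rw [pow_succ', mul_assoc, ih, mul_smul_comm, ← mul_assoc, h, pow_succ (-1 : F), mul_smul,
            neg_one_smul, neg_mul, mul_assoc]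
      have := hit r
      rw [← Units.val_pow_eq_pow_val, hyr, Units.val_one, one_mul, mul_one, hr.neg_one_pow, neg_one_smul] at this
      exact hS.ne_neg (hE.mem i) this

theorem perm_three : ∀ π : Equiv.Perm (Fin 5), π ^ 3 = 1 → ∃ i j, i ≠ j ∧ π i = i ∧ π j = j := by
  decide +kernel

theorem perm_five : ∀ π : Equiv.Perm (Fin 5), π ^ 5 = 1 → π = 1 ∨
    ((∀ j, ∃ k : Fin 5, (π ^ (k : ℕ)) 0 = j) ∧ ∀ i j, i < j → ∃ k : Fin 5, ∃ d : Fin 2,
      ((π ^ (k : ℕ)) 0 = i ∧ (π ^ (k : ℕ)) ((π ^ ((d : ℕ) + 1)) 0) = j) ∨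
      ((π ^ (k : ℕ)) 0 = j ∧ (π ^ (k : ℕ)) ((π ^ ((d : ℕ) + 1)) 0) = i)) := by
  decide +kernel

/-- An element of order five of the normaliser has a commutant of dimension at most four. -/
theorem Five.bound_five (hS : Grp R) (hE : Five R e) {y : GL I4 F}
    (hy : y ∈ Subgroup.normalizer (R : Set (GL I4 F))) (hy5 : y ^ 5 = 1) (hns : ∀ c : F, (y : M4 F) ≠ c • 1)
    {W : Type} [Fintype W] (φ : (W → F) →ₗ[F] M4 F) (hφ : Function.Injective φ)
    (hc : ∀ w, (y : M4 F) * φ w = φ w * y) : Fintype.card W ≤ 4 := by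
  obtain ⟨π, hπ5, hpow, hfix⟩ := hE.exists_perm hS hy (r := 5) (by decide) hy5
  rcases perm_five π hπ5 with hπ | ⟨hone, htwo⟩
  · obtain ⟨c, hc⟩ := hE.commutant hS fun i => hfix i (by rw [hπ]; rfl)
    exact absurd hc (hns c)
  let ψ : (W → F) →ₗ[F] (Fin 4 → F) :=
    { toFun := fun w => ![(φ w).trace, (e 0 * φ w).trace, (e 0 * e ((π ^ 1) 0) * φ w).trace,
        (e 0 * e ((π ^ 2) 0) * φ w).trace]
      map_add' := fun a b => by funext k; fin_cases k <;> simp [mul_add]
      map_smul' := fun c a => by funext k; fin_cases k <;> simp }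
  have hψ : Function.Injective ψ := by
    rw [injective_iff_map_eq_zero]
    intro w hw
    refine hφ ((hE.trace_detect hS ?_).trans (map_zero φ).symm)
    have h0 := congrFun hw 0
    have h1 := congrFun hw 1
    have h2 := congrFun hw 2
    have h3 := congrFun hw 3
    simp [ψ] at h0 h1 h2 h3
    have hk : ∀ (k : ℕ), (y : M4 F) ^ k * φ w = φ w * (y : M4 F) ^ k := fun k => by
      induction k with
      | zero => simp
      | succ k ih => rw [pow_succ, mul_assoc, hc, ← mul_assoc, ih, mul_assoc]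
    have hmove : ∀ (k : ℕ) (A B : M4 F) (t : F), t ≠ 0 → (y : M4 F) ^ k * A = t • (B * (y : M4 F) ^ k) →
        (A * φ w).trace = 0 → (B * φ w).trace = 0 := fun k A B t ht hAB hA => by
      have h : ((y : M4 F) ^ k * (A * φ w) * (((y⁻¹) ^ k : GL I4 F) : M4 F)).trace = 0 := by
        rw [Matrix.trace_mul_comm, ← mul_assoc, Units.val_pow_eq_pow_val, ← Units.val_pow_eq_pow_val,
          ← Units.val_pow_eq_pow_val, ← Units.val_mul, inv_pow, inv_mul_cancel, Units.val_one, one_mul, hA]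
      rw [← mul_assoc, hAB, smul_mul_assoc, mul_assoc B, hk, smul_mul_assoc, Matrix.trace_smul, ← mul_assoc B,
        mul_assoc _ ((y : M4 F) ^ k), ← Units.val_pow_eq_pow_val, ← Units.val_mul, inv_pow, mul_inv_cancel,
        Units.val_one, mul_one] at h
      exact (smul_eq_zero.1 h).resolve_left ht
    rintro (t | i | ⟨⟨i, j⟩, hij⟩)
    · simpa [U] using h0
    · obtain ⟨k, rfl⟩ := hone i
      obtain ⟨t, ht, he⟩ := hpow k 0
      exact hmove k _ _ t (left_ne_zero_of_mul_eq_one ht) he h1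
    · obtain ⟨k, d, hkd⟩ := htwo i j hij
      obtain ⟨t, ht, he⟩ := hpow k 0
      obtain ⟨t', ht', he'⟩ := hpow k ((π ^ ((d : ℕ) + 1)) 0)
      have hz : (e ((π ^ (k : ℕ)) 0) * e ((π ^ (k : ℕ)) ((π ^ ((d : ℕ) + 1)) 0)) * φ w).trace = 0 := by
        refine hmove k (e 0 * e ((π ^ ((d : ℕ) + 1)) 0)) _ (t * t')
          (mul_ne_zero (left_ne_zero_of_mul_eq_one ht) (left_ne_zero_of_mul_eq_one ht')) ?_ ?_
        · rw [← mul_assoc, he, smul_mul_assoc, mul_assoc, he', mul_smul_comm, smul_smul, ← mul_assoc]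
        · fin_cases d
          · simpa using h2
          · simpa using h3
      rcases hkd with ⟨rfl, rfl⟩ | ⟨rfl, rfl⟩
      · exact hz
      · show (e _ * e _ * φ w).trace = 0
        rw [hE.anti _ _ hij.ne, neg_mul, Matrix.trace_neg, hz, neg_zero]
  have := LinearMap.finrank_le_finrank_of_injective hψ
  simpa using this

section Target

variable (hS : Grp R) (hE : Five R e)
include hS hE

/-- Moving the five involutions into the group means normalising it. -/
theorem mem_normalizer_of (y : GL I4 F) (h : ∀ i, ∃ X, InR R X ∧ (y : M4 F) * e i = X * y) :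
    y ∈ Subgroup.normalizer (R : Set (GL I4 F)) := by
  classical
  haveI : Finite R := Nat.finite_of_card_ne_zero (by rw [hS.card]; norm_num)
  have hU : ∀ t, ∃ X, InR R X ∧ (y : M4 F) * U e t = X * y := fun t => by
    rcases t with t | i | p
    · exact ⟨1, InR.one, by simp [U]⟩
    · exact h i
    · obtain ⟨X, hX, hx⟩ := h p.1.1
      obtain ⟨Z, hZ, hz⟩ := h p.1.2
      exact ⟨X * Z, hX.mul hZ, by show _ * (e _ * e _) = _; rw [← mul_assoc, hx, mul_assoc, hz, mul_assoc]⟩
  have hmaps : ∀ g ∈ R, y * g * y⁻¹ ∈ R := by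
    intro g hg
    obtain ⟨t, ht⟩ := hE.gen g hg
    obtain ⟨X, hX, hXe⟩ := hU t
    obtain ⟨w, hw, hwX⟩ : InR R (((y * g * y⁻¹ : GL I4 F)) : M4 F) := by
      rcases ht with ht | ht
      · rw [Units.val_mul, Units.val_mul, ht, hXe, Units.mul_inv_cancel_right]; exact hX
      · rw [Units.val_mul, Units.val_mul, ht, mul_neg, neg_mul, hXe, Units.mul_inv_cancel_right]
        exact hX.neg hS
    rwa [← Units.ext hwX]
  let f : R → R := fun g => ⟨y * g * y⁻¹, hmaps g g.2⟩
  have hf : Function.Surjective f := Finite.surjective_of_injective fun a b hab => Subtype.ext (by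
    have h' : y * (a : GL I4 F) * y⁻¹ = y * b * y⁻¹ := congrArg Subtype.val hab
    simpa using h')
  rw [Subgroup.mem_normalizer_iff]
  refine fun g => ⟨hmaps g, fun hg => ?_⟩
  obtain ⟨a, ha⟩ := hf ⟨_, hg⟩
  have h' : y * (a : GL I4 F) * y⁻¹ = y * g * y⁻¹ := congrArg Subtype.val ha
  have : (a : GL I4 F) = g := by simpa using h'
  exact this ▸ a.2

/-- A five-cycle of the involutions inside the symplectic group. -/
theorem exists_cycle (hRf : R ≤ Cfsg.spGL 2 F) :
    ∃ y : GL I4 F, y ∈ Cfsg.spGL 2 F ∧ y ∈ Subgroup.normalizer (R : Set (GL I4 F)) ∧ y ^ 5 = 1 ∧ y ≠ 1 := by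
  have h2 := hS.two
  set B := sympBilin 2 F
  have hadj : ∀ i u v, B (e i *ᵥ u) v = B u (e i *ᵥ v) := fun i u v => by
    obtain ⟨g, hg, hge⟩ := hE.mem i
    have h : Cfsg.sympForm 2 F ((g : M4 F) *ᵥ u) ((g : M4 F) *ᵥ (e i *ᵥ v)) =
        Cfsg.sympForm 2 F u (e i *ᵥ v) := hRf hg u (e i *ᵥ v)
    rw [hge, Matrix.mulVec_mulVec, hE.sq, Matrix.one_mulVec] at h
    exact h
  let D : Fin 5 → Fin 5 → M4 F := fun k l => e k - e l
  have hD2 : ∀ k l, k ≠ l → D k l * D k l = (2 : F) • 1 := fun k l hkl => by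
    simp only [D, sub_mul, mul_sub, hE.sq, hE.anti k l hkl, two_smul]
    abel
  have hDk : ∀ k l, k ≠ l → D k l * e k = -(e l * D k l) := fun k l hkl => by
    simp only [D, sub_mul, mul_sub, hE.sq]; abel
  have hDl : ∀ k l, k ≠ l → D k l * e l = -(e k * D k l) := fun k l hkl => by
    simp only [D, sub_mul, mul_sub, hE.sq]; abel
  have hDm : ∀ k l m, m ≠ k → m ≠ l → D k l * e m = -(e m * D k l) := fun k l m hk hl => by
    simp only [D, sub_mul, mul_sub, hE.anti m k hk, hE.anti m l hl]; abel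
  have hDB : ∀ k l, k ≠ l → ∀ u v, B (D k l *ᵥ u) (D k l *ᵥ v) = 2 * B u v := fun k l hkl u v => by
    have h1 : ∀ w, B (D k l *ᵥ u) w = B u (D k l *ᵥ w) := fun w => by
      simp only [D, Matrix.sub_mulVec, map_sub, LinearMap.sub_apply, hadj]
    rw [h1, Matrix.mulVec_mulVec, hD2 k l hkl, Matrix.smul_mulVec, Matrix.one_mulVec, map_smul, smul_eq_mul]
  set P := D 0 1 * D 1 2 * D 2 3 * D 3 4 with hP
  have h4 : (4 : F) ≠ 0 := by
    rw [show (4 : F) = 2 * 2 by norm_num]; exact mul_ne_zero h2 h2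
  set M := (4 : F)⁻¹ • P with hM
  have hMB : ∀ u v, B (M *ᵥ u) (M *ᵥ v) = B u v := fun u v => by
    rw [hM, hP, Matrix.smul_mulVec, Matrix.smul_mulVec]
    simp only [← Matrix.mulVec_mulVec, map_smul, LinearMap.smul_apply, smul_eq_mul]
    rw [hDB 0 1 (by decide), hDB 1 2 (by decide), hDB 2 3 (by decide), hDB 3 4 (by decide)]
    field_simp
    ring
  have hMinv : M * ((4 : F)⁻¹ • (D 3 4 * D 2 3 * D 1 2 * D 0 1)) = 1 := by
    rw [hM, smul_mul_smul_comm, hP, show D 0 1 * D 1 2 * D 2 3 * D 3 4 * (D 3 4 * D 2 3 * D 1 2 * D 0 1) =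
      D 0 1 * (D 1 2 * (D 2 3 * (D 3 4 * D 3 4) * D 2 3) * D 1 2) * D 0 1 by simp only [mul_assoc]]
    simp only [hD2 3 4 (by decide), hD2 2 3 (by decide), hD2 1 2 (by decide), hD2 0 1 (by decide),
      mul_smul_comm, smul_mul_assoc, mul_one, smul_smul]
    rw [show (4 : F)⁻¹ * 4⁻¹ * (2 * 2 * 2 * 2) = 1 by field_simp; ring, one_smul]
  let y₀ : GL I4 F := ⟨M, _, hMinv, mul_eq_one_comm.1 hMinv⟩
  have hcyc : ∀ i : Fin 5, P * e i = e (i + 1) * P := by
    intro i
    have e34 := hDk 3 4 (by decide)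
    have step : ∀ (k l a b : Fin 5) (X : M4 F), D k l * e a = -(e b * D k l) → D k l * (e a * X) = -(e b * (D k l * X)) :=
      fun k l a b X h => by rw [← mul_assoc, h, neg_mul, mul_assoc]
    fin_cases i <;> simp only [hP, mul_assoc, Fin.zero_eta, Fin.mk_one, Fin.reduceFinMk, Fin.reduceAdd]
    · rw [hDm 3 4 0 (by decide) (by decide), mul_neg, step 2 3 0 0 _ (hDm 2 3 0 (by decide) (by decide)),
        neg_neg, step 1 2 0 0 _ (hDm 1 2 0 (by decide) (by decide)), mul_neg,
        step 0 1 0 1 _ (hDk 0 1 (by decide)), neg_neg]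
    · rw [hDm 3 4 1 (by decide) (by decide), mul_neg, step 2 3 1 1 _ (hDm 2 3 1 (by decide) (by decide)),
        neg_neg, step 1 2 1 2 _ (hDk 1 2 (by decide)), mul_neg,
        step 0 1 2 2 _ (hDm 0 1 2 (by decide) (by decide)), neg_neg]
    · rw [hDm 3 4 2 (by decide) (by decide), mul_neg, step 2 3 2 3 _ (hDk 2 3 (by decide)),
        neg_neg, step 1 2 3 3 _ (hDm 1 2 3 (by decide) (by decide)), mul_neg,
        step 0 1 3 3 _ (hDm 0 1 3 (by decide) (by decide)), neg_neg]
    · rw [hDk 3 4 (by decide), mul_neg, step 2 3 4 4 _ (hDm 2 3 4 (by decide) (by decide)),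
        neg_neg, step 1 2 4 4 _ (hDm 1 2 4 (by decide) (by decide)), mul_neg,
        step 0 1 4 4 _ (hDm 0 1 4 (by decide) (by decide)), neg_neg]
    · rw [hDl 3 4 (by decide), mul_neg, step 2 3 3 2 _ (hDl 2 3 (by decide)),
        neg_neg, step 1 2 2 1 _ (hDl 1 2 (by decide)), mul_neg,
        step 0 1 1 0 _ (hDl 0 1 (by decide)), neg_neg]
  have hMc : ∀ i : Fin 5, M * e i = e (i + 1) * M := fun i => by
    rw [hM, smul_mul_assoc, hcyc, mul_smul_comm]
  have hN : y₀ ∈ Subgroup.normalizer (R : Set (GL I4 F)) :=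
    mem_normalizer_of hS hE y₀ fun i => ⟨_, hE.mem (i + 1), hMc i⟩
  have hy₀ : y₀ ∈ Cfsg.spGL 2 F := hMB
  obtain ⟨c, hc⟩ := hE.commutant hS (M := M ^ 5) fun i => by
    have hk : ∀ (k : ℕ), ∀ i : Fin 5, M ^ k * e i = e (i + k • (1 : Fin 5)) * M ^ k := fun k => by
      induction k with
      | zero => intro i; simp
      | succ k ih =>
        intro i
        rw [pow_succ, mul_assoc, hMc, ← mul_assoc, ih, mul_assoc, succ_nsmul, add_assoc, add_comm (1 : Fin 5)]
    rw [hk, show (5 : ℕ) • (1 : Fin 5) = 0 by decide, add_zero]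
  have hc' : ((y₀ ^ 5 : GL I4 F) : M4 F) = c • 1 := by rw [Units.val_pow_eq_pow_val]; exact hc
  have hns : ∀ d : F, M ≠ d • 1 := fun d hd => by
    have h := hMc 0
    rw [hd, smul_mul_assoc, one_mul, mul_smul_comm, mul_one] at h
    have hd0 : d ≠ 0 := fun e0 => by rw [e0, zero_smul] at hd; exact y₀.ne_zero hd
    exact absurd (hE.e_inj hS (Or.inl (smul_right_injective _ hd0 h))) (by decide)
  rcases scalar_sq (pow_mem hy₀ 5) hc' with rfl | rfl
  · exact ⟨y₀, hy₀, hN, Units.ext (by rw [hc', one_smul, Units.val_one]),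
      fun e => hns 1 (by rw [one_smul]; exact congrArg Units.val e)⟩
  · have hneg : -(1 : GL I4 F) * y₀ = -y₀ := neg_one_mul y₀
    refine ⟨-y₀, ?_, ?_, Units.ext ?_, fun e => hns (-1) ?_⟩
    · rw [← hneg]; exact mul_mem (hRf hS.neg) hy₀
    · rw [← hneg]; exact mul_mem (Subgroup.le_normalizer hS.neg) hN
    · rw [Odd.neg_pow (by decide), Units.val_neg, hc', neg_one_smul, neg_neg, Units.val_one]
    · have := congrArg Units.val e
      rw [Units.val_neg, Units.val_one] at this
      rw [neg_one_smul]; exact neg_eq_iff_eq_neg.1 this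

end Target

end CfsgLib.Elusive.PauliMinus
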