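import Cfsg.Agent.KGroup.Symplectic
import Cfsg.Prelude.Def_GeometricClasses
import Mathlib

/-!
# A group of minus type of order 32 in dimension four: five anticommuting involutions

Every element is, up to sign, a product of at most two of them, and these sixteen products are
linearly independent.
-/

set_option autoImplicit false
set_option linter.unusedSimpArgs false
set_option linter.style.haveILetI false
open scoped MatrixGroups

namespace CfsgLib.Elusive.PauliMinus

open Cfsg.Geo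

variable {F : Type*} [Field F]

/-- The index type of the dimension-four space. -/
abbrev I4 := Fin 2 ⊕ Fin 2

/-- Matrices of that size. -/
abbrev M4 (F : Type*) := Matrix I4 I4 F

/-- The facts about the group used below. -/
structure Grp (R : Subgroup (GL I4 F)) : Prop where
  two : (2 : F) ≠ 0
  commutant : ∀ M : M4 F, (∀ g ∈ R, M * (g : M4 F) = g * M) → ∃ c : F, M = c • 1
  neg : -(1 : GL I4 F) ∈ R
  scal : ∀ g ∈ R, ∀ c : F, (g : M4 F) = c • 1 → c = 1 ∨ c = -1
  comm : ∀ x ∈ R, ∀ y ∈ R, (x : M4 F) * y = y * x ∨ (x : M4 F) * y = -((y : M4 F) * x)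
  card : Nat.card R = 32
  minus : IsOfMinusType 2 R

/-- Matrices of elements of the group. -/
def InR (R : Subgroup (GL I4 F)) (M : M4 F) : Prop := ∃ g ∈ R, (g : M4 F) = M

variable {R : Subgroup (GL I4 F)}

theorem InR.mul {M N : M4 F} (hM : InR R M) (hN : InR R N) : InR R (M * N) := by
  obtain ⟨g, hg, rfl⟩ := hM
  obtain ⟨h, hh, rfl⟩ := hN
  exact ⟨g * h, mul_mem hg hh, rfl⟩

theorem InR.one : InR R (1 : M4 F) := ⟨1, R.one_mem, rfl⟩

theorem InR.neg (hS : Grp R) {M : M4 F} (hM : InR R M) : InR R (-M) := by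
  have := InR.mul ⟨_, hS.neg, rfl⟩ hM
  simpa using this

theorem Grp.comm' (hS : Grp R) {M N : M4 F} (hM : InR R M) (hN : InR R N) :
    M * N = N * M ∨ M * N = -(N * M) := by
  obtain ⟨g, hg, rfl⟩ := hM
  obtain ⟨h, hh, rfl⟩ := hN
  exact hS.comm g hg h hh

theorem Grp.scal' (hS : Grp R) {M : M4 F} (hM : InR R M) {c : F} (h : M = c • 1) : M = 1 ∨ M = -1 := by
  obtain ⟨g, hg, rfl⟩ := hM
  rcases hS.scal g hg c h with rfl | rfl
  · exact Or.inl (by rw [h, one_smul])
  · exact Or.inr (by rw [h, neg_one_smul])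

theorem Grp.exists_anti (hS : Grp R) {M : M4 F} (hM : InR R M) (h1 : M ≠ 1) (h2 : M ≠ -1) :
    ∃ N, InR R N ∧ M * N = -(N * M) := by
  by_contra hno
  obtain ⟨c, hc⟩ := hS.commutant M fun g hg => (hS.comm' hM ⟨g, hg, rfl⟩).resolve_right fun e =>
    hno ⟨_, ⟨g, hg, rfl⟩, e⟩
  rcases hS.scal' hM hc with h | h
  · exact h1 h
  · exact h2 h

theorem Grp.sq (hS : Grp R) {M : M4 F} (hM : InR R M) : M * M = 1 ∨ M * M = -1 := by
  obtain ⟨g, hg, rfl⟩ := hM
  obtain ⟨s, hs⟩ := hS.commutant ((g : M4 F) * g) fun h hh => by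
    rcases hS.comm g hg h hh with e | e
    · rw [mul_assoc, e, ← mul_assoc, e, mul_assoc]
    · rw [mul_assoc, e, mul_neg, ← mul_assoc, e, neg_mul, neg_neg, mul_assoc]
  exact hS.scal' ⟨g * g, mul_mem hg hg, rfl⟩ (show ((g * g : GL I4 F) : M4 F) = s • 1 from hs)

theorem Grp.ne_neg (hS : Grp R) {M : M4 F} (hM : InR R M) : M ≠ -M := fun h => by
  have h0 : (2 : F) • M = 0 := by rw [two_smul]; nth_rw 1 [h]; exact neg_add_cancel M
  obtain ⟨g, -, rfl⟩ := hM
  exact g.ne_zero ((smul_eq_zero.1 h0).resolve_left hS.two)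

/-- Elements that anticommute with something are not central. -/
theorem Grp.ne_of_anti (hS : Grp R) {M N : M4 F} (_hM : InR R M) (hN : InR R N) (h : M * N = -(N * M)) :
    M ≠ 1 ∧ M ≠ -1 := by
  refine ⟨fun e => hS.ne_neg hN ?_, fun e => hS.ne_neg hN ?_⟩
  · rw [e, one_mul, mul_one] at h; exact h
  · rw [e] at h; simpa using h.symm

/-- No two commuting involutions independent modulo the centre. -/
theorem Grp.no_pair (hS : Grp R) {u v : M4 F} (hu : InR R u) (hv : InR R v) (hu2 : u * u = 1) (hv2 : v * v = 1)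
    (huv : u * v = v * u) (hu1 : u ≠ 1) (hu1' : u ≠ -1) (hv1 : v ≠ 1) (hv1' : v ≠ -1) (h1 : u ≠ v) (h2 : u ≠ -v) :
    False := by
  obtain ⟨g, hg, rfl⟩ := hu
  obtain ⟨h, hh, rfl⟩ := hv
  let z : R := ⟨-1, hS.neg⟩
  let a : R := ⟨g, hg⟩
  let b : R := ⟨h, hh⟩
  have hab : a * b = b * a := Subtype.ext (Units.ext huv)
  have haz : a * z = z * a := Subtype.ext (Units.ext (by simp [z, a]))
  have hbz : b * z = z * b := Subtype.ext (Units.ext (by simp [z, b]))
  have ha2 : a * a = 1 := Subtype.ext (Units.ext hu2)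
  have hb2 : b * b = 1 := Subtype.ext (Units.ext hv2)
  have hz2 : z * z = 1 := Subtype.ext (Units.ext (by simp [z]))
  let A : Subgroup R := Subgroup.closure {z, a, b}
  have hAc : IsMulCommutative A := by
    refine Subgroup.isMulCommutative_closure (fun x hx y hy => ?_)
    simp only [Set.mem_insert_iff, Set.mem_singleton_iff] at hx hy
    rcases hx with rfl | rfl | rfl <;> rcases hy with rfl | rfl | rfl <;>
      first | rfl | assumption | exact hab.symm | exact haz.symm | exact hbz.symm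
  have hA2 : ∀ x ∈ A, x * x = 1 := by
    intro x hx
    induction hx using Subgroup.closure_induction with
    | mem x hx =>
      simp only [Set.mem_insert_iff, Set.mem_singleton_iff] at hx
      rcases hx with rfl | rfl | rfl <;> assumption
    | one => exact one_mul 1
    | mul x y hx' hy' e e' =>
      have hc : x * y = y * x :=
        congrArg Subtype.val (mul_comm' (⟨x, hx'⟩ : A) ⟨y, hy'⟩)
      calc x * y * (x * y) = x * (y * x) * y := by group
        _ = (x * x) * (y * y) := by rw [← hc]; group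
        _ = 1 := by rw [e, e', one_mul]
    | inv x _ e => rw [← mul_inv_rev, e, inv_one]
  have hA : 8 ≤ Nat.card A := by
    haveI : Finite R := Nat.finite_of_card_ne_zero (by rw [hS.card]; norm_num)
    have hzA : z ∈ A := Subgroup.subset_closure (by simp)
    have haA : a ∈ A := Subgroup.subset_closure (by simp)
    have hbA : b ∈ A := Subgroup.subset_closure (by simp)
    let f : Bool × Fin 4 → A := fun t =>
      ⟨(if t.1 then z else 1) * ![1, a, b, a * b] t.2, by
        refine mul_mem ?_ ?_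
        · split
          · exact hzA
          · exact one_mem A
        · fin_cases t <;> simp [haA, hbA, mul_mem haA hbA, one_mem A]⟩
    have hf : Function.Injective f := by
      intro s t e
      have hval : ∀ t, (((f t : R) : GL I4 F) : M4 F) =
          (if t.1 then (-1 : M4 F) else 1) * ![1, (g : M4 F), h, g * h] t.2 := fun t => by
        obtain ⟨b1, k⟩ := t
        cases b1 <;> fin_cases k <;> simp [f, z, a, b]
      have e' := (hval s).symm.trans ((congrArg (fun x : A => (((x : R) : GL I4 F) : M4 F)) e).trans (hval t))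
      have hgh1 : (g : M4 F) * h ≠ 1 := fun e => h1 (by
        calc (g : M4 F) = g * (h * h) := by rw [hv2, mul_one]
          _ = h := by rw [← mul_assoc, e, one_mul])
      have hgh2 : (g : M4 F) * h ≠ -1 := fun e => h2 (by
        calc (g : M4 F) = g * (h * h) := by rw [hv2, mul_one]
          _ = -h := by rw [← mul_assoc, e, neg_one_mul])
      have hne1 : (1 : M4 F) ≠ -1 := hS.ne_neg InR.one
      have hneg : ∀ w : GL I4 F, w ∈ R → (w : M4 F) ≠ -w := fun w hw => hS.ne_neg ⟨w, hw, rfl⟩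
      have k1 : (g : M4 F) * h ≠ g := fun e => hv1 (by
        calc (h : M4 F) = (g * g) * h := by rw [hu2, one_mul]
          _ = 1 := by rw [mul_assoc, e, hu2])
      have k2 : (g : M4 F) * h ≠ -g := fun e => hv1' (by
        calc (h : M4 F) = (g * g) * h := by rw [hu2, one_mul]
          _ = -1 := by rw [mul_assoc, e, mul_neg, hu2])
      have k3 : (g : M4 F) * h ≠ h := fun e => hu1 (by
        calc (g : M4 F) = g * (h * h) := by rw [hv2, mul_one]
          _ = 1 := by rw [← mul_assoc, e, hv2])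
      have k4 : (g : M4 F) * h ≠ -h := fun e => hu1' (by
        calc (g : M4 F) = g * (h * h) := by rw [hv2, mul_one]
          _ = -1 := by rw [← mul_assoc, e, neg_mul, hv2])
      have n1 : (g : M4 F) ≠ -1 := hu1'
      have n2 : (h : M4 F) ≠ -1 := hv1'
      have hd1 : ∀ k l : Fin 4, (![1, (g : M4 F), h, g * h] k = ![1, (g : M4 F), h, g * h] l → k = l) := by
        intro k l e
        fin_cases k <;> fin_cases l <;>
          simp only [Fin.zero_eta, Fin.mk_one, Fin.reduceFinMk, Matrix.cons_val] at e <;>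
          first
            | rfl
            | exact absurd e hu1 | exact absurd e.symm hu1 | exact absurd e hv1 | exact absurd e.symm hv1
            | exact absurd e h1 | exact absurd e.symm h1 | exact absurd e hgh1 | exact absurd e.symm hgh1
            | exact absurd e k1 | exact absurd e.symm k1 | exact absurd e k3 | exact absurd e.symm k3
      have hd2 : ∀ k l : Fin 4, ![1, (g : M4 F), h, g * h] k ≠ -![1, (g : M4 F), h, g * h] l := by
        intro k l e
        fin_cases k <;> fin_cases l <;>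
          simp only [Fin.zero_eta, Fin.mk_one, Fin.reduceFinMk, Matrix.cons_val] at e <;>
          first
            | exact hne1 e | exact hneg g hg e | exact hneg h hh e | exact hneg (g * h) (mul_mem hg hh) e
            | exact n1 e | exact n1 (neg_eq_iff_eq_neg.1 e.symm) | exact n2 e | exact n2 (neg_eq_iff_eq_neg.1 e.symm)
            | exact h2 e | exact h2 (neg_eq_iff_eq_neg.1 e.symm)
            | exact hgh2 e | exact hgh2 (neg_eq_iff_eq_neg.1 e.symm)
            | exact k2 e | exact k2 (neg_eq_iff_eq_neg.1 e.symm)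
            | exact k4 e | exact k4 (neg_eq_iff_eq_neg.1 e.symm)
      obtain ⟨b1, k⟩ := s
      obtain ⟨b2, l⟩ := t
      cases b1 <;> cases b2 <;> simp only [if_true, if_false, Bool.false_eq_true, one_mul, neg_one_mul, neg_inj] at e'
      · rw [hd1 k l e']
      · exact absurd e' (hd2 k l)
      · exact absurd e'.symm (hd2 l k)
      · rw [hd1 k l e']
    have := Nat.card_le_card_of_injective f hf
    simpa using this
  have h8 := hS.minus A hAc hA2
  norm_num at h8
  omega

/-- A second element commuting with an anticommuting pair. -/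
theorem Grp.corr (hS : Grp R) {a b u : M4 F} (ha : InR R a) (hb : InR R b) (hu : InR R u)
    (hab : a * b = -(b * a)) : ∃ u' w : M4 F, InR R u' ∧ u' * a = a * u' ∧ u' * b = b * u' ∧
      (w = 1 ∨ w = a ∨ w = b ∨ w = a * b) ∧ (u = u' * w ∨ u = -(u' * w)) := by
  have hba : b * a = -(a * b) := by rw [hab, neg_neg]
  have hsa := hS.sq ha
  have hsb := hS.sq hb
  have l : ∀ {p q r : M4 F}, p * q = r → ∀ X, p * (q * X) = r * X := fun h X => by rw [← mul_assoc, h]
  rcases hS.comm' hu ha with e | e <;> rcases hS.comm' hu hb with e' | e'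
  · exact ⟨u, 1, hu, e, e', Or.inl rfl, Or.inl (mul_one u).symm⟩
  · refine ⟨u * a, a, hu.mul ha, ?_, ?_, Or.inr (Or.inl rfl), ?_⟩
    · rw [e, mul_assoc, e]
    · rw [mul_assoc, hab, mul_neg, ← mul_assoc, e', neg_mul, neg_neg, mul_assoc]
    · rcases hsa with h | h <;> rw [mul_assoc, h]
      · exact Or.inl (mul_one u).symm
      · exact Or.inr (by rw [mul_neg, mul_one, neg_neg])
  · refine ⟨u * b, b, hu.mul hb, ?_, ?_, Or.inr (Or.inr (Or.inl rfl)), ?_⟩
    · rw [mul_assoc, hba, mul_neg, ← mul_assoc, e, neg_mul, neg_neg, mul_assoc]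
    · rw [e', mul_assoc, e']
    · rcases hsb with h | h <;> rw [mul_assoc, h]
      · exact Or.inl (mul_one u).symm
      · exact Or.inr (by rw [mul_neg, mul_one, neg_neg])
  · refine ⟨u * b * a, a * b, (hu.mul hb).mul ha, ?_, ?_, Or.inr (Or.inr (Or.inr rfl)), ?_⟩
    · simp [mul_assoc, e, hba, l e, l hba]
    · simp [mul_assoc, e, e', hba, l e, l e', l hba]
    · rcases hsa with h | h <;> rcases hsb with h' | h' <;>
        simp only [mul_assoc, ← mul_assoc a a, h, one_mul, neg_mul, mul_neg, h', mul_one, neg_neg] <;> simp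

/-- Something outside a pair commutes with it. -/
theorem Grp.exists_centraliser (hS : Grp R) {a b : M4 F} (ha : InR R a) (hb : InR R b)
    (hab : a * b = -(b * a)) : ∃ c, InR R c ∧ c * a = a * c ∧ c * b = b * c ∧ c ≠ 1 ∧ c ≠ -1 := by
  classical
  by_contra hno
  push Not at hno
  let S : Finset (M4 F) := [1, a, b, a * b, -1, -a, -b, -(a * b)].toFinset
  have hsub : ∀ g : R, ((g : GL I4 F) : M4 F) ∈ S := by
    intro g
    obtain ⟨u', w, hu', h1, h2, hw, hu⟩ := hS.corr ha hb ⟨_, g.2, rfl⟩ hab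
    have hu1 : u' = 1 ∨ u' = -1 := by
      by_cases h : u' = 1
      · exact Or.inl h
      · exact Or.inr (hno u' hu' h1 h2 h)
    rcases hu1 with rfl | rfl <;> rcases hw with rfl | rfl | rfl | rfl <;> rcases hu with hu | hu <;>
      (rw [hu]; simp [S])
  have hle := Nat.card_le_card_of_injective (fun g : R => (⟨_, hsub g⟩ : S))
    (fun x y e => Subtype.ext (Units.ext (congrArg Subtype.val e)))
  rw [Nat.card_eq_finsetCard, hS.card] at hle
  have h8 : S.card ≤ 8 := List.toFinset_card_le _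
  omega

/-- The sixteen products. -/
def U (e : Fin 5 → M4 F) : Unit ⊕ Fin 5 ⊕ {p : Fin 5 × Fin 5 // p.1 < p.2} → M4 F
  | Sum.inl _ => 1
  | Sum.inr (Sum.inl i) => e i
  | Sum.inr (Sum.inr p) => e p.1.1 * e p.1.2

/-- Five anticommuting involutions generating the group. -/
structure Five (R : Subgroup (GL I4 F)) (e : Fin 5 → M4 F) : Prop where
  mem : ∀ i, InR R (e i)
  sq : ∀ i, e i * e i = 1
  anti : ∀ i j, i ≠ j → e i * e j = -(e j * e i)
  gen : ∀ g ∈ R, ∃ t, (g : M4 F) = U e t ∨ (g : M4 F) = -U e t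

theorem exists_five (hS : Grp R) : ∃ e, Five R e := by
  classical
  have hI : ∀ x y : M4 F, x * x = -1 → y * y = -1 → x * y = y * x → x * y * (x * y) = 1 := by
    intro x y hx hy hxy
    calc x * y * (x * y) = x * (y * x) * y := by simp only [mul_assoc]
      _ = (x * x) * (y * y) := by rw [← hxy]; simp only [mul_assoc]
      _ = 1 := by rw [hx, hy]; simp
  -- a non-central element
  obtain ⟨x, hx, hx1, hx1'⟩ : ∃ x, InR R x ∧ x ≠ 1 ∧ x ≠ -1 := by
    by_contra hno
    push Not at hno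
    let S : Finset (M4 F) := {1, -1}
    have hsub : ∀ g : R, ((g : GL I4 F) : M4 F) ∈ S := fun g => by
      by_cases h : ((g : GL I4 F) : M4 F) = 1
      · simp [S, h]
      · simp [S, hno _ ⟨_, g.2, rfl⟩ h]
    have hle := Nat.card_le_card_of_injective (fun g : R => (⟨_, hsub g⟩ : S))
      (fun x y e => Subtype.ext (Units.ext (congrArg Subtype.val e)))
    rw [Nat.card_eq_finsetCard, hS.card] at hle
    have h8 : S.card ≤ 2 := Finset.card_le_two
    omega
  -- a non-central involution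
  obtain ⟨a, ha, ha2, ha1, ha1'⟩ : ∃ a, InR R a ∧ a * a = 1 ∧ a ≠ 1 ∧ a ≠ -1 := by
    rcases hS.sq hx with h | h
    · exact ⟨x, hx, h, hx1, hx1'⟩
    obtain ⟨y, hy, hxy⟩ := hS.exists_anti hx hx1 hx1'
    obtain ⟨c, hc, hca, hcb, hc1, hc1'⟩ := hS.exists_centraliser hx hy hxy
    rcases hS.sq hc with hc2 | hc2
    · exact ⟨c, hc, hc2, hc1, hc1'⟩
    refine ⟨x * c, hx.mul hc, hI x c h hc2 hca.symm, ?_⟩
    exact hS.ne_of_anti (hx.mul hc) hy (by rw [mul_assoc, hcb, ← mul_assoc, hxy, neg_mul, mul_assoc])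
  obtain ⟨b, hb, hab, hb2⟩ : ∃ b, InR R b ∧ a * b = -(b * a) ∧ b * b = 1 := by
    obtain ⟨y, hy, hay⟩ := hS.exists_anti ha ha1 ha1'
    rcases hS.sq hy with h | h
    · exact ⟨y, hy, hay, h⟩
    refine ⟨a * y, ha.mul hy, ?_, ?_⟩
    · rw [mul_assoc a y a, ← mul_assoc a a y, ha2, one_mul, show y * a = -(a * y) by rw [hay, neg_neg],
        mul_neg, neg_neg, ← mul_assoc, ha2, one_mul]
    · rw [mul_assoc, ← mul_assoc y a y, show y * a = -(a * y) by rw [hay, neg_neg], neg_mul, mul_assoc, h,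
        mul_neg, mul_neg, mul_neg, neg_neg, mul_one, ha2]
  have hba : b * a = -(a * b) := by rw [hab, neg_neg]
  have hbne := hS.ne_of_anti hb ha hba
  have hcentsq : ∀ u, InR R u → u * a = a * u → u * b = b * u → u ≠ 1 → u ≠ -1 → u * u = -1 := by
    intro u hu hua hub hu1 hu1'
    refine (hS.sq hu).resolve_left fun h => hS.no_pair ha hu ha2 h hua.symm ha1 ha1' hu1 hu1' ?_ ?_
    · rintro rfl
      exact hS.ne_neg (ha.mul hb) (by nth_rw 1 [hab]; rw [hub])
    · intro e
      have h1 : u = -a := by rw [e, neg_neg]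
      rw [h1, neg_mul, mul_neg, neg_inj, hab] at hub
      exact hS.ne_neg (hb.mul ha) hub.symm
  obtain ⟨c, hc, hca, hcb, hc1, hc1'⟩ := hS.exists_centraliser ha hb hab
  have hc2 := hcentsq c hc hca hcb hc1 hc1'
  obtain ⟨d₀, hd₀, hcd₀⟩ := hS.exists_anti hc hc1 hc1'
  obtain ⟨d, w, hd, hda, hdb, hw, hdw⟩ := hS.corr ha hb hd₀ hab
  have hcw : c * w = w * c := by
    rcases hw with rfl | rfl | rfl | rfl
    · simp
    · exact hca
    · exact hcb
    · rw [← mul_assoc, hca, mul_assoc, hcb, ← mul_assoc]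
  have hwu : InR R w := by
    rcases hw with rfl | rfl | rfl | rfl
    exacts [InR.one, ha, hb, ha.mul hb]
  have hwi : ∃ w', w * w' = 1 := by
    obtain ⟨g, -, rfl⟩ := hwu
    exact ⟨_, Units.mul_inv g⟩
  have hcd : c * d = -(d * c) := by
    obtain ⟨w', hw'⟩ := hwi
    have h1 : c * d * w = -(d * c) * w := by
      rcases hdw with rfl | rfl
      · rw [mul_assoc c d w, hcd₀, neg_mul (d * c), mul_assoc d c, hcw, mul_assoc d w c]
      · rw [mul_neg, neg_mul, neg_neg] at hcd₀
        rw [neg_mul (d * c), mul_assoc d c, hcw, mul_assoc c d w, ← mul_assoc d w c]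
        exact neg_eq_iff_eq_neg.1 hcd₀
    calc c * d = c * d * w * w' := by rw [mul_assoc, hw', mul_one]
      _ = -(d * c) := by rw [h1, mul_assoc, hw', mul_one]
  have hdne := hS.ne_of_anti hd hc (by rw [hcd, neg_neg])
  have hd2 := hcentsq d hd hda hdb hdne.1 hdne.2
  have hdc : d * c = -(c * d) := by rw [hcd, neg_neg]
  -- the rewriting rules
  have hac := hca.symm
  have had := hda.symm
  have hbc := hcb.symm
  have hbd := hdb.symm
  have l : ∀ {p q r : M4 F}, p * q = r → ∀ X, p * (q * X) = r * X := fun h X => by rw [← mul_assoc, h]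
  refine ⟨![a, b, a * (b * c), a * (b * d), a * (b * (c * d))], ⟨?_, ?_, ?_, ?_⟩⟩
  · intro i
    fin_cases i <;>
      simp only [Fin.zero_eta, Fin.mk_one, Fin.reduceFinMk, Matrix.cons_val]
    exacts [ha, hb, ha.mul (hb.mul hc), ha.mul (hb.mul hd), ha.mul (hb.mul (hc.mul hd))]
  · intro i
    fin_cases i <;>
      simp [mul_assoc, ha2, hb2, hc2, hd2, hba, hca, hcb, hda, hdb, hdc, l ha2, l hb2, l hc2, l hd2, l hba,
        l hca, l hcb, l hda, l hdb, l hdc]
  · intro i j hij
    fin_cases i <;> fin_cases j <;>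
      first
        | exact absurd rfl hij
        | simp [mul_assoc, ha2, hb2, hc2, hd2, hba, hca, hcb, hda, hdb, hdc, l ha2, l hb2, l hc2, l hd2, l hba,
            l hca, l hcb, l hda, l hdb, l hdc]
  · intro g hg
    obtain ⟨u', w₁, hu', h1, h2, hw₁, hu⟩ := hS.corr ha hb ⟨g, hg, rfl⟩ hab
    obtain ⟨u'', w₂, hu'', k1, k2, hw₂, hu₂⟩ := hS.corr hc hd hu' hcd
    have hw₂a : w₂ * a = a * w₂ ∧ w₂ * b = b * w₂ ∧ InR R w₂ := by
      rcases hw₂ with rfl | rfl | rfl | rfl
      · exact ⟨by simp, by simp, InR.one⟩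
      · exact ⟨hca, hcb, hc⟩
      · exact ⟨hda, hdb, hd⟩
      · exact ⟨by simp [mul_assoc, hda, l hca], by simp [mul_assoc, hdb, l hcb], hc.mul hd⟩
    obtain ⟨hw₂a, hw₂b, hw₂R⟩ := hw₂a
    obtain ⟨w', hw'⟩ : ∃ w', w₂ * w' = 1 := by
      obtain ⟨g', -, rfl⟩ := hw₂R
      exact ⟨_, Units.mul_inv g'⟩
    have hkey : ∀ t, w₂ * t = t * w₂ → u' * t = t * u' → u'' * t = t * u'' := fun t e e' => by
      have h3 : u'' * t * w₂ = t * u'' * w₂ := by
        rcases hu₂ with rfl | rfl
        · rw [mul_assoc u'' t, ← e, ← mul_assoc u'' w₂ t, e', mul_assoc t u'']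
        · rw [neg_mul, mul_neg, neg_inj] at e'
          rw [mul_assoc u'' t, ← e, ← mul_assoc u'' w₂ t, e', mul_assoc t u'']
      calc u'' * t = u'' * t * w₂ * w' := by rw [mul_assoc _ w₂, hw', mul_one]
        _ = t * u'' := by rw [h3, mul_assoc _ w₂, hw', mul_one]
    have hu''a := hkey a hw₂a h1
    have hu''b := hkey b hw₂b h2
    have hu1 : u'' = 1 ∨ u'' = -1 := by
      by_contra hno
      obtain ⟨n1, n2⟩ := not_or.1 hno
      have hs := hcentsq u'' hu'' hu''a hu''b n1 n2
      have hne : c * u'' ≠ 1 ∧ c * u'' ≠ -1 :=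
        hS.ne_of_anti (hc.mul hu'') hd (by rw [mul_assoc, k2, ← mul_assoc, hcd, neg_mul, mul_assoc])
      have h3 := hcentsq (c * u'') (hc.mul hu'') (by rw [mul_assoc, hu''a, ← mul_assoc, hca, mul_assoc])
        (by rw [mul_assoc, hu''b, ← mul_assoc, hcb, mul_assoc]) hne.1 hne.2
      rw [hI c u'' hc2 hs k1.symm] at h3
      exact hS.ne_neg InR.one h3
    have hgw : (g : M4 F) = w₂ * w₁ ∨ (g : M4 F) = -(w₂ * w₁) := by
      rcases hu1 with rfl | rfl <;> rcases hu₂ with rfl | rfl <;> rcases hu with e | e <;> simp [e]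
    have key : ∃ t, w₂ * w₁ = U ![a, b, a * (b * c), a * (b * d), a * (b * (c * d))] t ∨
        w₂ * w₁ = -U ![a, b, a * (b * c), a * (b * d), a * (b * (c * d))] t := by
      rcases hw₂ with rfl | rfl | rfl | rfl <;> rcases hw₁ with rfl | rfl | rfl | rfl
      · exact ⟨Sum.inl (), Or.inl (by simp [U])⟩
      · exact ⟨Sum.inr (Sum.inl 0), Or.inl (by simp [U])⟩
      · exact ⟨Sum.inr (Sum.inl 1), Or.inl (by simp [U])⟩
      · exact ⟨Sum.inr (Sum.inr ⟨(0, 1), by decide⟩), Or.inl (by simp [U])⟩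
      · exact ⟨Sum.inr (Sum.inr ⟨(3, 4), by decide⟩), Or.inr (by
          simp [U, mul_assoc, ha2, hb2, hc2, hd2, hba, hca, hcb, hda, hdb, hdc, l ha2, l hb2, l hc2, l hd2, l hba,
            l hca, l hcb, l hda, l hdb, l hdc])⟩
      · exact ⟨Sum.inr (Sum.inr ⟨(1, 2), by decide⟩), Or.inr (by
          simp [U, mul_assoc, ha2, hb2, hc2, hd2, hba, hca, hcb, hda, hdb, hdc, l ha2, l hb2, l hc2, l hd2, l hba,
            l hca, l hcb, l hda, l hdb, l hdc])⟩
      · exact ⟨Sum.inr (Sum.inr ⟨(0, 2), by decide⟩), Or.inl (by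
          simp [U, mul_assoc, ha2, hb2, hc2, hd2, hba, hca, hcb, hda, hdb, hdc, l ha2, l hb2, l hc2, l hd2, l hba,
            l hca, l hcb, l hda, l hdb, l hdc])⟩
      · exact ⟨Sum.inr (Sum.inl 2), Or.inl (by
          simp [U, mul_assoc, ha2, hb2, hc2, hd2, hba, hca, hcb, hda, hdb, hdc, l ha2, l hb2, l hc2, l hd2, l hba,
            l hca, l hcb, l hda, l hdb, l hdc])⟩
      · exact ⟨Sum.inr (Sum.inr ⟨(2, 4), by decide⟩), Or.inl (by
          simp [U, mul_assoc, ha2, hb2, hc2, hd2, hba, hca, hcb, hda, hdb, hdc, l ha2, l hb2, l hc2, l hd2, l hba,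
            l hca, l hcb, l hda, l hdb, l hdc])⟩
      · exact ⟨Sum.inr (Sum.inr ⟨(1, 3), by decide⟩), Or.inr (by
          simp [U, mul_assoc, ha2, hb2, hc2, hd2, hba, hca, hcb, hda, hdb, hdc, l ha2, l hb2, l hc2, l hd2, l hba,
            l hca, l hcb, l hda, l hdb, l hdc])⟩
      · exact ⟨Sum.inr (Sum.inr ⟨(0, 3), by decide⟩), Or.inl (by
          simp [U, mul_assoc, ha2, hb2, hc2, hd2, hba, hca, hcb, hda, hdb, hdc, l ha2, l hb2, l hc2, l hd2, l hba,
            l hca, l hcb, l hda, l hdb, l hdc])⟩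
      · exact ⟨Sum.inr (Sum.inl 3), Or.inl (by
          simp [U, mul_assoc, ha2, hb2, hc2, hd2, hba, hca, hcb, hda, hdb, hdc, l ha2, l hb2, l hc2, l hd2, l hba,
            l hca, l hcb, l hda, l hdb, l hdc])⟩
      · exact ⟨Sum.inr (Sum.inr ⟨(2, 3), by decide⟩), Or.inr (by
          simp [U, mul_assoc, ha2, hb2, hc2, hd2, hba, hca, hcb, hda, hdb, hdc, l ha2, l hb2, l hc2, l hd2, l hba,
            l hca, l hcb, l hda, l hdb, l hdc])⟩
      · exact ⟨Sum.inr (Sum.inr ⟨(1, 4), by decide⟩), Or.inr (by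
          simp [U, mul_assoc, ha2, hb2, hc2, hd2, hba, hca, hcb, hda, hdb, hdc, l ha2, l hb2, l hc2, l hd2, l hba,
            l hca, l hcb, l hda, l hdb, l hdc])⟩
      · exact ⟨Sum.inr (Sum.inr ⟨(0, 4), by decide⟩), Or.inl (by
          simp [U, mul_assoc, ha2, hb2, hc2, hd2, hba, hca, hcb, hda, hdb, hdc, l ha2, l hb2, l hc2, l hd2, l hba,
            l hca, l hcb, l hda, l hdb, l hdc])⟩
      · exact ⟨Sum.inr (Sum.inl 4), Or.inl (by
          simp [U, mul_assoc, ha2, hb2, hc2, hd2, hba, hca, hcb, hda, hdb, hdc, l ha2, l hb2, l hc2, l hd2, l hba,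
            l hca, l hcb, l hda, l hdb, l hdc])⟩
    obtain ⟨t, ht⟩ := key
    refine ⟨t, ?_⟩
    rcases hgw with e | e <;> rcases ht with e' | e' <;> simp [e, e']

end CfsgLib.Elusive.PauliMinus
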