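import Cfsg.Agent.Elusive.PauliElements
import Cfsg.Agent.Elusive.PauliCharpoly
import Cfsg.Agent.Geo.USemisimple

/-!
# The group of order 64 inside a four-dimensional unitary group

The group in standard form, the normalising elements up to scalars, and the eigenvalues of unitary
matrices.
-/

set_option autoImplicit false
set_option linter.style.haveILetI false
set_option linter.unusedSectionVars false
open scoped MatrixGroups

namespace CfsgLib.Elusive.Pauli

open Cfsg.Geo Polynomial CfsgLib.Geo.USemi CfsgLib.Unitary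

variable {F : Type*} [Field F]

theorem sym_of_symplectic [Finite F] (R : Subgroup (GL (Fin 4) F)) (h2 : (2 : F) ≠ 0) {i : F} (hi : i * i = -1)
    (hRs : IsSymplecticTypeGroup 2 R) (hRi : ActsAbsolutelyIrreducibly (matrixSet R))
    (hR6 : Nat.card R = 2 ^ 6) (hZ4 : Nat.card (Subgroup.center R) = 4) : Sym R i := by
  classical
  haveI : Finite (GL (Fin 4) F) := inferInstance
  have h4 : ∀ x ∈ R, x ^ 4 = 1 := fun x hx => by
    have h := Monoid.pow_exponent_eq_one (⟨x, hx⟩ : R)
    rw [hRs.exponent_eq] at h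
    exact congrArg Subtype.val h
  have hcomm := CfsgLib.Symp.comm_central_aux (Nat.card R) R rfl hRs.pGroup
    (fun x => Subtype.ext (h4 x.1 x.2)) hRs.cyclic_of_characteristic
  have hM : ∀ M : Matrix (Fin 4) (Fin 4) F,
      (∀ g ∈ R, M * (g : Matrix (Fin 4) (Fin 4) F) = g * M) → ∃ c : F, M = c • 1 := fun M h =>
    hRi.2 M (by rintro _ ⟨g, hg, rfl⟩; exact h g hg)
  have hcent : ∀ z : R, z ∈ Subgroup.center R →
      ∃ c : F, ((z : GL (Fin 4) F) : Matrix (Fin 4) (Fin 4) F) = c • 1 ∧ c ^ 4 = 1 := fun z hz => by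
    obtain ⟨c, hc⟩ := hM (z : GL (Fin 4) F) (fun g hg => by
      have := Subgroup.mem_center_iff.1 hz ⟨g, hg⟩
      exact (congrArg (fun u : R => ((u : GL (Fin 4) F) : Matrix (Fin 4) (Fin 4) F)) this).symm)
    refine ⟨c, hc, ?_⟩
    have h := congrArg (fun u : GL (Fin 4) F => (u : Matrix (Fin 4) (Fin 4) F) 0 0) (h4 z z.2)
    simp only [Units.val_pow_eq_pow_val, hc, _root_.smul_pow, one_pow, Matrix.smul_apply, Units.val_one,
      Matrix.one_apply_eq, smul_eq_mul, mul_one] at h
    exact h
  refine ⟨h2, hi, hM, ?_, ?_, hR6, h4⟩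
  · intro c hc
    choose f hf hf4 using fun z : Subgroup.center R => hcent z.1 z.2
    have hinj : Function.Injective f := fun a b e => Subtype.ext (Subtype.ext (Units.ext (by rw [hf, hf, e])))
    let S : Finset F := (nthRoots 4 (1 : F)).toFinset
    have hS : S.card ≤ 4 := (Multiset.toFinset_card_le _).trans (card_nthRoots 4 1)
    haveI : Fintype (Subgroup.center R) := Fintype.ofFinite _
    have himg : Finset.univ.image f = S := by
      refine Finset.eq_of_subset_of_card_le ?_ ?_
      · intro y hy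
        obtain ⟨z, -, rfl⟩ := Finset.mem_image.1 hy
        exact Multiset.mem_toFinset.2 ((mem_nthRoots (by norm_num)).2 (hf4 z))
      · rw [Finset.card_image_of_injective _ hinj, Finset.card_univ, ← Nat.card_eq_fintype_card, hZ4]
        exact hS
    have hmem : c ∈ Finset.univ.image f := by
      rw [himg]; exact Multiset.mem_toFinset.2 ((mem_nthRoots (by norm_num)).2 hc)
    obtain ⟨z, -, rfl⟩ := Finset.mem_image.1 hmem
    exact ⟨_, z.1.2, hf z⟩
  · intro x hx y hy
    obtain ⟨hz, hzz⟩ := hcomm ⟨x, hx⟩ ⟨y, hy⟩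
    obtain ⟨c, hc, -⟩ := hcent _ hz
    have hxy : (x : Matrix (Fin 4) (Fin 4) F) * y = c • ((y : Matrix (Fin 4) (Fin 4) F) * x) := by
      rw [← one_mul ((y : Matrix (Fin 4) (Fin 4) F) * x), ← smul_mul_assoc, ← hc, ← Units.val_mul,
        ← Units.val_mul, ← Units.val_mul]
      refine congrArg Units.val ?_
      show x * y = x * y * x⁻¹ * y⁻¹ * (y * x)
      group
    have hc2 : c * c = 1 := by
      have h := congrArg (fun u : R => ((u : GL (Fin 4) F) : Matrix (Fin 4) (Fin 4) F) 0 0) hzz
      simp only [Subgroup.coe_mul, Units.val_mul] at h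
      simp only [Subgroup.coe_mul, Units.val_mul] at hc
      rw [hc] at h
      simpa using h
    rcases mul_self_eq_one_iff.1 hc2 with rfl | rfl
    · exact Or.inl (by rw [hxy, one_smul])
    · exact Or.inr (by rw [hxy, neg_one_smul])

/-- Undoing the change to standard form. -/
theorem conj_mem_normalizer {R : Subgroup (GL (Fin 4) F)} {P T : GL (Fin 4) F}
    (hT : T ∈ Subgroup.normalizer
      ((R.map (MulAut.conj P⁻¹).toMonoidHom : Subgroup (GL (Fin 4) F)) : Set (GL (Fin 4) F))) :
    P * T * P⁻¹ ∈ Subgroup.normalizer (R : Set (GL (Fin 4) F)) := by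
  rw [Subgroup.mem_normalizer_iff]
  intro w
  have h2 := Subgroup.mem_normalizer_iff.1 hT (P⁻¹ * w * P)
  have hmem : ∀ v, v ∈ R.map (MulAut.conj P⁻¹).toMonoidHom ↔ P * v * P⁻¹ ∈ R := fun v => by
    constructor
    · rintro ⟨u, hu, rfl⟩
      simpa [mul_assoc] using hu
    · intro hv
      exact ⟨_, hv, by simp [mul_assoc]⟩
  rw [hmem, hmem] at h2
  simpa [mul_assoc] using h2

variable [Fintype F] {p : ℕ} [Fact p.Prime] [CharP F p] (hK : Nat.card F = p ^ 2)

local notation "σ'" => CfsgLib.Forms.frobQ hK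

include hK
/-- A matrix normalising an absolutely irreducible unitary group is unitary up to a factor. -/
theorem Sym.adj_mul_self {R : Subgroup (GL (Fin 4) F)} {i : F} (hS : Sym R i) (hRU : R ≤ Cfsg.GU 4 F p)
    {y : GL (Fin 4) F} (hy : y ∈ Subgroup.normalizer (R : Set (GL (Fin 4) F))) :
    ∃ c : F, c ≠ 0 ∧ adj σ' (y : Matrix (Fin 4) (Fin 4) F) * y = c • 1 := by
  obtain ⟨c, hc⟩ := hS.commutant (adj σ' (y : Matrix (Fin 4) (Fin 4) F) * y) fun g hg => by
    have hu := (mem_GU_iff_adj hK).1 (hRU hg)
    have h1 : y * g * y⁻¹ ∈ R := (Subgroup.mem_normalizer_iff.1 hy g).1 hg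
    have hu' := (mem_GU_iff_adj hK).1 (hRU h1)
    set A := (y : Matrix (Fin 4) (Fin 4) F)
    set B := ((y * g * y⁻¹ : GL (Fin 4) F) : Matrix (Fin 4) (Fin 4) F)
    set G := (g : Matrix (Fin 4) (Fin 4) F)
    have hBA : B * A = A * G := by
      show _ * (y : Matrix (Fin 4) (Fin 4) F) = (y : Matrix (Fin 4) (Fin 4) F) * g
      rw [← Units.val_mul, ← Units.val_mul]; congr 1; group
    have h2 : adj σ' G * (adj σ' A * A) * G = adj σ' A * A := by
      calc adj σ' G * (adj σ' A * A) * G = adj σ' (A * G) * (A * G) := by rw [adj_mul]; simp only [mul_assoc]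
        _ = adj σ' A * (adj σ' B * B) * A := by rw [← hBA, adj_mul]; simp only [mul_assoc]
        _ = adj σ' A * A := by rw [hu', mul_one]
    have h3 : G * adj σ' G = 1 := mul_eq_one_comm.1 hu
    calc adj σ' A * A * G = G * adj σ' G * (adj σ' A * A) * G := by rw [h3, one_mul]
      _ = G * (adj σ' G * (adj σ' A * A) * G) := by simp only [mul_assoc]
      _ = G * (adj σ' A * A) := by rw [h2]
  refine ⟨c, fun h0 => ?_, hc⟩
  rw [h0, zero_smul] at hc
  have h1 := congrArg (fun M => M * ((y⁻¹ : GL (Fin 4) F) : Matrix (Fin 4) (Fin 4) F)) hc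
  simp only [Units.mul_inv_cancel_right, zero_mul] at h1
  have := congrArg (adj σ') h1
  rw [adj_adj (CfsgLib.Forms.frobQ_invol hK)] at this
  exact y.ne_zero (this.trans (by ext a b; simp [adj]))

/-- The eigenvalues of a unitary matrix of order dividing `r`. -/
theorem roots_unitary {g : GL (Fin 4) F} (hg : g ∈ Cfsg.GU 4 F p) {r : ℕ} (hr : 0 < r) (hgr : g ^ r = 1) :
    ((g : Matrix (Fin 4) (Fin 4) F).map (algebraMap F (AlgebraicClosure F))).charpoly.roots.map
        (fun l => l ^ ((r - 1) * p)) =
      ((g : Matrix (Fin 4) (Fin 4) F).map (algebraMap F (AlgebraicClosure F))).charpoly.roots := by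
  classical
  let K := AlgebraicClosure F
  let alg : F →+* K := algebraMap F K
  set χ := (g : Matrix (Fin 4) (Fin 4) F).charpoly with hχ
  set M := (g : Matrix (Fin 4) (Fin 4) F).map alg with hM
  set L := M.charpoly.roots with hL
  have hMr : M ^ r = 1 := by
    rw [hM, show (g : Matrix (Fin 4) (Fin 4) F).map alg = alg.mapMatrix (g : Matrix (Fin 4) (Fin 4) F) from rfl,
      ← map_pow, ← Units.val_pow_eq_pow_val, hgr, Units.val_one, map_one]
  have hLr : ∀ l ∈ L, l ^ r = 1 := fun l hl => by
    exact SubField.root_pow_eq_one M hMr hl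
  haveI : CharP K p := charP_of_injective_algebraMap alg.injective p
  haveI : ExpChar K p := ExpChar.prime Fact.out
  have hσ : alg.comp σ' = (frobenius K p).comp alg := RingHom.ext fun a => by
    rw [RingHom.comp_apply, RingHom.comp_apply, CfsgLib.Forms.frobQ_apply, map_pow, frobenius_def]
  have hsplit : M.charpoly = (L.map fun l => X - C l).prod :=
    (IsAlgClosed.splits M.charpoly).eq_prod_roots_of_monic (Matrix.charpoly_monic M)
  have hMχ : M.charpoly = χ.map alg := Matrix.charpoly_map _ _
  have hdual : dual σ' χ = χ := dual_charpoly_eq hK hg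
  have hrev : ∀ f : F[X], f.reverse.map alg = (f.map alg).reverse := fun f => by
    ext n
    rw [coeff_map, coeff_reverse, coeff_reverse, coeff_map, natDegree_map_eq_of_injective alg.injective]
  have hroots : ∀ S : Multiset K, (∀ w ∈ S, w ≠ 0) →
      (S.map fun w => X - C w).prod.reverse.roots = S.map fun w => w⁻¹ := by
    intro S hS
    induction S using Multiset.induction_on with
    | empty => rw [Multiset.map_zero, Multiset.prod_zero, ← C_1, reverse_C, roots_C, Multiset.map_zero]
    | cons w S ih =>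
      have hw := hS w (Multiset.mem_cons_self w S)
      have h1 : (X - C w).reverse = C (-w) * (X - C w⁻¹) := by
        rw [Polynomial.reverse, natDegree_X_sub_C, mul_sub, ← C_mul, neg_mul, mul_inv_cancel₀ hw, reflect_sub,
          show (X : K[X]) = C 1 * X ^ 1 by simp, reflect_C_mul_X_pow, reflect_C, revAt_le le_rfl]
        simp
        ring
      have hne : (S.map fun w => X - C w).prod.reverse ≠ 0 := by
        rw [Ne, reverse_eq_zero]
        exact (monic_multiset_prod_of_monic _ _ fun w _ => monic_X_sub_C w).ne_zero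
      rw [Multiset.map_cons, Multiset.prod_cons, reverse_mul_of_domain, Multiset.map_cons, h1,
        roots_mul (mul_ne_zero (mul_ne_zero (by simpa using hw) (X_sub_C_ne_zero _)) hne),
        roots_C_mul _ (by simpa using hw), roots_X_sub_C, ih fun v hv => hS v (Multiset.mem_cons_of_mem hv)]
      rfl
  have h2 : (dual σ' χ).map alg = C (alg (σ' (χ.coeff 0))⁻¹) * ((L.map fun l => X - C (frobenius K p l)).prod).reverse := by
    rw [dual, Polynomial.map_mul, map_C, hrev, Polynomial.map_map, hσ, ← Polynomial.map_map, ← hMχ, hsplit,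
      Polynomial.map_multiset_prod, Multiset.map_map]
    congr 3
    exact Multiset.map_congr rfl fun l _ => by simp
  rw [hdual, ← hMχ] at h2
  have h3 := congrArg Polynomial.roots h2
  have hc : alg (σ' (χ.coeff 0))⁻¹ ≠ 0 := by
    rw [_root_.map_ne_zero]
    exact inv_ne_zero ((_root_.map_ne_zero _).2 (CfsgLib.GLClass.coeff_zero_charpoly_gl g))
  have hl0 : ∀ l ∈ L, l ≠ 0 := fun l hl e => by
    have := hLr l hl
    rw [e, zero_pow (by omega)] at this
    exact zero_ne_one this
  rw [roots_C_mul _ hc, show (L.map fun l => X - C (frobenius K p l)) =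
      ((L.map (frobenius K p)).map fun w => X - C w) by rw [Multiset.map_map]; rfl,
    hroots _ (fun w hw => by
      obtain ⟨l, hl, rfl⟩ := Multiset.mem_map.1 hw
      rw [_root_.map_ne_zero]; exact hl0 l hl), Multiset.map_map] at h3
  refine Eq.trans (Multiset.map_congr rfl fun l hl => ?_) h3.symm
  rw [Function.comp_apply, frobenius_def]
  refine (inv_eq_of_mul_eq_one_left ?_).symm
  rw [← pow_add, show (r - 1) * p + p = r * p by
    obtain ⟨k, rfl⟩ := Nat.exists_eq_add_of_le (show 1 ≤ r from hr)
    rw [Nat.add_sub_cancel_left]; ring, pow_mul, hLr l hl, one_pow]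

end CfsgLib.Elusive.Pauli
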