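import Mathlib.LinearAlgebra.BilinearForm.Properties
import Mathlib.LinearAlgebra.Dimension.Constructions
import Mathlib.LinearAlgebra.FiniteDimensional.Basic
import Mathlib.Algebra.CharP.Two
import Mathlib.Tactic

/-! Orthogonal planes permuted by an isometry of order two, and their grouping into blocks of equal size. -/

set_option autoImplicit false

namespace CfsgLib.Elusive

open Module Finset

variable {F V : Type*} [Field F] [AddCommGroup V] [Module F V]

/-- Orthogonal hyperbolic planes `⟨u s, w s⟩` permuted by `g` according to the involution `π`. -/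
structure IsPlaneSys (B : LinearMap.BilinForm F V) (g : V →ₗ[F] V) {ι : Type*} (π : ι → ι) (u w : ι → V) : Prop where
  uu : ∀ i j, B (u i) (u j) = 0
  ww : ∀ i j, B (w i) (w j) = 0
  uw : ∀ i j, i ≠ j → B (u i) (w j) = 0
  nz : ∀ i, B (u i) (w i) ≠ 0
  invol : ∀ i, π (π i) = i
  act : ∀ i, g (u i) ∈ Submodule.span F {u (π i), w (π i)} ∧ g (w i) ∈ Submodule.span F {u (π i), w (π i)}

section Independent

variable {B : LinearMap.BilinForm F V} {g : V →ₗ[F] V} {ι : Type*} {π : ι → ι} {u w : ι → V}

theorem IsPlaneSys.linearIndependent [Fintype ι] (h : IsPlaneSys B g π u w) (hB : ∀ v, B v v = 0) :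
    LinearIndependent F (Sum.elim u w) := by
  classical
  rw [Fintype.linearIndependent_iff]
  intro c hc
  have hskew : ∀ a b, B b a = -B a b := fun a b => by
    have := hB (a + b)
    simp only [map_add, LinearMap.add_apply, hB] at this
    linear_combination this
  simp only [Fintype.sum_sum_type, Sum.elim_inl, Sum.elim_inr] at hc
  rintro (i | i)
  · have h1 := congrArg (fun x => B x (w i)) hc
    simp only [map_add, map_sum, map_smul, LinearMap.add_apply, LinearMap.sum_apply, LinearMap.smul_apply,
      smul_eq_mul, h.ww, mul_zero, Finset.sum_const_zero, add_zero, map_zero, LinearMap.zero_apply] at h1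
    rw [Finset.sum_eq_single i (fun j _ hj => by rw [h.uw j i hj, mul_zero])
      fun hi => absurd (Finset.mem_univ _) hi] at h1
    exact (mul_eq_zero.1 h1).resolve_right (h.nz i)
  · have h1 := congrArg (fun x => B (u i) x) hc
    simp only [map_add, map_sum, map_smul, smul_eq_mul, h.uu, mul_zero, Finset.sum_const_zero, zero_add,
      map_zero] at h1
    rw [Finset.sum_eq_single i (fun j _ hj => by rw [h.uw i j (Ne.symm hj), mul_zero])
      fun hi => absurd (Finset.mem_univ _) hi] at h1
    exact (mul_eq_zero.1 h1).resolve_right (h.nz i)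

end Independent

/-- In characteristic two every isometric involution has a plane system. -/
theorem exists_planeSys_two [CharP F 2] [FiniteDimensional F V] {B : LinearMap.BilinForm F V}
    (hB : ∀ v, B v v = 0) {g : V →ₗ[F] V} (hg : ∀ u v, B (g u) (g v) = B u v) (hgg : ∀ v, g (g v) = v) :
    ∀ (k : ℕ) (T : Submodule F V), finrank F T ≤ k → (∀ v ∈ T, g v ∈ T) →
      (∀ v ∈ T, v ≠ 0 → ∃ v' ∈ T, B v v' ≠ 0) →
      ∃ (ι : Type) (_ : Fintype ι) (π : ι → ι) (u w : ι → V), IsPlaneSys B g π u w ∧
        Submodule.span F (Set.range (Sum.elim u w)) = T := by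
  classical
  have hsym : ∀ a b, B b a = B a b := fun a b => by
    have := hB (a + b)
    simp only [map_add, LinearMap.add_apply, hB] at this
    have h2 : (2 : F) = 0 := CharTwo.two_eq_zero
    linear_combination this - B a b * h2
  have hgs : ∀ a b, B a (g b) = B (g a) b := fun a b => by rw [← hg a (g b), hgg]
  intro k
  induction k with
  | zero =>
    intro T hT _ _
    have : T = ⊥ := Submodule.finrank_eq_zero.1 (Nat.le_zero.1 hT)
    subst this
    exact ⟨Empty, inferInstance, id, Empty.elim, Empty.elim,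
      ⟨fun i => i.elim, fun i => i.elim, fun i => i.elim, fun i => i.elim, fun i => i.elim, fun i => i.elim⟩,
      by simp⟩
  | succ k ih =>
    intro T hTk hinv hnd
    by_cases hbot : T = ⊥
    · subst hbot
      exact ih ⊥ (by simp) hinv hnd
    -- an initial block of planes
    obtain ⟨κ, _, _, ρ, x, y, hsys, hxT, hyT, hone, ⟨i0⟩⟩ : ∃ (κ : Type) (_ : Fintype κ) (_ : DecidableEq κ)
        (ρ : κ → κ) (x y : κ → V),
        IsPlaneSys B g ρ x y ∧ (∀ i, x i ∈ T) ∧ (∀ i, y i ∈ T) ∧ (∀ i, B (x i) (y i) = 1) ∧ Nonempty κ := by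
      by_cases ha : ∃ v ∈ T, B v (g v) ≠ 0
      · obtain ⟨v, hv, hvv⟩ := ha
        refine ⟨Unit, inferInstance, inferInstance, id, fun _ => v, fun _ => (B v (g v))⁻¹ • g v,
          ⟨fun _ _ => hB v, fun _ _ => by simp [hB], fun i j h => absurd rfl h, fun _ => ?_, fun _ => rfl,
            fun _ => ⟨?_, ?_⟩⟩, fun _ => hv, fun _ => T.smul_mem _ (hinv v hv), fun _ => ?_, ⟨()⟩⟩
        · simp [hvv]
        · exact Submodule.mem_span_pair.2 ⟨0, B v (g v), by rw [smul_smul, mul_inv_cancel₀ hvv, one_smul, zero_smul, zero_add]⟩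
        · exact Submodule.mem_span_pair.2 ⟨(B v (g v))⁻¹, 0, by rw [map_smul, hgg, zero_smul, add_zero]⟩
        · simp [hvv]
      · push Not at ha
        by_cases hid : ∀ v ∈ T, g v = v
        · obtain ⟨v, hv, hv0⟩ := Submodule.exists_mem_ne_zero_of_ne_bot hbot
          obtain ⟨b, hb, hvb⟩ := hnd v hv hv0
          refine ⟨Unit, inferInstance, inferInstance, id, fun _ => v, fun _ => (B v b)⁻¹ • b,
            ⟨fun _ _ => hB v, fun _ _ => by simp [hB], fun i j h => absurd rfl h, fun _ => ?_, fun _ => rfl,
              fun _ => ⟨?_, ?_⟩⟩, fun _ => hv, fun _ => T.smul_mem _ hb, fun _ => ?_, ⟨()⟩⟩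
          · simp [hvb]
          · rw [hid v hv]; exact Submodule.subset_span (by simp)
          · rw [hid _ (T.smul_mem _ hb)]; exact Submodule.subset_span (by simp)
          · simp [hvb]
        · push Not at hid
          obtain ⟨v, hv, hgv⟩ := hid
          obtain ⟨b, hb, hvb⟩ := hnd (v + g v) (T.add_mem hv (hinv v hv)) fun e => by
            exact hgv (by rw [eq_neg_of_add_eq_zero_right e, ← neg_one_smul F v, CharTwo.neg_eq, one_smul])
          set w₀ := (B (v + g v) b)⁻¹ • b with hw₀
          have hw₀T : w₀ ∈ T := T.smul_mem _ hb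
          have h1 : B v w₀ + B (g v) w₀ = 1 := by
            rw [← LinearMap.add_apply, ← map_add, hw₀, map_smul, smul_eq_mul, inv_mul_cancel₀ hvb]
          set w := w₀ + (1 + B v w₀) • (w₀ + g w₀) with hw
          have hwT : w ∈ T := T.add_mem hw₀T (T.smul_mem _ (T.add_mem hw₀T (hinv _ hw₀T)))
          have h2 : (2 : F) = 0 := CharTwo.two_eq_zero
          have hvw : B v w = 1 := by
            simp only [hw, map_add, map_smul, smul_eq_mul, hgs v w₀]
            linear_combination (1 + B v w₀) * h1 + B v w₀ * h2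
          have hgvw : B (g v) w = 0 := by
            simp only [hw, map_add, map_smul, smul_eq_mul, hg]
            linear_combination (1 + (1 + B v w₀)) * h1 + h2
          have hvgw : B v (g w) = 0 := by rw [hgs, hgvw]
          refine ⟨Bool, inferInstance, inferInstance, not, fun i => if i then g v else v,
            fun i => if i then g w else w,
            ⟨?_, ?_, ?_, ?_, Bool.not_not, ?_⟩, ?_, ?_, ?_, ⟨false⟩⟩
          · intro i j; cases i <;> cases j <;> simp [hB, ha v hv, (hsym v (g v)).trans (ha v hv)]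
          · intro i j; cases i <;> cases j <;> simp [hB, ha w hwT, (hsym w (g w)).trans (ha w hwT)]
          · intro i j h; cases i <;> cases j <;> first | exact absurd rfl h | simp [hvgw, hgvw]
          · intro i; cases i <;> simp [hvw, hg]
          · intro i
            cases i
            · exact ⟨Submodule.subset_span (by simp), Submodule.subset_span (by simp)⟩
            · exact ⟨Submodule.subset_span (by simp [hgg]), Submodule.subset_span (by simp [hgg])⟩
          · intro i; cases i <;> simp [hv, hinv v hv]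
          · intro i; cases i <;> simp [hwT, hinv w hwT]
          · intro i; cases i <;> simp [hvw, hg]
    let S : Submodule F V := Submodule.span F (Set.range (Sum.elim x y))
    let T' : Submodule F V := T ⊓ ⨅ s : κ ⊕ κ, LinearMap.ker (B.flip (Sum.elim x y s))
    have hmem : ∀ v, v ∈ T' ↔ v ∈ T ∧ ∀ s, B v (Sum.elim x y s) = 0 := fun v => by
      simp [T', Submodule.mem_iInf]
    have horth : ∀ v, (∀ s, B v (Sum.elim x y s) = 0) → ∀ a ∈ S, B v a = 0 := fun v hv a ha => by
      obtain ⟨c, rfl⟩ := (Submodule.mem_span_range_iff_exists_fun F).1 ha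
      rw [map_sum]
      exact Finset.sum_eq_zero fun i _ => by rw [map_smul, hv i, smul_zero]
    have hgS : ∀ a ∈ S, g a ∈ S := by
      intro a ha
      have hle : S.map g ≤ S := by
        rw [Submodule.map_span, Submodule.span_le]
        have hsub : ∀ i, Submodule.span F {x (ρ i), y (ρ i)} ≤ S := fun i => Submodule.span_mono (by
          rintro _ (rfl | rfl)
          · exact ⟨Sum.inl (ρ i), rfl⟩
          · exact ⟨Sum.inr (ρ i), rfl⟩)
        rintro _ ⟨_, ⟨i | i, rfl⟩, rfl⟩
        · exact hsub i (hsys.act i).1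
        · exact hsub i (hsys.act i).2
      exact hle ⟨a, ha, rfl⟩
    have hinv' : ∀ v ∈ T', g v ∈ T' := fun v hv => by
      obtain ⟨hvT, hvs⟩ := (hmem v).1 hv
      refine (hmem _).2 ⟨hinv v hvT, fun s => ?_⟩
      rw [← hgs]
      exact horth v hvs _ (hgS _ (Submodule.subset_span ⟨s, rfl⟩))
    have hsplit : ∀ v ∈ T, ∃ a ∈ S, v + a ∈ T' := fun v hv => by
      refine ⟨∑ i, B v (y i) • x i + ∑ i, B v (x i) • y i, ?_, (hmem _).2 ⟨?_, ?_⟩⟩
      · exact S.add_mem (S.sum_mem fun i _ => S.smul_mem _ (Submodule.subset_span ⟨Sum.inl i, rfl⟩))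
          (S.sum_mem fun i _ => S.smul_mem _ (Submodule.subset_span ⟨Sum.inr i, rfl⟩))
      · exact T.add_mem hv (T.add_mem (T.sum_mem fun i _ => T.smul_mem _ (hxT i))
          (T.sum_mem fun i _ => T.smul_mem _ (hyT i)))
      · rintro (j | j)
        · simp only [Sum.elim_inl, map_add, map_sum, map_smul, LinearMap.add_apply, LinearMap.sum_apply,
            LinearMap.smul_apply, smul_eq_mul, hsys.uu, mul_zero, Finset.sum_const_zero, zero_add]
          rw [Finset.sum_eq_single j (fun i _ hi => by rw [hsym (x j) (y i), hsys.uw j i (Ne.symm hi), mul_zero])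
            fun h => absurd (Finset.mem_univ _) h, hsym (x j) (y j), hone, mul_one, CharTwo.add_self_eq_zero]
        · simp only [Sum.elim_inr, map_add, map_sum, map_smul, LinearMap.add_apply, LinearMap.sum_apply,
            LinearMap.smul_apply, smul_eq_mul, hsys.ww, mul_zero, Finset.sum_const_zero, add_zero]
          rw [Finset.sum_eq_single j (fun i _ hi => by rw [hsys.uw i j hi, mul_zero])
            fun h => absurd (Finset.mem_univ _) h, hone, mul_one, CharTwo.add_self_eq_zero]
    have hST : S ≤ T := Submodule.span_le.2 (by rintro _ ⟨i | i, rfl⟩ <;> simp [hxT, hyT])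
    have hnd' : ∀ v ∈ T', v ≠ 0 → ∃ v' ∈ T', B v v' ≠ 0 := fun v hv hv0 => by
      obtain ⟨hvT, hvs⟩ := (hmem v).1 hv
      obtain ⟨b, hb, hvb⟩ := hnd v hvT hv0
      obtain ⟨a, ha, hab⟩ := hsplit b hb
      exact ⟨_, hab, by rw [map_add, horth v hvs a ha, add_zero]; exact hvb⟩
    have hlt : T' < T := SetLike.lt_iff_le_and_exists.2 ⟨inf_le_left, x i0, hxT i0, fun h => by
      have := ((hmem _).1 h).2 (Sum.inr i0)
      rw [Sum.elim_inr, hone] at this
      exact one_ne_zero this⟩
    obtain ⟨ι, _, π, u, w, hrest, hsp⟩ :=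
      ih T' (by have := Submodule.finrank_lt_finrank_of_lt hlt; omega) hinv' hnd'
    have hu : ∀ i s, B (u i) (Sum.elim x y s) = 0 := fun i =>
      ((hmem _).1 (hsp ▸ Submodule.subset_span ⟨Sum.inl i, rfl⟩)).2
    have hw : ∀ i s, B (w i) (Sum.elim x y s) = 0 := fun i =>
      ((hmem _).1 (hsp ▸ Submodule.subset_span ⟨Sum.inr i, rfl⟩)).2
    refine ⟨κ ⊕ ι, inferInstance, Sum.map ρ π, Sum.elim x u, Sum.elim y w, ⟨?_, ?_, ?_, ?_, ?_, ?_⟩, ?_⟩
    · rintro (i | i) (j | j)
      · exact hsys.uu i j
      · exact (hsym _ _).trans (hu j (Sum.inl i))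
      · exact hu i (Sum.inl j)
      · exact hrest.uu i j
    · rintro (i | i) (j | j)
      · exact hsys.ww i j
      · exact (hsym _ _).trans (hw j (Sum.inr i))
      · exact hw i (Sum.inr j)
      · exact hrest.ww i j
    · rintro (i | i) (j | j) hij
      · exact hsys.uw i j fun e => hij (congrArg Sum.inl e)
      · exact (hsym _ _).trans (hw j (Sum.inl i))
      · exact hu i (Sum.inr j)
      · exact hrest.uw i j fun e => hij (congrArg Sum.inr e)
    · rintro (i | i)
      · exact hsys.nz i
      · exact hrest.nz i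
    · rintro (i | i)
      · exact congrArg Sum.inl (hsys.invol i)
      · exact congrArg Sum.inr (hrest.invol i)
    · rintro (i | i)
      · exact hsys.act i
      · exact hrest.act i
    · refine le_antisymm (Submodule.span_le.2 ?_) fun v hv => ?_
      · rintro _ ⟨(i | i) | (i | i), rfl⟩
        · exact hxT i
        · exact hlt.le (hsp ▸ Submodule.subset_span ⟨Sum.inl i, rfl⟩)
        · exact hyT i
        · exact hlt.le (hsp ▸ Submodule.subset_span ⟨Sum.inr i, rfl⟩)
      · set R := Submodule.span F (Set.range (Sum.elim (Sum.elim x u) (Sum.elim y w)))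
        have hS : S ≤ R := Submodule.span_mono (by
          rintro _ ⟨i | i, rfl⟩
          · exact ⟨Sum.inl (Sum.inl i), rfl⟩
          · exact ⟨Sum.inr (Sum.inl i), rfl⟩)
        have hT' : T' ≤ R := hsp ▸ Submodule.span_mono (by
          rintro _ ⟨i | i, rfl⟩
          · exact ⟨Sum.inl (Sum.inr i), rfl⟩
          · exact ⟨Sum.inr (Sum.inr i), rfl⟩)
        obtain ⟨a, ha, hab⟩ := hsplit v hv
        simpa using R.sub_mem (hT' hab) (hS ha)

section Blocks

variable {α : Type*} [DecidableEq α] (π : α → α)

theorem exists_inv_subset (hπ : ∀ i, π (π i) = i) : ∀ (h : ℕ) (S : Finset α), (∀ i ∈ S, π i ∈ S) → h ≤ S.card →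
    (Even h ∨ ∃ i ∈ S, π i = i) → ∃ X ⊆ S, X.card = h ∧ ∀ i ∈ X, π i ∈ X := by
  intro h
  induction h using Nat.strong_induction_on with
  | _ h ih =>
    intro S hS hh hpar
    by_cases hall : ∀ i ∈ S, π i = i
    · obtain ⟨X, hX, hXc⟩ := Finset.exists_subset_card_eq hh
      exact ⟨X, hX, hXc, fun i hi => by rwa [hall i (hX hi)]⟩
    push Not at hall
    obtain ⟨s, hs, hps⟩ := hall
    rcases h with _ | _ | h
    · exact ⟨∅, Finset.empty_subset _, rfl, by simp⟩
    · obtain ⟨i, hi, hfix⟩ := hpar.resolve_left (by simp)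
      exact ⟨{i}, by simpa using hi, rfl, by simp [hfix]⟩
    · have hsub : ({s, π s} : Finset α) ⊆ S := by simp [Finset.insert_subset_iff, hs, hS s hs]
      have hc : ({s, π s} : Finset α).card = 2 := Finset.card_pair (Ne.symm hps)
      obtain ⟨X, hX, hXc, hXi⟩ := ih h (by omega) (S \ {s, π s}) (fun i hi => by
        simp only [Finset.mem_sdiff, Finset.mem_insert, Finset.mem_singleton, not_or] at hi ⊢
        exact ⟨hS i hi.1, fun e => hi.2.2 (by rw [← e, hπ]), fun e => hi.2.1 (by
          have := congrArg π e; rwa [hπ, hπ] at this)⟩)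
        (by rw [Finset.card_sdiff_of_subset hsub, hc]; omega) (by
        rcases hpar with he | ⟨i, hi, hfix⟩
        · exact Or.inl (by simpa [Nat.even_add_one] using he)
        · refine Or.inr ⟨i, ?_, hfix⟩
          simp only [Finset.mem_sdiff, Finset.mem_insert, Finset.mem_singleton, not_or]
          refine ⟨hi, fun e => hps (e ▸ hfix), fun e => hps ?_⟩
          subst e
          rw [hπ] at hfix
          exact hfix.symm)
      refine ⟨X ∪ {s, π s}, Finset.union_subset (hX.trans Finset.sdiff_subset) hsub, ?_, ?_⟩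
      · rw [Finset.card_union_of_disjoint, hXc, hc]
        exact Finset.disjoint_left.2 fun i hi hi' => (Finset.mem_sdiff.1 (hX hi)).2 hi'
      · intro i hi
        simp only [Finset.mem_union, Finset.mem_insert, Finset.mem_singleton] at hi ⊢
        rcases hi with hi | rfl | rfl
        · exact Or.inl (hXi i hi)
        · exact Or.inr (Or.inr rfl)
        · exact Or.inr (Or.inl (hπ s))

theorem exists_free_subset (hπ : ∀ i, π (π i) = i) : ∀ (h : ℕ) (S : Finset α), (∀ i ∈ S, π i ∈ S) →
    (∀ i ∈ S, π i ≠ i) → 2 * h ≤ S.card → ∃ X ⊆ S, X.card = h ∧ ∀ i ∈ X, π i ∉ X := by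
  intro h
  induction h with
  | zero => exact fun S _ _ _ => ⟨∅, Finset.empty_subset _, rfl, by simp⟩
  | succ h ih =>
    intro S hS hfree hh
    obtain ⟨s, hs⟩ := Finset.card_pos.1 (show 0 < S.card by omega)
    have hsub : ({s, π s} : Finset α) ⊆ S := by simp [Finset.insert_subset_iff, hs, hS s hs]
    have hc : ({s, π s} : Finset α).card = 2 := Finset.card_pair (Ne.symm (hfree s hs))
    obtain ⟨X, hX, hXc, hXi⟩ := ih (S \ {s, π s}) (fun i hi => by
      simp only [Finset.mem_sdiff, Finset.mem_insert, Finset.mem_singleton, not_or] at hi ⊢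
      exact ⟨hS i hi.1, fun e => hi.2.2 (by rw [← e, hπ]), fun e => hi.2.1 (by
        have := congrArg π e; rwa [hπ, hπ] at this)⟩)
      (fun i hi => hfree i (Finset.sdiff_subset hi)) (by rw [Finset.card_sdiff_of_subset hsub, hc]; omega)
    have hnot : ∀ i ∈ X, i ≠ s ∧ i ≠ π s := fun i hi => by
      simpa using (Finset.mem_sdiff.1 (hX hi)).2
    refine ⟨insert s X, Finset.insert_subset_iff.2 ⟨hs, hX.trans Finset.sdiff_subset⟩, ?_, ?_⟩
    · rw [Finset.card_insert_of_notMem fun hi => (hnot s hi).1 rfl, hXc]
    · intro i hi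
      rcases Finset.mem_insert.1 hi with rfl | hi
      · simp only [Finset.mem_insert, not_or]
        exact ⟨hfree i hs, fun h' => (hnot _ h').2 rfl⟩
      · simp only [Finset.mem_insert, not_or]
        exact ⟨fun e => (hnot i hi).2 (by rw [← e, hπ]), hXi i hi⟩

/-- Split a set with an involution into blocks of equal size that the involution permutes. -/
theorem exists_blocks (hπ : ∀ i, π (π i) = i) {h : ℕ} (hpos : 0 < h) :
    ∀ (t : ℕ) (S : Finset α), (∀ i ∈ S, π i ∈ S) → S.card = h * t →
      ∃ (φ : α → ℕ) (σ : ℕ → ℕ), (∀ i ∈ S, φ i < t) ∧ (∀ j < t, (S.filter fun i => φ i = j).card = h) ∧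
        ∀ i ∈ S, φ (π i) = σ (φ i) := by
  intro t
  induction t using Nat.strong_induction_on with
  | _ t ih =>
    intro S hS hc
    rcases t with _ | t
    · rw [Nat.mul_zero, Finset.card_eq_zero] at hc
      subst hc
      exact ⟨fun _ => 0, id, by simp, by omega, by simp⟩
    have hle : h ≤ S.card := by rw [hc]; exact Nat.le_mul_of_pos_right h (Nat.succ_pos t)
    by_cases hcase : Even h ∨ ∃ i ∈ S, π i = i
    · obtain ⟨X, hX, hXc, hXi⟩ := exists_inv_subset π hπ h S hS hle hcase
      have hinvc : ∀ i ∈ S \ X, π i ∈ S \ X := fun i hi => by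
        rw [Finset.mem_sdiff] at hi ⊢
        exact ⟨hS i hi.1, fun h' => hi.2 (hπ i ▸ hXi _ h')⟩
      obtain ⟨φ, σ, hφ, hfib, hσ⟩ := ih t (Nat.lt_succ_self t) (S \ X) hinvc
        (by rw [Finset.card_sdiff_of_subset hX, hc, hXc, Nat.mul_succ]; omega)
      refine ⟨fun i => if i ∈ X then t else φ i, Function.update σ t t, fun i hi => ?_, fun j hj => ?_, fun i hi => ?_⟩
      · dsimp only
        split
        · omega
        · have := hφ i (Finset.mem_sdiff.2 ⟨hi, ‹_›⟩); omega
      · by_cases hjt : j = t
        · subst hjt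
          rw [← hXc]
          congr 1
          ext i
          simp only [Finset.mem_filter]
          by_cases hiX : i ∈ X
          · simp [hiX, hX hiX]
          · simp only [hiX, if_false, iff_false, not_and]
            exact fun hi e => by have := hφ i (Finset.mem_sdiff.2 ⟨hi, hiX⟩); omega
        · rw [← hfib j (by omega)]
          congr 1
          ext i
          simp only [Finset.mem_filter, Finset.mem_sdiff]
          by_cases hiX : i ∈ X
          · simp [hiX, Ne.symm hjt]
          · simp [hiX]
      · by_cases hiX : i ∈ X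
        · simp [hiX, hXi i hiX]
        · have h1 := Finset.mem_sdiff.1 (hinvc i (Finset.mem_sdiff.2 ⟨hi, hiX⟩))
          have h2 : φ i ≠ t := by have := hφ i (Finset.mem_sdiff.2 ⟨hi, hiX⟩); omega
          simp [hiX, h1.2, Function.update_of_ne h2, hσ i (Finset.mem_sdiff.2 ⟨hi, hiX⟩)]
    · push Not at hcase
      obtain ⟨hodd, hfree⟩ := hcase
      rw [Nat.not_even_iff_odd] at hodd
      have hev : Even S.card := by
        have hsum : (∑ _i ∈ S, (1 : ZMod 2)) = 0 :=
          Finset.sum_involution (fun i _ => π i) (fun _ _ => by decide) (fun i hi _ => hfree i hi)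
            (fun i hi => hS i hi) fun i _ => hπ i
        rw [Finset.sum_const, nsmul_one, ZMod.natCast_eq_zero_iff] at hsum
        exact even_iff_two_dvd.2 hsum
      rw [hc, Nat.even_mul] at hev
      have htev := hev.resolve_left (Nat.not_even_iff_odd.2 hodd)
      obtain ⟨t, rfl⟩ : ∃ t', t = t' + 1 := ⟨t - 1, by
        rcases t with _ | t
        · simp at htev
        · rfl⟩
      obtain ⟨X, hX, hXc, hXi⟩ := exists_free_subset π hπ h S hS hfree (by rw [hc, Nat.mul_comm h]; gcongr; omega)
      set Y := X ∪ X.image π with hY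
      have hYS : Y ⊆ S := Finset.union_subset hX fun i hi => by
        obtain ⟨j, hj, rfl⟩ := Finset.mem_image.1 hi
        exact hS j (hX hj)
      have himg : ∀ i, i ∈ X.image π ↔ π i ∈ X := fun i =>
        ⟨fun hi => by obtain ⟨j, hj, rfl⟩ := Finset.mem_image.1 hi; rwa [hπ],
          fun hi => Finset.mem_image.2 ⟨π i, hi, hπ i⟩⟩
      have hYc : Y.card = h + h := by
        rw [hY, Finset.card_union_of_disjoint (Finset.disjoint_left.2 fun i hi hi' => hXi i hi ((himg i).1 hi')),
          Finset.card_image_of_injective _ (fun a b e => by rw [← hπ a, e, hπ]), hXc]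
      have hinvc : ∀ i ∈ S \ Y, π i ∈ S \ Y := fun i hi => by
        simp only [Finset.mem_sdiff, hY, Finset.mem_union, himg, not_or, hπ] at hi ⊢
        exact ⟨hS i hi.1, hi.2.2, hi.2.1⟩
      obtain ⟨φ, σ, hφ, hfib, hσ⟩ := ih t (by omega) (S \ Y) hinvc
        (by rw [Finset.card_sdiff_of_subset hYS, hc, hYc, Nat.mul_succ, Nat.mul_succ]; omega)
      refine ⟨fun i => if i ∈ X then t else if π i ∈ X then t + 1 else φ i,
        Function.update (Function.update σ t (t + 1)) (t + 1) t, fun i hi => ?_, fun j hj => ?_, fun i hi => ?_⟩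
      · dsimp only
        split_ifs with h1 h2
        · omega
        · omega
        · have := hφ i (Finset.mem_sdiff.2 ⟨hi, by simp [hY, himg, h1, h2]⟩); omega
      · have hφlt : ∀ i ∈ S, i ∉ X → π i ∉ X → φ i < t := fun i hi h1 h2 =>
          hφ i (Finset.mem_sdiff.2 ⟨hi, by simp [hY, himg, h1, h2]⟩)
        rcases (show j < t ∨ j = t ∨ j = t + 1 by omega) with hjt | rfl | rfl
        · rw [← hfib j hjt]
          congr 1
          ext i
          simp only [Finset.mem_filter, Finset.mem_sdiff, hY, Finset.mem_union, himg]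
          by_cases h1 : i ∈ X
          · simp [h1]; omega
          by_cases h2 : π i ∈ X
          · simp [h1, h2]; omega
          simp [h1, h2]
        · rw [← hXc]
          congr 1
          ext i
          simp only [Finset.mem_filter]
          by_cases h1 : i ∈ X
          · simp [h1, hX h1]
          by_cases h2 : π i ∈ X
          · simp [h1, h2]
          simp only [h1, h2, if_false, iff_false, not_and]
          exact fun hi e => by have := hφlt i hi h1 h2; omega
        · rw [← hXc, ← Finset.card_image_of_injective X (f := π) (fun a b e => by rw [← hπ a, e, hπ])]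
          congr 1
          ext i
          simp only [Finset.mem_filter, himg]
          by_cases h1 : i ∈ X
          · simp [h1, hXi i h1]
          by_cases h2 : π i ∈ X
          · simp [h1, h2]
            exact hπ i ▸ hS _ (hX h2)
          simp only [h1, h2, if_false, iff_false, not_and]
          exact fun hi e => by have := hφlt i hi h1 h2; omega
      · by_cases h1 : i ∈ X
        · simp [h1, hπ, hXi i h1]
        by_cases h2 : π i ∈ X
        · simp [h1, h2]
        have h3 := hσ i (Finset.mem_sdiff.2 ⟨hi, by simp [hY, himg, h1, h2]⟩)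
        have h4 : φ i < t := hφ i (Finset.mem_sdiff.2 ⟨hi, by simp [hY, himg, h1, h2]⟩)
        simp [h1, h2, hπ, h3, Function.update_of_ne (show φ i ≠ t + 1 by omega),
          Function.update_of_ne (show φ i ≠ t by omega)]

end Blocks

end CfsgLib.Elusive
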