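import Cfsg.Agent.Elusive.SympNormal
import Cfsg.Agent.Elusive.Compl
import Cfsg.Agent.Classical.SymplecticBlocks
import Cfsg.Agent.Classical.LinearOrder
import Mathlib.LinearAlgebra.SymplecticGroup

/-! Elements of odd prime order outside every conjugate of a symplectic similitude group. -/

set_option autoImplicit false
set_option linter.unusedSectionVars false

namespace CfsgLib.Elusive

open Module Matrix

variable {F : Type*} [Field F]

theorem diag_class_card_le {ι : Type*} [Fintype ι] [DecidableEq ι] {B : LinearMap.BilinForm F (ι → F)}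
    (hnd : ∀ v, (∀ w, B v w = 0) → v = 0) {d : ι → F} {μ : F}
    (hB : ∀ a b, d a * d b * B (Pi.single a 1) (Pi.single b 1) = μ * B (Pi.single a 1) (Pi.single b 1))
    [DecidableEq F] (α : F) :
    (Finset.univ.filter fun a => d a = α).card ≤ (Finset.univ.filter fun b => α * d b = μ).card := by
  let S := Finset.univ.filter fun a => d a = α
  let T := Finset.univ.filter fun b => α * d b = μ
  let L : (↥S → F) →ₗ[F] (↥T → F) := LinearMap.pi fun b =>
    ∑ a : ↥S, B (Pi.single (a : ι) 1) (Pi.single (b : ι) 1) • LinearMap.proj a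
  have hL : Function.Injective L := by
    rw [injective_iff_map_eq_zero]
    intro c hc
    have hv : (∑ a : ↥S, c a • (Pi.single (a : ι) (1 : F))) = 0 := by
      refine hnd _ fun w => ?_
      rw [← (Pi.basisFun F ι).sum_repr w, map_sum]
      refine Finset.sum_eq_zero fun b _ => ?_
      rw [map_smul, map_sum, LinearMap.sum_apply]
      refine smul_eq_zero_of_right _ ?_
      simp only [Pi.basisFun_apply, map_smul, LinearMap.smul_apply, smul_eq_mul]
      by_cases hb : b ∈ T
      · have := congrFun hc ⟨b, hb⟩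
        simpa [L, mul_comm] using this
      · refine Finset.sum_eq_zero fun a _ => mul_eq_zero_of_right _ ?_
        have ha : d a = α := (Finset.mem_filter.1 a.2).2
        have h := hB a b
        rw [ha] at h
        by_contra h0
        exact hb (Finset.mem_filter.2 ⟨Finset.mem_univ _, mul_right_cancel₀ h0 h⟩)
    funext a
    have := congrFun hv a
    simpa [Finset.sum_apply, Pi.single_apply, Subtype.coe_inj] using this
  have := LinearMap.finrank_le_finrank_of_injective hL
  simpa [Module.finrank_fintype_fun_eq_card] using this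

theorem no_jordan_three {n : ℕ} {B : LinearMap.BilinForm F (Fin n → F)} (hB : ∀ v, B v v = 0)
    (hnd : ∀ v, (∀ w, B v w = 0) → v = 0) {x : (Fin n → F) →ₗ[F] (Fin n → F)}
    (hx : ∀ u v, B (x u) (x v) = B u v) (b : Basis (Fin n) F (Fin n → F)) {i₀ i₁ i₂ : Fin n}
    (h0 : x (b i₀) = b i₀ + b i₁) (h1 : x (b i₁) = b i₁ + b i₂)
    (hfix : ∀ k, k ≠ i₀ → k ≠ i₁ → x (b k) = b k) (h20 : i₂ ≠ i₀) (h21 : i₂ ≠ i₁) : False := by
  have hskew : ∀ a c, B c a = -B a c := fun a c => by
    have := hB (a + c)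
    simp only [map_add, LinearMap.add_apply, hB] at this
    linear_combination this
  have key : ∀ c, x c = c → B c (b i₁) = 0 ∧ B c (b i₂) = 0 := fun c hc => by
    refine ⟨?_, ?_⟩
    · have h := hx c (b i₀)
      rw [hc, h0, map_add] at h
      linear_combination h
    · have h := hx c (b i₁)
      rw [hc, h1, map_add] at h
      linear_combination h
  have hw := hfix i₂ h20 h21
  have h21' : B (b i₂) (b i₁) = 0 := (key _ hw).1
  have h20' : B (b i₂) (b i₀) = 0 := by
    have h := hx (b i₀) (b i₁)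
    rw [h0, h1] at h
    simp only [map_add, LinearMap.add_apply, hB] at h
    rw [hskew (b i₂) (b i₁), h21'] at h
    rw [hskew (b i₀) (b i₂)]
    linear_combination -h
  refine b.ne_zero i₂ (hnd _ fun w => ?_)
  rw [← b.sum_repr w, map_sum]
  refine Finset.sum_eq_zero fun k _ => ?_
  rw [map_smul]
  refine smul_eq_zero_of_right _ ?_
  by_cases hk0 : k = i₀
  · rw [hk0, h20']
  by_cases hk1 : k = i₁
  · rw [hk1, h21']
  · rw [hskew (b k) (b i₂), (key _ (hfix k hk0 hk1)).2, neg_zero]

variable [Fintype F]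

theorem even_mov {n r : ℕ} [Fact r.Prime] (hr : (r : F) ≠ 0) {B : LinearMap.BilinForm F (Fin n → F)}
    (hB : ∀ v, B v v = 0) (hnd : ∀ v, (∀ w, B v w = 0) → v = 0) {x : (Fin n → F) →ₗ[F] (Fin n → F)}
    (hxr : x ^ r = 1) (hx : ∀ u v, B (x u) (x v) = B u v) : Even (finrank F (movS x)) := by
  have hdis : Disjoint (fixS x) (movS x) :=
    Submodule.disjoint_def.2 fun v h1 h2 => disjoint_fix_mov hxr hr h1 h2
  have htop : fixS x ⊔ movS x = ⊤ := by
    refine Submodule.eq_top_of_finrank_eq ?_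
    have h1 := Submodule.finrank_sup_add_finrank_inf_eq (fixS x) (movS x)
    rw [disjoint_iff.1 hdis, finrank_bot] at h1
    have := fix_add_mov (f := x)
    omega
  obtain ⟨m, k, b, -, -, -, h4⟩ := CfsgLib.Forms.exists_symplectic_basis _ (movS x)
    (B.compl₁₂ (movS x).subtype (movS x).subtype) (fun v => hB v) rfl
  have hk : k = 0 := by
    by_contra hne
    refine b.ne_zero (Sum.inr ⟨0, Nat.pos_of_ne_zero hne⟩) (Subtype.ext (hnd _ fun w => ?_))
    obtain ⟨a, ha, c, hc, rfl⟩ := Submodule.mem_sup.1 (htop ▸ Submodule.mem_top : w ∈ fixS x ⊔ movS x)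
    obtain ⟨u, hu⟩ := (b (Sum.inr ⟨0, Nat.pos_of_ne_zero hne⟩)).2
    rw [map_add, ← hu]
    have h1 : B ((x - 1) u) a = 0 := by
      rw [LinearMap.sub_apply, Module.End.one_apply, map_sub, LinearMap.sub_apply, sub_eq_zero]
      conv_lhs => rw [← mem_fixS.1 ha]
      exact hx u a
    have h2 : B ((x - 1) u) c = 0 := by rw [hu]; exact h4 ⟨0, Nat.pos_of_ne_zero hne⟩ ⟨c, hc⟩
    rw [h1, h2, add_zero]
  subst hk
  rw [Module.finrank_eq_card_basis b]
  simp only [Fintype.card_sum, Fintype.card_fin, add_zero]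
  exact ⟨m, rfl⟩

theorem prod_odd_even (f : ℕ → ℕ) (m : ℕ) : ∏ k ∈ Finset.range (2 * m), f k =
    (∏ k ∈ Finset.range m, f (2 * k)) * ∏ k ∈ Finset.range m, f (2 * k + 1) := by
  induction m with
  | zero => simp
  | succ m ih =>
    rw [show 2 * (m + 1) = 2 * m + 1 + 1 by ring, Finset.prod_range_succ, Finset.prod_range_succ, ih,
      Finset.prod_range_succ, Finset.prod_range_succ]
    ring

theorem dvd_of_dvd_similarity_index {p r n : ℕ} [Fact p.Prime] [CharP F p] [hr : Fact r.Prime] (hrp : r ≠ p)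
    {f : (Fin n → F) → (Fin n → F) → F} (hf : Cfsg.Geo.IsSymplecticForm f) (hn0 : 0 < n)
    (hΩ : r ∣ ((Cfsg.Geo.similarityGroup f).comap
      (Matrix.SpecialLinearGroup.toGL : Matrix.SpecialLinearGroup (Fin n) F →* GL (Fin n) F)).index) :
    ∃ k, Odd k ∧ k ≤ n ∧ r ∣ Fintype.card F ^ k - 1 := by
  classical
  obtain ⟨m, c, hnm, hc⟩ := exists_pair_basis hf
  let e : Fin 2 × Fin m ≃ Fin m ⊕ Fin m :=
    { toFun := fun p => if p.1 = 0 then Sum.inl p.2 else Sum.inr p.2
      invFun := Sum.elim (fun i => (0, i)) fun i => (1, i)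
      left_inv := fun p => by obtain ⟨a, i⟩ := p; fin_cases a <;> simp
      right_inv := fun s => by rcases s with i | i <;> simp }
  let b := c.reindex e
  let B : LinearMap.BilinForm F (Fin n → F) := LinearMap.mk₂ F f hf.bilinear.add_left hf.bilinear.smul_left
    (fun x y z => hf.bilinear.add_right x y z) (fun c x y => hf.bilinear.smul_right c x y)
  let B' : LinearMap.BilinForm F (Fin n → F) := LinearMap.mk₂ F
    (fun u v => -CfsgLib.Symp.form (l := Fin m) (b.equivFun u) (b.equivFun v))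
    (fun u u' v => by rw [map_add, CfsgLib.Symp.form_add_left, neg_add])
    (fun a u v => by rw [map_smul, CfsgLib.Symp.form_smul_left, smul_eq_mul, mul_neg])
    (fun u v v' => by rw [map_add, CfsgLib.Symp.form_add_right, neg_add])
    (fun a u v => by rw [map_smul, CfsgLib.Symp.form_smul_right, smul_eq_mul, mul_neg])
  have hBB : B = B' := b.ext fun s => b.ext fun t => by
    have hs : ∀ s, b.equivFun (b s) = Pi.single s (1 : F) := fun s => funext fun t => by
      rw [Module.Basis.equivFun_self, Pi.single_apply]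
      simp [eq_comm]
    show f (b s) (b t) = -CfsgLib.Symp.form (b.equivFun (b s)) (b.equivFun (b t))
    rw [hs, hs]
    rcases s with i | i <;> rcases t with j | j <;>
      simp [b, e, hc, pairForm, CfsgLib.Symp.form_single_inl, CfsgLib.Symp.form_single_inr, Pi.single_apply, eq_comm]
    · split_ifs <;> simp
  let ψ : Matrix (Fin m ⊕ Fin m) (Fin m ⊕ Fin m) F →* Matrix (Fin n) (Fin n) F :=
    ((LinearMap.toMatrixAlgEquiv' : ((Fin n → F) →ₗ[F] (Fin n → F)) ≃ₐ[F] _).toAlgHom.comp
      (Matrix.toLinAlgEquiv b).toAlgHom).toRingHom.toMonoidHom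
  let φ : Matrix.symplecticGroup (Fin m) F →* Matrix.SpecialLinearGroup (Fin n) F :=
    { toFun := fun A => ⟨ψ A.1, by
        show (LinearMap.toMatrix' (Matrix.toLin b b A.1)).det = 1
        rw [LinearMap.det_toMatrix', LinearMap.det_toLin]
        exact SymplecticGroup.det_eq_one A.2⟩
      map_one' := Subtype.ext (map_one ψ)
      map_mul' := fun A C => Subtype.ext (map_mul ψ A.1 C.1) }
  have hφ : Function.Injective φ := fun A C h => Subtype.ext
    ((Matrix.toLinAlgEquiv b).injective (LinearMap.toMatrixAlgEquiv'.injective (congrArg Subtype.val h)))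
  have hle : φ.range ≤ (Cfsg.Geo.similarityGroup f).comap
      (Matrix.SpecialLinearGroup.toGL : Matrix.SpecialLinearGroup (Fin n) F →* GL (Fin n) F) := by
    rintro _ ⟨A, rfl⟩
    refine ⟨1, fun u v => ?_⟩
    have hmul : ∀ u, LinearMap.toMatrix' (Matrix.toLin b b A.1) *ᵥ u = Matrix.toLin b b A.1 u := fun u =>
      LinearMap.toMatrix'_mulVec _ u
    show f (LinearMap.toMatrix' (Matrix.toLin b b A.1) *ᵥ u) (LinearMap.toMatrix' (Matrix.toLin b b A.1) *ᵥ v) = _
    rw [hmul, hmul, Units.val_one, one_mul]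
    show B _ _ = B u v
    rw [hBB]
    show -CfsgLib.Symp.form _ _ = -CfsgLib.Symp.form _ _
    have hrepr : ∀ u, b.equivFun (Matrix.toLin b b A.1 u) = A.1 *ᵥ b.equivFun u := fun u => by
      rw [Matrix.toLin_apply, ← Module.Basis.equivFun_symm_apply, LinearEquiv.apply_symm_apply]
      rfl
    rw [hrepr, hrepr]
    exact congrArg Neg.neg (CfsgLib.Symp.form_smul_smul A _ _)
  have hdvd : r ∣ φ.range.index := hΩ.trans (Subgroup.index_dvd_of_le hle)
  have hmul := φ.range.index_mul_card
  rw [← Nat.card_congr (MonoidHom.ofInjective hφ).toEquiv, CfsgLib.Symp.card_Sp,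
    Nat.card_eq_fintype_card (α := F)] at hmul
  set q := Fintype.card F with hq
  have h1 := CfsgLib.Linear.card_SL_mul (F := F) hq.symm n hn0
  rw [← hmul] at h1
  have hcol : ∀ i : Fin n, q ^ n - q ^ (i : ℕ) = q ^ (i : ℕ) * (q ^ (n - (i : ℕ)) - 1) := fun i => by
    rw [Nat.mul_sub_one, ← pow_add, show (i : ℕ) + (n - i) = n by omega]
  have hrefl : ∏ i : Fin n, (q ^ (n - (i : ℕ)) - 1) = ∏ i ∈ Finset.range (2 * m), (q ^ (i + 1) - 1) := by
    rw [Fin.prod_univ_eq_prod_range (fun i => q ^ (n - i) - 1) n, ← Finset.prod_range_reflect, hnm]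
    exact Finset.prod_congr rfl fun i hi => by
      rw [Finset.mem_range] at hi
      rw [show 2 * m - (2 * m - 1 - i) = i + 1 by omega]
  have hpos : 0 < ∏ i ∈ Finset.range m, (q ^ (2 * (i + 1)) - 1) := Finset.prod_pos fun i _ => by
    have : 1 < q ^ (2 * (i + 1)) := Nat.one_lt_pow (by omega) Fintype.one_lt_card
    omega
  rw [Finset.prod_congr rfl (fun i _ => hcol i), Finset.prod_mul_distrib, hrefl,
    prod_odd_even (fun i => q ^ (i + 1) - 1), ← mul_assoc, ← mul_assoc, ← mul_assoc] at h1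
  have h2 := Nat.eq_of_mul_eq_mul_right hpos (h1.trans (by
    congr 1))
  have h3 : r ∣ (∏ i : Fin n, q ^ (i : ℕ)) * ∏ i ∈ Finset.range m, (q ^ (2 * i + 1) - 1) :=
    h2 ▸ dvd_mul_of_dvd_left (dvd_mul_of_dvd_right hdvd _) _
  rcases hr.out.dvd_mul.1 h3 with h4 | h4
  · obtain ⟨i, -, hi⟩ := (Prime.dvd_finsetProd_iff hr.out.prime _).1 h4
    exact absurd ((ZMod.natCast_eq_zero_iff _ _).2 (hr.out.dvd_of_dvd_pow hi)) (card_ne_zero_mod (F := F) hrp)
  · obtain ⟨i, hi, hi'⟩ := (Prime.dvd_finsetProd_iff hr.out.prime _).1 h4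
    rw [Finset.mem_range] at hi
    exact ⟨2 * i + 1, ⟨i, rfl⟩, by omega, hi'⟩

end CfsgLib.Elusive
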