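import Cfsg.Agent.Elusive.Construct
import Cfsg.Agent.Elusive.Pairs
import Cfsg.Agent.Aschbacher.Basic
import Mathlib.FieldTheory.Finite.Basic
import Mathlib.LinearAlgebra.Eigenspace.Basic

/-! Elements of prime order and the normalisers of Singer cycles in prime dimension. -/

set_option autoImplicit false
set_option linter.unusedSectionVars false

namespace CfsgLib.Elusive

open Module Matrix Cfsg.Geo

variable {F : Type*} [Field F] [Fintype F] {n : ℕ}
variable {K : Subalgebra F (Matrix (Fin n) (Fin n) F)}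

/-- Evaluation at a non-zero vector identifies the field with the space. -/
theorem exists_eval_equiv (hK : IsFieldSubalgebra n K) {w : Fin n → F} (hw : w ≠ 0) :
    ∃ ev : K ≃ₗ[F] (Fin n → F), ∀ a : K, ev a = (a : Matrix (Fin n) (Fin n) F) *ᵥ w := by
  let ev : K →ₗ[F] (Fin n → F) :=
    { toFun := fun k => (k : Matrix (Fin n) (Fin n) F) *ᵥ w
      map_add' := fun a b => by simp [add_mulVec]
      map_smul' := fun c a => by simp [smul_mulVec] }
  have hinj : Function.Injective ev := by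
    rw [injective_iff_map_eq_zero]
    intro k hk
    by_contra h0
    obtain ⟨y, hy, hy1⟩ := hK.inv k.1 k.2 (fun h => h0 (Subtype.ext h))
    have h1 : (y * k.1) *ᵥ w = 0 := by
      rw [← mulVec_mulVec, show k.1 *ᵥ w = 0 from hk, mulVec_zero]
    rw [hK.comm y hy k.1 k.2, hy1, one_mulVec] at h1
    exact hw h1
  exact ⟨LinearEquiv.ofInjectiveOfFinrankEq ev hinj (by rw [hK.finrank_eq, Module.finrank_fin_fun]),
    fun a => rfl⟩

/-- A non-trivial element of the normaliser has at most a line of fixed vectors. -/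
theorem fixed_le_one (hn : n.Prime) (hK : IsFieldSubalgebra n K) {g : GL (Fin n) F}
    (hg : g ∈ subalgebraNormalizer K) (hg1 : g ≠ 1) {w u : Fin n → F} (hw : w ≠ 0)
    (hgw : (g : Matrix (Fin n) (Fin n) F) *ᵥ w = w) (hgu : (g : Matrix (Fin n) (Fin n) F) *ᵥ u = u) :
    ∃ c : F, u = c • w := by
  classical
  have : Nonempty (Fin n) := ⟨⟨0, hn.pos⟩⟩
  obtain ⟨ev, hev⟩ := exists_eval_equiv hK hw
  obtain ⟨a, rfl⟩ := ev.surjective u
  rw [hev] at hgu ⊢
  let S : Subalgebra F (Matrix (Fin n) (Fin n) F) :=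
    K ⊓ Subalgebra.centralizer F {(g : Matrix (Fin n) (Fin n) F)}
  have hmem : ∀ x, x ∈ S ↔ x ∈ K ∧ (g : Matrix (Fin n) (Fin n) F) * x = x * g := fun x => by
    simp [S, Algebra.mem_inf, Subalgebra.mem_centralizer_iff]
  have hginv : ((g⁻¹ : GL (Fin n) F) : Matrix (Fin n) (Fin n) F) *ᵥ w = w := by
    conv_lhs => rw [← hgw]
    rw [mulVec_mulVec, ← Units.val_mul, inv_mul_cancel, Units.val_one, one_mulVec]
  have haS : (a : Matrix (Fin n) (Fin n) F) ∈ S := by
    refine (hmem _).2 ⟨a.2, ?_⟩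
    have hσ := (hg a.1).1 a.2
    have h1 : ev ⟨_, hσ⟩ = ev a := by
      rw [hev, hev]
      show ((g : Matrix (Fin n) (Fin n) F) * a.1 * _) *ᵥ w = _
      rw [← mulVec_mulVec, hginv, ← mulVec_mulVec, hgu]
    have h2 := congrArg (fun x : K => (x : Matrix (Fin n) (Fin n) F) * g) (ev.injective h1)
    simpa [mul_assoc, ← Units.val_mul] using h2
  have hS : IsFieldSubalgebra (finrank F S) S := by
    refine ⟨fun x hx y hy => hK.comm x ((hmem x).1 hx).1 y ((hmem y).1 hy).1, ?_, rfl⟩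
    intro x hx hx0
    obtain ⟨y, hy, hxy⟩ := hK.inv x ((hmem x).1 hx).1 hx0
    refine ⟨y, (hmem y).2 ⟨hy, ?_⟩, hxy⟩
    have hc := ((hmem x).1 hx).2
    have hyx : y * x = 1 := by rw [hK.comm y hy x ((hmem x).1 hx).1, hxy]
    calc (g : Matrix (Fin n) (Fin n) F) * y = y * x * g * y := by rw [hyx, one_mul]
      _ = y * (x * g) * y := by simp only [mul_assoc]
      _ = y * (g * x) * y := by rw [hc]
      _ = y * g * (x * y) := by simp only [mul_assoc]
      _ = y * g := by rw [hxy, mul_one]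
  rcases hn.eq_one_or_self_of_dvd _ (by simpa using CfsgLib.Aschbacher.fieldSubalgebra_dvd hS) with h | h
  · obtain ⟨c, hc⟩ := CfsgLib.Aschbacher.eq_bot_iff_scalar.1 (CfsgLib.Aschbacher.fieldSubalgebra_eq_bot h) _ haS
    exact ⟨c, by rw [hc, smul_mulVec, one_mulVec]⟩
  · exfalso
    have hSK : S = K := Subalgebra.eq_of_le_of_finrank_eq inf_le_left (h.trans hK.finrank_eq.symm)
    refine hg1 (Units.ext ?_)
    refine Matrix.toLin'.injective (LinearMap.ext fun x => ?_)
    obtain ⟨b, rfl⟩ := ev.surjective x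
    have hb := ((hmem b.1).1 (hSK.ge b.2)).2
    rw [Matrix.toLin'_apply, Matrix.toLin'_apply, Units.val_one, one_mulVec, hev, mulVec_mulVec, hb,
      ← mulVec_mulVec, hgw]

/-- The Frobenius automorphism as a linear map normalising the field. -/
theorem exists_frobenius (hn : n.Prime) (hK : IsFieldSubalgebra n K) :
    ∃ h : (Fin n → F) →ₗ[F] (Fin n → F), h ^ n = 1 ∧ h ≠ 1 ∧ (∃ w, w ≠ 0 ∧ h w = w) ∧
      ∀ g : GL (Fin n) F, Matrix.toLin' (g : Matrix (Fin n) (Fin n) F) = h → g ∈ subalgebraNormalizer K := by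
  classical
  have : Nonempty (Fin n) := ⟨⟨0, hn.pos⟩⟩
  have hfield : IsField K :=
    { exists_pair_ne := ⟨0, 1, fun h => by
        have h' := congrArg Subtype.val h
        simp at h'⟩
      mul_comm := fun a b => Subtype.ext (hK.comm a.1 a.2 b.1 b.2)
      mul_inv_cancel := fun {a} ha => by
        obtain ⟨y, hy, hy1⟩ := hK.inv a.1 a.2 (fun h => ha (Subtype.ext h))
        exact ⟨⟨y, hy⟩, Subtype.ext hy1⟩ }
  letI : Field K := hfield.toField
  have : Finite K := Module.finite_of_finite F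
  have : Algebra.IsAlgebraic F K := Algebra.IsAlgebraic.of_finite F K
  let φ : K ≃ₐ[F] K := FiniteField.frobeniusAlgEquivOfAlgebraic F K
  have hord : orderOf φ = n := by
    rw [FiniteField.orderOf_frobeniusAlgEquivOfAlgebraic]; exact hK.finrank_eq
  let w : Fin n → F := fun _ => 1
  have hw : w ≠ 0 := fun e => one_ne_zero (congrFun e ⟨0, hn.pos⟩)
  obtain ⟨ev, hev⟩ := exists_eval_equiv hK hw
  let h : (Fin n → F) →ₗ[F] (Fin n → F) := ev.conj φ.toLinearMap
  have hh : ∀ a, h (ev a) = ev (φ a) := fun a => by simp [h, LinearEquiv.conj_apply]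
  have hpow : ∀ (i : ℕ) a, (h ^ i) (ev a) = ev ((φ ^ i) a) := fun i => by
    induction i with
    | zero => intro a; simp
    | succ i ih => intro a; rw [pow_succ', Module.End.mul_apply, ih, hh, pow_succ']; rfl
  refine ⟨h, ?_, ?_, ⟨w, hw, ?_⟩, ?_⟩
  · refine LinearMap.ext fun x => ?_
    obtain ⟨a, rfl⟩ := ev.surjective x
    rw [hpow, show φ ^ n = 1 from (congrArg (φ ^ ·) hord).symm.trans (pow_orderOf_eq_one φ)]
    rfl
  · intro e
    have h1 : φ = 1 := AlgEquiv.ext fun a => ev.injective (by rw [← hh, e]; rfl)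
    rw [h1, orderOf_one] at hord
    exact hn.one_lt.ne hord
  · have h1 : ev 1 = w := by rw [hev]; exact one_mulVec w
    rw [← h1, hh, map_one]
  · intro g hg k
    have key : ∀ a : K, (g : Matrix (Fin n) (Fin n) F) * a.1 = (φ a).1 * g := by
      intro a
      refine Matrix.toLin'.injective ?_
      rw [Matrix.toLin'_mul, Matrix.toLin'_mul, hg]
      refine LinearMap.ext fun x => ?_
      obtain ⟨b, rfl⟩ := ev.surjective x
      have hl : ∀ a b : K, a.1 *ᵥ ev b = ev (a * b) := fun a b => by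
        rw [hev, hev, mulVec_mulVec]; rfl
      rw [LinearMap.comp_apply, LinearMap.comp_apply, Matrix.toLin'_apply, hl, hh, hh, map_mul,
        Matrix.toLin'_apply, hl]
    constructor
    · intro hk
      rw [key ⟨k, hk⟩, mul_assoc, ← Units.val_mul, mul_inv_cancel, Units.val_one, mul_one]
      exact (φ ⟨k, hk⟩).2
    · intro hk
      have h2 := key (φ.symm ⟨_, hk⟩)
      rw [AlgEquiv.apply_symm_apply] at h2
      simp only [mul_assoc, ← Units.val_mul, inv_mul_cancel, Units.val_one, mul_one] at h2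
      have h3 := congrArg (((g⁻¹ : GL (Fin n) F) : Matrix (Fin n) (Fin n) F) * ·) h2
      simp only [← mul_assoc, ← Units.val_mul, inv_mul_cancel, Units.val_one, one_mul] at h3
      exact h3 ▸ (φ.symm ⟨_, hk⟩).2

theorem smul_mem_normalizer {g g' : GL (Fin n) F} (hg : g ∈ subalgebraNormalizer K) {y : F} (hy : y ≠ 0)
    (he : (g' : Matrix (Fin n) (Fin n) F) = y • (g : Matrix (Fin n) (Fin n) F)) :
    g' ∈ subalgebraNormalizer K := by
  intro k
  have hinv : ((g'⁻¹ : GL (Fin n) F) : Matrix (Fin n) (Fin n) F) =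
      y⁻¹ • ((g⁻¹ : GL (Fin n) F) : Matrix (Fin n) (Fin n) F) := by
    refine Units.inv_eq_of_mul_eq_one_right ?_
    rw [he, smul_mul_smul_comm, mul_inv_cancel₀ hy, ← Units.val_mul, mul_inv_cancel, Units.val_one,
      one_smul]
  rw [he, hinv, smul_mul_assoc, smul_mul_smul_comm, mul_inv_cancel₀ hy, one_smul]
  exact hg k

section Cyclic

variable {V : Type*} [AddCommGroup V] [Module F V] [FiniteDimensional F V] [hr' : Fact n.Prime]
variable {f h : V →ₗ[F] V}

theorem exists_cyclic (hf : f ^ n = 1) (hr : (n : F) ≠ 0)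
    (hc : orderOf ((Fintype.card F : ℕ) : ZMod n) = n - 1) (hd : finrank F V = n)
    (hfix : finrank F (fixS f) = 1) :
    ∃ v : V, ⊤ ≤ Submodule.span F (Set.range fun i : Fin n => (f ^ (i : ℕ)) v) := by
  have hn := hr'.out
  have hm : finrank F (movS f) = n - 1 := by
    have := fix_add_mov (f := f); omega
  obtain ⟨w, hw, hw0⟩ := (fixS f).exists_mem_ne_zero_of_ne_bot fun e => by
    rw [e, finrank_bot] at hfix; omega
  obtain ⟨u, hu, hu0⟩ := (movS f).exists_mem_ne_zero_of_ne_bot fun e => by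
    rw [e, finrank_bot] at hm; have := hn.two_le; omega
  have hpw : ∀ k : ℕ, (f ^ k) w = w := fun k => by
    induction k with
    | zero => simp
    | succ k ih => rw [pow_succ, Module.End.mul_apply, mem_fixS.1 hw, ih]
  refine ⟨u + w, ?_⟩
  set S := Submodule.span F (Set.range fun i : Fin n => (f ^ (i : ℕ)) (u + w))
  have hmov : Inv f (movS f) := fun x hx => ⟨f (Classical.choose hx), by
    conv_rhs => rw [← Classical.choose_spec hx]
    simp⟩
  have hsumu : ∑ i : Fin n, (f ^ (i : ℕ)) u = 0 := by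
    obtain ⟨x, hx⟩ := hu
    refine (Fin.sum_univ_eq_sum_range (fun i => (f ^ i) u) n).trans ?_
    rw [← hx, Finset.sum_congr rfl (fun i _ => show (f ^ i) ((f - 1) x) = (f ^ (i + 1)) x - (f ^ i) x by
      simp [pow_succ])]
    rw [Finset.sum_range_sub (fun i => (f ^ i) x), hf, pow_zero, sub_self]
  have hwS : w ∈ S := by
    have h1 : (n : F) • w ∈ S := by
      have : (n : F) • w = ∑ i : Fin n, (f ^ (i : ℕ)) (u + w) := by
        simp only [map_add, hpw, Finset.sum_add_distrib, hsumu, zero_add, Finset.sum_const,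
          Finset.card_univ, Fintype.card_fin, Nat.cast_smul_eq_nsmul]
      rw [this]
      exact Submodule.sum_mem _ fun i _ => Submodule.subset_span ⟨i, rfl⟩
    have := S.smul_mem (n : F)⁻¹ h1
    rwa [smul_smul, inv_mul_cancel₀ hr, one_smul] at this
  have hS : Inv f S := fun x hx => by
    refine Submodule.span_induction (p := fun x _ => f x ∈ S) ?_ ?_ ?_ ?_ hx
    · rintro _ ⟨i, rfl⟩
      show f ((f ^ (i : ℕ)) (u + w)) ∈ S
      rw [← Module.End.mul_apply, ← pow_succ']
      rcases Nat.lt_or_ge ((i : ℕ) + 1) n with h | h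
      · exact Submodule.subset_span ⟨⟨_, h⟩, rfl⟩
      · rw [show (i : ℕ) + 1 = n by omega, hf]
        exact Submodule.subset_span ⟨⟨0, hn.pos⟩, by simp⟩
    · simp
    · intro x y _ _ hx hy; rw [map_add]; exact add_mem hx hy
    · intro c x _ hx; rw [map_smul]; exact S.smul_mem c hx
  have huS : u ∈ S := by
    have h0 : u + w ∈ S := Submodule.subset_span ⟨⟨0, hn.pos⟩, by simp⟩
    simpa using S.sub_mem h0 hwS
  have hmS : movS f ≤ S := by
    have hI : Inv f (movS f ⊓ S) := hmov.inf hS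
    obtain ⟨z, hz⟩ := fpf_dvd hf hI ((Submodule.eq_bot_iff _).2 fun x hx =>
      disjoint_fix_mov hf hr hx.2 hx.1.1)
    rw [hc] at hz
    have hne : finrank F ↥(movS f ⊓ S) ≠ 0 := fun e => hu0 (by
      have : u ∈ movS f ⊓ S := ⟨hu, huS⟩
      rwa [Submodule.finrank_eq_zero.1 e, Submodule.mem_bot] at this)
    have : 0 < z := Nat.pos_of_ne_zero fun e => hne (by rw [hz, e, Nat.mul_zero])
    have := Nat.le_mul_of_pos_right (n - 1) this
    exact inf_eq_left.1 (Submodule.eq_of_le_of_finrank_le inf_le_left (by omega))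
  intro x _
  have hsup : fixS f ⊔ movS f = ⊤ := by
    refine Submodule.eq_top_of_finrank_eq ?_
    have h1 := Submodule.finrank_sup_add_finrank_inf_eq (fixS f) (movS f)
    rw [(Submodule.eq_bot_iff (fixS f ⊓ movS f)).2 fun x hx => disjoint_fix_mov hf hr hx.1 hx.2,
      finrank_bot] at h1
    have := fix_add_mov (f := f)
    omega
  have hfS : fixS f ≤ S := by
    have : fixS f = Submodule.span F {w} :=
      (Submodule.eq_of_le_of_finrank_le ((Submodule.span_singleton_le_iff_mem _ _).2 hw)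
        (by rw [hfix, finrank_span_singleton hw0])).symm
    rw [this]; exact (Submodule.span_singleton_le_iff_mem _ _).2 hwS
  exact (sup_le hfS hmS) (hsup ▸ Submodule.mem_top)

theorem exists_conj_of_cyclic (hf : f ^ n = 1) (hh : h ^ n = 1) (hd : finrank F V = n) {v w : V}
    (hv : ⊤ ≤ Submodule.span F (Set.range fun i : Fin n => (f ^ (i : ℕ)) v))
    (hw : ⊤ ≤ Submodule.span F (Set.range fun i : Fin n => (h ^ (i : ℕ)) w)) :
    ∃ e : V ≃ₗ[F] V, ∀ x, e (f x) = h (e x) := by
  let b := basisOfTopLeSpanOfCardEqFinrank _ hv (by rw [hd, Fintype.card_fin])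
  let c := basisOfTopLeSpanOfCardEqFinrank _ hw (by rw [hd, Fintype.card_fin])
  refine ⟨b.equiv c (Equiv.refl _), LinearMap.congr_fun
    (show (b.equiv c (Equiv.refl _)).toLinearMap ∘ₗ f = h ∘ₗ (b.equiv c (Equiv.refl _)).toLinearMap from
      b.ext fun i => ?_)⟩
  have hb : ∀ i : Fin n, b i = (f ^ (i : ℕ)) v := fun i => by simp [b]
  have hcb : ∀ i : Fin n, (b.equiv c (Equiv.refl _)) ((f ^ (i : ℕ)) v) = (h ^ (i : ℕ)) w := fun i => by
    rw [← hb, Module.Basis.equiv_apply]; simp [c]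
  simp only [LinearMap.comp_apply, LinearEquiv.coe_coe]
  rw [hb, hcb, ← Module.End.mul_apply, ← Module.End.mul_apply, ← pow_succ', ← pow_succ']
  rcases Nat.lt_or_ge ((i : ℕ) + 1) n with hlt | hge
  · exact hcb ⟨_, hlt⟩
  · rw [show (i : ℕ) + 1 = n by omega, hf, hh]
    simpa using hcb ⟨0, hr'.out.pos⟩

/-- Commuting equivalences of every determinant. -/
theorem exists_det_adjust (hf : f ^ n = 1) (hr : (n : F) ≠ 0) (hfix : finrank F (fixS f) = 1) {z : F}
    (hz : z ≠ 0) : ∃ ψ : V ≃ₗ[F] V, LinearMap.det (ψ : V →ₗ[F] V) = z ∧ ∀ x, ψ (f x) = f (ψ x) := by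
  have hdis : Disjoint (fixS f) (movS f) := Submodule.disjoint_def.2 fun x h1 h2 => disjoint_fix_mov hf hr h1 h2
  have hcompl : IsCompl (fixS f) (movS f) := ⟨hdis, codisjoint_iff.2 (by
    refine Submodule.eq_top_of_finrank_eq ?_
    have h1 := Submodule.finrank_sup_add_finrank_inf_eq (fixS f) (movS f)
    rw [disjoint_iff.1 hdis, finrank_bot] at h1
    have := fix_add_mov (f := f)
    omega)⟩
  let E := Submodule.prodEquivOfIsCompl _ _ hcompl
  let s : fixS f ≃ₗ[F] fixS f := LinearEquiv.smulOfUnit (Units.mk0 z hz)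
  let ψ : V ≃ₗ[F] V := (E.symm.trans (LinearEquiv.prodCongr s (LinearEquiv.refl F _))).trans E
  refine ⟨ψ, ?_, fun x => ?_⟩
  · rw [show (ψ : V →ₗ[F] V) = (E : (fixS f × movS f) →ₗ[F] V) ∘ₗ
        ((s : fixS f →ₗ[F] fixS f).prodMap (LinearMap.id : movS f →ₗ[F] movS f)) ∘ₗ
          (E.symm : V →ₗ[F] (fixS f × movS f)) from LinearMap.ext fun _ => rfl,
      LinearMap.det_conj, LinearMap.det_prodMap, LinearMap.det_id, mul_one]
    rw [show (s : fixS f →ₗ[F] fixS f) = z • LinearMap.id from LinearMap.ext fun _ => rfl,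
      LinearMap.det_smul, hfix, pow_one, LinearMap.det_id, mul_one]
  · have hψ : ∀ (a : fixS f) (b : movS f), ψ (a + b) = z • (a : V) + b := fun a b => by
      show E ((LinearEquiv.prodCongr s (LinearEquiv.refl F _)) (E.symm ((a : V) + b))) = _
      rw [show (a : V) + b = E (a, b) from rfl, LinearEquiv.symm_apply_apply]
      rfl
    obtain ⟨⟨a, b⟩, rfl⟩ := E.surjective x
    show ψ (f ((a : V) + b)) = f (ψ ((a : V) + b))
    have hfb : f b ∈ movS f := by
      obtain ⟨y, hy⟩ := b.2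
      exact ⟨f y, by rw [← hy]; simp⟩
    rw [map_add f, mem_fixS.1 a.2, hψ, map_add f, map_smul, mem_fixS.1 a.2]
    exact hψ a ⟨f b, hfb⟩

theorem exists_conj_det (hf : f ^ n = 1) (hr : (n : F) ≠ 0) (hfix : finrank F (fixS f) = 1)
    {e : V ≃ₗ[F] V} (he : ∀ x, e (f x) = h (e x)) :
    ∃ e' : V ≃ₗ[F] V, LinearMap.det (e' : V →ₗ[F] V) = 1 ∧ ∀ x, e' (f x) = h (e' x) := by
  obtain ⟨ψ, hψd, hψ⟩ := exists_det_adjust hf hr hfix (inv_ne_zero (LinearEquiv.isUnit_det' e).ne_zero)
  refine ⟨ψ.trans e, ?_, fun x => ?_⟩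
  · rw [LinearEquiv.coe_trans, LinearMap.det_comp, hψd, mul_inv_cancel₀ (LinearEquiv.isUnit_det' e).ne_zero]
  · simp [LinearEquiv.trans_apply, hψ, he]

end Cyclic

theorem exists_sl_conj {f h : (Fin n → F) →ₗ[F] (Fin n → F)} {e : (Fin n → F) ≃ₗ[F] (Fin n → F)}
    (hed : LinearMap.det (e : (Fin n → F) →ₗ[F] (Fin n → F)) = 1) (he : ∀ x, e (f x) = h (e x)) :
    ∃ P : Matrix.SpecialLinearGroup (Fin n) F, ∀ x : Matrix.SpecialLinearGroup (Fin n) F,
      Matrix.toLin' (x : Matrix (Fin n) (Fin n) F) = f →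
      Matrix.toLin' ((P⁻¹ * x * P : Matrix.SpecialLinearGroup (Fin n) F) : Matrix (Fin n) (Fin n) F) = h := by
  obtain ⟨E, hE⟩ := exists_sl hed
  refine ⟨E⁻¹, fun x hx => ?_⟩
  rw [inv_inv]
  refine LinearMap.ext fun v => ?_
  have hEi : ∀ v, Matrix.toLin' ((E⁻¹ : Matrix.SpecialLinearGroup (Fin n) F) : Matrix (Fin n) (Fin n) F) v = e.symm v :=
    fun v => e.injective (by
      rw [LinearEquiv.apply_symm_apply, ← LinearEquiv.coe_coe, ← hE, ← LinearMap.comp_apply,
        ← Matrix.toLin'_mul, ← Matrix.SpecialLinearGroup.coe_mul E E⁻¹, mul_inv_cancel, Matrix.SpecialLinearGroup.coe_one,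
        Matrix.toLin'_one, LinearMap.id_apply])
  rw [Matrix.SpecialLinearGroup.coe_mul, Matrix.SpecialLinearGroup.coe_mul, Matrix.toLin'_mul, Matrix.toLin'_mul,
    LinearMap.comp_apply, LinearMap.comp_apply, hEi, hx, hE, LinearEquiv.coe_coe, he,
    LinearEquiv.apply_symm_apply]

/-- An element with at least two independent fixed vectors has no conjugate in the normaliser. -/
theorem not_conj_of_fix (hn : n.Prime) (hK : IsFieldSubalgebra n K) {x : Matrix.SpecialLinearGroup (Fin n) F}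
    (hx : x ≠ 1) {w u : Fin n → F} (hw : w ≠ 0) (hgw : (x : Matrix (Fin n) (Fin n) F) *ᵥ w = w)
    (hgu : (x : Matrix (Fin n) (Fin n) F) *ᵥ u = u) (hind : ∀ c : F, u ≠ c • w) :
    ∀ P : Matrix.SpecialLinearGroup (Fin n) F,
      P⁻¹ * x * P ∉ (subalgebraNormalizer K).comap
        (Matrix.SpecialLinearGroup.toGL : Matrix.SpecialLinearGroup (Fin n) F →* GL (Fin n) F) := by
  intro P hP
  set y := P⁻¹ * x * P with hy
  have hm : ∀ v, (x : Matrix (Fin n) (Fin n) F) *ᵥ v = v →
      (y : Matrix (Fin n) (Fin n) F) *ᵥ (((P⁻¹ : Matrix.SpecialLinearGroup (Fin n) F) : Matrix (Fin n) (Fin n) F) *ᵥ v) =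
        ((P⁻¹ : Matrix.SpecialLinearGroup (Fin n) F) : Matrix (Fin n) (Fin n) F) *ᵥ v := by
    intro v hv
    rw [mulVec_mulVec, ← Matrix.SpecialLinearGroup.coe_mul, hy, mul_assoc, mul_inv_cancel, mul_one,
      Matrix.SpecialLinearGroup.coe_mul, ← mulVec_mulVec, hv]
  have hcancel : ∀ v, (P : Matrix (Fin n) (Fin n) F) *ᵥ
      (((P⁻¹ : Matrix.SpecialLinearGroup (Fin n) F) : Matrix (Fin n) (Fin n) F) *ᵥ v) = v := fun v => by
    rw [mulVec_mulVec, ← Matrix.SpecialLinearGroup.coe_mul, mul_inv_cancel, Matrix.SpecialLinearGroup.coe_one, one_mulVec]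
  obtain ⟨c, hc⟩ := fixed_le_one hn hK hP (fun e => hx (by
      have h1 : y = 1 := Subtype.ext (congrArg Units.val e)
      rw [hy] at h1
      have := congrArg (fun z => P * z * P⁻¹) h1
      simpa [mul_assoc] using this))
    (fun e => hw (by rw [← hcancel w, e, mulVec_zero])) (hm w hgw) (hm u hgu)
  refine hind c ?_
  rw [← hcancel u, hc, mulVec_smul, hcancel]

end CfsgLib.Elusive
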