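import Cfsg.Agent.Elusive.Singer
import Mathlib.Data.ZMod.Basic
import Mathlib.LinearAlgebra.Determinant

/-! Conjugating elements into the normaliser of a Singer cycle. -/

set_option autoImplicit false
set_option linter.unusedSectionVars false

namespace CfsgLib.Elusive

open Module Matrix Cfsg.Geo

variable {F : Type*} [Field F] [Fintype F]

theorem conj_into_of_order {k : ℕ} (hn' : k.Prime) (h3 : 3 ≤ k) (hnF : (k : F) ≠ 0)
    (hik : orderOf ((Fintype.card F : ℕ) : ZMod k) = k - 1)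
    {K : Subalgebra F (Matrix (Fin k) (Fin k) F)} (hK : IsFieldSubalgebra k K)
    (x : Matrix.SpecialLinearGroup (Fin k) F)
    (hx1 : ∃ z : F, ((x ^ k : Matrix.SpecialLinearGroup (Fin k) F) : Matrix (Fin k) (Fin k) F) = z • 1)
    (hx2 : ∀ z : F, (x : Matrix (Fin k) (Fin k) F) ≠ z • 1) :
    ∃ P : Matrix.SpecialLinearGroup (Fin k) F, P⁻¹ * x * P ∈ (subalgebraNormalizer K).comap
      (Matrix.SpecialLinearGroup.toGL : Matrix.SpecialLinearGroup (Fin k) F →* GL (Fin k) F) := by
  have : Fact k.Prime := ⟨hn'⟩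
  obtain ⟨z, hxz⟩ := hx1
  set i := orderOf ((Fintype.card F : ℕ) : ZMod k) with hi
  have hi0 : 0 < i := by omega
  have hi1 : i ≠ 1 := by omega
  obtain ⟨y, rfl⟩ := CfsgLib.Elusive.exists_root_of_order hi1 z
  have hf : Matrix.toLin' (x : Matrix (Fin k) (Fin k) F) ^ k = y ^ k • 1 := by
    rw [Matrix.SpecialLinearGroup.coe_pow] at hxz
    show Matrix.toLinAlgEquiv' (x : Matrix (Fin k) (Fin k) F) ^ k = y ^ k • 1
    rw [← map_pow, hxz, map_smul, map_one]
  have hy : y ≠ 0 := by
    intro hy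
    have hd := congrArg LinearMap.det hf
    rw [map_pow, LinearMap.det_toLin', x.2, one_pow, hy, zero_pow hn'.ne_zero, zero_smul,
      LinearMap.det_zero, Module.finrank_fin_fun, zero_pow (by omega)] at hd
    exact one_ne_zero hd
  set g := y⁻¹ • Matrix.toLin' (x : Matrix (Fin k) (Fin k) F) with hg_def
  have hg : g ^ k = 1 := by
    rw [hg_def, smul_pow, hf, smul_smul, ← mul_pow, inv_mul_cancel₀ hy, one_pow, one_smul]
  have hgx : Matrix.toLin' (x : Matrix (Fin k) (Fin k) F) = y • g := by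
    rw [hg_def, smul_smul, mul_inv_cancel₀ hy, one_smul]
  have hfin : Module.finrank F (Fin k → F) = k := Module.finrank_fin_fun F
  have hfix1 : ∀ f : (Fin k → F) →ₗ[F] (Fin k → F), f ^ k = 1 → f ≠ 1 →
      Module.finrank F (CfsgLib.Elusive.fixS f) = 1 := by
    intro f hf hf1
    have hs := CfsgLib.Elusive.dim_split (f := f) (⊤ : Submodule F (Fin k → F))
    obtain ⟨w, hw⟩ := CfsgLib.Elusive.mov_dvd hf hnF (CfsgLib.Elusive.Inv.top _)
    rw [finrank_top, hfin, top_inf_eq, hw, ← hi, hik] at hs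
    have hw0 : w ≠ 0 := by
      intro e
      rw [e, Nat.mul_zero, Nat.add_zero] at hs
      refine hf1 (LinearMap.ext fun v => CfsgLib.Elusive.mem_fixS.1 ?_)
      rw [Submodule.eq_top_of_finrank_eq (S := CfsgLib.Elusive.fixS f) (by omega)]
      exact Submodule.mem_top
    rcases Nat.lt_or_ge w 2 with h | h
    · obtain rfl : w = 1 := by omega
      omega
    · have := Nat.mul_le_mul_left (k - 1) h
      omega
  have hg1 : g ≠ 1 := by
    intro e
    rw [e] at hgx
    refine hx2 y (Matrix.toLin'.injective ?_)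
    rw [hgx, map_smul, Matrix.toLin'_one]; rfl
  obtain ⟨h, hh, hh1, -, hnorm⟩ := CfsgLib.Elusive.exists_frobenius hn' hK
  obtain ⟨v, hv⟩ := CfsgLib.Elusive.exists_cyclic hg hnF (hi.symm.trans hik) hfin (hfix1 g hg hg1)
  obtain ⟨w, hw⟩ := CfsgLib.Elusive.exists_cyclic hh hnF (hi.symm.trans hik) hfin (hfix1 h hh hh1)
  obtain ⟨e₀, he₀⟩ := CfsgLib.Elusive.exists_conj_of_cyclic hg hh hfin hv hw
  obtain ⟨e, hed, he⟩ := CfsgLib.Elusive.exists_conj_det hg hnF (hfix1 g hg hg1) he₀
  obtain ⟨x', hx'⟩ := CfsgLib.Elusive.exists_sl (CfsgLib.Elusive.det_eq_one hi1 hg)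
  obtain ⟨P, hP⟩ := CfsgLib.Elusive.exists_sl_conj hed he
  refine ⟨P, CfsgLib.Elusive.smul_mem_normalizer
    (g := Matrix.SpecialLinearGroup.toGL (P⁻¹ * x' * P)) (hnorm _ (hP x' hx')) hy ?_⟩
  have hxx : (x : Matrix (Fin k) (Fin k) F) = y • (x' : Matrix (Fin k) (Fin k) F) :=
    Matrix.toLin'.injective (by rw [map_smul, hx', hgx])
  show ((P⁻¹ * x * P : Matrix.SpecialLinearGroup (Fin k) F) : Matrix (Fin k) (Fin k) F) =
    y • ((P⁻¹ * x' * P : Matrix.SpecialLinearGroup (Fin k) F) : Matrix (Fin k) (Fin k) F)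
  simp only [Matrix.SpecialLinearGroup.coe_mul, hxx, Matrix.mul_smul, Matrix.smul_mul]


/-- An element with two independent eigenvectors for one eigenvalue has no conjugate in the normaliser. -/
theorem not_conj_of_eigen {n : ℕ} (hn : n.Prime) {K : Subalgebra F (Matrix (Fin n) (Fin n) F)}
    (hK : IsFieldSubalgebra n K) {x : Matrix.SpecialLinearGroup (Fin n) F}
    (hx : ∀ z : F, (x : Matrix (Fin n) (Fin n) F) ≠ z • 1) {y : F} (hy : y ≠ 0) {w u : Fin n → F} (hw : w ≠ 0)
    (hgw : (x : Matrix (Fin n) (Fin n) F) *ᵥ w = y • w) (hgu : (x : Matrix (Fin n) (Fin n) F) *ᵥ u = y • u)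
    (hind : ∀ c : F, u ≠ c • w) :
    ∀ P : Matrix.SpecialLinearGroup (Fin n) F,
      P⁻¹ * x * P ∉ (subalgebraNormalizer K).comap
        (Matrix.SpecialLinearGroup.toGL : Matrix.SpecialLinearGroup (Fin n) F →* GL (Fin n) F) := by
  intro P hP
  let z := Matrix.SpecialLinearGroup.toGL (P⁻¹ * x * P)
  let g : GL (Fin n) F := Units.map (Matrix.scalar (Fin n) : F →+* Matrix (Fin n) (Fin n) F).toMonoidHom
    (Units.mk0 y⁻¹ (inv_ne_zero hy)) * z
  have hge : (g : Matrix (Fin n) (Fin n) F) = y⁻¹ • (z : Matrix (Fin n) (Fin n) F) := by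
    simp [g, Matrix.smul_eq_diagonal_mul]
  have hg : g ∈ subalgebraNormalizer K := smul_mem_normalizer hP (inv_ne_zero hy) hge
  have hcancel : ∀ v, (P : Matrix (Fin n) (Fin n) F) *ᵥ
      (((P⁻¹ : Matrix.SpecialLinearGroup (Fin n) F) : Matrix (Fin n) (Fin n) F) *ᵥ v) = v := fun v => by
    rw [mulVec_mulVec, ← Matrix.SpecialLinearGroup.coe_mul, mul_inv_cancel,
      Matrix.SpecialLinearGroup.coe_one, one_mulVec]
  have hm : ∀ v, (x : Matrix (Fin n) (Fin n) F) *ᵥ v = y • v →
      (g : Matrix (Fin n) (Fin n) F) *ᵥ (((P⁻¹ : Matrix.SpecialLinearGroup (Fin n) F) : Matrix (Fin n) (Fin n) F) *ᵥ v) =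
        ((P⁻¹ : Matrix.SpecialLinearGroup (Fin n) F) : Matrix (Fin n) (Fin n) F) *ᵥ v := by
    intro v hv
    rw [hge, smul_mulVec, show (z : Matrix (Fin n) (Fin n) F) =
      ((P⁻¹ * x * P : Matrix.SpecialLinearGroup (Fin n) F) : Matrix (Fin n) (Fin n) F) from rfl,
      Matrix.SpecialLinearGroup.coe_mul, ← mulVec_mulVec, hcancel, Matrix.SpecialLinearGroup.coe_mul,
      ← mulVec_mulVec, hv, mulVec_smul, smul_smul, inv_mul_cancel₀ hy, one_smul]
  have hg1 : g ≠ 1 := by
    intro e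
    have h1 : ((P⁻¹ * x * P : Matrix.SpecialLinearGroup (Fin n) F) : Matrix (Fin n) (Fin n) F) = y • 1 := by
      have h2 := congrArg (fun g : GL (Fin n) F => y • (g : Matrix (Fin n) (Fin n) F)) e
      simp only [hge, smul_smul, mul_inv_cancel₀ hy, one_smul, Units.val_one] at h2
      exact h2
    refine hx y ?_
    calc (x : Matrix (Fin n) (Fin n) F)
        = (P : Matrix (Fin n) (Fin n) F) * ((P⁻¹ * x * P : Matrix.SpecialLinearGroup (Fin n) F) :
            Matrix (Fin n) (Fin n) F) * ((P⁻¹ : Matrix.SpecialLinearGroup (Fin n) F) : Matrix (Fin n) (Fin n) F) := by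
          rw [← Matrix.SpecialLinearGroup.coe_mul, ← Matrix.SpecialLinearGroup.coe_mul]
          rw [show P * (P⁻¹ * x * P) * P⁻¹ = x by simp [mul_assoc]]
      _ = y • 1 := by
          rw [h1, mul_smul_comm, mul_one, smul_mul_assoc, ← Matrix.SpecialLinearGroup.coe_mul, mul_inv_cancel,
            Matrix.SpecialLinearGroup.coe_one]
  obtain ⟨c, hc⟩ := fixed_le_one hn hK hg hg1
    (fun e => hw (by rw [← hcancel w, e, mulVec_zero])) (hm w hgw) (hm u hgu)
  refine hind c ?_
  rw [← hcancel u, hc, mulVec_smul, hcancel]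

section Three

variable {V : Type*} [AddCommGroup V] [Module F V] [FiniteDimensional F V]

/-- An element of order three and determinant one with a plane of fixed vectors is trivial. -/
theorem eq_one_of_fix_two {f : V →ₗ[F] V} (hd : finrank F V = 3) (hf : f ^ 3 = 1) (hr : ((3 : ℕ) : F) ≠ 0)
    (hdet : LinearMap.det f = 1) (hfix : 2 ≤ finrank F (fixS f)) : f = 1 := by
  have : Fact (Nat.Prime 3) := ⟨Nat.prime_three⟩
  have hfm := fix_add_mov (f := f)
  by_cases hm : finrank F (movS f) = 0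
  · exact sub_eq_zero.1 (LinearMap.range_eq_bot.1 (Submodule.finrank_eq_zero.1 hm))
  exfalso
  have hm1 : finrank F (movS f) = 1 := by omega
  have hdis : Disjoint (fixS f) (movS f) :=
    Submodule.disjoint_def.2 fun x h1 h2 => disjoint_fix_mov hf hr h1 h2
  have hcompl : IsCompl (fixS f) (movS f) := ⟨hdis, codisjoint_iff.2 (by
    refine Submodule.eq_top_of_finrank_eq ?_
    have h1 := Submodule.finrank_sup_add_finrank_inf_eq (fixS f) (movS f)
    rw [disjoint_iff.1 hdis, finrank_bot] at h1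
    omega)⟩
  obtain ⟨u, hu, hu0⟩ := (movS f).exists_mem_ne_zero_of_ne_bot fun e => by
    rw [e, finrank_bot] at hm1; omega
  have hspan : movS f = Submodule.span F {u} :=
    (Submodule.eq_of_le_of_finrank_le ((Submodule.span_singleton_le_iff_mem _ _).2 hu)
      (by rw [hm1, finrank_span_singleton hu0])).symm
  obtain ⟨μ, hμ⟩ := Submodule.mem_span_singleton.1 (show f u ∈ Submodule.span F {u} by
    rw [← hspan]; obtain ⟨y, hy⟩ := hu; exact ⟨f y, by rw [← hy]; simp⟩)
  let E := Submodule.prodEquivOfIsCompl _ _ hcompl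
  have hfe : f = (E : (fixS f × movS f) →ₗ[F] V) ∘ₗ
      ((LinearMap.id : fixS f →ₗ[F] fixS f).prodMap (μ • (LinearMap.id : movS f →ₗ[F] movS f))) ∘ₗ
        (E.symm : V →ₗ[F] (fixS f × movS f)) := by
    refine LinearMap.ext fun x => ?_
    obtain ⟨⟨a, b⟩, rfl⟩ := E.surjective x
    simp only [LinearMap.comp_apply, LinearEquiv.coe_coe, LinearEquiv.symm_apply_apply]
    show f ((a : V) + b) = (a : V) + μ • (b : V)
    obtain ⟨c, hc⟩ := Submodule.mem_span_singleton.1 (show (b : V) ∈ Submodule.span F {u} from hspan.le b.2)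
    rw [map_add, mem_fixS.1 a.2, ← hc, map_smul, ← hμ, smul_comm c μ]
  rw [hfe, LinearMap.det_conj, LinearMap.det_prodMap, LinearMap.det_id, one_mul, LinearMap.det_smul,
    LinearMap.det_id, mul_one, hm1, pow_one] at hdet
  exact hu0 (disjoint_fix_mov hf hr (mem_fixS.2 (by rw [← hμ, hdet, one_smul])) hu)

/-- A basis of eigenvectors for an element of order three. -/
theorem exists_eigen_basis {f : V →ₗ[F] V} {ω : F} (hω : IsPrimitiveRoot ω 3) (hd : finrank F V = 3)
    (hf : f ^ 3 = 1) (hle : ∀ j : Fin 3, finrank F (LinearMap.ker (f - ω ^ (j : ℕ) • 1)) ≤ 1) :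
    ∃ b : Basis (Fin 3) F V, ∀ j, f (b j) = ω ^ (j : ℕ) • b j := by
  have h3 : 1 + ω + ω ^ 2 = 0 := by
    have := hω.geom_sum_eq_zero (by norm_num)
    rwa [Finset.sum_range_succ, Finset.sum_range_succ, Finset.sum_range_succ, Finset.sum_range_zero,
      zero_add, pow_zero, pow_one] at this
  have hω3 : ω ^ 3 = 1 := hω.pow_eq_one
  set A : Fin 3 → (V →ₗ[F] V) := fun j => f - ω ^ (j : ℕ) • 1
  have hprod : ∀ v, A 0 (A 1 (A 2 v)) = 0 := fun v => by
    have hv : f (f (f v)) = v := by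
      have := LinearMap.congr_fun hf v
      simpa [pow_succ] using this
    simp only [A, Fin.val_zero, Fin.val_one, Fin.val_two, pow_zero, pow_one, one_smul, LinearMap.sub_apply,
      LinearMap.smul_apply, Module.End.one_apply, map_sub, map_smul, hv, smul_sub, smul_smul]
    have e1 := congrArg (fun c : F => c • f (f v)) h3
    have e2 := congrArg (fun c : F => (ω * c) • f v) h3
    have e3 := congrArg (fun c : F => c • v) hω3
    simp only [mul_zero, zero_smul, one_smul] at e1 e2 e3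
    linear_combination (norm := module) -e1 + e2 - e3
  have hkc : ∀ (B C : V →ₗ[F] V),
      finrank F (LinearMap.ker (B ∘ₗ C)) ≤ finrank F (LinearMap.ker B) + finrank F (LinearMap.ker C) := by
    intro B C
    let φ := C.restrict (p := LinearMap.ker (B ∘ₗ C)) (q := LinearMap.ker B) fun x hx => hx
    have h1 := LinearMap.finrank_range_add_finrank_ker φ
    have h2 : finrank F (LinearMap.range φ) ≤ finrank F (LinearMap.ker B) := Submodule.finrank_le _
    have h4 : finrank F (LinearMap.ker φ) ≤ finrank F (LinearMap.ker C) := by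
      rw [← Submodule.finrank_map_subtype_eq (LinearMap.ker (B ∘ₗ C))]
      refine Submodule.finrank_mono ?_
      rintro _ ⟨x, hx, rfl⟩
      exact congrArg Subtype.val (LinearMap.mem_ker.1 hx)
    omega
  have hsum := hkc (A 0) (A 1 ∘ₗ A 2)
  rw [show A 0 ∘ₗ (A 1 ∘ₗ A 2) = 0 from LinearMap.ext hprod, LinearMap.ker_zero, finrank_top, hd] at hsum
  have hsum2 := hkc (A 1) (A 2)
  have hex : ∀ j : Fin 3, ∃ v, v ∈ LinearMap.ker (A j) ∧ v ≠ 0 := by
    intro j
    refine Submodule.exists_mem_ne_zero_of_ne_bot fun e => ?_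
    have h0 : finrank F (LinearMap.ker (A 0)) ≤ 1 := hle 0
    have h1 : finrank F (LinearMap.ker (A 1)) ≤ 1 := hle 1
    have h2 : finrank F (LinearMap.ker (A 2)) ≤ 1 := hle 2
    have he : finrank F (LinearMap.ker (A j)) = 0 := by rw [e, finrank_bot]
    obtain rfl | rfl | rfl : j = 0 ∨ j = 1 ∨ j = 2 := by
      fin_cases j <;> simp
    all_goals omega
  choose v hv hv0 using hex
  have hfv : ∀ j, f (v j) = ω ^ (j : ℕ) • v j := fun j => sub_eq_zero.1 (by simpa [A] using hv j)
  have hinj : Function.Injective fun j : Fin 3 => ω ^ (j : ℕ) := fun a b e =>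
    Fin.ext (hω.pow_inj a.isLt b.isLt e)
  have hli : LinearIndependent F v := Module.End.eigenvectors_linearIndependent' f _ hinj v
    fun j => ⟨Module.End.mem_eigenspace_iff.2 (hfv j), hv0 j⟩
  refine ⟨basisOfLinearIndependentOfCardEqFinrank hli (by rw [hd, Fintype.card_fin]), fun j => ?_⟩
  simpa using hfv j

end Three

end CfsgLib.Elusive
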