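import Cfsg.Prelude.Def_GeometricClasses
import Cfsg.Agent.GLClass.SL
import Mathlib

/-!
Characteristic polynomials and the subfield subgroup: an element of order prime to the characteristic
is conjugate by determinant one into the subfield group exactly when, up to a scalar, its
characteristic polynomial has coefficients in the subfield.
-/

set_option autoImplicit false

namespace CfsgLib.Elusive.SubField

open Matrix Polynomial

variable {F : Type*} [Field F]

theorem exists_of_mem (F₀ : Subfield F) {n : ℕ} {g : GL (Fin n) F}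
    (hg : g ∈ Cfsg.Geo.subfieldSubgroup F₀ 1) : ∃ (A : GL (Fin n) F₀) (c : F),
      c ≠ 0 ∧ (g : Matrix (Fin n) (Fin n) F) = c • (A : Matrix (Fin n) (Fin n) F₀).map F₀.subtype := by
  simp only [Cfsg.Geo.subfieldSubgroup, map_one, Subgroup.mem_map] at hg
  obtain ⟨g', hg', rfl⟩ := hg
  obtain ⟨a, ⟨A, rfl⟩, s, hs, rfl⟩ := Subgroup.mem_sup_of_normal_right.1 hg'
  obtain ⟨c, hc⟩ := (Cfsg.Geo.mem_scalars_iff s).1 hs
  refine ⟨A, c, c.ne_zero, ?_⟩
  show ((Matrix.GeneralLinearGroup.map (F₀.subtype : F₀ →+* F) A * s : GL (Fin n) F) : Matrix (Fin n) (Fin n) F) = _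
  rw [Units.val_mul, hc, Matrix.mul_smul, Matrix.mul_one]
  rfl

theorem mem_of_eq (F₀ : Subfield F) {n : ℕ} (g : GL (Fin n) F) (A : GL (Fin n) F₀) {c : F} (hc : c ≠ 0)
    (hg : (g : Matrix (Fin n) (Fin n) F) = c • (A : Matrix (Fin n) (Fin n) F₀).map F₀.subtype) :
    g ∈ Cfsg.Geo.subfieldSubgroup F₀ 1 := by
  simp only [Cfsg.Geo.subfieldSubgroup, map_one, Subgroup.mem_map]
  refine ⟨g, ?_, by simp⟩
  let s : GL (Fin n) F := Units.map (Matrix.scalar (Fin n) : F →+* Matrix (Fin n) (Fin n) F).toMonoidHom (Units.mk0 c hc)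
  have hgs : g = Matrix.GeneralLinearGroup.map (F₀.subtype : F₀ →+* F) A * s := Units.ext (by
    rw [hg, Units.val_mul]
    show c • _ = (A : Matrix (Fin n) (Fin n) F₀).map F₀.subtype * Matrix.scalar (Fin n) c
    rw [Matrix.scalar_apply, ← Matrix.smul_one_eq_diagonal, Matrix.mul_smul, Matrix.mul_one])
  rw [hgs]
  exact Subgroup.mul_mem_sup ⟨A, rfl⟩ ⟨Units.mk0 c hc, rfl⟩

/-- The Frobenius of the subfield fixes exactly the subfield. -/
theorem mem_iff_pow_eq [Fintype F] (F₀ : Subfield F) {y : F} :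
    y ∈ F₀ ↔ y ^ Nat.card F₀ = y := by
  classical
  rw [Nat.card_eq_fintype_card]
  constructor
  · intro hy
    exact congrArg Subtype.val (FiniteField.pow_card (⟨y, hy⟩ : F₀))
  · intro hy
    have h1 : 1 < Fintype.card F₀ := Fintype.one_lt_card
    let S : Finset F := Finset.univ.filter fun z => z ^ Fintype.card F₀ = z
    let T : Finset F := Finset.univ.image (Subtype.val : F₀ → F)
    have hTS : T ⊆ S := by
      intro z hz
      obtain ⟨w, -, rfl⟩ := Finset.mem_image.1 hz
      exact Finset.mem_filter.2 ⟨Finset.mem_univ _, congrArg Subtype.val (FiniteField.pow_card w)⟩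
    have hScard : S.card ≤ T.card := by
      rw [Finset.card_image_of_injective _ Subtype.val_injective, Finset.card_univ]
      have hne : (X ^ Fintype.card F₀ - X : F[X]) ≠ 0 := FiniteField.X_pow_card_sub_X_ne_zero F h1
      refine le_trans ?_ (le_trans (Polynomial.card_roots' (X ^ Fintype.card F₀ - X : F[X]))
        (FiniteField.X_pow_card_sub_X_natDegree_eq F h1).le)
      refine le_trans (Finset.card_le_card ?_) (Multiset.toFinset_card_le _)
      intro z hz
      rw [Multiset.mem_toFinset, Polynomial.mem_roots hne]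
      simp [(Finset.mem_filter.1 hz).2]
    have := Finset.eq_of_subset_of_card_le hTS hScard
    obtain ⟨w, -, rfl⟩ := Finset.mem_image.1 (this ▸ Finset.mem_filter.2 ⟨Finset.mem_univ y, hy⟩ : y ∈ T)
    exact w.2

/-- A conjugate inside the subfield group gives a rescaling with charpoly fixed by the subfield Frobenius. -/
theorem exists_smul_charpoly_fixed (F₀ : Subfield F) (σ : F →+* F) (hσ : ∀ a : F₀, σ (a : F) = a)
    {n : ℕ} (x P : Matrix.SpecialLinearGroup (Fin n) F)
    (h : Matrix.SpecialLinearGroup.toGL (P⁻¹ * x * P) ∈ Cfsg.Geo.subfieldSubgroup F₀ 1) :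
    ∃ (c : F) (A : GL (Fin n) F₀), c ≠ 0 ∧
      (c⁻¹ • (x : Matrix (Fin n) (Fin n) F)).charpoly.map σ = (c⁻¹ • (x : Matrix (Fin n) (Fin n) F)).charpoly ∧
      ((P⁻¹ * x * P : Matrix.SpecialLinearGroup (Fin n) F) : Matrix (Fin n) (Fin n) F) =
        c • (A : Matrix (Fin n) (Fin n) F₀).map F₀.subtype := by
  obtain ⟨A, c, hc, hA⟩ := exists_of_mem F₀ h
  have hA' : ((P⁻¹ * x * P : Matrix.SpecialLinearGroup (Fin n) F) : Matrix (Fin n) (Fin n) F) =
        c • (A : Matrix (Fin n) (Fin n) F₀).map F₀.subtype := hA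
  refine ⟨c, A, hc, ?_, hA'⟩
  have h1 : (c⁻¹ • (x : Matrix (Fin n) (Fin n) F)).charpoly =
      ((A : Matrix (Fin n) (Fin n) F₀).map F₀.subtype).charpoly := by
    have h2 : (A : Matrix (Fin n) (Fin n) F₀).map F₀.subtype =
        ((Matrix.SpecialLinearGroup.toGL P⁻¹ : GL (Fin n) F) : Matrix (Fin n) (Fin n) F) *
          (c⁻¹ • (x : Matrix (Fin n) (Fin n) F)) * ((Matrix.SpecialLinearGroup.toGL P : GL (Fin n) F) : Matrix (Fin n) (Fin n) F) := by
      rw [Matrix.mul_smul, Matrix.smul_mul]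
      show _ = c⁻¹ • (((P⁻¹ * x * P : Matrix.SpecialLinearGroup (Fin n) F)) : Matrix (Fin n) (Fin n) F)
      rw [hA', smul_smul, inv_mul_cancel₀ hc, one_smul]
    rw [h2, map_inv, Matrix.coe_units_inv, Matrix.charpoly_units_conj']
  rw [h1, Matrix.charpoly_map, Polynomial.map_map,
    show σ.comp F₀.subtype = F₀.subtype from RingHom.ext fun a => hσ a]

/-- An element of order prime to `p` whose charpoly has coefficients in the subfield. -/
theorem exists_conj_mem [Fintype F] (p : ℕ) [Fact p.Prime] [CharP F p] (F₀ : Subfield F)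
    {n : ℕ} (hn : 0 < n) (x : Matrix.SpecialLinearGroup (Fin n) F) (g : GL (Fin n) F) {c : F} (hc : c ≠ 0)
    (hx : (x : Matrix (Fin n) (Fin n) F) = c • (g : Matrix (Fin n) (Fin n) F))
    (hg : (orderOf g).Coprime p)
    (hch : ∀ i, ((g : Matrix (Fin n) (Fin n) F).charpoly.coeff i) ∈ F₀) :
    ∃ P : Matrix.SpecialLinearGroup (Fin n) F,
      Matrix.SpecialLinearGroup.toGL (P⁻¹ * x * P) ∈ Cfsg.Geo.subfieldSubgroup F₀ 1 := by
  classical
  haveI : CharP F₀ p := (RingHom.charP_iff F₀.subtype F₀.subtype.injective p).2 inferInstance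
  set f := (g : Matrix (Fin n) (Fin n) F).charpoly with hf
  have hlift : f ∈ Polynomial.lifts F₀.subtype :=
    (Polynomial.lifts_iff_coeff_lifts f).2 fun i => ⟨⟨f.coeff i, hch i⟩, rfl⟩
  obtain ⟨f₀, hf₀, hdeg, hmon⟩ := Polynomial.lifts_and_degree_eq_and_monic hlift (Matrix.charpoly_monic _)
  have hnd : f₀.natDegree = n := by
    rw [Polynomial.natDegree_eq_of_degree_eq hdeg, hf, Matrix.charpoly_natDegree_eq_dim, Fintype.card_fin]
  have hc0 : f₀.coeff 0 ≠ 0 := fun e => CfsgLib.GLClass.coeff_zero_charpoly_gl g (by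
    rw [← hf, ← hf₀, Polynomial.coeff_map, e, map_zero])
  obtain ⟨g₀, hg₀, hg₀f⟩ := CfsgLib.GLClass.exists_regular_charpoly (F := F₀) p ⟨f₀, hmon, hnd, hc0⟩
  let X' : GL (Fin n) F := Matrix.GeneralLinearGroup.map (F₀.subtype : F₀ →+* F) g₀
  have hX' : (orderOf X').Coprime p := Nat.Coprime.coprime_dvd_left (orderOf_map_dvd _ _) hg₀
  have hch' : (g : Matrix (Fin n) (Fin n) F).charpoly = (X' : Matrix (Fin n) (Fin n) F).charpoly := by
    show f = ((g₀ : Matrix (Fin n) (Fin n) F₀).map F₀.subtype).charpoly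
    rw [Matrix.charpoly_map, hg₀f, hf₀]
  obtain ⟨y, hy⟩ := isConj_iff.1 (CfsgLib.GLClass.isConj_of_charpoly_eq p hg hX' hch')
  obtain ⟨S, hS, hdet⟩ := CfsgLib.GLClass.exists_commute_det p g hg hn
    (inv_ne_zero (CfsgLib.GLClass.det_ne_zero_gl y))
  have hdet1 : ((y * S : GL (Fin n) F) : Matrix (Fin n) (Fin n) F).det = 1 := by
    rw [Units.val_mul, Matrix.det_mul, hdet, mul_inv_cancel₀ (CfsgLib.GLClass.det_ne_zero_gl y)]
  let Q : Matrix.SpecialLinearGroup (Fin n) F := ⟨_, hdet1⟩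
  have hQ : Matrix.SpecialLinearGroup.toGL Q = y * S := Units.ext rfl
  refine ⟨Q⁻¹, mem_of_eq F₀ _ g₀ hc ?_⟩
  have h1 : S * g * S⁻¹ = g := by rw [hS, mul_inv_cancel_right]
  have h2 : (y * S) * g * (y * S)⁻¹ = X' := by
    calc y * S * g * (y * S)⁻¹ = y * (S * g * S⁻¹) * y⁻¹ := by group
      _ = X' := by rw [h1, hy]
  rw [inv_inv, map_mul, map_mul, map_inv, hQ, Units.val_mul, Units.val_mul]
  show _ * (x : Matrix (Fin n) (Fin n) F) * _ = _
  rw [hx, Matrix.mul_smul, Matrix.smul_mul, ← Units.val_mul, ← Units.val_mul, h2]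
  rfl

/-- Eigenvalues of a matrix with `A ^ r = 1` in an algebraically closed field. -/
theorem root_pow_eq_one {K : Type*} [Field K] {n : ℕ} (A : Matrix (Fin n) (Fin n) K) {r : ℕ} (hA : A ^ r = 1)
    {a : K} (ha : a ∈ A.charpoly.roots) : a ^ r = 1 := by
  have hroot : A.charpoly.IsRoot a := (Polynomial.mem_roots (Matrix.charpoly_monic A).ne_zero).1 ha
  have hmem : a ∈ spectrum K A := Matrix.mem_spectrum_iff_isRoot_charpoly.2 hroot
  have h2 : a ^ r ∈ spectrum K (A ^ r) := spectrum.pow_mem_pow A r hmem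
  rw [hA] at h2
  rcases Nat.eq_zero_or_pos n with rfl | hn
  · simp at h2
  · haveI : Nonempty (Fin n) := ⟨⟨0, hn⟩⟩
    rwa [spectrum.one_eq, Set.mem_singleton_iff] at h2

/-- The characteristic polynomial of a scalar multiple, on roots. -/
theorem charpoly_smul_eq {K : Type*} [Field K] [Infinite K] [IsAlgClosed K] {n : ℕ}
    (A : Matrix (Fin n) (Fin n) K) {a : K} (ha : a ≠ 0) :
    (a • A).charpoly = ((A.charpoly.roots.map (a * ·)).map fun l => X - C l).prod := by
  refine Polynomial.funext fun t => ?_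
  have hA : A.charpoly = (A.charpoly.roots.map fun l => X - C l).prod :=
    (IsAlgClosed.splits A.charpoly).eq_prod_roots_of_monic (Matrix.charpoly_monic A)
  have hcard : Multiset.card A.charpoly.roots = n := by
    rw [← Polynomial.Splits.natDegree_eq_card_roots (IsAlgClosed.splits A.charpoly),
      Matrix.charpoly_natDegree_eq_dim, Fintype.card_fin]
  have h1 : Matrix.scalar (Fin n) t - a • A = a • (Matrix.scalar (Fin n) (a⁻¹ * t) - A) := by
    rw [smul_sub, Matrix.scalar_apply, Matrix.scalar_apply, ← Matrix.diagonal_smul]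
    congr 2
    funext i
    simp only [Pi.smul_apply, smul_eq_mul]
    rw [← mul_assoc, mul_inv_cancel₀ ha, one_mul]
  rw [Matrix.eval_charpoly, h1, Matrix.det_smul, Fintype.card_fin, ← Matrix.eval_charpoly]
  rw [show a ^ n = a ^ Multiset.card A.charpoly.roots by rw [hcard]]
  conv_lhs => rw [hA, Polynomial.eval_multiset_prod, Multiset.map_map]
  rw [← hA, Polynomial.eval_multiset_prod, Multiset.map_map, Multiset.map_map, ← Multiset.prod_replicate,
    ← Multiset.map_const', ← Multiset.prod_map_mul]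
  refine congrArg Multiset.prod (Multiset.map_congr rfl fun l _ => ?_)
  simp only [Function.comp_apply, Function.const_apply, eval_sub, eval_X, eval_C]
  rw [mul_sub, ← mul_assoc, mul_inv_cancel₀ ha, one_mul]

end CfsgLib.Elusive.SubField
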