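import Cfsg.Agent.Elusive.SympField
import Cfsg.Agent.Elusive.SympPlanes
import Cfsg.Agent.Elusive.ExtField
import Cfsg.Agent.Elusive.Construct
import Cfsg.Agent.Classical.SympGeometry
import Mathlib.FieldTheory.Finite.GaloisField

/-!
Elements of prime order of the symplectic group and the normalisers of self-adjoint fields.
-/

set_option autoImplicit false
open scoped Matrix

namespace CfsgLib.Elusive

open Module Cfsg.Geo

variable {F : Type*} [Field F] [Fintype F]

/-- An element of order `r` of `Sp` with at most `2 j` moved dimensions. -/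
theorem exists_small_support {r : ℕ} [hrr : Fact r.Prime] {j b : ℕ} (hj : 0 < j)
    (h : r ∣ Fintype.card F ^ (2 * j) - 1) :
    ∃ x : GL (Fin (j + b) ⊕ Fin (j + b)) F, x ∈ Cfsg.spGL (j + b) F ∧ x ^ r = 1 ∧
      finrank F (movS (Matrix.toLin' (x : Matrix (Fin (j + b) ⊕ Fin (j + b)) (Fin (j + b) ⊕ Fin (j + b)) F))) ≤ 2 * j ∧
      finrank F (movS (Matrix.toLin' (x : Matrix (Fin (j + b) ⊕ Fin (j + b)) (Fin (j + b) ⊕ Fin (j + b)) F))) ≠ 0 := by
  classical
  have hcard : r ∣ Nat.card (Matrix.symplecticGroup (Fin j) F) := by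
    rw [CfsgLib.Symp.card_Sp, Nat.card_eq_fintype_card]
    refine dvd_mul_of_dvd_right ((?_ : r ∣ Fintype.card F ^ (2 * (j - 1 + 1)) - 1).trans
      (Finset.dvd_prod_of_mem (fun k => Fintype.card F ^ (2 * (k + 1)) - 1)
        (Finset.mem_range.2 (show j - 1 < j by omega)))) _
    rw [show j - 1 + 1 = j by omega]
    exact h
  have := Fintype.ofFinite (Matrix.symplecticGroup (Fin j) F)
  obtain ⟨g, hg⟩ := exists_prime_orderOf_dvd_card' r hcard
  let ψ := (CfsgLib.Symp.congrSp (R := F) (finSumFinEquiv : Fin j ⊕ Fin b ≃ Fin (j + b))).toMonoidHom.comp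
    ((CfsgLib.Symp.blockHom (a := Fin j) (b := Fin b) (R := F)).comp (MonoidHom.inl _ _))
  have hψ : Function.Injective ψ := fun a c h => congrArg Prod.fst (CfsgLib.Symp.blockHom_injective
    (show CfsgLib.Symp.blockHom (R := F) (a, (1 : Matrix.symplecticGroup (Fin b) F)) =
      CfsgLib.Symp.blockHom (R := F) (c, 1) from (CfsgLib.Symp.congrSp _).injective h))
  let x : GL (Fin (j + b) ⊕ Fin (j + b)) F := (Matrix.symplecticGroup (Fin (j + b)) F).subtype.toHomUnits (ψ g)
  have hψr : ψ g ^ r = 1 := by rw [← map_pow, ← hg, pow_orderOf_eq_one, map_one]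
  refine ⟨x, fun u v => CfsgLib.Symp.form_smul_smul (ψ g) u v,
    by rw [← map_pow, hψr, map_one], ?_, ?_⟩
  · set f := Matrix.toLin' (x : Matrix (Fin (j + b) ⊕ Fin (j + b)) (Fin (j + b) ⊕ Fin (j + b)) F)
    let ρ : (Fin (j + b) ⊕ Fin (j + b) → F) →ₗ[F] (Fin b ⊕ Fin b → F) :=
      LinearMap.funLeft F F (Sum.map (finSumFinEquiv ∘ Sum.inr) (finSumFinEquiv ∘ Sum.inr))
    have hsub : movS f ≤ LinearMap.ker ρ := by
      rintro _ ⟨v, rfl⟩
      set E := Equiv.sumCongr (finSumFinEquiv : Fin j ⊕ Fin b ≃ Fin (j + b)) finSumFinEquiv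
      have hfv : ∀ s, f v (E s) = (CfsgLib.Symp.blockHom (R := F) (g, (1 : Matrix.symplecticGroup (Fin b) F)) • (v ∘ E)) s := by
        intro s
        show ((Matrix.reindex E E (CfsgLib.Symp.blockHom (R := F) (g, (1 : Matrix.symplecticGroup (Fin b) F))).1) *ᵥ v) (E s) = _
        rw [Matrix.reindex_apply, Matrix.submatrix_mulVec_equiv, Equiv.symm_symm, Function.comp_apply,
          Equiv.symm_apply_apply]
        rfl
      rw [LinearMap.mem_ker]
      funext s
      have hs : Sum.map (finSumFinEquiv ∘ Sum.inr) (finSumFinEquiv ∘ Sum.inr) s = E (Sum.map Sum.inr Sum.inr s) := by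
        rcases s with s | s <;> rfl
      show f v _ - v _ = 0
      rw [hs, hfv, CfsgLib.Symp.blockHom_smul, one_smul, sub_eq_zero]
      exact congrFun (CfsgLib.Symp.resB_glue _ _) s
    have h1 := LinearMap.finrank_range_add_finrank_ker ρ
    rw [LinearMap.range_eq_top.2 (LinearMap.funLeft_surjective_of_injective F F _
        ((finSumFinEquiv.injective.comp Sum.inr_injective).sumMap (finSumFinEquiv.injective.comp Sum.inr_injective))),
      finrank_top, Module.finrank_fintype_fun_eq_card, Module.finrank_fintype_fun_eq_card, Fintype.card_sum,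
      Fintype.card_sum, Fintype.card_fin, Fintype.card_fin] at h1
    have h2 := Submodule.finrank_mono hsub
    omega
  · intro h0
    rw [Submodule.finrank_eq_zero, movS, LinearMap.range_eq_bot, sub_eq_zero] at h0
    have h1 : ψ g = ψ 1 := by
      rw [map_one]
      refine Subtype.ext (Matrix.toLin'.injective ?_)
      rw [OneMemClass.coe_one, Matrix.toLin'_one]
      exact h0
    rw [hψ h1, orderOf_one] at hg
    exact hrr.out.one_lt.ne hg

/- The criterion for a self-adjoint field of prime degree. -/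
set_option maxHeartbeats 1600000 in
theorem symp_ext_field_iff {p : ℕ} [Fact p.Prime] [CharP F p] {d : ℕ} (hd : 2 ≤ d) {L : Type*} [Field L]
    [Algebra F L] [FiniteDimensional F L] {k : ℕ} (hk : k.Prime) (hLk : finrank F L = k)
    (ι' : L →ₐ[F] Matrix (Fin d ⊕ Fin d) (Fin d ⊕ Fin d) F)
    (hsa : ∀ l u v, Cfsg.sympForm d F (ι' l *ᵥ u) v = Cfsg.sympForm d F u (ι' l *ᵥ v))
    (halt : ∀ l u, Cfsg.sympForm d F (ι' l *ᵥ u) u = 0) (r : ℕ) [Fact r.Prime]
    (hΩ : r ∣ (subalgebraNormalizer ι'.range).relIndex (Cfsg.spGL d F)) :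
    (∀ x ∈ Cfsg.spGL d F, (∃ z : F, ((x ^ r : GL (Fin d ⊕ Fin d) F) : Matrix (Fin d ⊕ Fin d) (Fin d ⊕ Fin d) F) = z • (1 : Matrix (Fin d ⊕ Fin d) (Fin d ⊕ Fin d) F)) →
      (∀ z : F, (x : Matrix (Fin d ⊕ Fin d) (Fin d ⊕ Fin d) F) ≠ z • (1 : Matrix (Fin d ⊕ Fin d) (Fin d ⊕ Fin d) F)) →
      ∃ g ∈ Cfsg.spGL d F, g⁻¹ * x * g ∈ subalgebraNormalizer ι'.range) ↔
    (r = 2 ∧ d = 2 ∧ k = 2 ∧ Odd (Fintype.card F)) := by
  classical
  have hrr := (Fact.out : r.Prime)
  haveI : Finite L := Module.finite_of_finite F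
  have hnz : Nonempty (Fin d ⊕ Fin d) := ⟨Sum.inl ⟨0, by omega⟩⟩
  have hι : Function.Injective ι' := RingHom.injective (ι' : L →+* Matrix (Fin d ⊕ Fin d) (Fin d ⊕ Fin d) F)
  let ρ : L →+* Module.End F (Fin d ⊕ Fin d → F) := (Matrix.toLinAlgEquiv'.toAlgHom.comp ι').toRingHom
  letI : Module L (Fin d ⊕ Fin d → F) := Module.compHom _ ρ
  have hact : ∀ (l : L) (v : Fin d ⊕ Fin d → F), l • v = ι' l *ᵥ v := fun l v => rfl
  haveI : IsScalarTower F L (Fin d ⊕ Fin d → F) := ⟨fun c l v => by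
    rw [hact, hact, map_smul, Matrix.smul_mulVec]⟩
  set B := sympBilin d F with hBdef
  have hsa' : ∀ (l : L) u v, B (l • u) v = B u (l • v) := fun l u v => hsa l u v
  have halt' : ∀ (l : L) u, B (l • u) u = 0 := fun l u => halt l u
  have hnd : ∀ w, (∀ w', B w w' = 0) → w = 0 := fun w hw => CfsgLib.Symp.eq_zero_of_form_eq_zero fun u => by
    rw [CfsgLib.Symp.form_swap, show CfsgLib.Symp.form w u = 0 from hw u, neg_zero]
  have hdim : finrank F (Fin d ⊕ Fin d → F) = 2 * d := by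
    rw [Module.finrank_fintype_fun_eq_card, Fintype.card_sum, Fintype.card_fin, two_mul]
  have hkd : k ∣ d := by
    have h := two_mul_finrank_dvd B hsa' halt' ⊤ (fun w _ hw => hnd w fun w' => hw w' Submodule.mem_top)
    rw [hLk, show finrank F (⊤ : Submodule L (Fin d ⊕ Fin d → F)) = 2 * d from
      (LinearEquiv.finrank_eq ((Submodule.topEquiv (R := L) (M := Fin d ⊕ Fin d → F)).restrictScalars F)).trans hdim] at h
    exact Nat.dvd_of_mul_dvd_mul_left two_pos h
  -- properties of members of the normaliser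
  have hcore : ∀ y : GL (Fin d ⊕ Fin d) F, y ∈ Cfsg.spGL d F → y ∈ subalgebraNormalizer ι'.range →
      y ^ r = 1 → ∀ w, finrank F (movS (Matrix.toLin' (y : Matrix (Fin d ⊕ Fin d) (Fin d ⊕ Fin d) F))) = w →
      (k ∣ w ∧ ((r : F) ≠ 0 → 2 * k ∣ w)) ∨ (r = k ∧ k * (2 * d - w) ≤ 2 * d) := by
    intro y hy hyN hyr w hw
    set g := Matrix.toLin' (y : Matrix (Fin d ⊕ Fin d) (Fin d ⊕ Fin d) F) with hgdef
    have hgr : g ^ r = 1 := by
      show Matrix.toLinAlgEquiv' (y : Matrix (Fin d ⊕ Fin d) (Fin d ⊕ Fin d) F) ^ r = 1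
      rw [← map_pow, ← Units.val_pow_eq_pow_val, hyr, Units.val_one, map_one]
    have hgf : ∀ u v, B (g u) (g v) = B u v := fun u v => hy u v
    have hσex : ∀ l, ∃ l', ι' l' = (y : Matrix (Fin d ⊕ Fin d) (Fin d ⊕ Fin d) F) * ι' l * ((y⁻¹ : GL (Fin d ⊕ Fin d) F) : Matrix (Fin d ⊕ Fin d) (Fin d ⊕ Fin d) F) :=
      fun l => (hyN _).1 ⟨l, rfl⟩
    choose σ₀ hσ₀ using hσex
    let σh : L →ₐ[F] L :=
      { toFun := σ₀
        map_one' := hι (by rw [hσ₀, map_one, mul_one, Units.mul_inv])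
        map_mul' := fun a b => hι (by rw [hσ₀, map_mul, map_mul, hσ₀, hσ₀]; simp [mul_assoc])
        map_zero' := hι (by rw [hσ₀, map_zero, mul_zero, zero_mul])
        map_add' := fun a b => hι (by rw [hσ₀, map_add, map_add, hσ₀, hσ₀, mul_add, add_mul])
        commutes' := fun c => hι (by
          rw [hσ₀, AlgHom.commutes, Algebra.algebraMap_eq_smul_one, mul_smul_comm, mul_one, smul_mul_assoc, Units.mul_inv]) }
    let σ : L ≃ₐ[F] L := AlgEquiv.ofBijective σh ⟨RingHom.injective σh.toRingHom,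
      (LinearMap.injective_iff_surjective (f := σh.toLinearMap)).1 (RingHom.injective σh.toRingHom)⟩
    have hσ : ∀ l, ι' (σ l) * (y : Matrix (Fin d ⊕ Fin d) (Fin d ⊕ Fin d) F) = (y : Matrix (Fin d ⊕ Fin d) (Fin d ⊕ Fin d) F) * ι' l := fun l => by
      show ι' (σ₀ l) * _ = _
      rw [hσ₀, mul_assoc, Units.inv_mul, mul_one]
    have hsemi : ∀ (l : L) v, g (l • v) = σ l • g v := fun l v => by
      rw [hgdef, hact, hact, Matrix.toLin'_apply, Matrix.toLin'_apply, Matrix.mulVec_mulVec, Matrix.mulVec_mulVec, hσ]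
    by_cases hσ1 : σ = 1
    · left
      have hcomm : ∀ (l : L) v, g (l • v) = l • g v := fun l v => by rw [hsemi, hσ1]; rfl
      let W : Submodule L (Fin d ⊕ Fin d → F) :=
        { carrier := movS g
          add_mem' := (movS g).add_mem
          zero_mem' := (movS g).zero_mem
          smul_mem' := fun l => by
            rintro _ ⟨v, rfl⟩
            exact ⟨l • v, by simp [hcomm, smul_sub]⟩ }
      have hWF : finrank F W = w := hw
      have hk1 : k ∣ w := by
        rw [← hWF, ← Module.finrank_mul_finrank F L W, hLk]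
        exact dvd_mul_right _ _
      refine ⟨hk1, fun hr => ?_⟩
      rw [← hLk, ← hWF]
      refine two_mul_finrank_dvd B hsa' halt' W fun v hv hperp => disjoint_fix_mov hgr hr ?_ hv
      rw [mem_fixS]
      refine sub_eq_zero.1 (hnd _ fun u => ?_)
      obtain ⟨u', rfl⟩ : ∃ u', g u' = u := by
        refine ⟨(g ^ (r - 1)) u, ?_⟩
        rw [← Module.End.mul_apply, ← pow_succ', show r - 1 + 1 = r by have := hrr.one_lt; omega, hgr]
        rfl
      have h1 : B v (g u' - u') = 0 := hperp _ ⟨u', rfl⟩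
      rw [map_sub] at h1
      rw [map_sub, LinearMap.sub_apply, hgf]
      linear_combination -h1
    · right
      have hσr : σ ^ r = 1 := by
        have hpow : ∀ (m : ℕ) l, ι' ((σ ^ m) l) * (y : Matrix (Fin d ⊕ Fin d) (Fin d ⊕ Fin d) F) ^ m =
            (y : Matrix (Fin d ⊕ Fin d) (Fin d ⊕ Fin d) F) ^ m * ι' l := fun m => by
          induction m with
          | zero => intro l; simp
          | succ m ih =>
            intro l
            rw [pow_succ σ, AlgEquiv.mul_apply, pow_succ (y : Matrix (Fin d ⊕ Fin d) (Fin d ⊕ Fin d) F) m,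
              ← mul_assoc, ih, mul_assoc, hσ, ← mul_assoc]
        refine AlgEquiv.ext fun l => hι ?_
        have h := hpow r l
        rw [← Units.val_pow_eq_pow_val, hyr, Units.val_one, mul_one, one_mul] at h
        exact h
      have : Finite L := Module.finite_of_finite F
      have hdvd : orderOf σ ∣ k := by
        rw [← hLk, ← IsGalois.card_aut_eq_finrank F L]
        exact orderOf_dvd_natCard σ
      rw [orderOf_eq_prime hσr hσ1] at hdvd
      refine ⟨(Nat.prime_dvd_prime_iff_eq hrr hk).1 hdvd, ?_⟩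
      have hfm : finrank F (fixS g) + finrank F (movS g) = 2 * d := fix_add_mov.trans hdim
      have h1 := semilinear_eigen_le (hLk ▸ hk) hsemi hσ1 one_ne_zero
        (A := fixS g) fun v hv => by rw [one_smul]; exact mem_fixS.1 hv
      rw [hLk, hdim] at h1
      rw [show 2 * d - w = finrank F (fixS g) by omega]
      exact h1
  -- witnesses
  have hwit : ∀ x : GL (Fin d ⊕ Fin d) F, x ∈ Cfsg.spGL d F → x ^ r = 1 →
      ∀ w, finrank F (movS (Matrix.toLin' (x : Matrix (Fin d ⊕ Fin d) (Fin d ⊕ Fin d) F))) = w →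
      ∀ g ∈ Cfsg.spGL d F, g⁻¹ * x * g ∈ subalgebraNormalizer ι'.range →
      (k ∣ w ∧ ((r : F) ≠ 0 → 2 * k ∣ w)) ∨ (r = k ∧ k * (2 * d - w) ≤ 2 * d) := by
    intro x hx hxr w hw g hg hm
    refine hcore _ (mul_mem (mul_mem (inv_mem hg) hx) hg) hm
      (by rw [show g⁻¹ * x * g = g⁻¹ * x * g⁻¹⁻¹ by rw [inv_inv], conj_pow, hxr]; group) w ?_
    let G : (Fin d ⊕ Fin d → F) ≃ₗ[F] (Fin d ⊕ Fin d → F) := LinearEquiv.ofLinear
      (Matrix.mulVecLin ((g⁻¹ : GL (Fin d ⊕ Fin d) F) : Matrix (Fin d ⊕ Fin d) (Fin d ⊕ Fin d) F))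
      (Matrix.mulVecLin (g : Matrix (Fin d ⊕ Fin d) (Fin d ⊕ Fin d) F))
      (by rw [← Matrix.mulVecLin_mul, ← Units.val_mul, inv_mul_cancel, Units.val_one, Matrix.mulVecLin_one])
      (by rw [← Matrix.mulVecLin_mul, ← Units.val_mul, mul_inv_cancel, Units.val_one, Matrix.mulVecLin_one])
    rw [← hw, ← G.finrank_map_eq (movS (Matrix.toLin' (x : Matrix (Fin d ⊕ Fin d) (Fin d ⊕ Fin d) F)))]
    refine congrArg (fun S : Submodule F (Fin d ⊕ Fin d → F) => finrank F S) ?_
    apply le_antisymm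
    · rintro _ ⟨v, rfl⟩
      refine ⟨_, ⟨(g : Matrix (Fin d ⊕ Fin d) (Fin d ⊕ Fin d) F) *ᵥ v, rfl⟩, ?_⟩
      simp [G, Units.val_mul, Matrix.mulVec_sub, Matrix.mulVec_mulVec, mul_assoc]
    · rintro _ ⟨_, ⟨v, rfl⟩, rfl⟩
      refine ⟨((g⁻¹ : GL (Fin d ⊕ Fin d) F) : Matrix (Fin d ⊕ Fin d) (Fin d ⊕ Fin d) F) *ᵥ v, ?_⟩
      simp [G, Units.val_mul, Matrix.mulVec_sub, Matrix.mulVec_mulVec, mul_assoc, Units.mul_inv]
  constructor
  · intro hall
    by_contra hno
    have hnsc : ∀ x : GL (Fin d ⊕ Fin d) F, x ∈ Cfsg.spGL d F → x ^ r = 1 →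
        ∀ w, finrank F (movS (Matrix.toLin' (x : Matrix (Fin d ⊕ Fin d) (Fin d ⊕ Fin d) F))) = w →
        w ≠ 0 → w < 2 * d →
        ∀ z : F, (x : Matrix (Fin d ⊕ Fin d) (Fin d ⊕ Fin d) F) ≠ z • 1 := by
      intro x _ _ w hw hw0 hwd z hz
      have hz' : Matrix.toLin' (x : Matrix (Fin d ⊕ Fin d) (Fin d ⊕ Fin d) F) - 1 = (z - 1) • LinearMap.id := by
        rw [hz, map_smul, Matrix.toLin'_one]; exact LinearMap.ext fun v => by simp [sub_smul]
      by_cases hz1 : z - 1 = 0
      · rw [movS, hz', hz1, zero_smul, LinearMap.range_zero, finrank_bot] at hw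
        exact hw0 hw.symm
      · rw [movS, hz', LinearMap.range_smul _ _ hz1, LinearMap.range_id, finrank_top, hdim] at hw
        omega
    by_cases hrp : r = p
    · -- a transvection
      set v : Fin d ⊕ Fin d → F := Pi.single (Sum.inl ⟨0, by omega⟩) 1 with hv
      have hv0 : v ≠ 0 := fun h => by simpa [hv] using congrFun h (Sum.inl ⟨0, by omega⟩)
      let x : GL (Fin d ⊕ Fin d) F := (Matrix.symplecticGroup (Fin d) F).subtype.toHomUnits (CfsgLib.Symp.tv v (1 : F))
      have hxS : x ∈ Cfsg.spGL d F := fun a b => CfsgLib.Symp.form_smul_smul _ a b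
      have hxr : x ^ r = 1 := by
        have hpw : ∀ m : ℕ, CfsgLib.Symp.tv v (1 : F) ^ m = CfsgLib.Symp.tv v (m : F) := fun m => by
          induction m with
          | zero => rw [pow_zero, Nat.cast_zero, CfsgLib.Symp.tv_zero]
          | succ m ih => rw [pow_succ, ih, CfsgLib.Symp.tv_add, Nat.cast_succ]
        rw [← map_pow, hpw, hrp, CharP.cast_eq_zero, CfsgLib.Symp.tv_zero, map_one]
      have hw : finrank F (movS (Matrix.toLin' (x : Matrix (Fin d ⊕ Fin d) (Fin d ⊕ Fin d) F))) = 1 := by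
        obtain ⟨v', hv'⟩ := CfsgLib.Symp.exists_form_ne_zero hv0
        have heq : movS (Matrix.toLin' (x : Matrix (Fin d ⊕ Fin d) (Fin d ⊕ Fin d) F)) = F ∙ v := by
          apply le_antisymm
          · rintro _ ⟨a, rfl⟩
            refine Submodule.mem_span_singleton.2 ⟨CfsgLib.Symp.form a v, ?_⟩
            show _ = CfsgLib.Symp.tv v (1 : F) • a - a
            rw [CfsgLib.Symp.tv_smul, one_mul, add_sub_cancel_left]
          · rw [Submodule.span_singleton_le_iff_mem]
            refine ⟨-(CfsgLib.Symp.form v v')⁻¹ • v', ?_⟩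
            show CfsgLib.Symp.tv v (1 : F) • (-(CfsgLib.Symp.form v v')⁻¹ • v') - -(CfsgLib.Symp.form v v')⁻¹ • v' = v
            rw [CfsgLib.Symp.tv_smul, one_mul, add_sub_cancel_left, CfsgLib.Symp.form_smul_left,
              CfsgLib.Symp.form_swap v' v, neg_mul_neg, inv_mul_cancel₀ hv', one_smul]
        rw [heq, finrank_span_singleton hv0]
      obtain ⟨g, hg, hm⟩ := hall x hxS ⟨1, by rw [hxr, one_smul, Units.val_one]⟩
        (hnsc x hxS hxr 1 hw one_ne_zero (by omega))
      rcases hwit x hxS hxr 1 hw g hg hm with ⟨h1, -⟩ | ⟨-, h1⟩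
      · exact hk.one_lt.ne' (Nat.dvd_one.1 h1)
      · have h2 := Nat.mul_le_mul_right (2 * d - 1) hk.two_le
        omega
    · have hr0 : (r : F) ≠ 0 := cast_ne_zero_of_ne (p := p) hrp
      set Q : ZMod r := ((Fintype.card F : ℕ) : ZMod r) with hQ
      have hQ0 : Q ≠ 0 := card_ne_zero_mod (F := F) (p := p) hrp
      set j := orderOf (Q ^ 2) with hj
      have hj0 : 0 < j := orderOf_pos_iff.2 (isOfFinOrder_iff_pow_eq_one.2
        ⟨r - 1, by have := hrr.two_le; omega, ZMod.pow_card_sub_one_eq_one (pow_ne_zero 2 hQ0)⟩)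
      have hfac : ∀ i, r ∣ Fintype.card F ^ (2 * i) - 1 ↔ j ∣ i := fun i => by
        rw [hj, orderOf_dvd_iff_pow_eq_one, ← pow_mul, hQ, ← ZMod.natCast_eq_zero_iff,
          Nat.cast_sub (Nat.one_le_pow _ _ Fintype.card_pos), Nat.cast_pow, Nat.cast_one, sub_eq_zero]
      have hspcard : Nat.card (Cfsg.spGL d F) = Nat.card (Matrix.symplecticGroup (Fin d) F) :=
        Nat.card_congr <| Equiv.ofBijective
          (fun g => ⟨(g.1 : Matrix (Fin d ⊕ Fin d) (Fin d ⊕ Fin d) F), CfsgLib.Symp.mem_iff_form.2 g.2⟩)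
          ⟨fun a b e => Subtype.ext (Units.ext (congrArg Subtype.val e)), fun g =>
            ⟨⟨(Matrix.symplecticGroup (Fin d) F).subtype.toHomUnits g, fun u v =>
              CfsgLib.Symp.form_smul_smul g u v⟩, Subtype.ext rfl⟩⟩
      have hrSp : r ∣ Nat.card (Cfsg.spGL d F) := by
        refine hΩ.trans ?_
        rw [← Subgroup.relIndex_bot_left (Cfsg.spGL d F),
          ← Subgroup.relIndex_mul_relIndex ⊥ (subalgebraNormalizer ι'.range ⊓ Cfsg.spGL d F) _ bot_le inf_le_right,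
          Subgroup.inf_relIndex_right]
        exact dvd_mul_left _ _
      have hrq : ¬ r ∣ Fintype.card F := fun h => hQ0 ((ZMod.natCast_eq_zero_iff _ _).2 h)
      have hjd : j ≤ d := by
        rw [hspcard, CfsgLib.Symp.card_Sp, Nat.card_eq_fintype_card] at hrSp
        rcases hrr.dvd_mul.1 hrSp with h | h
        · exact absurd (hrr.dvd_of_dvd_pow h) hrq
        · obtain ⟨i, hi, hri⟩ := (hrr.prime.dvd_finset_prod_iff _).1 h
          have := Nat.le_of_dvd (by omega) ((hfac (i + 1)).1 hri)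
          have := Finset.mem_range.1 hi
          omega
      -- the degree does not divide the level
      have hkj : ¬ k ∣ j := by
        intro hkj
        obtain ⟨m, φ, hφ, hfm, hφf⟩ := exists_symplectic_hom B hsa' halt' hnd
        rw [hdim, hLk] at hfm
        have hdm : d = k * m := by linarith
        let tom : ((Fin d ⊕ Fin d → F) ≃ₗ[L] (Fin d ⊕ Fin d → F)) →* GL (Fin d ⊕ Fin d) F :=
          MonoidHom.toHomUnits
            { toFun := fun T => LinearMap.toMatrix' (T.toLinearMap.restrictScalars F)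
              map_one' := LinearMap.toMatrix'_id
              map_mul' := fun S T => (congrArg LinearMap.toMatrix' (LinearMap.ext fun v => rfl :
                (S * T).toLinearMap.restrictScalars F = (S.toLinearMap.restrictScalars F).comp (T.toLinearMap.restrictScalars F))).trans
                (LinearMap.toMatrix'_comp _ _) }
        have htom : ∀ T v, ((tom T : GL (Fin d ⊕ Fin d) F) : Matrix (Fin d ⊕ Fin d) (Fin d ⊕ Fin d) F) *ᵥ v = T v :=
          fun T v => LinearMap.toMatrix'_mulVec _ v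
        have hle : (tom.comp φ).range ≤ subalgebraNormalizer ι'.range ⊓ Cfsg.spGL d F := by
          rintro _ ⟨g, rfl⟩
          refine ⟨mem_normalizer_of_conj ?_, fun u v => ?_⟩
          · rintro _ ⟨l, rfl⟩
            refine ⟨l, ?_⟩
            have hc : ((tom (φ g) : GL (Fin d ⊕ Fin d) F) : Matrix (Fin d ⊕ Fin d) (Fin d ⊕ Fin d) F) * ι' l =
                ι' l * (tom (φ g) : GL (Fin d ⊕ Fin d) F) :=
              Matrix.toLin'.injective (LinearMap.ext fun v => by
                rw [Matrix.toLin'_apply, Matrix.toLin'_apply, ← Matrix.mulVec_mulVec, ← Matrix.mulVec_mulVec, htom, htom,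
                  ← hact, ← hact, map_smul])
            show ι' l = ((tom (φ g) : GL (Fin d ⊕ Fin d) F) : Matrix (Fin d ⊕ Fin d) (Fin d ⊕ Fin d) F) * ι' l * _
            rw [hc, mul_assoc, MonoidHom.comp_apply, Units.mul_inv, mul_one]
          · show Cfsg.sympForm d F (((tom (φ g) : GL (Fin d ⊕ Fin d) F) : Matrix (Fin d ⊕ Fin d) (Fin d ⊕ Fin d) F) *ᵥ u)
              (((tom (φ g) : GL (Fin d ⊕ Fin d) F) : Matrix (Fin d ⊕ Fin d) (Fin d ⊕ Fin d) F) *ᵥ v) = _
            rw [htom, htom]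
            exact hφf g u v
        have hinj : Function.Injective (tom.comp φ) := fun a b h => hφ (LinearEquiv.ext fun v => by
          rw [← htom, ← htom]
          exact congrArg (fun T : GL (Fin d ⊕ Fin d) F => (T : Matrix (Fin d ⊕ Fin d) (Fin d ⊕ Fin d) F) *ᵥ v) h)
        obtain ⟨c, hc⟩ : Nat.card (Matrix.symplecticGroup (Fin m) L) ∣
            Nat.card ↥(subalgebraNormalizer ι'.range ⊓ Cfsg.spGL d F) := by
          rw [← Nat.card_congr (MonoidHom.ofInjective hinj).toEquiv.symm]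
          exact Subgroup.card_dvd_of_le hle
        have hmul := Subgroup.relIndex_mul_relIndex ⊥ (subalgebraNormalizer ι'.range ⊓ Cfsg.spGL d F)
          (Cfsg.spGL d F) bot_le inf_le_right
        rw [Subgroup.relIndex_bot_left, Subgroup.relIndex_bot_left, Subgroup.inf_relIndex_right, hc, hspcard,
          CfsgLib.Symp.card_Sp, CfsgLib.Symp.card_Sp, Module.natCard_eq_pow_finrank (K := F) (V := L), hLk,
          Nat.card_eq_fintype_card] at hmul
        set q := Fintype.card F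
        rw [← Finset.prod_filter_mul_prod_filter_not (Finset.range d) (fun i => k ∣ i + 1)] at hmul
        have hbig : ∏ i ∈ (Finset.range d).filter (fun i => k ∣ i + 1), (q ^ (2 * (i + 1)) - 1) =
            ∏ i ∈ Finset.range m, ((q ^ k) ^ (2 * (i + 1)) - 1) := by
          symm
          refine Finset.prod_nbij (fun i => k * (i + 1) - 1) ?_ ?_ ?_ ?_
          · intro i hi
            simp only [Finset.mem_coe, Finset.mem_range] at hi
            have h1 : k * (i + 1) ≤ k * m := Nat.mul_le_mul_left k hi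
            have h2 : 0 < k * (i + 1) := Nat.mul_pos hk.pos (by omega)
            simp only [Finset.mem_coe, Finset.mem_filter, Finset.mem_range]
            exact ⟨by omega, by rw [Nat.sub_add_cancel h2]; exact dvd_mul_right _ _⟩
          · intro a _ b _ h
            have h2 : 0 < k * (a + 1) := Nat.mul_pos hk.pos (by omega)
            have h3 : 0 < k * (b + 1) := Nat.mul_pos hk.pos (by omega)
            simp only at h
            have h4 : k * (a + 1) = k * (b + 1) := by omega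
            have := Nat.eq_of_mul_eq_mul_left hk.pos h4
            omega
          · intro i hi
            simp only [Finset.coe_filter, Finset.mem_range, Set.mem_ofPred_eq] at hi
            obtain ⟨c', hc'⟩ := hi.2
            have hc1 : c' ≠ 0 := fun h => by rw [h, mul_zero] at hc'; omega
            have hcm : k * c' ≤ k * m := by omega
            have := Nat.le_of_mul_le_mul_left hcm hk.pos
            refine ⟨c' - 1, by simp; omega, ?_⟩
            show k * (c' - 1 + 1) - 1 = i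
            rw [Nat.sub_add_cancel (Nat.pos_of_ne_zero hc1)]
            omega
          · intro i _
            rw [← pow_mul, Nat.sub_add_cancel (Nat.mul_pos hk.pos (by omega)),
              show 2 * (k * (i + 1)) = k * (2 * (i + 1)) by ring]
        rw [hbig] at hmul
        set P := ∏ i ∈ Finset.range m, ((q ^ k) ^ (2 * (i + 1)) - 1)
        set R := ∏ i ∈ (Finset.range d).filter (fun i => ¬ k ∣ i + 1), (q ^ (2 * (i + 1)) - 1)
        obtain ⟨e, he⟩ : ∃ e, q ^ (d ^ 2) = (q ^ k) ^ (m ^ 2) * q ^ e := by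
          obtain ⟨e, he⟩ := Nat.exists_eq_add_of_le (show k * m ^ 2 ≤ d ^ 2 by
            rw [hdm, mul_pow]
            exact Nat.mul_le_mul_right _ (Nat.le_self_pow two_ne_zero k))
          exact ⟨e, by rw [he, pow_add, pow_mul]⟩
        have hP : 0 < (q ^ k) ^ (m ^ 2) * P := by
          refine Nat.mul_pos (by positivity) (Finset.prod_pos fun i _ => ?_)
          have h1 : 2 ≤ q := Fintype.one_lt_card
          have h2 := Nat.le_self_pow (n := 2 * (i + 1)) (by omega) (q ^ k)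
          have h3 := Nat.le_self_pow hk.ne_zero q
          omega
        have hkey : c * (subalgebraNormalizer ι'.range).relIndex (Cfsg.spGL d F) = q ^ e * R := by
          refine Nat.eq_of_mul_eq_mul_left hP ?_
          rw [he] at hmul
          linarith
        rcases hrr.dvd_mul.1 (hkey ▸ dvd_mul_of_dvd_right hΩ c) with h | h
        · exact hrq (hrr.dvd_of_dvd_pow h)
        · obtain ⟨i, hi, hri⟩ := (hrr.prime.dvd_finset_prod_iff _).1 h
          exact (Finset.mem_filter.1 hi).2 (hkj.trans ((hfac (i + 1)).1 hri))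
      obtain ⟨b, rfl⟩ := Nat.exists_eq_add_of_le hjd
      obtain ⟨x, hxS, hxr, hwle, hw0⟩ := exists_small_support (F := F) (r := r) (b := b) hj0 ((hfac j).2 dvd_rfl)
      set w := finrank F (movS (Matrix.toLin' (x : Matrix (Fin (j + b) ⊕ Fin (j + b)) (Fin (j + b) ⊕ Fin (j + b)) F))) with hw
      have hns : ∀ z : F, (x : Matrix (Fin (j + b) ⊕ Fin (j + b)) (Fin (j + b) ⊕ Fin (j + b)) F) ≠ z • 1 := by
        by_cases hwd : w < 2 * (j + b)
        · exact hnsc x hxS hxr w hw.symm hw0 hwd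
        · intro z hz
          have hr2 : r ≠ 2 := fun h2 => by
            subst h2
            have hj1 : j = 1 := by
              have hQ1 : Q = 1 := by simpa using ZMod.pow_card_sub_one_eq_one hQ0
              rw [hj, hQ1, one_pow, orderOf_one]
            omega
          obtain ⟨v', hv'⟩ := CfsgLib.Symp.exists_form_ne_zero
            (v := (Pi.single (Sum.inl ⟨0, by omega⟩) 1 : Fin (j + b) ⊕ Fin (j + b) → F)) (by simp)
          have h1 := hxS (Pi.single (Sum.inl ⟨0, by omega⟩) 1) v'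
          change CfsgLib.Symp.form ((x : Matrix (Fin (j + b) ⊕ Fin (j + b)) (Fin (j + b) ⊕ Fin (j + b)) F) *ᵥ _)
            ((x : Matrix (Fin (j + b) ⊕ Fin (j + b)) (Fin (j + b) ⊕ Fin (j + b)) F) *ᵥ _) = CfsgLib.Symp.form _ _ at h1
          rw [hz, Matrix.smul_mulVec, Matrix.smul_mulVec, Matrix.one_mulVec, Matrix.one_mulVec,
            CfsgLib.Symp.form_smul_left, CfsgLib.Symp.form_smul_right, ← mul_assoc] at h1
          have hzz : z ^ 2 = 1 := by rw [pow_two]; exact mul_right_cancel₀ hv' (h1.trans (one_mul _).symm)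
          have hzr : z ^ r = 1 := by
            have h2 := congrArg Units.val hxr
            rw [Units.val_pow_eq_pow_val, hz, smul_pow, one_pow, Units.val_one] at h2
            have := congrFun (congrFun h2 (Sum.inl ⟨0, by omega⟩)) (Sum.inl ⟨0, by omega⟩)
            simpa using this
          obtain ⟨t, ht⟩ := hrr.odd_of_ne_two hr2
          rw [ht, pow_succ, pow_mul, hzz, one_pow, one_mul] at hzr
          refine hw0 (hw.trans ?_)
          rw [hz, hzr, one_smul, Matrix.toLin'_one, ← Module.End.one_eq_id, movS, sub_self, LinearMap.range_zero, finrank_bot]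
      obtain ⟨g, hg, hm⟩ := hall x hxS ⟨1, by rw [hxr, one_smul, Units.val_one]⟩ hns
      have hgr : Matrix.toLin' (x : Matrix (Fin (j + b) ⊕ Fin (j + b)) (Fin (j + b) ⊕ Fin (j + b)) F) ^ r = 1 := by
        show Matrix.toLinAlgEquiv' (x : Matrix (Fin (j + b) ⊕ Fin (j + b)) (Fin (j + b) ⊕ Fin (j + b)) F) ^ r = 1
        rw [← map_pow, ← Units.val_pow_eq_pow_val, hxr, Units.val_one, map_one]
      rcases hwit x hxS hxr w hw.symm g hg hm with ⟨-, h2k⟩ | ⟨hrk, hle⟩
      · obtain ⟨t, ht⟩ := h2k hr0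
        have hQw : Q ^ w = 1 := by
          have h := mov_dvd hgr hr0 (W := ⊤) (fun _ _ => Submodule.mem_top)
          rw [Submodule.map_top] at h
          exact orderOf_dvd_iff_pow_eq_one.1 h
        have hjt : j ∣ k * t := by
          rw [hj, orderOf_dvd_iff_pow_eq_one, ← pow_mul, ← mul_assoc, ← ht]
          exact hQw
        have ht0 : t ≠ 0 := fun h => hw0 (hw.symm.trans (by rw [ht, h, mul_zero]))
        have h1 : j ≤ k * t := Nat.le_of_dvd (Nat.mul_pos hk.pos (Nat.pos_of_ne_zero ht0)) hjt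
        rw [show 2 * k * t = 2 * (k * t) by ring] at ht
        exact hkj ⟨t, by omega⟩
      · subst hrk
        obtain ⟨t, ht⟩ := hkd
        by_cases hr2 : r = 2
        · subst hr2
          have hj1 : j = 1 := by
            have hQ1 : Q = 1 := by simpa using ZMod.pow_card_sub_one_eq_one hQ0
            rw [hj, hQ1, one_pow, orderOf_one]
          refine hno ⟨rfl, ?_, rfl, ?_⟩
          · omega
          · obtain ⟨e, hp, he⟩ := FiniteField.card F p
            rw [he]
            exact (hp.odd_of_ne_two (Ne.symm hrp)).pow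
        · have hj2 : j ∣ (r - 1) / 2 := by
            rw [hj, orderOf_dvd_iff_pow_eq_one, ← pow_mul,
              show 2 * ((r - 1) / 2) = r - 1 by obtain ⟨s, hs⟩ := hrr.odd_of_ne_two hr2; omega]
            exact ZMod.pow_card_sub_one_eq_one hQ0
          have hr3 : 3 ≤ r := by have := hrr.two_le; omega
          have hjr := Nat.le_of_dvd (by omega) hj2
          have ht1 : 1 ≤ t := by
            rcases Nat.eq_zero_or_pos t with h | h
            · subst h; omega
            · exact h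
          have h1 : r * 1 ≤ r * t := Nat.mul_le_mul_left r ht1
          have h2 : r * (2 * (j + b) - (r - 1)) ≤ r * (2 * (j + b) - w) := Nat.mul_le_mul_left r (by omega)
          have h3 : r * (j + b + 1) ≤ r * (2 * (j + b) - (r - 1)) := Nat.mul_le_mul_left r (by omega)
          have h4 : 3 * (j + b + 1) ≤ r * (j + b + 1) := Nat.mul_le_mul_right _ hr3
          omega
  · rintro ⟨rfl, rfl, rfl, hodd⟩ x hx ⟨z, hxz⟩ hns
    have h2 : (2 : F) ≠ 0 := by
      intro e
      have hch : ringChar F = 2 := CharP.ringChar_of_prime_eq_zero Nat.prime_two (by exact_mod_cast e)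
      have := FiniteField.even_card_iff_char_two.1 hch
      rw [Nat.odd_iff] at hodd
      omega
    -- the generator
    have hK : IsFieldSubalgebra 2 ι'.range :=
      ⟨by rintro _ ⟨a, rfl⟩ _ ⟨b, rfl⟩; show ι' a * ι' b = ι' b * ι' a; rw [← map_mul, ← map_mul, mul_comm],
        by
          rintro _ ⟨a, rfl⟩ ha
          exact ⟨ι' a⁻¹, ⟨_, rfl⟩, by show ι' a * ι' a⁻¹ = 1; rw [← map_mul, mul_inv_cancel₀ (fun e => ha (by rw [e]; exact map_zero ι')), map_one]⟩,
        (AlgEquiv.ofInjective ι' hι).toLinearEquiv.finrank_eq.symm.trans hLk⟩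
    obtain ⟨j₀, hj₀, β, α₀, hjj₀, hroot, hspan₀⟩ := exists_generator hK
    set j := j₀ - (β / 2) • (1 : Matrix (Fin 2 ⊕ Fin 2) (Fin 2 ⊕ Fin 2) F) with hjdef
    set α := α₀ + β ^ 2 / 4 with hαdef
    have h4 : (4 : F) ≠ 0 := by rw [show (4 : F) = 2 * 2 by norm_num]; exact mul_ne_zero h2 h2
    have hjK : j ∈ ι'.range := sub_mem hj₀ (Subalgebra.smul_mem _ (one_mem _) _)
    have hjj : j * j = α • 1 := by
      simp only [hjdef, sub_mul, mul_sub, hjj₀, smul_mul_assoc, mul_smul_comm, one_mul, mul_one, smul_smul, hαdef]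
      match_scalars <;> field_simp <;> ring
    have hα : ∀ c : F, c ^ 2 ≠ α := fun c hc => hroot (c + β / 2) (by
      rw [hαdef] at hc
      field_simp at hc ⊢
      linear_combination hc)
    have hα0 : α ≠ 0 := fun h => hα 0 (by rw [h]; ring)
    have hspan : ∀ k' ∈ ι'.range, ∃ a b : F, k' = a • 1 + b • j := fun k' hk' => by
      obtain ⟨a, b, rfl⟩ := hspan₀ k' hk'
      exact ⟨a + b * (β / 2), b, by rw [hjdef]; module⟩
    obtain ⟨lj, hlj⟩ := hjK
    have hjsa : ∀ u v, Cfsg.sympForm 2 F (j *ᵥ u) v = Cfsg.sympForm 2 F u (j *ᵥ v) := hlj ▸ hsa lj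
    have hjalt : ∀ u, Cfsg.sympForm 2 F (j *ᵥ u) u = 0 := hlj ▸ halt lj
    have hjjv : ∀ v, j *ᵥ (j *ᵥ v) = α • v := fun v => by
      rw [Matrix.mulVec_mulVec, hjj, Matrix.smul_mulVec, Matrix.one_mulVec]
    -- adapted vectors
    set e : Fin 2 ⊕ Fin 2 → F := Pi.single (Sum.inl 0) 1 with he
    obtain ⟨xv, hex, hjex⟩ : ∃ xv, B e xv = 1 ∧ B (j *ᵥ e) xv = 0 := by
      let Φ := (B e).prod (B (j *ᵥ e))
      have hΦ : Function.Surjective Φ := by
        rw [← LinearMap.range_eq_top]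
        by_contra htop
        obtain ⟨φ, hφ, hφr⟩ := Submodule.exists_dual_map_eq_bot_of_lt_top (lt_top_iff_ne_top.2 htop) inferInstance
        have hφ' : ∀ v, φ (B e v, B (j *ᵥ e) v) = 0 := fun v => by
          have : φ (Φ v) ∈ (LinearMap.range Φ).map φ := Submodule.mem_map_of_mem (LinearMap.mem_range_self Φ v)
          rwa [hφr, Submodule.mem_bot] at this
        have hlin : ∀ a b : F, φ (a, b) = a * φ (1, 0) + b * φ (0, 1) := fun a b => by
          rw [← smul_eq_mul a, ← smul_eq_mul b, ← map_smul, ← map_smul, ← map_add]; simp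
        have hcomb : φ (1, 0) • e + φ (0, 1) • (j *ᵥ e) = 0 := hnd _ fun v => by
          rw [map_add, map_smul, map_smul, LinearMap.add_apply, LinearMap.smul_apply, LinearMap.smul_apply,
            smul_eq_mul, smul_eq_mul, mul_comm, mul_comm (φ (0, 1))]
          exact (hlin _ _).symm.trans (hφ' v)
        have h01 : φ (0, 1) = 0 := by
          by_contra hb
          have hje : j *ᵥ e = (-(φ (0, 1))⁻¹ * φ (1, 0)) • e := by
            rw [neg_mul, neg_smul, ← smul_smul, eq_neg_of_add_eq_zero_left hcomb, smul_neg, neg_neg, smul_smul,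
              inv_mul_cancel₀ hb, one_smul]
          have h := hjjv e
          rw [hje, Matrix.mulVec_smul, hje, smul_smul] at h
          have h' := congrFun h (Sum.inl 0)
          simp [he] at h'
          exact hα ((φ (0, 1))⁻¹ * φ (1, 0)) (by rw [← h']; ring)
        rw [h01, zero_smul, add_zero] at hcomb
        have h10 : φ (1, 0) = 0 := by simpa [he] using congrFun hcomb (Sum.inl 0)
        exact hφ (LinearMap.ext fun ab => by rw [← Prod.mk.eta (p := ab), hlin, h01, h10]; simp)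
      obtain ⟨xv, hxv⟩ := hΦ (1, 0)
      exact ⟨xv, congrArg Prod.fst hxv, congrArg Prod.snd hxv⟩
    have hBskew : ∀ u v, B v u = -B u v := fun u v => CfsgLib.Symp.form_swap v u
    have hBself : ∀ u, B u u = 0 := fun u => CfsgLib.Symp.form_self u
    have hjs : ∀ u v, B (j *ᵥ u) v = B u (j *ᵥ v) := hjsa
    have hjBu : ∀ u, B (j *ᵥ u) u = 0 := hjalt
    have hejx : B e (j *ᵥ xv) = 0 := by rw [← hjs]; exact hjex
    have huje : B e (j *ᵥ e) = 0 := by rw [← hjs]; exact hjBu e
    have hxjx : B xv (j *ᵥ xv) = 0 := by rw [← hjs]; exact hjBu xv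
    have hxje : B xv (j *ᵥ e) = 0 := by rw [hBskew, hjex, neg_zero]
    have hjejx : B (j *ᵥ e) (j *ᵥ xv) = α := by rw [hjs, hjjv, map_smul, hex, smul_eq_mul, mul_one]
    -- a conjugating element from an adapted quadruple
    have hmain : ∀ (u0 w0 u1 w1 : Fin 2 ⊕ Fin 2 → F) (a b : F), (a ^ 2 + b ^ 2) * α = 1 →
        B u0 w0 = 1 → B u1 w1 = 1 → B u0 u1 = 0 → B u0 w1 = 0 → B w0 u1 = 0 → B w0 w1 = 0 →
        ∃ g ∈ Cfsg.spGL 2 F, ∀ y : GL (Fin 2 ⊕ Fin 2) F, y = g * x * g⁻¹ →
          (g : Matrix (Fin 2 ⊕ Fin 2) (Fin 2 ⊕ Fin 2) F) *ᵥ u0 = e ∧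
          (g : Matrix (Fin 2 ⊕ Fin 2) (Fin 2 ⊕ Fin 2) F) *ᵥ w0 = xv ∧
          (g : Matrix (Fin 2 ⊕ Fin 2) (Fin 2 ⊕ Fin 2) F) *ᵥ u1 = a • (j *ᵥ e) + b • (j *ᵥ xv) ∧
          (g : Matrix (Fin 2 ⊕ Fin 2) (Fin 2 ⊕ Fin 2) F) *ᵥ w1 = a • (j *ᵥ xv) - b • (j *ᵥ e) ∧
          ∀ (ε : F), (∀ u ∈ ({e, xv, a • (j *ᵥ e) + b • (j *ᵥ xv), a • (j *ᵥ xv) - b • (j *ᵥ e)} : Set (Fin 2 ⊕ Fin 2 → F)),
              (y : Matrix (Fin 2 ⊕ Fin 2) (Fin 2 ⊕ Fin 2) F) *ᵥ (j *ᵥ u) = ε • (j *ᵥ ((y : Matrix (Fin 2 ⊕ Fin 2) (Fin 2 ⊕ Fin 2) F) *ᵥ u))) →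
            y ∈ subalgebraNormalizer ι'.range := by
      intro u0 w0 u1 w1 a b hab h00 h11 huu huw hwu hww
      let src : Fin 4 → (Fin 2 ⊕ Fin 2 → F) := ![u0, w0, u1, w1]
      let tgt : Fin 4 → (Fin 2 ⊕ Fin 2 → F) := ![e, xv, a • (j *ᵥ e) + b • (j *ᵥ xv), a • (j *ᵥ xv) - b • (j *ᵥ e)]
      let G : Matrix (Fin 4) (Fin 4) F := !![0, 1, 0, 0; -1, 0, 0, 0; 0, 0, 0, 1; 0, 0, -1, 0]
      have hsrc : ∀ i i', B (src i) (src i') = G i i' := by
        intro i i'
        fin_cases i <;> fin_cases i' <;>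
          simp [src, G, hBself, h00, h11, huu, huw, hwu, hww, hBskew u0 w0, hBskew u1 w1, hBskew u0 u1,
            hBskew u0 w1, hBskew w0 u1, hBskew w0 w1]
      have htgt : ∀ i i', B (tgt i) (tgt i') = G i i' := by
        intro i i'
        fin_cases i <;> fin_cases i' <;>
          simp [tgt, G, hBself, hex, hejx, huje, hxjx, hxje, hjejx, hBskew e xv, hBskew e (j *ᵥ e), hBskew e (j *ᵥ xv),
            hBskew xv (j *ᵥ e), hBskew xv (j *ᵥ xv), hBskew (j *ᵥ e) (j *ᵥ xv)] <;>
          first | ring1 | linear_combination hab | linear_combination -hab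
      have hli : ∀ v : Fin 4 → (Fin 2 ⊕ Fin 2 → F), (∀ i i', B (v i) (v i') = G i i') → LinearIndependent F v := by
        intro v hv
        refine Fintype.linearIndependent_iff.2 fun c hc => ?_
        have hz : ∀ i', ∑ i, c i * G i i' = 0 := fun i' => by
          have h := congrArg (fun t => B t (v i')) hc
          simpa [map_sum, map_smul, LinearMap.sum_apply, hv] using h
        intro i
        have e0 := hz 0; have e1 := hz 1; have e2 := hz 2; have e3 := hz 3
        simp [Fin.sum_univ_four, G] at e0 e1 e2 e3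
        fin_cases i <;> assumption
      obtain ⟨s, hs⟩ := CfsgLib.Symp.Geometry.exists_sp_family (l := Fin 2) src tgt (hli _ hsrc) (hli _ htgt)
        (fun i i' => (hsrc i i').trans (htgt i i').symm)
      refine ⟨(Matrix.symplecticGroup (Fin 2) F).subtype.toHomUnits s, fun u v => CfsgLib.Symp.form_smul_smul s u v,
        fun y _ => ⟨hs 0, hs 1, hs 2, hs 3, fun ε hε => ?_⟩⟩
      have hspanT : Submodule.span F (Set.range tgt) = ⊤ :=
        (hli _ htgt).span_eq_top_of_card_eq_finrank' (by simp)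
      have hyj : Matrix.toLin' ((y : Matrix (Fin 2 ⊕ Fin 2) (Fin 2 ⊕ Fin 2) F) * j) =
          Matrix.toLin' (ε • (j * (y : Matrix (Fin 2 ⊕ Fin 2) (Fin 2 ⊕ Fin 2) F))) := by
        refine LinearMap.ext_on hspanT ?_
        rintro _ ⟨i, rfl⟩
        rw [Matrix.toLin'_apply, Matrix.toLin'_apply, Matrix.smul_mulVec, ← Matrix.mulVec_mulVec, ← Matrix.mulVec_mulVec]
        exact hε _ (by fin_cases i <;> simp [tgt])
      have hyj' := Matrix.toLin'.injective hyj
      refine mem_normalizer_of_conj fun k' hk' => ?_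
      obtain ⟨a', b', rfl⟩ := hspan k' hk'
      rw [mul_add, add_mul, mul_smul_comm, mul_smul_comm, smul_mul_assoc, smul_mul_assoc, mul_one, Units.mul_inv, hyj',
        smul_mul_assoc, mul_assoc, Units.mul_inv, mul_one, ← hlj, smul_smul]
      exact add_mem (Subalgebra.smul_mem _ (one_mem _) _) (Subalgebra.smul_mem _ (Set.mem_range_self lj : ι' lj ∈ ι'.range) _)
    -- normal form of the involution
    obtain ⟨xs, rfl⟩ : ∃ xs : Matrix.symplecticGroup (Fin 2) F, (Matrix.symplecticGroup (Fin 2) F).subtype.toHomUnits xs = x :=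
      ⟨⟨_, CfsgLib.Symp.mem_iff_form.2 hx⟩, Units.ext rfl⟩
    obtain ⟨u, w, ⟨huu, hww, huw, hne, hact'⟩, -⟩ := exists_planes_symp (F := F) (d := 2) two_pos h2 (x := xs) (z := z) hxz
    have huu' : ∀ i i', B (u i) (u i') = 0 := huu
    set xm := ((Matrix.symplecticGroup (Fin 2) F).subtype.toHomUnits xs : GL (Fin 2 ⊕ Fin 2) F)
    have hlift : ∀ (g : GL (Fin 2 ⊕ Fin 2) F) (v : Fin 2 ⊕ Fin 2 → F),
        ((g * xm * g⁻¹ : GL (Fin 2 ⊕ Fin 2) F) : Matrix (Fin 2 ⊕ Fin 2) (Fin 2 ⊕ Fin 2) F) *ᵥ ((g : Matrix (Fin 2 ⊕ Fin 2) (Fin 2 ⊕ Fin 2) F) *ᵥ v) =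
          (g : Matrix (Fin 2 ⊕ Fin 2) (Fin 2 ⊕ Fin 2) F) *ᵥ ((xm : Matrix (Fin 2 ⊕ Fin 2) (Fin 2 ⊕ Fin 2) F) *ᵥ v) := fun g v => by
      rw [Matrix.mulVec_mulVec, Matrix.mulVec_mulVec, ← Units.val_mul, ← Units.val_mul, mul_assoc, inv_mul_cancel, mul_one]
    obtain ⟨a, b, hab'⟩ := exists_sum_two_squares (F := F) α⁻¹
    have hab : (a ^ 2 + b ^ 2) * α = 1 := by rw [hab', inv_mul_cancel₀ hα0]
    have hje : ∀ s t : F, j *ᵥ (s • (j *ᵥ e) + t • (j *ᵥ xv)) = α • (s • e + t • xv) := fun s t => by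
      rw [Matrix.mulVec_add, Matrix.mulVec_smul, Matrix.mulVec_smul, hjjv, hjjv]; module
    have hje' : ∀ s t : F, j *ᵥ (s • (j *ᵥ xv) - t • (j *ᵥ e)) = α • (s • xv - t • e) := fun s t => by
      rw [Matrix.mulVec_sub, Matrix.mulVec_smul, Matrix.mulVec_smul, hjjv, hjjv]; module
    have hsolve : ∀ P Q' : Fin 2 ⊕ Fin 2 → F, P = a • (j *ᵥ e) + b • (j *ᵥ xv) → Q' = a • (j *ᵥ xv) - b • (j *ᵥ e) →
        j *ᵥ e = α • (a • P - b • Q') ∧ j *ᵥ xv = α • (b • P + a • Q') := by
      rintro _ _ rfl rfl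
      constructor
      · match_scalars <;> first | ring1 | linear_combination hab | linear_combination -hab
      · match_scalars <;> first | ring1 | linear_combination hab | linear_combination -hab
    rcases hact' with ⟨rfl, hs⟩ | ⟨rfl, hs⟩
    · obtain ⟨s0, hs0, hu0, hw0⟩ := hs 0
      obtain ⟨s1, hs1, hu1, hw1⟩ := hs 1
      have hne01 : s1 = -s0 := by
        rcases sq_eq_sq_iff_eq_or_eq_neg.1 (hs1.trans hs0.symm) with h | h
        · exfalso
          subst h
          refine hns s1 (Matrix.toLin'.injective ?_)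
          have hsp : Submodule.span F (Set.range ![u 0, w 0, u 1, w 1]) = ⊤ := by
            refine LinearIndependent.span_eq_top_of_card_eq_finrank' ?_ (by simp)
            refine Fintype.linearIndependent_iff.2 fun c hc i => ?_
            have e0 := congrArg (fun t => B t (w 0)) hc
            have e1 := congrArg (fun t => B t (u 0)) hc
            have e2 := congrArg (fun t => B t (w 1)) hc
            have e3 := congrArg (fun t => B t (u 1)) hc
            have z1 : ∀ i i', B (w i) (w i') = 0 := hww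
            have z2 : B (u 0) (w 1) = 0 := huw 0 1 (by decide)
            have z3 : B (u 1) (w 0) = 0 := huw 1 0 (by decide)
            simp [Fin.sum_univ_four, map_add, map_smul, z1, huu', z2, z3,
              show B (w 0) (u 0) = -B (u 0) (w 0) from hBskew _ _, show B (w 1) (u 1) = -B (u 1) (w 1) from hBskew _ _,
              show B (w 0) (u 1) = -B (u 1) (w 0) from hBskew _ _, show B (w 1) (u 0) = -B (u 0) (w 1) from hBskew _ _,
              show B (u 0) (w 0) ≠ 0 from hne 0, show B (u 1) (w 1) ≠ 0 from hne 1] at e0 e1 e2 e3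
            fin_cases i <;> assumption
          refine LinearMap.ext_on hsp ?_
          rintro _ ⟨i, rfl⟩
          rw [map_smul, Matrix.toLin'_one]
          fin_cases i <;> simpa using by assumption
        · exact h
      obtain ⟨g, hg, hg'⟩ := hmain (u 0) ((B (u 0) (w 0))⁻¹ • w 0) (u 1) ((B (u 1) (w 1))⁻¹ • w 1) a b hab
        (by rw [map_smul, smul_eq_mul, inv_mul_cancel₀ (hne 0)]) (by rw [map_smul, smul_eq_mul, inv_mul_cancel₀ (hne 1)])
        (huu' 0 1) (by rw [map_smul, show B (u 0) (w 1) = 0 from huw 0 1 (by decide), smul_zero])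
        (by rw [hBskew, map_smul, show B (u 1) (w 0) = 0 from huw 1 0 (by decide), smul_zero, neg_zero])
        (by rw [map_smul, LinearMap.map_smul₂, show B (w 0) (w 1) = 0 from hww 0 1, smul_zero, smul_zero])
      obtain ⟨g0, g1, g2, g3, hfin⟩ := hg' _ rfl
      refine ⟨g⁻¹, inv_mem hg, ?_⟩
      rw [inv_inv]
      have hxu0 : (xm : Matrix (Fin 2 ⊕ Fin 2) (Fin 2 ⊕ Fin 2) F) *ᵥ u 0 = s0 • u 0 := hu0
      have hxw0 : (xm : Matrix (Fin 2 ⊕ Fin 2) (Fin 2 ⊕ Fin 2) F) *ᵥ w 0 = s0 • w 0 := hw0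
      have hxu1 : (xm : Matrix (Fin 2 ⊕ Fin 2) (Fin 2 ⊕ Fin 2) F) *ᵥ u 1 = s1 • u 1 := hu1
      have hxw1 : (xm : Matrix (Fin 2 ⊕ Fin 2) (Fin 2 ⊕ Fin 2) F) *ᵥ w 1 = s1 • w 1 := hw1
      set Y := ((g * xm * g⁻¹ : GL (Fin 2 ⊕ Fin 2) F) : Matrix (Fin 2 ⊕ Fin 2) (Fin 2 ⊕ Fin 2) F) with hY
      have he' : Y *ᵥ e = s0 • e := by rw [← g0, hlift, hxu0, Matrix.mulVec_smul]
      have hx' : Y *ᵥ xv = s0 • xv := by
        rw [← g1, hlift, Matrix.mulVec_smul, hxw0, ← Matrix.mulVec_smul, smul_comm]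
      have hP : Y *ᵥ (a • (j *ᵥ e) + b • (j *ᵥ xv)) = s1 • (a • (j *ᵥ e) + b • (j *ᵥ xv)) := by
        rw [← g2, hlift, hxu1, Matrix.mulVec_smul]
      have hQ : Y *ᵥ (a • (j *ᵥ xv) - b • (j *ᵥ e)) = s1 • (a • (j *ᵥ xv) - b • (j *ᵥ e)) := by
        rw [← g3, hlift, Matrix.mulVec_smul, hxw1, ← Matrix.mulVec_smul, smul_comm]
      obtain ⟨hS1, hS2⟩ := hsolve _ _ rfl rfl
      refine hfin (-1) ?_
      rintro v (rfl | rfl | rfl | rfl)
      · rw [he', Matrix.mulVec_smul, hS1, Matrix.mulVec_smul, Matrix.mulVec_sub, Matrix.mulVec_smul, Matrix.mulVec_smul,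
          hP, hQ, hne01]
        module
      · rw [hx', Matrix.mulVec_smul, hS2, Matrix.mulVec_smul, Matrix.mulVec_add, Matrix.mulVec_smul, Matrix.mulVec_smul,
          hP, hQ, hne01]
        module
      · rw [hP, Matrix.mulVec_smul, hje, Matrix.mulVec_smul, Matrix.mulVec_add, Matrix.mulVec_smul, Matrix.mulVec_smul,
          he', hx', hne01]
        module
      · rw [hQ, Matrix.mulVec_smul, hje', Matrix.mulVec_smul, Matrix.mulVec_sub, Matrix.mulVec_smul, Matrix.mulVec_smul,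
          he', hx', hne01]
        module
    · -- square minus one: normalise the two planes
      have hnorm : ∀ i, ∃ P Q' : Fin 2 ⊕ Fin 2 → F, (∃ s t : F, P = s • u i + t • w i ∧ Q' = s • w i - t • u i) ∧
          (xm : Matrix (Fin 2 ⊕ Fin 2) (Fin 2 ⊕ Fin 2) F) *ᵥ P = Q' ∧
          (xm : Matrix (Fin 2 ⊕ Fin 2) (Fin 2 ⊕ Fin 2) F) *ᵥ Q' = -P ∧ B P Q' = 1 := fun i => by
        obtain ⟨hui, hwi⟩ := hs i
        obtain ⟨s, t, hst⟩ := exists_sum_two_squares (F := F) (B (u i) (w i))⁻¹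
        have hxu : (xm : Matrix (Fin 2 ⊕ Fin 2) (Fin 2 ⊕ Fin 2) F) *ᵥ u i = w i := hui
        have hxw : (xm : Matrix (Fin 2 ⊕ Fin 2) (Fin 2 ⊕ Fin 2) F) *ᵥ w i = -u i := hwi
        refine ⟨_, _, ⟨s, t, rfl, rfl⟩, ?_, ?_, ?_⟩
        · rw [Matrix.mulVec_add, Matrix.mulVec_smul, Matrix.mulVec_smul, hxu, hxw]; module
        · rw [Matrix.mulVec_sub, Matrix.mulVec_smul, Matrix.mulVec_smul, hxu, hxw]; module
        · have h := inv_mul_cancel₀ (hne i)
          rw [← hst] at h
          simp [hBself, show B (w i) (u i) = -B (u i) (w i) from hBskew _ _]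
          linear_combination h
      obtain ⟨P0, Q0, ⟨s0, t0, rfl, rfl⟩, hx0, hy0, hb0⟩ := hnorm 0
      obtain ⟨P1, Q1, ⟨s1, t1, rfl, rfl⟩, hx1, hy1, hb1⟩ := hnorm 1
      have o1 : B (u 0) (w 1) = 0 := huw 0 1 (by decide)
      have o2 : B (w 0) (u 1) = 0 := by rw [hBskew, show B (u 1) (w 0) = 0 from huw 1 0 (by decide), neg_zero]
      have o3 : B (u 0) (u 1) = 0 := huu' 0 1
      have o4 : B (w 0) (w 1) = 0 := hww 0 1
      obtain ⟨g, hg, hg'⟩ := hmain _ _ _ _ a b hab hb0 hb1 (by simp [o1, o2, o3, o4]) (by simp [o1, o2, o3, o4])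
        (by simp [o1, o2, o3, o4]) (by simp [o1, o2, o3, o4])
      obtain ⟨g0, g1, g2, g3, hfin⟩ := hg' _ rfl
      refine ⟨g⁻¹, inv_mem hg, ?_⟩
      rw [inv_inv]
      set Y := ((g * xm * g⁻¹ : GL (Fin 2 ⊕ Fin 2) F) : Matrix (Fin 2 ⊕ Fin 2) (Fin 2 ⊕ Fin 2) F) with hY
      have he' : Y *ᵥ e = xv := by rw [← g0, hlift, hx0, g1]
      have hx' : Y *ᵥ xv = -e := by rw [← g1, hlift, hy0, Matrix.mulVec_neg, g0]
      have hP : Y *ᵥ (a • (j *ᵥ e) + b • (j *ᵥ xv)) = a • (j *ᵥ xv) - b • (j *ᵥ e) := by rw [← g2, hlift, hx1, g3]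
      have hQ : Y *ᵥ (a • (j *ᵥ xv) - b • (j *ᵥ e)) = -(a • (j *ᵥ e) + b • (j *ᵥ xv)) := by
        rw [← g3, hlift, hy1, Matrix.mulVec_neg, g2]
      obtain ⟨hS1, hS2⟩ := hsolve _ _ rfl rfl
      have hjP := hje a b
      have hjQ := hje' a b
      generalize a • (j *ᵥ e) + b • (j *ᵥ xv) = P at *
      generalize a • (j *ᵥ xv) - b • (j *ᵥ e) = Q' at *
      refine hfin 1 ?_
      rintro v (rfl | rfl | rfl | rfl)
      · rw [he', one_smul, hS2, hS1, Matrix.mulVec_smul, Matrix.mulVec_sub, Matrix.mulVec_smul, Matrix.mulVec_smul, hP, hQ]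
        module
      · rw [hx', one_smul, Matrix.mulVec_neg, hS2, hS1, Matrix.mulVec_smul, Matrix.mulVec_add, Matrix.mulVec_smul,
          Matrix.mulVec_smul, hP, hQ]
        module
      · rw [hP, one_smul, hjP, hjQ, Matrix.mulVec_smul, Matrix.mulVec_add, Matrix.mulVec_smul, Matrix.mulVec_smul, he', hx']
        module
      · rw [hQ, one_smul, Matrix.mulVec_neg, hjP, hjQ, Matrix.mulVec_smul, Matrix.mulVec_sub, Matrix.mulVec_smul,
          Matrix.mulVec_smul, he', hx']
        module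

end CfsgLib.Elusive
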