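import Cfsg.Agent.Forms.OfBilin
import Cfsg.Agent.Elusive.Semisimple
import Cfsg.Agent.Classical.SymplecticBasic
import Mathlib.LinearAlgebra.Dual.Lemmas
import Mathlib.FieldTheory.Galois.Basic
import Mathlib.LinearAlgebra.Matrix.BilinearForm
import Mathlib.FieldTheory.IntermediateField.Basic

/-!
Alternating forms for which an extension field acts by self-adjoint maps, and semilinear maps over a
finite extension of prime degree.
-/

set_option autoImplicit false

namespace CfsgLib.Elusive

open Module

variable {F L V : Type*} [Field F] [Field L] [Algebra F L] [FiniteDimensional F L] [AddCommGroup V]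
  [Module F V] [Module L V] [IsScalarTower F L V] [FiniteDimensional F V]

/-- An alternating form with self-adjoint field action is the composite of an alternating form over the
field with a linear functional. -/
theorem exists_lift (f : LinearMap.BilinForm F V) (hsa : ∀ (l : L) u v, f (l • u) v = f u (l • v))
    (halt : ∀ (l : L) u, f (l • u) u = 0) :
    ∃ (lam : L →ₗ[F] F) (B : LinearMap.BilinForm L V), B.IsAlt ∧
      (∀ u v, lam (B u v) = f u v) ∧ ∀ b, (∀ a, lam (a * b) = 0) → b = 0 := by
  obtain ⟨lam, hlam⟩ : ∃ lam : L →ₗ[F] F, lam 1 = 1 := by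
    obtain ⟨π, hπ⟩ := (Algebra.linearMap F L).exists_leftInverse_of_injective
      (LinearMap.ker_eq_bot.2 (algebraMap F L).injective)
    exact ⟨π, by simpa using LinearMap.congr_fun hπ 1⟩
  have hsep : ∀ b : L, (∀ a, lam (a * b) = 0) → b = 0 := fun b hb => by
    by_contra h
    have h1 := hb b⁻¹
    rw [inv_mul_cancel₀ h, hlam] at h1
    exact one_ne_zero h1
  let Φ : L →ₗ[F] Module.Dual F L :=
    LinearMap.mk₂ F (fun b a => lam (a * b)) (fun b b' a => by rw [mul_add, map_add])
      (fun c b a => by rw [mul_smul_comm, map_smul]) (fun b a a' => by rw [add_mul, map_add])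
      (fun c b a => by rw [smul_mul_assoc, map_smul])
  have hΦ : Function.Surjective Φ :=
    (LinearMap.injective_iff_surjective_of_finrank_eq_finrank Subspace.dual_finrank_eq.symm).1
      ((injective_iff_map_eq_zero Φ).2 fun b hb => hsep b fun a => LinearMap.congr_fun hb a)
  have hex : ∀ u v : V, ∃ b : L, ∀ a : L, lam (a * b) = f (a • u) v := fun u v => by
    obtain ⟨b, hb⟩ := hΦ
      { toFun := fun a => f (a • u) v
        map_add' := fun a a' => by rw [add_smul, map_add, LinearMap.add_apply]
        map_smul' := fun c a => by rw [smul_assoc, map_smul, LinearMap.smul_apply, RingHom.id_apply] }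
    exact ⟨b, fun a => LinearMap.congr_fun hb a⟩
  choose b hb using hex
  have huniq : ∀ {u v : V} {c : L}, (∀ a : L, lam (a * c) = f (a • u) v) → b u v = c := fun {u v c} h =>
    sub_eq_zero.1 (hsep _ fun a => by rw [mul_sub, map_sub, hb, h, sub_self])
  refine ⟨lam, LinearMap.mk₂ L b (fun u u' v => huniq fun a => ?_) (fun c u v => huniq fun a => ?_)
    (fun u v v' => huniq fun a => ?_) (fun c u v => huniq fun a => ?_), fun u => huniq fun a => ?_,
    fun u v => ?_, hsep⟩
  · rw [mul_add, map_add, hb, hb, smul_add, map_add, LinearMap.add_apply]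
  · rw [smul_eq_mul, ← mul_assoc, hb, smul_smul]
  · rw [mul_add, map_add, hb, hb, map_add]
  · rw [smul_eq_mul, ← mul_assoc, hb, mul_comm a c, mul_smul, hsa]
  · rw [mul_zero, map_zero, halt]
  · show lam (b u v) = f u v
    have h := hb u v 1
    rwa [one_mul, one_smul] at h

/-- The dimension of a non-degenerate stable subspace is an even multiple of the degree. -/
theorem two_mul_finrank_dvd (f : LinearMap.BilinForm F V) (hsa : ∀ (l : L) u v, f (l • u) v = f u (l • v))
    (halt : ∀ (l : L) u, f (l • u) u = 0) (W : Submodule L V)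
    (hW : ∀ w ∈ W, (∀ w' ∈ W, f w w' = 0) → w = 0) :
    2 * finrank F L ∣ finrank F W := by
  haveI : Module.Finite L V := Module.Finite.right F L V
  obtain ⟨lam, B, hB, hlam, -⟩ := exists_lift f hsa halt
  obtain ⟨m, k, b, -, -, -, hrad⟩ := CfsgLib.Forms.exists_symplectic_basis _ W (B.restrict W)
    (fun w => hB (w : V)) rfl
  have hk : k = 0 := by
    by_contra hk
    refine b.ne_zero (Sum.inr ⟨0, Nat.pos_of_ne_zero hk⟩) (Subtype.ext (hW _ (Subtype.coe_prop _) fun w' hw' => ?_))
    exact (hlam _ _).symm.trans ((congrArg lam (hrad _ ⟨w', hw'⟩)).trans (map_zero lam))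
  subst hk
  rw [← Module.finrank_mul_finrank F L W, finrank_eq_card_basis b]
  simp only [Fintype.card_sum, Fintype.card_fin, add_zero]
  exact ⟨m, by ring⟩

/-- The symplectic group over the field embeds in the isometries commuting with it. -/
theorem exists_symplectic_hom (f : LinearMap.BilinForm F V) (hsa : ∀ (l : L) u v, f (l • u) v = f u (l • v))
    (halt : ∀ (l : L) u, f (l • u) u = 0) (hnd : ∀ w, (∀ w', f w w' = 0) → w = 0) :
    ∃ (m : ℕ) (φ : Matrix.symplecticGroup (Fin m) L →* (V ≃ₗ[L] V)), Function.Injective φ ∧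
      finrank F V = finrank F L * (2 * m) ∧ ∀ g u v, f (φ g u) (φ g v) = f u v := by
  haveI : Module.Finite L V := Module.Finite.right F L V
  obtain ⟨lam, B, hB, hlam, -⟩ := exists_lift f hsa halt
  obtain ⟨m, k, b, h1, h2, h3, hrad⟩ := CfsgLib.Forms.exists_symplectic_basis _ V B hB rfl
  have hk : k = 0 := by
    by_contra hk
    refine b.ne_zero (Sum.inr ⟨0, Nat.pos_of_ne_zero hk⟩) (hnd _ fun w' => ?_)
    rw [← hlam, hrad, map_zero]
  subst hk
  let e : V ≃ₗ[L] (Fin m ⊕ Fin m → L) := (b.reindex (Equiv.sumEmpty _ _)).equivFun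
  have he : ∀ u v, B u v = -CfsgLib.Symp.form (e u) (e v) := by
    intro u v
    suffices h : B = -(Matrix.toBilin' (Matrix.J (Fin m) L)).compl₁₂ e.toLinearMap e.toLinearMap by
      conv_lhs => rw [h]
      simp [CfsgLib.Symp.form, Matrix.toBilin'_apply']
    refine (b.reindex (Equiv.sumEmpty _ _)).ext fun s => (b.reindex (Equiv.sumEmpty _ _)).ext fun t => ?_
    simp only [LinearMap.neg_apply, LinearMap.compl₁₂_apply, LinearEquiv.coe_coe, e, Basis.equivFun_self,
      Matrix.toBilin'_apply', Basis.reindex_apply]
    have hskew : ∀ u v, B u v = -B v u := fun u v => (LinearMap.IsAlt.neg hB v u).symm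
    rcases s with s | s <;> rcases t with t | t <;>
      simp [Matrix.J, Matrix.fromBlocks_mulVec, dotProduct, Fintype.sum_sum_type, Matrix.mulVec, Matrix.one_apply,
        Equiv.sumEmpty, h1, h2, h3, eq_comm]
    all_goals simp [Finsupp.single_apply, hskew (b (Sum.inl (Sum.inr _))) (b (Sum.inl (Sum.inl _))), h1, eq_comm]
  let T : Matrix.symplecticGroup (Fin m) L →* ((Fin m ⊕ Fin m → L) ≃ₗ[L] (Fin m ⊕ Fin m → L)) :=
    (LinearMap.GeneralLinearGroup.generalLinearEquiv L (Fin m ⊕ Fin m → L)).toMonoidHom.comp
      ((Units.map Matrix.toLinAlgEquiv'.toMonoidHom).comp (Matrix.symplecticGroup (Fin m) L).subtype.toHomUnits)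
  have hT : ∀ g v, T g v = g • v := fun g v => rfl
  let φ : Matrix.symplecticGroup (Fin m) L →* (V ≃ₗ[L] V) :=
    { toFun := fun g => (e.trans (T g)).trans e.symm
      map_one' := LinearEquiv.ext fun v => by simp
      map_mul' := fun g h => LinearEquiv.ext fun v => by simp [LinearEquiv.mul_apply] }
  refine ⟨m, φ, (injective_iff_map_eq_one φ).2 fun g hg => CfsgLib.Symp.symp_ext fun v => ?_, ?_, fun g u v => ?_⟩
  · have h4 : e.symm (T g (e (e.symm v))) = e.symm v := LinearEquiv.congr_fun hg (e.symm v)
    rw [e.apply_symm_apply] at h4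
    rw [one_smul, ← hT]
    exact e.symm.injective h4
  · rw [← Module.finrank_mul_finrank F L V, e.finrank_eq, finrank_fintype_fun_eq_card]
    simp [two_mul]
  · rw [← hlam, ← hlam, he, he]
    show lam (-CfsgLib.Symp.form (e (e.symm (T g (e u)))) (e (e.symm (T g (e v))))) = _
    rw [e.apply_symm_apply, e.apply_symm_apply, hT, hT, CfsgLib.Symp.form_smul_smul]

omit [FiniteDimensional F L] in
/-- An eigenspace of a properly semilinear map has dimension at most the dimension over the field. -/
theorem semilinear_eigen_le [FiniteDimensional F L] (hk : (finrank F L).Prime) {g : V →ₗ[F] V} {σ : L ≃ₐ[F] L}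
    (hg : ∀ (l : L) v, g (l • v) = σ l • g v) (hσ : σ ≠ 1) {e : F} (he : e ≠ 0) {A : Submodule F V}
    (hA : ∀ v ∈ A, g v = e • v) : finrank F L * finrank F A ≤ finrank F V := by
  classical
  haveI : Module.Finite L V := Module.Finite.right F L V
  have hfix : ∀ c : L, σ c = c → ∃ a : F, algebraMap F L a = c := by
    intro c hc
    haveI := Subalgebra.isSimpleOrder_of_finrank_prime F L hk
    rcases eq_bot_or_eq_top (AlgHom.equalizer (σ : L →ₐ[F] L) (AlgHom.id F L)) with h | h
    · have h1 : c ∈ (⊥ : Subalgebra F L) := h ▸ (show c ∈ AlgHom.equalizer (σ : L →ₐ[F] L) (AlgHom.id F L) from hc)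
      exact Algebra.mem_bot.1 h1
    · exact absurd (AlgEquiv.ext fun a =>
        show (σ : L →ₐ[F] L) a = AlgHom.id F L a from
          (show a ∈ AlgHom.equalizer (σ : L →ₐ[F] L) (AlgHom.id F L) from h ▸ Algebra.mem_top)) hσ
  let bA := Module.finBasis F A
  have hbe : ∀ i, g (bA i : V) = e • (bA i : V) := fun i => hA _ (bA i).2
  have hbF : ∀ a : Fin (finrank F A) → F, ∑ i, a i • (bA i : V) = 0 → ∀ i, a i = 0 := fun a ha i =>
    Fintype.linearIndependent_iff.1 bA.linearIndependent a (Subtype.ext (by simpa using ha)) i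
  have hli : ∀ s : Finset (Fin (finrank F A)), ∀ c : Fin (finrank F A) → L,
      (∑ i ∈ s, c i • (bA i : V) = 0) → ∀ i ∈ s, c i = 0 := by
    intro s
    induction s using Finset.induction_on with
    | empty => simp
    | @insert i₀ s hi ih =>
      intro c hc
      rw [Finset.sum_insert hi] at hc
      by_cases h0 : c i₀ = 0
      · rw [h0, zero_smul, zero_add] at hc
        intro i hi'
        rcases Finset.mem_insert.1 hi' with rfl | h
        · exact h0
        · exact ih c hc i h
      · exfalso
        set c' : Fin (finrank F A) → L := fun i => (c i₀)⁻¹ * c i with hc'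
        have h1 : (bA i₀ : V) + ∑ i ∈ s, c' i • (bA i : V) = 0 := by
          have h := congrArg ((c i₀)⁻¹ • ·) hc
          simpa [smul_add, Finset.smul_sum, smul_smul, hc', inv_mul_cancel₀ h0] using h
        have h2 : (bA i₀ : V) + ∑ i ∈ s, σ (c' i) • (bA i : V) = 0 := by
          have h := congrArg g h1
          simp only [map_add, map_sum, hg, hbe, map_zero] at h
          have h3 : e • ((bA i₀ : V) + ∑ i ∈ s, σ (c' i) • (bA i : V)) = 0 := by
            rw [smul_add, Finset.smul_sum]
            simpa [smul_comm e] using h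
          exact (smul_eq_zero.1 h3).resolve_left he
        have h3 : ∑ i ∈ s, (σ (c' i) - c' i) • (bA i : V) = 0 := by
          simp only [sub_smul, Finset.sum_sub_distrib]
          rw [eq_neg_of_add_eq_zero_right h2, eq_neg_of_add_eq_zero_right h1, sub_self]
        have h4 : ∀ i, ∃ a : F, i ∈ s → algebraMap F L a = c' i := fun i => by
          by_cases h : i ∈ s
          · obtain ⟨a, ha⟩ := hfix _ (sub_eq_zero.1 (ih _ h3 i h))
            exact ⟨a, fun _ => ha⟩
          · exact ⟨0, fun h' => absurd h' h⟩
        choose a ha using h4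
        have h5 : (∑ i, (if i = i₀ then 1 else if i ∈ s then a i else 0) • (bA i : V)) = 0 := by
          rw [← Finset.sum_subset (Finset.subset_univ (insert i₀ s)), Finset.sum_insert hi, if_pos rfl, one_smul]
          · refine Eq.trans ?_ h1
            congr 1
            refine Finset.sum_congr rfl fun i h => ?_
            rw [if_neg (fun hh : i = i₀ => hi (hh ▸ h)), if_pos h, ← ha i h, algebraMap_smul]
          · intro i _ hni
            rw [Finset.mem_insert, not_or] at hni
            rw [if_neg hni.1, if_neg hni.2, zero_smul]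
        simpa using hbF _ h5 i₀
  have hLI : LinearIndependent L (fun i => (bA i : V)) :=
    Fintype.linearIndependent_iff.2 fun c hc i => hli Finset.univ c hc i (Finset.mem_univ i)
  have h := hLI.fintype_card_le_finrank
  rw [Fintype.card_fin] at h
  rw [← Module.finrank_mul_finrank F L V]
  exact Nat.mul_le_mul_left _ h

end CfsgLib.Elusive
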