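import Mathlib.LinearAlgebra.BilinearForm.Properties
import Mathlib.LinearAlgebra.Dimension.Constructions
import Mathlib.LinearAlgebra.FiniteDimensional.Basic
import Mathlib.Tactic

/-! Isometries of order two of a non-degenerate alternating form in odd characteristic. -/

set_option autoImplicit false

namespace CfsgLib.Elusive

open Module

variable {F V : Type*} [Field F] [AddCommGroup V] [Module F V] [FiniteDimensional F V]

/-- An orthogonal family of hyperbolic planes, each compatible with `g`. -/
def IsPlanes (B : LinearMap.BilinForm F V) (g : V →ₗ[F] V) (z : F) {m : ℕ} (u w : Fin m → V) : Prop :=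
  (∀ i j, B (u i) (u j) = 0) ∧ (∀ i j, B (w i) (w j) = 0) ∧ (∀ i j, i ≠ j → B (u i) (w j) = 0) ∧
    (∀ i, B (u i) (w i) ≠ 0) ∧
      ((z = 1 ∧ ∀ i, ∃ s : F, s ^ 2 = 1 ∧ g (u i) = s • u i ∧ g (w i) = s • w i) ∨
        (z = -1 ∧ ∀ i, g (u i) = w i ∧ g (w i) = -u i))

theorem exists_planes {B : LinearMap.BilinForm F V} (hB : ∀ v, B v v = 0) {g : V →ₗ[F] V}
    (hg : ∀ u v, B (g u) (g v) = B u v) {z : F} (hgg : ∀ v, g (g v) = z • v) (h2 : (2 : F) ≠ 0)
    (hz : z = 1 ∨ z = -1) :
    ∀ (k : ℕ) (T : Submodule F V), finrank F T ≤ k → (∀ v ∈ T, g v ∈ T) →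
      (∀ v ∈ T, v ≠ 0 → ∃ v' ∈ T, B v v' ≠ 0) →
      ∃ (m : ℕ) (u w : Fin m → V), IsPlanes B g z u w ∧ finrank F T = 2 * m ∧
        Submodule.span F (Set.range u) ⊔ Submodule.span F (Set.range w) = T := by
  have hskew : ∀ a b, B b a = -B a b := fun a b => by
    have := hB (a + b)
    simp only [map_add, LinearMap.add_apply, hB] at this
    linear_combination this
  intro k
  induction k with
  | zero =>
    intro T hT _ _
    have : T = ⊥ := Submodule.finrank_eq_zero.1 (Nat.le_zero.1 hT)
    subst this
    refine ⟨0, Fin.elim0, Fin.elim0, ⟨fun i => i.elim0, fun i => i.elim0, fun i => i.elim0, fun i => i.elim0, ?_⟩,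
      by simp, by simp⟩
    rcases hz with h | h
    · exact Or.inl ⟨h, fun i => i.elim0⟩
    · exact Or.inr ⟨h, fun i => i.elim0⟩
  | succ k ih =>
    intro T hTk hinv hnd
    by_cases hbot : T = ⊥
    · subst hbot
      exact ih ⊥ (by simp) hinv hnd
    obtain ⟨u, w, huT, hwT, huw, hact⟩ : ∃ u w, u ∈ T ∧ w ∈ T ∧ B u w ≠ 0 ∧
        ((z = 1 ∧ ∃ s : F, s ^ 2 = 1 ∧ g u = s • u ∧ g w = s • w) ∨ (z = -1 ∧ g u = w ∧ g w = -u)) := by
      rcases hz with h | h
      · subst h
        simp only [one_smul] at hgg
        obtain ⟨v, hv, hv0⟩ := Submodule.exists_mem_ne_zero_of_ne_bot hbot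
        obtain ⟨s, hs, a, ha, ha0, hga⟩ : ∃ s : F, s ^ 2 = 1 ∧ ∃ a ∈ T, a ≠ 0 ∧ g a = s • a := by
          by_cases hgv : v + g v = 0
          · exact ⟨-1, by ring, v, hv, hv0, by rw [neg_one_smul]; exact eq_neg_of_add_eq_zero_right hgv⟩
          · exact ⟨1, by ring, v + g v, T.add_mem hv (hinv v hv), hgv, by rw [map_add, hgg, one_smul, add_comm]⟩
        obtain ⟨b, hb, hab⟩ := hnd a ha ha0
        refine ⟨a, b + s • g b, ha, T.add_mem hb (T.smul_mem _ (hinv b hb)), ?_,
          Or.inl ⟨rfl, s, hs, hga, by rw [map_add, map_smul, hgg, smul_add, smul_smul, ← pow_two, hs, one_smul, add_comm]⟩⟩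
        have h1 : B a (g b) = s * B a b := by
          have h := hg a b
          rw [hga, map_smul, LinearMap.smul_apply, smul_eq_mul] at h
          linear_combination s * h - B a (g b) * hs
        rw [map_add, map_smul, smul_eq_mul, h1, ← mul_assoc, ← pow_two, hs, one_mul, ← two_mul]
        exact mul_ne_zero h2 hab
      · subst h
        simp only [neg_one_smul] at hgg
        obtain ⟨u, hu, huu⟩ : ∃ u ∈ T, B u (g u) ≠ 0 := by
          by_contra hno
          push Not at hno
          obtain ⟨v, hv, hv0⟩ := Submodule.exists_mem_ne_zero_of_ne_bot hbot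
          obtain ⟨b, hb, hab⟩ := hnd v hv hv0
          have key : ∀ x ∈ T, B v (g x) = 0 := fun x hx => by
            have h1 := hno (v + x) (T.add_mem hv hx)
            simp only [map_add, LinearMap.add_apply, hno v hv, hno x hx] at h1
            have h2' : B x (g v) = B v (g x) := by
              have h := hg x (g v)
              rw [hgg, map_neg, hskew v (g x), neg_neg] at h
              exact h.symm
            rw [h2'] at h1
            exact (mul_eq_zero.1 (show (2 : F) * B v (g x) = 0 by linear_combination h1)).resolve_left h2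
          have h3 := key (-g b) (T.neg_mem (hinv b hb))
          rw [map_neg, hgg, neg_neg] at h3
          exact hab h3
        exact ⟨u, g u, hu, hinv u hu, huu, Or.inr ⟨rfl, rfl, hgg u⟩⟩
    let T' : Submodule F V := T ⊓ LinearMap.ker (B.flip u) ⊓ LinearMap.ker (B.flip w)
    have hmem : ∀ v, v ∈ T' ↔ v ∈ T ∧ B v u = 0 ∧ B v w = 0 := fun v => by
      simp [T', and_assoc]
    have hwu : B w u ≠ 0 := by rw [hskew u w]; exact neg_ne_zero.2 huw
    have hinv' : ∀ v ∈ T', g v ∈ T' := fun v hv => by
      obtain ⟨hvT, hvu, hvw⟩ := (hmem v).1 hv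
      refine (hmem _).2 ⟨hinv v hvT, ?_⟩
      rcases hact with ⟨-, s, hs, hu', hw'⟩ | ⟨-, hu', hw'⟩
      · have key : ∀ x, g x = s • x → B v x = 0 → B (g v) x = 0 := fun x hx h0 => by
          have h := hg v x
          rw [hx, map_smul, h0, smul_eq_mul] at h
          refine (mul_eq_zero.1 h).resolve_left fun e => ?_
          rw [e, zero_pow two_ne_zero] at hs
          exact zero_ne_one hs
        exact ⟨key u hu' hvu, key w hw' hvw⟩
      · have h1 := hg v w
        rw [hw', map_neg, hvw, neg_eq_zero] at h1
        have h3 := hg v u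
        rw [hu', hvu] at h3
        exact ⟨h1, h3⟩
    have hsplit : ∀ v ∈ T, ∃ a b : F, v - a • u - b • w ∈ T' := fun v hv => by
      refine ⟨B v w / B u w, B v u / B w u, (hmem _).2 ⟨T.sub_mem (T.sub_mem hv (T.smul_mem _ huT)) (T.smul_mem _ hwT), ?_, ?_⟩⟩
      · simp only [map_sub, map_smul, LinearMap.sub_apply, LinearMap.smul_apply, smul_eq_mul, hB, mul_zero,
          sub_zero, div_mul_cancel₀ _ hwu, sub_self]
      · simp only [map_sub, map_smul, LinearMap.sub_apply, LinearMap.smul_apply, smul_eq_mul, hB, mul_zero,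
          sub_zero, div_mul_cancel₀ _ huw, sub_self]
    have hnd' : ∀ v ∈ T', v ≠ 0 → ∃ v' ∈ T', B v v' ≠ 0 := fun v hv hv0 => by
      obtain ⟨hvT, hvu, hvw⟩ := (hmem v).1 hv
      obtain ⟨x, hx, hvx⟩ := hnd v hvT hv0
      obtain ⟨a, b, hab⟩ := hsplit x hx
      exact ⟨_, hab, by simpa [hvu, hvw] using hvx⟩
    have hle : T' ≤ T := fun v hv => ((hmem v).1 hv).1
    have hpair : LinearIndependent F ![u, w] := by
      rw [LinearIndependent.pair_iff]
      intro a b hab
      have h1 := congrArg (fun x => B x w) hab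
      have h3 := congrArg (fun x => B x u) hab
      simp [hB, huw, hwu] at h1 h3
      exact ⟨h1, h3⟩
    have hdim : finrank F T = finrank F T' + 2 := by
      have hS : finrank F (Submodule.span F (Set.range ![u, w])) = 2 := by
        rw [finrank_span_eq_card hpair, Fintype.card_fin]
      have hsup : T' ⊔ Submodule.span F (Set.range ![u, w]) = T := by
        refine le_antisymm (sup_le hle (Submodule.span_le.2 ?_)) fun v hv => ?_
        · rintro _ ⟨i, rfl⟩
          fin_cases i <;> assumption
        · obtain ⟨a, b, hab⟩ := hsplit v hv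
          refine Submodule.mem_sup.2 ⟨_, hab, a • u + b • w, ?_, by abel⟩
          exact Submodule.add_mem _ (Submodule.smul_mem _ _ (Submodule.subset_span ⟨0, rfl⟩))
            (Submodule.smul_mem _ _ (Submodule.subset_span ⟨1, rfl⟩))
      have hinf : T' ⊓ Submodule.span F (Set.range ![u, w]) = ⊥ := by
        rw [Submodule.eq_bot_iff]
        rintro v ⟨hv, hvS⟩
        obtain ⟨c, rfl⟩ := (Submodule.mem_span_range_iff_exists_fun F).1 hvS
        obtain ⟨-, h1, h3⟩ := (hmem _).1 hv
        simp [Fin.sum_univ_two, hB, huw, hwu] at h1 h3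
        simp [Fin.sum_univ_two, h1, h3]
      have := Submodule.finrank_sup_add_finrank_inf_eq T' (Submodule.span F (Set.range ![u, w]))
      rw [hsup, hinf, finrank_bot, hS] at this
      omega
    obtain ⟨m, us, ws, ⟨h1, h3, h4, h5, h6⟩, hm, hsp⟩ := ih T' (by omega) hinv' hnd'
    have husT : ∀ i, us i ∈ T' := fun i => hsp ▸ Submodule.mem_sup_left (Submodule.subset_span ⟨i, rfl⟩)
    have hwsT : ∀ i, ws i ∈ T' := fun i => hsp ▸ Submodule.mem_sup_right (Submodule.subset_span ⟨i, rfl⟩)
    have o1 : ∀ i, B (us i) u = 0 ∧ B (us i) w = 0 := fun i => ((hmem _).1 (husT i)).2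
    have o2 : ∀ i, B (ws i) u = 0 ∧ B (ws i) w = 0 := fun i => ((hmem _).1 (hwsT i)).2
    refine ⟨m + 1, Fin.cons u us, Fin.cons w ws, ⟨?_, ?_, ?_, ?_, ?_⟩, by omega, ?_⟩
    · intro i j
      cases i using Fin.cases with
      | zero => cases j using Fin.cases with
        | zero => exact hB u
        | succ j => rw [Fin.cons_zero, Fin.cons_succ, hskew, (o1 j).1, neg_zero]
      | succ i => cases j using Fin.cases with
        | zero => exact (o1 i).1
        | succ j => exact h1 i j
    · intro i j
      cases i using Fin.cases with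
      | zero => cases j using Fin.cases with
        | zero => exact hB w
        | succ j => rw [Fin.cons_zero, Fin.cons_succ, hskew, (o2 j).2, neg_zero]
      | succ i => cases j using Fin.cases with
        | zero => exact (o2 i).2
        | succ j => exact h3 i j
    · intro i j hij
      cases i using Fin.cases with
      | zero => cases j using Fin.cases with
        | zero => exact absurd rfl hij
        | succ j => rw [Fin.cons_zero, Fin.cons_succ, hskew, (o2 j).1, neg_zero]
      | succ i => cases j using Fin.cases with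
        | zero => exact (o1 i).2
        | succ j => exact h4 i j fun e => hij (congrArg Fin.succ e)
    · intro i
      cases i using Fin.cases with
      | zero => exact huw
      | succ i => exact h5 i
    · rcases h6 with ⟨hz', h⟩ | ⟨hz', h⟩
      · rcases hact with ⟨-, h'⟩ | ⟨hz'', -⟩
        · refine Or.inl ⟨hz', fun i => ?_⟩
          cases i using Fin.cases with
          | zero => exact h'
          | succ i => exact h i
        · exact absurd (by linear_combination hz'' - hz' : (2 : F) = 0) h2
      · rcases hact with ⟨hz'', -⟩ | ⟨-, h'⟩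
        · exact absurd (by linear_combination hz' - hz'' : (2 : F) = 0) h2
        · refine Or.inr ⟨hz', fun i => ?_⟩
          cases i using Fin.cases with
          | zero => exact h'
          | succ i => exact h i
    · rw [Fin.range_cons, Fin.range_cons, Submodule.span_insert, Submodule.span_insert,
        sup_sup_sup_comm, hsp]
      refine le_antisymm (sup_le (sup_le ?_ ?_) hle) fun v hv => ?_
      · exact (Submodule.span_singleton_le_iff_mem u T).2 huT
      · exact (Submodule.span_singleton_le_iff_mem w T).2 hwT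
      · obtain ⟨a, b, hab⟩ := hsplit v hv
        refine Submodule.mem_sup.2 ⟨a • u + b • w, ?_, _, hab, by abel⟩
        exact Submodule.add_mem_sup (Submodule.mem_span_singleton.2 ⟨a, rfl⟩)
          (Submodule.mem_span_singleton.2 ⟨b, rfl⟩)

end CfsgLib.Elusive
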