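import Cfsg.Agent.Elusive.MinusElliptic
import Cfsg.Agent.AutPOm.Gamma
import Cfsg.Agent.Quad.CharTwoOdd
import Cfsg.Agent.Classical.SymplecticBlocks
import Cfsg.Agent.Forms.OfBilin
import Cfsg.Agent.Quad.Parity
import Cfsg.Agent.Classical.MaxSingular

/-!
Quadratic forms polarising to the symplectic form in characteristic two, and the symplectic
transformations preserving them.
-/

set_option autoImplicit false

namespace CfsgLib.Elusive

open CfsgLib.Quad Module Matrix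

variable {F : Type*} [Field F] [Fintype F] [CharP F 2] {d : ℕ}

/-- Elements of the symplectic group from linear equivalences. -/
theorem exists_spGL (g : (Fin d ⊕ Fin d → F) ≃ₗ[F] (Fin d ⊕ Fin d → F))
    (h : ∀ u v, Cfsg.sympForm d F (g u) (g v) = Cfsg.sympForm d F u v) :
    ∃ x : GL (Fin d ⊕ Fin d) F, x ∈ Cfsg.spGL d F ∧ ∀ v, (x : Matrix (Fin d ⊕ Fin d) (Fin d ⊕ Fin d) F) *ᵥ v = g v := by
  let x : GL (Fin d ⊕ Fin d) F := ⟨LinearMap.toMatrix' g.toLinearMap, LinearMap.toMatrix' g.symm.toLinearMap,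
    by rw [← LinearMap.toMatrix'_comp]; simp,
    by rw [← LinearMap.toMatrix'_comp]; simp⟩
  refine ⟨x, fun u v => ?_, fun v => LinearMap.toMatrix'_mulVec _ _⟩
  show Cfsg.sympForm d F (LinearMap.toMatrix' g.toLinearMap *ᵥ u) (LinearMap.toMatrix' g.toLinearMap *ᵥ v) = _
  rw [LinearMap.toMatrix'_mulVec, LinearMap.toMatrix'_mulVec]
  exact h u v

omit [Fintype F] in
theorem sq_inj {a b : F} (h : a ^ 2 = b ^ 2) : a = b := by
  have h2 : (2 : F) = 0 := CharTwo.two_eq_zero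
  have : (a - b) ^ 2 = 0 := by linear_combination h + (b ^ 2 - a * b) * h2
  exact sub_eq_zero.1 (pow_eq_zero_iff (by norm_num) |>.1 this)

/-- A quadratic form of one of the two types, with respect to a given polarisation. -/
theorem type_cases {Q : QuadraticForm F (Fin d ⊕ Fin d → F)}
    (hQ : (QuadraticMap.polarBilin Q).Nondegenerate) :
    (∃ φ : (Fin d ⊕ Fin d → F) ≃ₗ[F] (Fin d ⊕ Fin d → F), ∀ v, Q v = plusQ d (φ v)) ∨
    (1 ≤ d ∧ (∀ T : Submodule F (Fin d ⊕ Fin d → F), (∀ v ∈ T, Q v = 0) → finrank F T ≤ d - 1) ∧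
      ∃ (a b : F) (φ : (Fin d ⊕ Fin d → F) ≃ₗ[F] ((Fin (d - 1) ⊕ Fin (d - 1)) ⊕ Fin 2 → F)),
        (∀ z₁ z₂ : F, z₁ ^ 2 + a * z₁ * z₂ + b * z₂ ^ 2 = 0 → z₁ = 0 ∧ z₂ = 0) ∧
          ∀ v, Q v = minusQ (d - 1) a b (φ v)) := by
  rcases CfsgLib.QuadStd.classify_even hQ (m := d) (by simp [finrank_fintype_fun_eq_card]; ring) with
    h | ⟨ζ, φ, hd, hζ, hφ⟩
  · exact Or.inl h
  refine Or.inr ⟨hd, fun T hT => ?_, 1, ζ, φ, CfsgLib.QuadStd.plane_aniso hζ, hφ⟩
  have := CfsgLib.AutPOm.ts_bound_minusQ (CfsgLib.QuadStd.plane_aniso hζ) (d - 1) (T.map φ.toLinearMap) (by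
    rintro _ ⟨v, hv, rfl⟩
    exact (hφ v).symm.trans (hT v hv))
  rwa [LinearEquiv.finrank_map_eq] at this

/-- A half-dimensional totally singular subspace forces plus type. -/
theorem plus_of_singular (hd : 1 ≤ d) {Q : QuadraticForm F (Fin d ⊕ Fin d → F)}
    (hQ : (QuadraticMap.polarBilin Q).Nondegenerate) {T : Submodule F (Fin d ⊕ Fin d → F)}
    (hT : ∀ v ∈ T, Q v = 0) (hdim : d ≤ finrank F T) :
    ∃ φ : (Fin d ⊕ Fin d → F) ≃ₗ[F] (Fin d ⊕ Fin d → F), ∀ v, Q v = plusQ d (φ v) := by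
  rcases type_cases hQ with h | ⟨-, h, -⟩
  · exact h
  · have := h T hT; omega

/-- Plus type means a half-dimensional totally singular subspace. -/
theorem plus_iff (hd : 1 ≤ d) {Q : QuadraticForm F (Fin d ⊕ Fin d → F)}
    (hQ : (QuadraticMap.polarBilin Q).Nondegenerate) :
    Cfsg.Geo.IsPlusTypeOn ⇑Q ⊤ ↔
      ∃ φ : (Fin d ⊕ Fin d → F) ≃ₗ[F] (Fin d ⊕ Fin d → F), ∀ v, Q v = plusQ d (φ v) := by
  have hV : finrank F (⊤ : Submodule F (Fin d ⊕ Fin d → F)) = d + d := by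
    rw [finrank_top, finrank_fintype_fun_eq_card, Fintype.card_sum, Fintype.card_fin]
  constructor
  · rintro ⟨U, -, hU, hdim⟩
    exact plus_of_singular hd hQ hU (by omega)
  · rintro ⟨φ, hφ⟩
    refine ⟨(CfsgLib.AutPOm.plusHalf F d).map φ.symm.toLinearMap, le_top, ?_, ?_⟩
    · rintro _ ⟨v, hv, rfl⟩
      rw [hφ, LinearEquiv.coe_coe, φ.apply_symm_apply, plusQ_coe]
      exact Finset.sum_eq_zero fun i _ => by
        rw [show v (Sum.inr i) = 0 from congrFun (LinearMap.mem_ker.1 hv) i, mul_zero]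
    · rw [LinearEquiv.finrank_map_eq, CfsgLib.AutPOm.finrank_plusHalf, hV, two_mul]

/-- Nondegeneracy of a form polarising to the symplectic form. -/
theorem nondeg_of_polar {Q : QuadraticForm F (Fin d ⊕ Fin d → F)}
    (hf : ∀ u v, QuadraticMap.polar Q u v = Cfsg.sympForm d F u v) :
    (QuadraticMap.polarBilin Q).Nondegenerate := by
  have h : ∀ u v, QuadraticMap.polar (plusQ (F := F) d) u v = QuadraticMap.polar Q u v := fun u v => by
    rw [hf, QuadraticMap.polar, CfsgLib.Quad.CharTwoOdd.polar_plus_eq]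
    show _ = u ⬝ᵥ _
    ring
  have hp := plusQ_nondeg (F := F) d
  exact ⟨fun u hu => hp.1 u fun v => (h u v).trans (hu v),
    fun u hu => hp.2 u fun v => (h v u).trans (hu v)⟩

/-- Two forms with the same polar form that are both of plus type differ by a symplectic map. -/
theorem exists_symp_of_plus {Q Q' : QuadraticForm F (Fin d ⊕ Fin d → F)}
    (hf : ∀ u v, QuadraticMap.polar Q u v = Cfsg.sympForm d F u v)
    (hf' : ∀ u v, QuadraticMap.polar Q' u v = Cfsg.sympForm d F u v)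
    {φ φ' : (Fin d ⊕ Fin d → F) ≃ₗ[F] (Fin d ⊕ Fin d → F)}
    (hφ : ∀ v, Q v = plusQ d (φ v)) (hφ' : ∀ v, Q' v = plusQ d (φ' v)) :
    ∃ g : GL (Fin d ⊕ Fin d) F, g ∈ Cfsg.spGL d F ∧ ∀ v, Q ((g : Matrix _ _ F) *ᵥ v) = Q' v := by
  have hval : ∀ v, Q ((φ'.trans φ.symm) v) = Q' v := fun v => by
    rw [hφ, LinearEquiv.trans_apply, φ.apply_symm_apply, ← hφ']
  obtain ⟨g, hg, hgv⟩ := exists_spGL (φ'.trans φ.symm) fun u v => by
    rw [← hf, ← hf', QuadraticMap.polar, QuadraticMap.polar, ← map_add, hval, hval, hval]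
  exact ⟨g, hg, fun v => by rw [hgv, hval]⟩

/-- A symplectic involution preserves a form of the given type. -/
theorem exists_conj_preserving (hd : 1 ≤ d) {Q : QuadraticForm F (Fin d ⊕ Fin d → F)}
    (hf : ∀ u v, QuadraticMap.polar Q u v = Cfsg.sympForm d F u v)
    (hcase : (∃ φ : (Fin d ⊕ Fin d → F) ≃ₗ[F] (Fin d ⊕ Fin d → F), ∀ v, Q v = plusQ d (φ v)) ∨ Odd d)
    {x : GL (Fin d ⊕ Fin d) F} (hx : x ∈ Cfsg.spGL d F)
    (hx2 : ∀ v, (x : Matrix (Fin d ⊕ Fin d) (Fin d ⊕ Fin d) F) *ᵥ ((x : Matrix (Fin d ⊕ Fin d) (Fin d ⊕ Fin d) F) *ᵥ v) = v) :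
    ∃ g : GL (Fin d ⊕ Fin d) F, g ∈ Cfsg.spGL d F ∧
      ∀ v, Q (((g * x * g⁻¹ : GL (Fin d ⊕ Fin d) F) : Matrix _ _ F) *ᵥ v) = Q v := by
  classical
  have h2 : (2 : F) = 0 := CharTwo.two_eq_zero
  let f : LinearMap.BilinForm F (Fin d ⊕ Fin d → F) := QuadraticMap.polarBilin Q
  have hfe : ∀ u v, f u v = Cfsg.sympForm d F u v := hf
  have hndf : f.Nondegenerate := nondeg_of_polar hf
  have halt : ∀ u, f u u = 0 := fun u => by
    show QuadraticMap.polar Q u u = 0
    rw [QuadraticMap.polar_self, two_smul]; linear_combination (Q u) * h2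
  have hsym : ∀ u v, f u v = f v u := fun u v => QuadraticMap.polar_comm _ u v
  have hQadd : ∀ u v, Q (u + v) = Q u + Q v + f u v := fun u v => QuadraticMap.map_add Q u v
  let D : (Fin d ⊕ Fin d → F) →ₗ[F] (Fin d ⊕ Fin d → F) := Matrix.mulVecLin (x : Matrix (Fin d ⊕ Fin d) (Fin d ⊕ Fin d) F) + LinearMap.id
  have hD : ∀ v, D v = (x : Matrix (Fin d ⊕ Fin d) (Fin d ⊕ Fin d) F) *ᵥ v + v := fun v => rfl
  have hxD : ∀ v, (x : Matrix (Fin d ⊕ Fin d) (Fin d ⊕ Fin d) F) *ᵥ v = v + D v := fun v => by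
    rw [hD]; funext s; simp only [Pi.add_apply]; linear_combination -(v s) * h2
  have hDD : ∀ v, D (D v) = 0 := fun v => by
    rw [hD, hD, Matrix.mulVec_add, hx2]
    funext s; simp only [Pi.add_apply, Pi.zero_apply]
    linear_combination (((x : Matrix (Fin d ⊕ Fin d) (Fin d ⊕ Fin d) F) *ᵥ v) s + v s) * h2
  have hxf : ∀ u v, f ((x : Matrix (Fin d ⊕ Fin d) (Fin d ⊕ Fin d) F) *ᵥ u) v = f u ((x : Matrix (Fin d ⊕ Fin d) (Fin d ⊕ Fin d) F) *ᵥ v) := fun u v => by
    conv_lhs => rw [← hx2 v]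
    rw [hfe, hfe]
    exact hx u _
  have hDsa : ∀ u v, f (D u) v = f u (D v) := fun u v => by
    rw [hD, hD, LinearMap.map_add₂, map_add, hxf]
  have hDD' : ∀ u v, f (D u) (D v) = 0 := fun u v => by rw [hDsa, hDD, map_zero]
  -- the linear functional whose square is `v ↦ Q (D v) + f v (D v)`
  obtain ⟨χ, hχ⟩ : ∃ χ : (Fin d ⊕ Fin d → F) →ₗ[F] F, ∀ v, χ v ^ 2 = Q (D v) + f v (D v) := by
    have hsq : ∀ v, ∃ c : F, c ^ 2 = Q (D v) + f v (D v) := fun v => by
      obtain ⟨c, hc⟩ := isSquare_char_two (F := F) (Q (D v) + f v (D v))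
      exact ⟨c, by rw [hc, pow_two]⟩
    choose χ hχ using hsq
    refine ⟨{ toFun := χ, map_add' := fun u v => sq_inj ?_, map_smul' := fun c v => sq_inj ?_ }, hχ⟩
    · rw [CharTwo.add_sq, hχ, hχ, hχ, map_add, hQadd, LinearMap.map_add₂, map_add, map_add, hDD',
        show f v (D u) = f u (D v) by rw [hsym, hDsa]]
      linear_combination (f u (D v)) * h2
    · rw [RingHom.id_apply, smul_eq_mul, mul_pow, hχ, hχ, map_smul, QuadraticMap.map_smul,
        LinearMap.map_smul₂, map_smul, smul_eq_mul, smul_eq_mul, smul_eq_mul]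
      ring
  obtain ⟨b₀, hb₀⟩ : ∃ b : (Fin d ⊕ Fin d → F), ∀ v, f b (D v) = χ v := by
    have hle : LinearMap.ker D ≤ LinearMap.ker χ := fun v hv => by
      rw [LinearMap.mem_ker] at hv ⊢
      exact pow_eq_zero_iff (two_ne_zero) |>.1 (by rw [hχ, hv, QuadraticMap.map_zero, map_zero, add_zero])
    obtain ⟨ψ, hψ⟩ := LinearMap.exists_extend
      (((LinearMap.ker D).liftQ χ hle).comp D.quotKerEquivRange.symm.toLinearMap)
    refine ⟨(LinearMap.BilinForm.toDual f hndf).symm ψ, fun v => ?_⟩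
    rw [LinearMap.BilinForm.apply_toDual_symm_apply]
    have h := LinearMap.congr_fun hψ ⟨D v, LinearMap.mem_range_self D v⟩
    rw [LinearMap.comp_apply, Submodule.subtype_apply, LinearMap.comp_apply, LinearEquiv.coe_coe,
      LinearMap.quotKerEquivRange_symm_apply_image, Submodule.mkQ_apply, Submodule.liftQ_apply] at h
    exact h
  -- the forms `Q + f(b, ·)²` preserved by `x`
  have hkey : ∀ u ∈ LinearMap.ker D, ∀ v, Q ((x : Matrix (Fin d ⊕ Fin d) (Fin d ⊕ Fin d) F) *ᵥ v) + f (b₀ + u) ((x : Matrix (Fin d ⊕ Fin d) (Fin d ⊕ Fin d) F) *ᵥ v) ^ 2 =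
      Q v + f (b₀ + u) v ^ 2 := fun u hu v => by
    rw [hxD, hQadd, map_add, CharTwo.add_sq, LinearMap.map_add₂ f b₀ u (D v), hb₀,
      show f u (D v) = 0 by rw [← hDsa, LinearMap.mem_ker.1 hu, LinearMap.map_zero₂], add_zero, hχ]
    linear_combination (Q (D v) + f v (D v)) * h2
  suffices hmain : ∃ u ∈ LinearMap.ker D, ∃ g : GL (Fin d ⊕ Fin d) F, g ∈ Cfsg.spGL d F ∧
      ∀ v, Q ((g : Matrix _ _ F) *ᵥ v) = Q v + f (b₀ + u) v ^ 2 by
    obtain ⟨u, hu, g, hg, hgv⟩ := hmain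
    refine ⟨g, hg, fun v => ?_⟩
    rw [Units.val_mul, Units.val_mul, ← Matrix.mulVec_mulVec, ← Matrix.mulVec_mulVec, hgv, hkey u hu, ← hgv,
      Matrix.mulVec_mulVec, ← Units.val_mul, mul_inv_cancel, Units.val_one, Matrix.one_mulVec]
  by_cases hts : ∀ e ∈ LinearMap.ker D, Q e + f b₀ e ^ 2 = 0
  · -- the fixed space is totally singular for the new form
    refine ⟨0, Submodule.zero_mem _, ?_⟩
    rw [add_zero]
    let Q' : QuadraticForm F (Fin d ⊕ Fin d → F) := Q + QuadraticMap.linMulLin (f b₀) (f b₀)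
    have hQ' : ∀ v, Q' v = Q v + f b₀ v ^ 2 := fun v => by simp [Q', pow_two]
    have hf' : ∀ u v, QuadraticMap.polar Q' u v = Cfsg.sympForm d F u v := fun u v => by
      rw [← hf, QuadraticMap.polar, QuadraticMap.polar, hQ', hQ', hQ', (f b₀).map_add, CharTwo.add_sq]
      ring
    have hKQ : ∀ e ∈ LinearMap.ker D, Q' e = 0 := fun e he => by rw [hQ']; exact hts e he
    have hrk := D.finrank_range_add_finrank_ker
    have hrle : LinearMap.range D ≤ LinearMap.ker D := by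
      rintro _ ⟨v, rfl⟩
      exact LinearMap.mem_ker.2 (hDD v)
    have hrle' := Submodule.finrank_mono hrle
    have hV : finrank F (Fin d ⊕ Fin d → F) = d + d := by rw [finrank_fintype_fun_eq_card, Fintype.card_sum, Fintype.card_fin]
    have hKd : d ≤ finrank F (LinearMap.ker D) := by omega
    have hKd' : finrank F (LinearMap.ker D) ≤ d := by
      rcases type_cases (nondeg_of_polar hf') with ⟨φ, hφ⟩ | ⟨-, h, -⟩
      · have := CfsgLib.Linear.MaxSing.finrank_le_half (plusQ_nondeg (F := F) d)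
          (by rw [finrank_fintype_fun_eq_card, Fintype.card_sum, Fintype.card_fin, two_mul])
          (W := (LinearMap.ker D).map φ.toLinearMap) (by
            rintro _ ⟨v, hv, rfl⟩
            exact (hφ v).symm.trans (hKQ v hv))
        rwa [LinearEquiv.finrank_map_eq] at this
      · exact (h _ hKQ).trans (by omega)
    rcases hcase with ⟨φ, hφ⟩ | hodd
    · obtain ⟨φ', hφ'⟩ := plus_of_singular hd (nondeg_of_polar hf') hKQ hKd
      obtain ⟨g, hg, hgv⟩ := exists_symp_of_plus hf hf' hφ hφ'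
      exact ⟨g, hg, fun v => by rw [hgv, hQ']⟩
    · exfalso
      have hfD : ∀ v, f v (D v) = 0 := fun v => by
        have h1 := hkey 0 (Submodule.zero_mem _) v
        rw [add_zero, ← hQ', ← hQ', hxD, QuadraticMap.map_add Q' v (D v), hKQ _ (LinearMap.mem_ker.2 (hDD v)),
          add_zero, hf', ← hfe, add_eq_left] at h1
        exact h1
      obtain ⟨W, hW⟩ := exists_isCompl (LinearMap.ker D)
      let B : LinearMap.BilinForm F W := LinearMap.compl₁₂ f W.subtype (D.comp W.subtype)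
      obtain ⟨m, k, bb, -, -, -, hrad⟩ := CfsgLib.Forms.exists_symplectic_basis _ W B
        (fun w => hfD w) rfl
      have hk0 : k = 0 := by
        by_contra hk
        refine bb.ne_zero (Sum.inr ⟨0, Nat.pos_of_ne_zero hk⟩) ?_
        set e := bb (Sum.inr ⟨0, Nat.pos_of_ne_zero hk⟩)
        have he : D e = 0 := by
          refine hndf.1 _ fun v => ?_
          obtain ⟨a, ha, w, hw, rfl⟩ : ∃ a ∈ LinearMap.ker D, ∃ w ∈ W, a + w = v :=
            Submodule.mem_sup.1 (by rw [hW.sup_eq_top]; exact Submodule.mem_top)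
          rw [map_add, hDsa, LinearMap.mem_ker.1 ha, map_zero, zero_add, hDsa]
          exact hrad _ ⟨w, hw⟩
        exact Subtype.ext ((Submodule.eq_bot_iff _).1 hW.inf_eq_bot _ ⟨he, e.2⟩)
      have hWdim := Submodule.finrank_add_eq_of_isCompl hW
      rw [finrank_eq_card_basis bb] at hWdim
      subst hk0
      simp only [Fintype.card_sum, Fintype.card_fin, add_zero] at hWdim
      obtain ⟨t, ht⟩ := hodd
      omega
  · push Not at hts
    obtain ⟨e, he, hμ⟩ := hts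
    obtain ⟨s, hs⟩ := isSquare_char_two (F := F) (Q e)
    have hsb : s + f b₀ e ≠ 0 := fun h => hμ (by
      rw [hs, ← pow_two, ← CharTwo.add_sq, h]; ring)
    set lam := Q b₀ / (s + f b₀ e)
    refine ⟨lam • e, Submodule.smul_mem _ _ he, ?_⟩
    set b := b₀ + lam • e with hbdef
    have hQb : Q b = (lam * s) + (lam * s) ^ 2 := by
      have hmul : lam * (s + f b₀ e) = Q b₀ := div_mul_cancel₀ _ hsb
      rw [hbdef, hQadd, QuadraticMap.map_smul, map_smul, smul_eq_mul, smul_eq_mul, hs]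
      linear_combination -hmul + (lam * f b₀ e) * h2
    obtain ⟨c, hc⟩ : ∃ c : F, c + c ^ 2 * Q b = 1 := by
      by_cases hb : Q b = 0
      · exact ⟨1, by rw [hb]; ring⟩
      · refine ⟨lam * s / Q b, ?_⟩
        field_simp
        linear_combination -hQb
    let T : (Fin d ⊕ Fin d → F) →ₗ[F] (Fin d ⊕ Fin d → F) := LinearMap.id + (c • f b).smulRight b
    have hT : ∀ v, T v = v + (c * f b v) • b := fun v => rfl
    have hTT : ∀ v, T (T v) = v := fun v => by
      rw [hT, hT, (f b).map_add, (f b).map_smul, smul_eq_mul, halt, mul_zero, add_zero]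
      funext s'
      simp only [Pi.add_apply, Pi.smul_apply, smul_eq_mul]
      linear_combination (c * f b v * b s') * h2
    have hQT : ∀ v, Q (T v) = Q v + f b v ^ 2 := fun v => by
      rw [hT, hQadd, QuadraticMap.map_smul, map_smul, smul_eq_mul, smul_eq_mul, hsym v b]
      linear_combination (f b v ^ 2) * hc
    obtain ⟨g, hg, hgv⟩ := exists_spGL
      (LinearEquiv.ofLinear T T (LinearMap.ext hTT) (LinearMap.ext hTT)) fun u v => by
        show Cfsg.sympForm d F (T u) (T v) = _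
        rw [← hf, ← hf, QuadraticMap.polar, QuadraticMap.polar, ← T.map_add, hQT, hQT, hQT, (f b).map_add,
          CharTwo.add_sq]
        ring
    exact ⟨g, hg, fun v => by rw [hgv]; exact hQT v⟩

end CfsgLib.Elusive
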