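import Cfsg.Agent.Elusive.SympAnti
import Cfsg.Agent.Elusive.SympExtField
import Cfsg.Agent.Unitary.Basic

/-!
Elements of prime order of the symplectic group and the normalisers of adjoint-closed, not self-adjoint,
quadratic fields.
-/

set_option autoImplicit false
open scoped Matrix

namespace CfsgLib.Elusive

open Module Cfsg.Geo Polynomial

variable {F : Type*} [Field F] [Fintype F] {d : ℕ}

/-- The unitary group embeds in the centraliser of an anti-self-adjoint map. -/
theorem exists_unitary_hom (h2 : (2 : F) ≠ 0) {α : F} (hα : ∀ c : F, c ^ 2 ≠ α) {L : Type*} [Field L] [Fintype L]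
    [Algebra F L] (hL : finrank F L = 2) (ι' : L →ₐ[F] Matrix (Fin d ⊕ Fin d) (Fin d ⊕ Fin d) F) {jL : L}
    (hjj : jL * jL = algebraMap F L α)
    (hanti : ∀ u v, Cfsg.sympForm d F (ι' jL *ᵥ u) v = -Cfsg.sympForm d F u (ι' jL *ᵥ v)) :
    ∃ φ : ↥(Cfsg.GU d L (Fintype.card F)) →* GL (Fin d ⊕ Fin d) F, Function.Injective φ ∧
      ∀ A, φ A ∈ Cfsg.spGL d F ∧ ∀ l, (φ A : Matrix (Fin d ⊕ Fin d) (Fin d ⊕ Fin d) F) * ι' l =
        ι' l * (φ A : Matrix (Fin d ⊕ Fin d) (Fin d ⊕ Fin d) F) := by
  classical
  have hα0 : α ≠ 0 := fun h => hα 0 (by rw [h]; ring)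
  set B := sympBilin d F
  have hB : ∀ v, B v v = 0 := fun v => CfsgLib.Symp.form_self v
  have hnd : ∀ u, (∀ v, B u v = 0) → u = 0 := fun u h => CfsgLib.Symp.eq_zero_of_form_eq_zero fun w => by
    rw [CfsgLib.Symp.form_swap, show CfsgLib.Symp.form u w = 0 from h w, neg_zero]
  have hdim : finrank F (Fin d ⊕ Fin d → F) = 2 * d := by
    rw [Module.finrank_fintype_fun_eq_card, Fintype.card_sum, Fintype.card_fin, two_mul]
  set j := ι' jL with hjdef
  have hjsq : ∀ v, Matrix.toLin' j (Matrix.toLin' j v) = α • v := fun v => by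
    rw [Matrix.toLin'_apply, Matrix.toLin'_apply, Matrix.mulVec_mulVec, hjdef, ← map_mul, hjj, AlgHom.commutes,
      Algebra.algebraMap_eq_smul_one, Matrix.smul_mulVec, Matrix.one_mulVec]
  obtain ⟨v, hvv, hvJ⟩ := exists_anti_family h2 hB hnd hα hjsq hanti d hdim.ge
  have hvv' : ∀ i i', B (v i) (v i') = 0 := hvv
  have hvJ' : ∀ i i', B (v i) (j *ᵥ v i') = if i = i' then 1 else 0 := hvJ
  have hJv : ∀ i i', B (j *ᵥ v i) (v i') = -if i = i' then 1 else 0 := fun i i' => by
    rw [show B (j *ᵥ v i) (v i') = -B (v i) (j *ᵥ v i') from hanti _ _, hvJ']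
  have hJJ : ∀ i i', B (j *ᵥ v i) (j *ᵥ v i') = 0 := fun i i' => by
    rw [show B (j *ᵥ v i) (j *ᵥ v i') = -B (v i) (j *ᵥ (j *ᵥ v i')) from hanti _ _,
      show j *ᵥ (j *ᵥ v i') = α • v i' from hjsq _, map_smul, hvv', smul_zero, neg_zero]
  -- coordinates of the field
  have hjns : ∀ c : F, jL ≠ algebraMap F L c := fun c h => hα c (by
    rw [h, ← map_mul] at hjj
    rw [pow_two]
    exact (algebraMap F L).injective hjj)
  have hli2 : LinearIndependent F ![(1 : L), jL] := by
    rw [LinearIndependent.pair_iff]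
    intro s t hst
    have ht : t = 0 := by
      by_contra ht
      refine hjns (-(t⁻¹ * s)) ?_
      rw [Algebra.algebraMap_eq_smul_one, neg_smul, ← smul_smul, ← smul_neg, ← eq_neg_of_add_eq_zero_right hst,
        smul_smul, inv_mul_cancel₀ ht, one_smul]
    subst ht
    exact ⟨by simpa using hst, rfl⟩
  let bL := basisOfLinearIndependentOfCardEqFinrank hli2 (by rw [Fintype.card_fin, hL])
  have hcoord : ∀ l : L, ∃ s t : F, l = algebraMap F L s + algebraMap F L t * jL := fun l => by
    refine ⟨bL.repr l 0, bL.repr l 1, ?_⟩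
    conv_lhs => rw [← bL.sum_repr l]
    rw [Fin.sum_univ_two, ← Algebra.smul_def, Algebra.algebraMap_eq_smul_one,
      coe_basisOfLinearIndependentOfCardEqFinrank]
    rfl
  choose cs ct hcst using hcoord
  have hjq : jL ^ Fintype.card F = -jL := by
    have hodd : Fintype.card F % 2 = 1 := FiniteField.odd_card_of_char_ne_two fun h => h2 (by
      have := CharP.cast_eq_zero F (ringChar F)
      rw [h] at this; simpa using this)
    obtain ⟨k, hk⟩ : ∃ k, Fintype.card F = 2 * k + 1 := ⟨Fintype.card F / 2, by omega⟩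
    have hαk : α ^ k = -1 := by
      rcases FiniteField.pow_dichotomy (F := F) (fun h => h2 (by
          have := CharP.cast_eq_zero F (ringChar F)
          rw [h] at this; simpa using this)) hα0 with h | h
      · exfalso
        obtain ⟨c, hc⟩ := (FiniteField.isSquare_iff (fun h => h2 (by
          have := CharP.cast_eq_zero F (ringChar F)
          rw [h] at this; simpa using this)) hα0).2 h
        exact hα c (by rw [hc, pow_two])
      · rwa [show Fintype.card F / 2 = k by omega] at h
    rw [hk, pow_succ, pow_mul, pow_two, hjj, ← map_pow, hαk, map_neg, map_one, neg_one_mul]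
  -- coordinates of the space
  let Φ : (Fin d → L) →ₗ[F] (Fin d ⊕ Fin d → F) :=
    { toFun := fun a => ∑ i, ι' (a i) *ᵥ v i
      map_add' := fun a b => by simp [Matrix.add_mulVec, Finset.sum_add_distrib]
      map_smul' := fun c a => by simp [Matrix.smul_mulVec, Finset.smul_sum] }
  have hι : ∀ (l : L) u, ι' l *ᵥ u = cs l • u + ct l • (j *ᵥ u) := fun l u => by
    conv_lhs => rw [hcst l]
    rw [map_add, map_mul, AlgHom.commutes, AlgHom.commutes, Algebra.algebraMap_eq_smul_one,
      Algebra.algebraMap_eq_smul_one, smul_mul_assoc, one_mul, Matrix.add_mulVec, Matrix.smul_mulVec,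
      Matrix.smul_mulVec, Matrix.one_mulVec]
  let lam : L →ₗ[F] F := bL.coord 1
  have hlam : ∀ l, lam l = ct l := fun l => by
    have e : lam (algebraMap F L (cs l) + algebraMap F L (ct l) * jL) = ct l := by
      have e0 : bL 0 = 1 := by rw [coe_basisOfLinearIndependentOfCardEqFinrank]; rfl
      have e1 : bL 1 = jL := by rw [coe_basisOfLinearIndependentOfCardEqFinrank]; rfl
      rw [← Algebra.smul_def, Algebra.algebraMap_eq_smul_one, ← e0, ← e1]
      simp [lam]
    rwa [← hcst l] at e
  have hform : ∀ a b, B (Φ a) (Φ b) = -lam (Cfsg.hermForm d L (Fintype.card F) a b) := by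
    intro a b
    have hL' : B (Φ a) (Φ b) = ∑ i, (cs (a i) * ct (b i) - ct (a i) * cs (b i)) := by
      show B (∑ i, ι' (a i) *ᵥ v i) (∑ i, ι' (b i) *ᵥ v i) = _
      simp only [map_sum, LinearMap.sum_apply, hι, map_add, map_smul, LinearMap.add_apply, LinearMap.smul_apply,
        smul_eq_mul, hvv', hvJ', hJv, hJJ, mul_zero, add_zero, zero_add]
      refine Finset.sum_congr rfl fun i _ => ?_
      simp only [mul_ite, mul_one, mul_zero, mul_neg, Finset.sum_add_distrib, Finset.sum_neg_distrib,
        Finset.sum_ite_eq', Finset.mem_univ, if_true]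
      ring
    rw [hL']
    unfold Cfsg.hermForm
    rw [map_sum, ← Finset.sum_neg_distrib]
    refine Finset.sum_congr rfl fun i _ => ?_
    obtain ⟨p, hp⟩ := CharP.exists F
    obtain ⟨e, hpp, hcard⟩ := FiniteField.card F p
    haveI : Fact p.Prime := ⟨hpp⟩
    haveI : CharP L p := charP_of_injective_algebraMap (algebraMap F L).injective p
    have hbq : b i ^ Fintype.card F = algebraMap F L (cs (b i)) - algebraMap F L (ct (b i)) * jL := by
      conv_lhs => rw [hcst (b i)]
      rw [hcard, add_pow_char_pow, mul_pow, ← hcard, ← map_pow, ← map_pow, FiniteField.pow_card,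
        FiniteField.pow_card, hjq]
      ring
    have hmul : a i * b i ^ Fintype.card F =
        algebraMap F L (cs (a i) * cs (b i) - α * (ct (a i) * ct (b i))) +
          (ct (a i) * cs (b i) - cs (a i) * ct (b i)) • jL := by
      conv_lhs => rw [hbq, hcst (a i)]
      rw [Algebra.smul_def, map_sub, map_sub, map_mul, map_mul, map_mul, map_mul, map_mul, ← hjj]
      ring
    rw [hmul, map_add, map_smul, Algebra.algebraMap_eq_smul_one, map_smul]
    have e0 : lam (1 : L) = 0 := by
      rw [show (1 : L) = bL 0 by rw [coe_basisOfLinearIndependentOfCardEqFinrank]; rfl]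
      simp [lam]
    have e1 : lam jL = 1 := by
      rw [show jL = bL 1 by rw [coe_basisOfLinearIndependentOfCardEqFinrank]; rfl]
      simp [lam]
    rw [e0, e1, smul_eq_mul, smul_eq_mul]
    ring
  have hΦinj : Function.Injective Φ := (injective_iff_map_eq_zero Φ).2 fun a ha => funext fun i => by
    have h1 := congrArg (fun w => B w (j *ᵥ v i)) ha
    have h0 := congrArg (fun w => B (v i) w) ha
    simp [Φ, hι, hvv', hvJ', hJJ, Finset.sum_add_distrib] at h1 h0
    rw [hcst (a i), h1, h0, map_zero, zero_mul, add_zero]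
    rfl
  let E : (Fin d → L) ≃ₗ[F] (Fin d ⊕ Fin d → F) := LinearEquiv.ofBijective Φ ⟨hΦinj,
    (LinearMap.injective_iff_surjective_of_finrank_eq_finrank (by
      rw [hdim, Module.finrank_pi_fintype]; simp [hL, mul_comm])).1 hΦinj⟩
  let ψ : ↥(Cfsg.GU d L (Fintype.card F)) →* Matrix (Fin d ⊕ Fin d) (Fin d ⊕ Fin d) F :=
    { toFun := fun A => LinearMap.toMatrix' (E.toLinearMap.comp
        (((Matrix.mulVecLin (A.1 : Matrix (Fin d) (Fin d) L)).restrictScalars F).comp E.symm.toLinearMap))
      map_one' := by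
        rw [← LinearMap.toMatrix'_id]
        exact congrArg _ (LinearMap.ext fun v => by simp)
      map_mul' := fun A C => by
        rw [← LinearMap.toMatrix'_comp]
        exact congrArg _ (LinearMap.ext fun v => by simp [Matrix.mulVec_mulVec]) }
  have hψ : ∀ A u, ((ψ.toHomUnits A : GL (Fin d ⊕ Fin d) F) : Matrix (Fin d ⊕ Fin d) (Fin d ⊕ Fin d) F) *ᵥ u =
      E ((A.1 : Matrix (Fin d) (Fin d) L) *ᵥ E.symm u) := fun A u => LinearMap.toMatrix'_mulVec _ u
  refine ⟨ψ.toHomUnits, (injective_iff_map_eq_one _).2 fun A hA => ?_, fun A => ⟨fun u u' => ?_, fun l => ?_⟩⟩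
  · refine Subtype.ext (Units.ext (Matrix.ext_iff_mulVec.2 fun a => E.injective ?_))
    have h := hψ A (E a)
    rw [hA, Units.val_one, Matrix.one_mulVec, LinearEquiv.symm_apply_apply] at h
    rw [OneMemClass.coe_one, Units.val_one, Matrix.one_mulVec]
    exact h.symm
  · show Cfsg.sympForm d F (_ *ᵥ u) (_ *ᵥ u') = _
    rw [show (Cfsg.glToMat (Fin d ⊕ Fin d) F) (ψ.toHomUnits A) =
      ((ψ.toHomUnits A : GL (Fin d ⊕ Fin d) F) : Matrix (Fin d ⊕ Fin d) (Fin d ⊕ Fin d) F) from rfl, hψ, hψ]
    show B (Φ _) (Φ _) = B u u'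
    conv_rhs => rw [← E.apply_symm_apply u, ← E.apply_symm_apply u']
    show B (Φ _) (Φ _) = B (Φ _) (Φ _)
    rw [hform, hform]
    exact congrArg (fun x => -lam x) (A.2 _ _)
  · have hE : ∀ a, ι' l *ᵥ E a = E (l • a) := fun a => by
      show ι' l *ᵥ ∑ i, ι' (a i) *ᵥ v i = ∑ i, ι' ((l • a) i) *ᵥ v i
      rw [Matrix.mulVec_sum]
      exact Finset.sum_congr rfl fun i _ => by rw [Matrix.mulVec_mulVec, ← map_mul, Pi.smul_apply, smul_eq_mul]
    refine Matrix.toLin'.injective (LinearMap.ext fun u => ?_)
    rw [Matrix.toLin'_apply, Matrix.toLin'_apply, ← Matrix.mulVec_mulVec, ← Matrix.mulVec_mulVec, hψ, hψ]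
    obtain ⟨a, rfl⟩ := E.surjective u
    rw [hE, E.symm_apply_apply, E.symm_apply_apply, hE, Matrix.mulVec_smul]

/-- An isometry of order `r` commuting with the field, when the moved space is as small as possible. -/
theorem no_small_unitary (h2 : (2 : F) ≠ 0) {V : Type*} [AddCommGroup V] [Module F V] [FiniteDimensional F V]
    {B : LinearMap.BilinForm F V} (hB : ∀ v, B v v = 0) (hnd : ∀ u, (∀ v, B u v = 0) → u = 0) {α : F}
    (hα : ∀ c : F, c ^ 2 ≠ α) {J y : V →ₗ[F] V} (hJ : ∀ v, J (J v) = α • v)
    (hanti : ∀ u v, B (J u) v = -B u (J v)) (hy : ∀ u v, B (y u) (y v) = B u v) (hyJ : ∀ v, y (J v) = J (y v))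
    {r : ℕ} [hrp : Fact r.Prime] (hr2 : r ≠ 2) (hr : (r : F) ≠ 0) (hyr : y ^ r = 1) {n : ℕ}
    (hn : n = orderOf ((Fintype.card F : ℕ) : ZMod r)) (hw : finrank F (movS y) = if Odd n then 2 * n else n)
    (hn4 : Even n → Even (n / 2)) : False := by
  classical
  have hα0 : α ≠ 0 := fun h => hα 0 (by rw [h]; ring)
  have hrodd : Odd r := hrp.out.odd_of_ne_two hr2
  set W := movS y with hWdef
  have hWy : ∀ v ∈ W, y v ∈ W := by
    rintro _ ⟨v, rfl⟩
    exact ⟨y v, by simp⟩
  have hWJ : ∀ v ∈ W, J v ∈ W := by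
    rintro _ ⟨v, rfl⟩
    exact ⟨J v, by simp [hyJ]⟩
  have hWfix : ∀ v ∈ W, y v = v → v = 0 := fun v hv h => disjoint_fix_mov hyr hr (mem_fixS.2 h) hv
  have hWnd : ∀ v ∈ W, (∀ v' ∈ W, B v v' = 0) → v = 0 := fun v hv hperp => by
    refine hWfix v hv (sub_eq_zero.1 (hnd _ fun u => ?_))
    obtain ⟨u', rfl⟩ : ∃ u', y u' = u := by
      refine ⟨(y ^ (r - 1)) u, ?_⟩
      rw [← Module.End.mul_apply, ← pow_succ', show r - 1 + 1 = r by have := hrp.out.one_lt; omega, hyr]
      rfl
    have h1 : B v (y u' - u') = 0 := hperp _ ⟨u', rfl⟩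
    rw [map_sub] at h1
    rw [map_sub, LinearMap.sub_apply, hy]
    linear_combination -h1
  have hsub : ∀ U : Submodule F V, U ≤ W → (∀ v ∈ U, y v ∈ U) → n ∣ finrank F U := fun U hU hUy => by
    rw [hn]
    refine fpf_dvd hyr hUy ((Submodule.eq_bot_iff _).2 fun v hv => hWfix v (hU hv.1) (mem_fixS.1 hv.2))
  have hQ0 : ((Fintype.card F : ℕ) : ZMod r) ≠ 0 := by
    obtain ⟨p, hp⟩ := CharP.exists F
    obtain ⟨e, hpp, -⟩ := FiniteField.card F p
    haveI : Fact p.Prime := ⟨hpp⟩
    exact card_ne_zero_mod (F := F) (p := p) fun h => hr (by rw [h]; exact CharP.cast_eq_zero F p)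
  have hn0 : 0 < n := hn ▸ orderOf_pos_iff.2 (isOfFinOrder_iff_pow_eq_one.2
    ⟨r - 1, by have := hrp.out.two_le; omega, ZMod.pow_card_sub_one_eq_one hQ0⟩)
  by_cases hodd : Odd n
  · -- two isotropic halves
    rw [if_pos hodd] at hw
    obtain ⟨U, hUy, hUW, hUd, -⟩ := exists_dim hyr hr (T := W) hWy hn hn0 (a := 0) (j := 1) (Nat.zero_le _)
      (by
        have h := dim_split (f := y) W
        rw [show W ⊓ fixS y = ⊥ from (Submodule.eq_bot_iff _).2 fun v hv => hWfix v hv.1 (mem_fixS.1 hv.2),
          finrank_bot, hw] at h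
        omega)
    rw [one_mul, zero_add] at hUd
    have hUy' : ∀ v ∈ U, y v ∈ U := hUy
    -- the form induced on U
    let R : Submodule F V :=
      { carrier := {v | v ∈ U ∧ ∀ u ∈ U, B v u = 0}
        add_mem' := fun ha hb => ⟨add_mem ha.1 hb.1, fun u hu => by
          rw [map_add, LinearMap.add_apply, ha.2 u hu, hb.2 u hu, add_zero]⟩
        zero_mem' := ⟨zero_mem _, fun u _ => by simp⟩
        smul_mem' := fun c v hv => ⟨U.smul_mem c hv.1, fun u hu => by simp [hv.2 u hu]⟩ }
    have hsurj : ∀ u ∈ U, ∃ u' ∈ U, y u' = u := fun u hu => by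
      refine ⟨(y ^ (r - 1)) u, ?_, ?_⟩
      · have : ∀ k, (y ^ k) u ∈ U := fun k => by
          induction k with
          | zero => simpa using hu
          | succ k ih => rw [pow_succ', Module.End.mul_apply]; exact hUy' _ ih
        exact this _
      · rw [← Module.End.mul_apply, ← pow_succ', show r - 1 + 1 = r by have := hrp.out.one_lt; omega, hyr]
        rfl
    have hR : ∀ v ∈ R, y v ∈ R := fun v hv => ⟨hUy' v hv.1, fun u hu => by
      obtain ⟨u', hu', rfl⟩ := hsurj u hu
      rw [hy]; exact hv.2 u' hu'⟩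
    let T : U →ₗ[F] U := y.restrict hUy'
    have hT : T ^ r = 1 := by
      refine LinearMap.ext fun u => Subtype.ext ?_
      have : ∀ k, ((T ^ k) u : V) = (y ^ k) u := fun k => by
        induction k with
        | zero => simp
        | succ k ih =>
          rw [pow_succ', pow_succ', Module.End.mul_apply, Module.End.mul_apply, ← ih]
          rfl
      rw [this, hyr]; rfl
    have hTfix : ∀ u, T u = u → u = 0 := fun u h => Subtype.ext (hWfix u (hUW u.2) (congrArg Subtype.val h))
    have hUodd : Odd (finrank F U) := by rw [hUd]; exact hodd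
    rcases eq_or_ne R ⊥ with hR0 | hR0
    · refine no_fpf_isometry_odd h2 hrodd hT (B.compl₁₂ U.subtype U.subtype) (fun u hu => Subtype.ext ?_)
        (fun u v => hy u v) hUodd hTfix
      exact (Submodule.eq_bot_iff R).1 hR0 u ⟨u.2, fun w hw => hu ⟨w, hw⟩⟩
    · have hRU : R = U := Submodule.eq_of_le_of_finrank_le (fun v hv => hv.1) (by
        rw [hUd]
        exact Nat.le_of_dvd (Nat.pos_of_ne_zero fun h => hR0 (Submodule.finrank_eq_zero.1 h))
          (hsub R (fun v hv => hUW hv.1) hR))
      have hiso : ∀ u ∈ U, ∀ u' ∈ U, B u u' = 0 := fun u hu => (show u ∈ R by rw [hRU]; exact hu).2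
      -- U and its image are complementary
      have hUJ : U ⊓ U.map J = ⊥ := by
        by_contra hne
        set I := U ⊓ U.map J
        have hIy : ∀ v ∈ I, y v ∈ I := by
          rintro v ⟨h1, ⟨u, hu, rfl⟩⟩
          exact ⟨hUy' _ h1, ⟨y u, hUy' _ hu, (hyJ u).symm⟩⟩
        have hIJ : ∀ v ∈ I, J v ∈ I := by
          rintro v ⟨h1, ⟨u, hu, rfl⟩⟩
          refine ⟨?_, ⟨J u, h1, rfl⟩⟩
          rw [hJ]; exact U.smul_mem _ hu
        have hev : Even (finrank F I) := even_finrank_of_sq (T := J.restrict hIJ) hα fun v => Subtype.ext (hJ v)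
        have h1 := hsub I (fun v hv => hUW hv.1) hIy
        have h2 : finrank F I ≤ n := hUd ▸ Submodule.finrank_mono inf_le_left
        obtain ⟨c, hc⟩ := h1
        have hc1 : c = 1 := by
          rcases Nat.lt_trichotomy c 1 with h | h | h
          · exact absurd (Submodule.finrank_eq_zero.1 (by rw [hc]; simp [Nat.lt_one_iff.1 h])) hne
          · exact h
          · exfalso; have : n * 2 ≤ n * c := Nat.mul_le_mul_left _ h; omega
        rw [hc, hc1, mul_one] at hev
        exact (Nat.not_even_iff_odd.2 hodd) hev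
      have hJinj : Function.Injective J := fun a b h => by
        have := congrArg J h
        rw [hJ, hJ] at this
        exact smul_right_injective V hα0 this
      have hsup : U ⊔ U.map J = W := Submodule.eq_of_le_of_finrank_le
        (sup_le hUW (by rintro _ ⟨u, hu, rfl⟩; exact hWJ u (hUW hu))) (by
          have h := Submodule.finrank_sup_add_finrank_inf_eq U (U.map J)
          rw [hUJ, finrank_bot, ← (Submodule.equivMapOfInjective J hJinj U).finrank_eq] at h
          omega)
      refine no_fpf_isometry_odd h2 hrodd hT (B.compl₁₂ U.subtype (J.comp U.subtype)) (fun u hu => Subtype.ext ?_)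
        (fun u v => ?_) hUodd hTfix
      · refine hWnd u (hUW u.2) fun w hw => ?_
        rw [← hsup] at hw
        obtain ⟨a, ha, b, ⟨b', hb', rfl⟩, rfl⟩ := Submodule.mem_sup.1 hw
        rw [map_add, hiso u u.2 a ha, zero_add]
        exact hu ⟨b', hb'⟩
      · show B (y u) (J (y v)) = B u (J v)
        rw [← hyJ, hy]
  · -- irreducible moved space
    rw [if_neg hodd] at hw
    rw [Nat.not_odd_iff_even] at hodd
    obtain ⟨m, hm⟩ := hn4 hodd
    have hn4' : n = 2 * (2 * m) := by obtain ⟨t, ht⟩ := hodd; omega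
    obtain ⟨v, hvW, hv0⟩ := (Submodule.ne_bot_iff _).1 (fun h : W = ⊥ => by rw [h, finrank_bot] at hw; omega)
    let ev : F[X] →ₗ[F] V := (LinearMap.applyₗ v).comp (aeval y).toLinearMap
    have hev : ∀ P, ev P = aeval y P v := fun P => rfl
    have hrange : LinearMap.range ev = W := by
      have hle : LinearMap.range ev ≤ W := by
        rintro _ ⟨P, rfl⟩
        rw [hev]
        induction P using Polynomial.induction_on' with
        | add a b ha hb => rw [map_add, LinearMap.add_apply]; exact add_mem ha hb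
        | monomial k c =>
          rw [aeval_monomial, Module.End.mul_apply, Module.algebraMap_end_apply]
          refine W.smul_mem _ ?_
          induction k with
          | zero => simpa using hvW
          | succ k ih => rw [pow_succ', Module.End.mul_apply]; exact hWy _ ih
      refine Submodule.eq_of_le_of_finrank_le hle ?_
      rw [hw]
      refine Nat.le_of_dvd (Nat.pos_of_ne_zero fun h => hv0 ?_) (hsub _ hle ?_)
      · have hmem : ev 1 ∈ LinearMap.range ev := ⟨1, rfl⟩
        rw [Submodule.finrank_eq_zero.1 h, Submodule.mem_bot, hev, map_one] at hmem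
        exact hmem
      · rintro _ ⟨P, rfl⟩
        exact ⟨X * P, by rw [hev, hev, map_mul, aeval_X, Module.End.mul_apply]⟩
    obtain ⟨P, hP⟩ : J v ∈ LinearMap.range ev := hrange.symm ▸ hWJ v hvW
    rw [hev] at hP
    have hcommJ : ∀ Q : F[X], ∀ u, J (aeval y Q u) = aeval y Q (J u) := fun Q => by
      induction Q using Polynomial.induction_on' with
      | add a b ha hb => intro u; simp [map_add, ha, hb]
      | monomial k c =>
        intro u
        rw [aeval_monomial, Module.End.mul_apply, Module.End.mul_apply, Module.algebraMap_end_apply,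
          Module.algebraMap_end_apply, map_smul]
        congr 1
        induction k with
        | zero => simp
        | succ k ih => rw [pow_succ', Module.End.mul_apply, Module.End.mul_apply, ← hyJ, ih]
    have hJP : ∀ u ∈ W, aeval y P u = J u := by
      rw [← hrange]
      rintro _ ⟨Q, rfl⟩
      rw [hev, hcommJ, ← hP, ← Module.End.mul_apply, ← Module.End.mul_apply, ← map_mul, ← map_mul, mul_comm]
    -- Frobenius
    set N := Fintype.card F ^ (2 * m) with hN
    have hexp : ∀ k, aeval y P ^ (Fintype.card F ^ k) = aeval (y ^ (Fintype.card F ^ k)) P := fun k => by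
      induction k with
      | zero => simp
      | succ k ih =>
        rw [pow_succ, pow_mul, ih, ← map_pow, ← FiniteField.expand_card, expand_aeval, pow_mul]
    have hyN : y ^ N * y = 1 := by
      have h1 : (((Fintype.card F : ℕ) : ZMod r) ^ (2 * m)) = -1 := by
        refine (mul_self_eq_one_iff.1 ?_).resolve_left ?_
        · rw [← pow_add, ← two_mul, ← hn4', hn, pow_orderOf_eq_one]
        · intro h
          have := Nat.le_of_dvd (by omega) (hn ▸ orderOf_dvd_of_pow_eq_one h)
          omega
      have h2 : r ∣ N + 1 := by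
        rw [← ZMod.natCast_eq_zero_iff, Nat.cast_add, hN, Nat.cast_pow, h1, Nat.cast_one, neg_add_cancel]
      obtain ⟨c, hc⟩ := h2
      rw [← pow_succ, hc, pow_mul, hyr, one_pow]
    have hadj : ∀ Q : F[X], ∀ u u', B (aeval y Q u) u' = B u (aeval (y ^ N) Q u') := fun Q => by
      induction Q using Polynomial.induction_on' with
      | add a b ha hb => intro u u'; simp [map_add, LinearMap.add_apply, ha, hb]
      | monomial k c =>
        intro u u'
        rw [aeval_monomial, aeval_monomial, Module.End.mul_apply, Module.End.mul_apply, Module.algebraMap_end_apply,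
          Module.algebraMap_end_apply, map_smul, map_smul, LinearMap.smul_apply]
        congr 1
        induction k generalizing u u' with
        | zero => simp
        | succ k ih =>
          rw [pow_succ', Module.End.mul_apply, pow_succ (y ^ N), Module.End.mul_apply, ← ih]
          conv_lhs => rw [← show y ((y ^ N) u') = u' from by
            rw [← Module.End.mul_apply, ← pow_succ', pow_succ, hyN]; rfl]
          rw [hy]
    have hpowJ : ∀ k, ∀ u ∈ W, ((aeval y P) ^ (2 * k + 1)) u = α ^ k • J u := fun k => by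
      induction k with
      | zero => intro u hu; simp [hJP u hu]
      | succ k ih =>
        intro u hu
        rw [show 2 * (k + 1) + 1 = (2 * k + 1) + 1 + 1 by ring, pow_succ, pow_succ, Module.End.mul_apply,
          Module.End.mul_apply, hJP u hu, hJP _ (hWJ u hu), hJ, map_smul, ih u hu, smul_smul, pow_succ]
        ring_nf
    obtain ⟨k, hk, hαk⟩ : ∃ k, N = 2 * k + 1 ∧ α ^ k = 1 := by
      have hq : Fintype.card F % 2 = 1 := FiniteField.odd_card_of_char_ne_two fun h => h2 (by
        have := CharP.cast_eq_zero F (ringChar F)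
        rw [h] at this; simpa using this)
      obtain ⟨c, hc⟩ : Fintype.card F ^ 2 - 1 ∣ N - 1 := by
        rw [hN, pow_mul]; exact Nat.sub_one_dvd_pow_sub_one _ _
      obtain ⟨h, hh⟩ : ∃ h, Fintype.card F = 2 * h + 1 := ⟨Fintype.card F / 2, by omega⟩
      have h1 : Fintype.card F ^ 2 - 1 = 2 * ((Fintype.card F - 1) * (h + 1)) := by
        rw [hh, show (2 * h + 1) - 1 = 2 * h by omega]
        have : (2 * h + 1) ^ 2 = 2 * (2 * h * (h + 1)) + 1 := by ring
        omega
      have hN1 : 1 ≤ N := Nat.one_le_pow _ _ Fintype.card_pos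
      refine ⟨(Fintype.card F - 1) * (h + 1) * c, ?_, ?_⟩
      · have : N - 1 = 2 * ((Fintype.card F - 1) * (h + 1) * c) := by rw [hc, h1]; ring
        omega
      · rw [mul_assoc, pow_mul, FiniteField.pow_card_sub_one_eq_one α hα0, one_pow]
    refine hv0 (hWnd v hvW fun u hu => ?_)
    have h3 : ∀ u' ∈ W, B (J v) u' = B v (J u') := fun u' hu' => by
      rw [← hJP v hvW, hadj, hN, ← hexp, ← hN, hk, hpowJ k u' hu', hαk, one_smul]
    have h4 : ∀ u' ∈ W, B v (J u') = 0 := fun u' hu' => by
      have h5 : (2 : F) * B v (J u') = 0 := by linear_combination hanti v u' - h3 u' hu'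
      simpa [h2] using h5
    have h6 := h4 (J u) (hWJ u hu)
    rw [hJ, map_smul, smul_eq_mul] at h6
    exact (mul_eq_zero.1 h6).resolve_left hα0

end CfsgLib.Elusive
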