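import Cfsg.Agent.Elusive.SympUnitary

/-!
The criterion for elements of prime order of the symplectic group to normalise an adjoint-closed, not
self-adjoint, quadratic field.
-/

set_option autoImplicit false
open scoped Matrix

namespace CfsgLib.Elusive

open Module Cfsg.Geo

variable {F : Type*} [Field F] [Fintype F]

/-- In an adjoint-closed field that is not self-adjoint there is an anti-self-adjoint generator with
non-square square. -/
theorem exists_anti_generator {p : ℕ} [Fact p.Prime] [CharP F p] {d : ℕ} (hd : 0 < d) (h2 : (2 : F) ≠ 0)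
    {K : Subalgebra F (Matrix (Fin d ⊕ Fin d) (Fin d ⊕ Fin d) F)} (hK : IsFieldSubalgebra 2 K)
    (hKf : IsAdjointClosedFor (Cfsg.sympForm d F) K) (hKns : ¬ IsSelfAdjointFor (Cfsg.sympForm d F) K) :
    ∃ j ∈ K, ∃ α : F, j * j = α • 1 ∧ (∀ c : F, c ^ 2 ≠ α) ∧
      (∀ u v, Cfsg.sympForm d F (j *ᵥ u) v = -Cfsg.sympForm d F u (j *ᵥ v)) ∧
      ∀ k ∈ K, ∃ a b : F, k = a • 1 + b • j := by
  haveI : Nonempty (Fin d ⊕ Fin d) := ⟨Sum.inl ⟨0, hd⟩⟩
  obtain ⟨j₀, hj₀, β, α₀, hjj₀, hroot, hspan₀⟩ := exists_generator hK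
  set j := j₀ - (β / 2) • (1 : Matrix (Fin d ⊕ Fin d) (Fin d ⊕ Fin d) F) with hjdef
  set α := α₀ + β ^ 2 / 4 with hαdef
  have h4 : (4 : F) ≠ 0 := by rw [show (4 : F) = 2 * 2 by norm_num]; exact mul_ne_zero h2 h2
  have hjK : j ∈ K := sub_mem hj₀ (Subalgebra.smul_mem _ (one_mem _) _)
  have hjj : j * j = α • 1 := by
    simp only [hjdef, sub_mul, mul_sub, hjj₀, smul_mul_assoc, mul_smul_comm, one_mul, mul_one, smul_smul, hαdef]
    match_scalars <;> field_simp <;> ring
  have hα : ∀ c : F, c ^ 2 ≠ α := fun c hc => hroot (c + β / 2) (by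
    rw [hαdef] at hc
    field_simp at hc ⊢
    linear_combination hc)
  have hspan : ∀ k' ∈ K, ∃ a b : F, k' = a • 1 + b • j := fun k' hk' => by
    obtain ⟨a, b, rfl⟩ := hspan₀ k' hk'
    exact ⟨a + b * (β / 2), b, by rw [hjdef]; module⟩
  set B := sympBilin d F
  have hsk : ∀ a b, B b a = -B a b := fun a b => CfsgLib.Symp.form_swap b a
  obtain ⟨j', hj'K, hj'⟩ := hKf j hjK
  obtain ⟨a, b, rfl⟩ := hspan j' hj'K
  have e1 : ∀ u v, B (j *ᵥ u) v = a * B u v + b * B u (j *ᵥ v) := fun u v => by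
    show Cfsg.sympForm d F _ _ = _
    rw [hj', ← sympBilin_apply, Matrix.add_mulVec, Matrix.smul_mulVec, Matrix.smul_mulVec, Matrix.one_mulVec,
      map_add, map_smul, map_smul, smul_eq_mul, smul_eq_mul]
  obtain ⟨u₀, v₀, huv⟩ : ∃ u v, B u v ≠ 0 := by
    obtain ⟨v, hv⟩ := CfsgLib.Symp.exists_form_ne_zero
      (v := (Pi.single (Sum.inl ⟨0, hd⟩) 1 : Fin d ⊕ Fin d → F)) (by simp)
    exact ⟨_, v, hv⟩
  have e2 : ∀ u v, (a * (1 + b)) * B u v + (b * b - 1) * B u (j *ᵥ v) = 0 := fun u v => by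
    have h1 := e1 v u
    rw [hsk u (j *ᵥ v) |> fun h => show B (j *ᵥ v) u = -B u (j *ᵥ v) from h, hsk u v, hsk (j *ᵥ u) v, e1 u v] at h1
    linear_combination h1
  have hb : b = -1 := by
    by_contra hb
    by_cases hb1 : b = 1
    · subst hb1
      have ha : a = 0 := by
        have h := e2 u₀ v₀
        have : (2 : F) * a * B u₀ v₀ = 0 := by linear_combination h
        simpa [h2, huv] using this
      subst ha
      refine hKns fun k hk u v => ?_
      obtain ⟨s, t, rfl⟩ := hspan k hk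
      show B _ v = B u _
      rw [Matrix.add_mulVec, Matrix.add_mulVec, Matrix.smul_mulVec, Matrix.smul_mulVec, Matrix.smul_mulVec,
        Matrix.smul_mulVec, Matrix.one_mulVec, Matrix.one_mulVec]
      simp [e1]
    · have hb2 : b * b - 1 ≠ 0 := fun h => by
        rcases mul_self_eq_one_iff.1 (sub_eq_zero.1 h) with h | h
        · exact hb1 h
        · exact hb h
      set c := -(a * (1 + b)) / (b * b - 1)
      have hjc : ∀ v, j *ᵥ v = c • v := fun v => by
        refine sub_eq_zero.1 (CfsgLib.Symp.eq_zero_of_form_eq_zero fun u => ?_)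
        show B u (j *ᵥ v - c • v) = 0
        rw [map_sub, map_smul, smul_eq_mul]
        have h := e2 u v
        have hc : c * (b * b - 1) = -(a * (1 + b)) := div_mul_cancel₀ _ hb2
        refine mul_right_cancel₀ hb2 ?_
        linear_combination h - (B u v) * hc
      have h := congrArg (fun M => M *ᵥ (Pi.single (Sum.inl ⟨0, hd⟩) 1 : Fin d ⊕ Fin d → F)) hjj
      simp only [← Matrix.mulVec_mulVec, hjc, Matrix.mulVec_smul, Matrix.smul_mulVec, Matrix.one_mulVec, smul_smul] at h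
      have h' := congrFun h (Sum.inl ⟨0, hd⟩)
      simp at h'
      exact hα c (by rw [pow_two]; exact h')
  subst hb
  refine ⟨j, hjK, α, hjj, hα, fun u v => ?_, hspan⟩
  have ha : a = 0 := by
    by_contra ha
    refine huv ?_
    have h3 : B (j *ᵥ (j *ᵥ u₀)) v₀ = α * B u₀ v₀ := by
      rw [Matrix.mulVec_mulVec, hjj, Matrix.smul_mulVec, Matrix.one_mulVec, map_smul, LinearMap.smul_apply, smul_eq_mul]
    have h4 : B u₀ (j *ᵥ (j *ᵥ v₀)) = α * B u₀ v₀ := by
      rw [Matrix.mulVec_mulVec, hjj, Matrix.smul_mulVec, Matrix.one_mulVec, map_smul, smul_eq_mul]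
    rw [e1, e1, e1 u₀ (j *ᵥ v₀), h4] at h3
    have h5 : a * (a * B u₀ v₀ - 2 * B u₀ (j *ᵥ v₀)) = 0 := by linear_combination h3
    have h6 : a * B u₀ v₀ - 2 * B u₀ (j *ᵥ v₀) = 0 := (mul_eq_zero.1 h5).resolve_left ha
    by_contra h7
    have hall : ∀ u v, a * B u v - 2 * B u (j *ᵥ v) = 0 := fun u v => by
      have h3 : B (j *ᵥ (j *ᵥ u)) v = α * B u v := by
        rw [Matrix.mulVec_mulVec, hjj, Matrix.smul_mulVec, Matrix.one_mulVec, map_smul, LinearMap.smul_apply, smul_eq_mul]
      have h4 : B u (j *ᵥ (j *ᵥ v)) = α * B u v := by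
        rw [Matrix.mulVec_mulVec, hjj, Matrix.smul_mulVec, Matrix.one_mulVec, map_smul, smul_eq_mul]
      rw [e1, e1, e1 u (j *ᵥ v), h4] at h3
      exact (mul_eq_zero.1 (show a * (a * B u v - 2 * B u (j *ᵥ v)) = 0 by linear_combination h3)).resolve_left ha
    have hjc : ∀ v, j *ᵥ v = (a / 2) • v := fun v => by
      refine sub_eq_zero.1 (CfsgLib.Symp.eq_zero_of_form_eq_zero fun u => ?_)
      show B u (j *ᵥ v - (a / 2) • v) = 0
      rw [map_sub, map_smul, smul_eq_mul]
      have h := hall u v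
      field_simp
      linear_combination -h
    have h := congrArg (fun M => M *ᵥ (Pi.single (Sum.inl ⟨0, hd⟩) 1 : Fin d ⊕ Fin d → F)) hjj
    simp only [← Matrix.mulVec_mulVec, hjc, Matrix.mulVec_smul, Matrix.smul_mulVec, Matrix.one_mulVec, smul_smul] at h
    have h' := congrFun h (Sum.inl ⟨0, hd⟩)
    simp at h'
    exact hα (a / 2) (by rw [pow_two]; exact h')
  subst ha
  show B _ v = -B u _
  rw [e1]; ring

set_option maxHeartbeats 1000000 in
/-- The criterion for an adjoint-closed, not self-adjoint, quadratic field. -/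
theorem symp_unitary_iff {p : ℕ} [Fact p.Prime] [CharP F p] {d : ℕ} (hd : 2 ≤ d) (h2 : (2 : F) ≠ 0)
    {L : Type*} [Field L] [Algebra F L] [FiniteDimensional F L] (hL : finrank F L = 2)
    (ι' : L →ₐ[F] Matrix (Fin d ⊕ Fin d) (Fin d ⊕ Fin d) F) {jL : L} {α : F} (hα : ∀ c : F, c ^ 2 ≠ α)
    (hjjL : jL * jL = algebraMap F L α)
    (hanti : ∀ u v, Cfsg.sympForm d F (ι' jL *ᵥ u) v = -Cfsg.sympForm d F u (ι' jL *ᵥ v))
    (hspan : ∀ k ∈ ι'.range, ∃ a b : F, k = a • 1 + b • ι' jL) (r : ℕ) [Fact r.Prime]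
    (hΩ : r ∣ (subalgebraNormalizer ι'.range).relIndex (Cfsg.spGL d F)) :
    (∀ x ∈ Cfsg.spGL d F, (∃ z : F, ((x ^ r : GL (Fin d ⊕ Fin d) F) : Matrix (Fin d ⊕ Fin d) (Fin d ⊕ Fin d) F) = z • (1 : Matrix (Fin d ⊕ Fin d) (Fin d ⊕ Fin d) F)) →
      (∀ z : F, (x : Matrix (Fin d ⊕ Fin d) (Fin d ⊕ Fin d) F) ≠ z • (1 : Matrix (Fin d ⊕ Fin d) (Fin d ⊕ Fin d) F)) →
      ∃ g ∈ Cfsg.spGL d F, g⁻¹ * x * g ∈ subalgebraNormalizer ι'.range) ↔ r = 2 := by
  classical
  have hrr := (Fact.out : r.Prime)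
  haveI : Finite L := Module.finite_of_finite F
  haveI : Nonempty (Fin d ⊕ Fin d) := ⟨Sum.inl ⟨0, by omega⟩⟩
  have hι : Function.Injective ι' := RingHom.injective (ι' : L →+* Matrix (Fin d ⊕ Fin d) (Fin d ⊕ Fin d) F)
  set j := ι' jL with hjdef
  have hjj : j * j = α • 1 := by rw [hjdef, ← map_mul, hjjL, AlgHom.commutes, Algebra.algebraMap_eq_smul_one]
  have hα0 : α ≠ 0 := fun h => hα 0 (by rw [h]; ring)
  set B := sympBilin d F
  have hB : ∀ v, B v v = 0 := fun v => CfsgLib.Symp.form_self v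
  have hnd : ∀ w, (∀ w', B w w' = 0) → w = 0 := fun w hw => CfsgLib.Symp.eq_zero_of_form_eq_zero fun u => by
    rw [CfsgLib.Symp.form_swap, show CfsgLib.Symp.form w u = 0 from hw u, neg_zero]
  have hdim : finrank F (Fin d ⊕ Fin d → F) = 2 * d := by
    rw [Module.finrank_fintype_fun_eq_card, Fintype.card_sum, Fintype.card_fin, two_mul]
  have hnorm : ∀ (y : GL (Fin d ⊕ Fin d) F) (ε : F),
      (y : Matrix (Fin d ⊕ Fin d) (Fin d ⊕ Fin d) F) * j = ε • (j * (y : Matrix (Fin d ⊕ Fin d) (Fin d ⊕ Fin d) F)) →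
      y ∈ subalgebraNormalizer ι'.range := fun y ε hy => by
    refine mem_normalizer_of_conj fun k' hk' => ?_
    obtain ⟨a, b, rfl⟩ := hspan k' hk'
    rw [mul_add, add_mul, mul_smul_comm, mul_smul_comm, smul_mul_assoc, smul_mul_assoc, mul_one, Units.mul_inv, hy,
      smul_mul_assoc, mul_assoc, Units.mul_inv, mul_one, smul_smul]
    exact add_mem (Subalgebra.smul_mem _ (one_mem _) _) (Subalgebra.smul_mem _ (Set.mem_range_self jL : ι' jL ∈ ι'.range) _)
  constructor
  · intro hall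
    by_contra hr2
    obtain ⟨t₂, ht₂⟩ := hrr.odd_of_ne_two hr2
    have hcore : ∀ y : GL (Fin d ⊕ Fin d) F, y ∈ subalgebraNormalizer ι'.range → y ^ r = 1 →
        (y : Matrix (Fin d ⊕ Fin d) (Fin d ⊕ Fin d) F) * j = j * (y : Matrix (Fin d ⊕ Fin d) (Fin d ⊕ Fin d) F) := by
      intro y hyN hyr
      obtain ⟨a, b, hab⟩ := hspan _ ((hyN _).1 ⟨jL, rfl⟩)
      set Y := (y : Matrix (Fin d ⊕ Fin d) (Fin d ⊕ Fin d) F)
      set Y' := ((y⁻¹ : GL (Fin d ⊕ Fin d) F) : Matrix (Fin d ⊕ Fin d) (Fin d ⊕ Fin d) F)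
      have hab' : Y * j * Y' = a • 1 + b • j := hab
      have hsq : (a • (1 : Matrix (Fin d ⊕ Fin d) (Fin d ⊕ Fin d) F) + b • j) * (a • 1 + b • j) = α • 1 := by
        rw [← hab', show Y * j * Y' * (Y * j * Y') = Y * (j * (Y' * Y) * j) * Y' by simp only [mul_assoc],
          show Y' * Y = 1 from Units.inv_mul y, mul_one, hjj, mul_smul_comm, mul_one, smul_mul_assoc,
          show Y * Y' = 1 from Units.mul_inv y]
      have hzero : ∀ s t : F, s • (1 : Matrix (Fin d ⊕ Fin d) (Fin d ⊕ Fin d) F) + t • j = 0 → s = 0 ∧ t = 0 := by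
        intro s t hst
        have ht : t = 0 := by
          by_contra ht
          have hjs : j = (-(t⁻¹ * s)) • (1 : Matrix (Fin d ⊕ Fin d) (Fin d ⊕ Fin d) F) := by
            rw [neg_smul, ← smul_smul, ← smul_neg, ← eq_neg_of_add_eq_zero_right hst, smul_smul, inv_mul_cancel₀ ht,
              one_smul]
          have h := hjj
          rw [hjs, smul_mul_assoc, one_mul, smul_smul] at h
          have h' := congrFun (congrFun h (Sum.inl ⟨0, by omega⟩)) (Sum.inl ⟨0, by omega⟩)
          simp at h'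
          exact hα (t⁻¹ * s) (by rw [← h']; ring)
        subst ht
        have h' := congrFun (congrFun hst (Sum.inl ⟨0, by omega⟩)) (Sum.inl ⟨0, by omega⟩)
        exact ⟨by simpa using h', rfl⟩
      obtain ⟨e1, e2⟩ := hzero (a * a + b * b * α - α) (2 * a * b) (by
        have h := sub_eq_zero.2 hsq
        simp only [add_mul, mul_add, smul_mul_assoc, mul_smul_comm, one_mul, mul_one, hjj, smul_smul] at h
        rw [← h]; module)
      have hb : a = 0 := by
        by_contra ha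
        have hb0 : b = 0 := by simpa [h2, ha] using e2
        subst hb0
        exact hα a (by linear_combination e1)
      subst hb
      rw [zero_smul, zero_add] at hab'
      have hyj : Y * j = b • (j * Y) := by
        rw [← smul_mul_assoc, ← hab', mul_assoc, show Y' * Y = 1 from Units.inv_mul y, mul_one]
      have hb2 : b * b = 1 := by
        have : (b * b - 1) * α = 0 := by linear_combination e1
        exact sub_eq_zero.1 ((mul_eq_zero.1 this).resolve_right hα0)
      have hpow : ∀ m : ℕ, Y ^ m * j = b ^ m • (j * Y ^ m) := fun m => by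
        induction m with
        | zero => simp
        | succ m ih =>
          rw [pow_succ' Y, mul_assoc, ih, mul_smul_comm, ← mul_assoc Y j, hyj, smul_mul_assoc, smul_smul, mul_assoc,
            ← pow_succ]
      have hbr := hpow r
      rw [← Units.val_pow_eq_pow_val, hyr, Units.val_one, one_mul, mul_one, ht₂, pow_succ, pow_mul, pow_two, hb2,
        one_pow, one_mul] at hbr
      have hb1 : b = 1 := by
        have h := (hzero 0 (b - 1) (by rw [zero_smul, zero_add, sub_smul, one_smul, ← hbr, sub_self])).2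
        exact sub_eq_zero.1 h
      rwa [hb1, one_smul] at hyj
    -- witnesses
    have hwit : ∀ x : GL (Fin d ⊕ Fin d) F, x ∈ Cfsg.spGL d F → x ^ r = 1 →
        ∀ g ∈ Cfsg.spGL d F, g⁻¹ * x * g ∈ subalgebraNormalizer ι'.range →
        ∃ y : GL (Fin d ⊕ Fin d) F, y ∈ Cfsg.spGL d F ∧ y ^ r = 1 ∧
          (y : Matrix (Fin d ⊕ Fin d) (Fin d ⊕ Fin d) F) * j = j * (y : Matrix (Fin d ⊕ Fin d) (Fin d ⊕ Fin d) F) ∧
          finrank F (movS (Matrix.toLin' (y : Matrix (Fin d ⊕ Fin d) (Fin d ⊕ Fin d) F))) =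
            finrank F (movS (Matrix.toLin' (x : Matrix (Fin d ⊕ Fin d) (Fin d ⊕ Fin d) F))) := by
      intro x hx hxr g hg hm
      have hyr : (g⁻¹ * x * g) ^ r = 1 := by
        rw [show g⁻¹ * x * g = g⁻¹ * x * g⁻¹⁻¹ by rw [inv_inv], conj_pow, hxr]; group
      refine ⟨_, mul_mem (mul_mem (inv_mem hg) hx) hg, hyr, hcore _ hm hyr, ?_⟩
      let G : (Fin d ⊕ Fin d → F) ≃ₗ[F] (Fin d ⊕ Fin d → F) := LinearEquiv.ofLinear
        (Matrix.mulVecLin ((g⁻¹ : GL (Fin d ⊕ Fin d) F) : Matrix (Fin d ⊕ Fin d) (Fin d ⊕ Fin d) F))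
        (Matrix.mulVecLin (g : Matrix (Fin d ⊕ Fin d) (Fin d ⊕ Fin d) F))
        (by rw [← Matrix.mulVecLin_mul, ← Units.val_mul, inv_mul_cancel, Units.val_one, Matrix.mulVecLin_one])
        (by rw [← Matrix.mulVecLin_mul, ← Units.val_mul, mul_inv_cancel, Units.val_one, Matrix.mulVecLin_one])
      rw [← G.finrank_map_eq (movS (Matrix.toLin' (x : Matrix (Fin d ⊕ Fin d) (Fin d ⊕ Fin d) F)))]
      refine congrArg (fun S : Submodule F (Fin d ⊕ Fin d → F) => finrank F S) ?_
      apply le_antisymm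
      · rintro _ ⟨v, rfl⟩
        refine ⟨_, ⟨(g : Matrix (Fin d ⊕ Fin d) (Fin d ⊕ Fin d) F) *ᵥ v, rfl⟩, ?_⟩
        simp [G, Units.val_mul, Matrix.mulVec_sub, Matrix.mulVec_mulVec, mul_assoc]
      · rintro _ ⟨_, ⟨v, rfl⟩, rfl⟩
        refine ⟨((g⁻¹ : GL (Fin d ⊕ Fin d) F) : Matrix (Fin d ⊕ Fin d) (Fin d ⊕ Fin d) F) *ᵥ v, ?_⟩
        simp [G, Units.val_mul, Matrix.mulVec_sub, Matrix.mulVec_mulVec, mul_assoc, Units.mul_inv]
    -- the moved space is stable under the field
    have heven : ∀ y : GL (Fin d ⊕ Fin d) F,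
        (y : Matrix (Fin d ⊕ Fin d) (Fin d ⊕ Fin d) F) * j = j * (y : Matrix (Fin d ⊕ Fin d) (Fin d ⊕ Fin d) F) →
        Even (finrank F (movS (Matrix.toLin' (y : Matrix (Fin d ⊕ Fin d) (Fin d ⊕ Fin d) F)))) := by
      intro y hyj
      set f := Matrix.toLin' (y : Matrix (Fin d ⊕ Fin d) (Fin d ⊕ Fin d) F)
      have hst : ∀ v ∈ movS f, Matrix.toLin' j v ∈ movS f := by
        rintro _ ⟨v, rfl⟩
        exact ⟨j *ᵥ v, by simp [f, Matrix.mulVec_sub, Matrix.mulVec_mulVec, hyj]⟩
      exact even_finrank_of_sq (T := (Matrix.toLin' j).restrict hst) hα fun v => Subtype.ext (by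
        show Matrix.toLin' j (Matrix.toLin' j v.1) = α • v.1
        rw [Matrix.toLin'_apply, Matrix.toLin'_apply, Matrix.mulVec_mulVec, hjj, Matrix.smul_mulVec, Matrix.one_mulVec])
    have hnsc : ∀ x : GL (Fin d ⊕ Fin d) F,
        ∀ w, finrank F (movS (Matrix.toLin' (x : Matrix (Fin d ⊕ Fin d) (Fin d ⊕ Fin d) F))) = w → w ≠ 0 →
        x ∈ Cfsg.spGL d F → x ^ r = 1 →
        ∀ z : F, (x : Matrix (Fin d ⊕ Fin d) (Fin d ⊕ Fin d) F) ≠ z • 1 := by
      intro x w hw hw0 hxS hxr z hz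
      obtain ⟨v', hv'⟩ := CfsgLib.Symp.exists_form_ne_zero
        (v := (Pi.single (Sum.inl ⟨0, by omega⟩) 1 : Fin d ⊕ Fin d → F)) (by simp)
      have h1 := hxS (Pi.single (Sum.inl ⟨0, by omega⟩) 1) v'
      change CfsgLib.Symp.form ((x : Matrix (Fin d ⊕ Fin d) (Fin d ⊕ Fin d) F) *ᵥ _)
        ((x : Matrix (Fin d ⊕ Fin d) (Fin d ⊕ Fin d) F) *ᵥ _) = CfsgLib.Symp.form _ _ at h1
      rw [hz, Matrix.smul_mulVec, Matrix.smul_mulVec, Matrix.one_mulVec, Matrix.one_mulVec,
        CfsgLib.Symp.form_smul_left, CfsgLib.Symp.form_smul_right, ← mul_assoc] at h1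
      have hzz : z ^ 2 = 1 := by rw [pow_two]; exact mul_right_cancel₀ hv' (h1.trans (one_mul _).symm)
      have hzr : z ^ r = 1 := by
        have h3 := congrArg Units.val hxr
        rw [Units.val_pow_eq_pow_val, hz, smul_pow, one_pow, Units.val_one] at h3
        have := congrFun (congrFun h3 (Sum.inl ⟨0, by omega⟩)) (Sum.inl ⟨0, by omega⟩)
        simpa using this
      rw [ht₂, pow_succ, pow_mul, hzz, one_pow, one_mul] at hzr
      refine hw0 (hw.symm.trans ?_)
      rw [hz, hzr, one_smul, Matrix.toLin'_one, ← Module.End.one_eq_id, movS, sub_self, LinearMap.range_zero, finrank_bot]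
    by_cases hrp : r = p
    · -- a transvection
      set v : Fin d ⊕ Fin d → F := Pi.single (Sum.inl ⟨0, by omega⟩) 1 with hv
      have hv0 : v ≠ 0 := fun h => by simpa [hv] using congrFun h (Sum.inl ⟨0, by omega⟩)
      let x : GL (Fin d ⊕ Fin d) F := (Matrix.symplecticGroup (Fin d) F).subtype.toHomUnits (CfsgLib.Symp.tv v (1 : F))
      have hxS : x ∈ Cfsg.spGL d F := fun a b => CfsgLib.Symp.form_smul_smul _ a b
      have hxr : x ^ r = 1 := by
        have hpw : ∀ m : ℕ, CfsgLib.Symp.tv v (1 : F) ^ m = CfsgLib.Symp.tv v (m : F) := fun m => by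
          induction m with
          | zero => rw [pow_zero, Nat.cast_zero, CfsgLib.Symp.tv_zero]
          | succ m ih => rw [pow_succ, ih, CfsgLib.Symp.tv_add, Nat.cast_succ]
        rw [← map_pow, hpw, hrp, CharP.cast_eq_zero, CfsgLib.Symp.tv_zero, map_one]
      have hw : finrank F (movS (Matrix.toLin' (x : Matrix (Fin d ⊕ Fin d) (Fin d ⊕ Fin d) F))) = 1 := by
        obtain ⟨v', hv'⟩ := CfsgLib.Symp.exists_form_ne_zero hv0
        have heq : movS (Matrix.toLin' (x : Matrix (Fin d ⊕ Fin d) (Fin d ⊕ Fin d) F)) = F ∙ v := by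
          apply le_antisymm
          · rintro _ ⟨a, rfl⟩
            refine Submodule.mem_span_singleton.2 ⟨CfsgLib.Symp.form a v, ?_⟩
            show _ = CfsgLib.Symp.tv v (1 : F) • a - a
            rw [CfsgLib.Symp.tv_smul, one_mul, add_sub_cancel_left]
          · rw [Submodule.span_singleton_le_iff_mem]
            refine ⟨-(CfsgLib.Symp.form v v')⁻¹ • v', ?_⟩
            show CfsgLib.Symp.tv v (1 : F) • (-(CfsgLib.Symp.form v v')⁻¹ • v') - -(CfsgLib.Symp.form v v')⁻¹ • v' = v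
            rw [CfsgLib.Symp.tv_smul, one_mul, add_sub_cancel_left, CfsgLib.Symp.form_smul_left,
              CfsgLib.Symp.form_swap v' v, neg_mul_neg, inv_mul_cancel₀ hv', one_smul]
        rw [heq, finrank_span_singleton hv0]
      obtain ⟨g, hg, hm⟩ := hall x hxS ⟨1, by rw [hxr, one_smul, Units.val_one]⟩ (hnsc x 1 hw one_ne_zero hxS hxr)
      obtain ⟨y, -, -, hyj, hyw⟩ := hwit x hxS hxr g hg hm
      have h := heven y hyj
      rw [hyw, hw] at h
      exact Nat.not_even_one h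
    · have hr0 : (r : F) ≠ 0 := cast_ne_zero_of_ne (p := p) hrp
      set Q : ZMod r := ((Fintype.card F : ℕ) : ZMod r) with hQ
      have hQ0 : Q ≠ 0 := card_ne_zero_mod (F := F) (p := p) hrp
      set i₀ := orderOf (Q ^ 2) with hi₀
      set n := orderOf Q with hn
      have hfin : IsOfFinOrder Q := isOfFinOrder_iff_pow_eq_one.2
        ⟨r - 1, by have := hrr.two_le; omega, ZMod.pow_card_sub_one_eq_one hQ0⟩
      have hi0 : 0 < i₀ := orderOf_pos_iff.2 hfin.pow
      have hn0 : 0 < n := orderOf_pos_iff.2 hfin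
      have hn1 : n ∣ 2 * i₀ := orderOf_dvd_of_pow_eq_one (by rw [pow_mul, pow_orderOf_eq_one])
      have hn2 : i₀ ∣ n := orderOf_dvd_of_pow_eq_one (by rw [← pow_mul, mul_comm, pow_mul, hn, pow_orderOf_eq_one, one_pow])
      have hnodd : Odd n → n = i₀ := fun h => Nat.dvd_antisymm
        ((Nat.coprime_two_right.2 h).dvd_of_dvd_mul_left hn1) hn2
      have hneven : Even n → n = 2 * i₀ := by
        rintro ⟨t, ht⟩
        have hit : i₀ ∣ t := orderOf_dvd_of_pow_eq_one (by
          rw [← pow_mul, two_mul, ← ht, hn, pow_orderOf_eq_one])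
        refine Nat.dvd_antisymm hn1 ?_
        rw [ht, ← two_mul]
        exact Nat.mul_dvd_mul_left 2 hit
      have hfac : ∀ i, r ∣ Fintype.card F ^ (2 * i) - 1 ↔ i₀ ∣ i := fun i => by
        rw [hi₀, orderOf_dvd_iff_pow_eq_one, ← pow_mul, hQ, ← ZMod.natCast_eq_zero_iff,
          Nat.cast_sub (Nat.one_le_pow _ _ Fintype.card_pos), Nat.cast_pow, Nat.cast_one, sub_eq_zero]
      have hspcard : Nat.card (Cfsg.spGL d F) = Nat.card (Matrix.symplecticGroup (Fin d) F) :=
        Nat.card_congr <| Equiv.ofBijective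
          (fun g => ⟨(g.1 : Matrix (Fin d ⊕ Fin d) (Fin d ⊕ Fin d) F), CfsgLib.Symp.mem_iff_form.2 g.2⟩)
          ⟨fun a b e => Subtype.ext (Units.ext (congrArg Subtype.val e)), fun g =>
            ⟨⟨(Matrix.symplecticGroup (Fin d) F).subtype.toHomUnits g, fun u v =>
              CfsgLib.Symp.form_smul_smul g u v⟩, Subtype.ext rfl⟩⟩
      have hmul₀ := Subgroup.relIndex_mul_relIndex ⊥ (subalgebraNormalizer ι'.range ⊓ Cfsg.spGL d F)
        (Cfsg.spGL d F) bot_le inf_le_right
      rw [Subgroup.relIndex_bot_left, Subgroup.relIndex_bot_left, Subgroup.inf_relIndex_right, hspcard] at hmul₀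
      have hrq : ¬ r ∣ Fintype.card F := fun h => hQ0 ((ZMod.natCast_eq_zero_iff _ _).2 h)
      have hid : i₀ ≤ d := by
        have hrSp : r ∣ Nat.card (Matrix.symplecticGroup (Fin d) F) := hmul₀ ▸ dvd_mul_of_dvd_right hΩ _
        rw [CfsgLib.Symp.card_Sp, Nat.card_eq_fintype_card] at hrSp
        rcases hrr.dvd_mul.1 hrSp with h | h
        · exact absurd (hrr.dvd_of_dvd_pow h) hrq
        · obtain ⟨i, hi, hri⟩ := (hrr.prime.dvd_finset_prod_iff _).1 h
          have := Nat.le_of_dvd (by omega) ((hfac (i + 1)).1 hri)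
          have := Finset.mem_range.1 hi
          omega
      have hn4 : Even n → Even (n / 2) := by
        intro hne
        rw [hneven hne, Nat.mul_div_cancel_left _ two_pos]
        by_contra hodd
        rw [Nat.not_even_iff_odd] at hodd
        haveI := Fintype.ofFinite L
        obtain ⟨φ, hφ, hφ'⟩ := exists_unitary_hom h2 hα hL ι' hjjL hanti
        have hle : φ.range ≤ subalgebraNormalizer ι'.range ⊓ Cfsg.spGL d F := by
          rintro _ ⟨A, rfl⟩
          exact ⟨hnorm _ 1 (by rw [one_smul]; exact (hφ' A).2 jL), (hφ' A).1⟩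
        obtain ⟨c, hc⟩ : Nat.card ↥(Cfsg.GU d L (Fintype.card F)) ∣
            Nat.card ↥(subalgebraNormalizer ι'.range ⊓ Cfsg.spGL d F) := by
          rw [← Nat.card_congr (MonoidHom.ofInjective hφ).toEquiv.symm]
          exact Subgroup.card_dvd_of_le hle
        have hLc : Fintype.card L = Fintype.card F ^ 2 := by rw [Module.card_eq_pow_finrank (K := F), hL]
        have hGU : Nat.card ↥(Cfsg.GU d L (Fintype.card F)) = Fintype.card F ^ (d * (d - 1) / 2) *
            ∏ i ∈ Finset.range d, (if Even i then Fintype.card F ^ (i + 1) + 1 else Fintype.card F ^ (i + 1) - 1) :=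
          CfsgLib.Unitary.card_GU (by rw [Nat.card_eq_fintype_card, hLc]) d
        rw [hc, hGU, CfsgLib.Symp.card_Sp, Nat.card_eq_fintype_card] at hmul₀
        set q := Fintype.card F with hqdef
        have hq2 : 2 ≤ q := Fintype.one_lt_card
        have hsplit : ∏ i ∈ Finset.range d, (q ^ (2 * (i + 1)) - 1) =
            (∏ i ∈ Finset.range d, (if Even i then q ^ (i + 1) + 1 else q ^ (i + 1) - 1)) *
              ∏ i ∈ Finset.range d, (if Even i then q ^ (i + 1) - 1 else q ^ (i + 1) + 1) := by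
          rw [← Finset.prod_mul_distrib]
          refine Finset.prod_congr rfl fun i _ => ?_
          rw [show q ^ (2 * (i + 1)) - 1 = (q ^ (i + 1) + 1) * (q ^ (i + 1) - 1) by
            rw [mul_comm 2, pow_mul, ← Nat.sq_sub_sq, one_pow]]
          split_ifs
          · rfl
          · rw [mul_comm]
        rw [hsplit] at hmul₀
        have hpos : 0 < ∏ i ∈ Finset.range d, (if Even i then q ^ (i + 1) + 1 else q ^ (i + 1) - 1) := by
          refine Finset.prod_pos fun i _ => ?_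
          have := Nat.le_self_pow (n := i + 1) (by omega) q
          split_ifs <;> omega
        have hkey : c * q ^ (d * (d - 1) / 2) * (subalgebraNormalizer ι'.range).relIndex (Cfsg.spGL d F) =
            q ^ (d ^ 2) * ∏ i ∈ Finset.range d, (if Even i then q ^ (i + 1) - 1 else q ^ (i + 1) + 1) := by
          refine Nat.eq_of_mul_eq_mul_left hpos ?_
          linear_combination hmul₀
        rcases hrr.dvd_mul.1 (hkey ▸ dvd_mul_of_dvd_right hΩ _) with h | h
        · exact hrq (hrr.dvd_of_dvd_pow h)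
        · obtain ⟨i, -, hri⟩ := (hrr.prime.dvd_finset_prod_iff _).1 h
          have hQi0 : Q ^ i₀ = -1 := by
            refine (mul_self_eq_one_iff.1 ?_).resolve_left ?_
            · rw [← pow_add, ← two_mul, pow_mul, hi₀, pow_orderOf_eq_one]
            · intro h
              have := Nat.le_of_dvd hi0 (orderOf_dvd_of_pow_eq_one h)
              rw [← hn, hneven hne] at this
              omega
          have h1 : (1 : ZMod r) ≠ -1 := fun h => by
            have h2 : ((2 : ℕ) : ZMod r) = 0 := by push_cast; linear_combination h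
            exact hr2 ((Nat.prime_dvd_prime_iff_eq hrr Nat.prime_two).1 ((ZMod.natCast_eq_zero_iff _ _).1 h2))
          have hpow1 : 1 ≤ q ^ (i + 1) := Nat.one_le_pow _ _ (by omega)
          split_ifs at hri with hi
          · rw [← ZMod.natCast_eq_zero_iff, Nat.cast_sub hpow1, Nat.cast_pow, Nat.cast_one, sub_eq_zero] at hri
            obtain ⟨m, hm⟩ : i₀ ∣ i + 1 := orderOf_dvd_of_pow_eq_one (by rw [← pow_mul, mul_comm, pow_mul, hQ, hri, one_pow])
            have hmodd : Odd m := (Nat.odd_mul.1 (hm ▸ hi.add_one)).2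
            rw [hm, pow_mul, ← hQ, hQi0, hmodd.neg_one_pow] at hri
            exact h1 hri.symm
          · rw [← ZMod.natCast_eq_zero_iff, Nat.cast_add, Nat.cast_pow, Nat.cast_one, add_eq_zero_iff_eq_neg] at hri
            obtain ⟨m, hm⟩ : i₀ ∣ i + 1 := orderOf_dvd_of_pow_eq_one (by
              rw [← pow_mul, mul_comm, pow_mul, hQ, hri, neg_one_sq])
            have hmev : Even m := by
              rcases Nat.even_or_odd m with hme | hmo
              · exact hme
              · exact absurd (hm ▸ hodd.mul hmo) (Nat.not_odd_iff_even.2 (by rw [Nat.even_add_one]; exact hi))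
            rw [hm, pow_mul, ← hQ, hQi0, hmev.neg_one_pow] at hri
            exact h1 hri
      obtain ⟨b, rfl⟩ := Nat.exists_eq_add_of_le hid
      obtain ⟨x, hxS, hxr, hwle, hw0⟩ := exists_small_support (F := F) (r := r) (b := b) hi0 ((hfac i₀).2 dvd_rfl)
      obtain ⟨g, hg, hm⟩ := hall x hxS ⟨1, by rw [hxr, one_smul, Units.val_one]⟩ (hnsc x _ rfl hw0 hxS hxr)
      obtain ⟨y, hyS, hyr, hyj, hyw⟩ := hwit x hxS hxr g hg hm
      set f := Matrix.toLin' (y : Matrix (Fin (i₀ + b) ⊕ Fin (i₀ + b)) (Fin (i₀ + b) ⊕ Fin (i₀ + b)) F) with hfdef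
      have hfr : f ^ r = 1 := by
        show Matrix.toLinAlgEquiv' (y : Matrix (Fin (i₀ + b) ⊕ Fin (i₀ + b)) (Fin (i₀ + b) ⊕ Fin (i₀ + b)) F) ^ r = 1
        rw [← map_pow, ← Units.val_pow_eq_pow_val, hyr, Units.val_one, map_one]
      have hwle' : finrank F (movS f) ≤ 2 * i₀ := hyw.trans_le hwle
      have hw0' : finrank F (movS f) ≠ 0 := fun h => hw0 (hyw.symm.trans h)
      obtain ⟨t, ht⟩ : Even (finrank F (movS f)) := heven y hyj
      have hnw : n ∣ finrank F (movS f) := by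
        have h := mov_dvd hfr hr0 (W := ⊤) (fun _ _ => Submodule.mem_top)
        rwa [Submodule.map_top] at h
      have hit : i₀ ∣ t := orderOf_dvd_of_pow_eq_one (by
        rw [← pow_mul, two_mul, ← ht]
        exact orderOf_dvd_iff_pow_eq_one.1 hnw)
      have hti : t = i₀ := le_antisymm (by omega) (Nat.le_of_dvd (by omega) hit)
      refine no_small_unitary h2 hB hnd hα (J := Matrix.toLin' j) (y := f) ?_ hanti (fun u v => hyS u v) ?_ hr2 hr0 hfr hn ?_ hn4
      · intro v
        rw [Matrix.toLin'_apply, Matrix.toLin'_apply, Matrix.mulVec_mulVec, hjj, Matrix.smul_mulVec, Matrix.one_mulVec]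
      · intro v
        rw [hfdef, Matrix.toLin'_apply, Matrix.toLin'_apply, Matrix.toLin'_apply, Matrix.toLin'_apply,
          Matrix.mulVec_mulVec, Matrix.mulVec_mulVec, hyj]
      · by_cases hno : Odd n
        · rw [if_pos hno, hnodd hno]; omega
        · rw [if_neg hno, hneven (Nat.not_odd_iff_even.1 hno)]; omega
  · rintro rfl x hx ⟨z, hxz⟩ -
    obtain ⟨j', ε, hj', hanti', hxj⟩ := exists_anti_involution (F := F) (by omega : 0 < d) h2 α
      (x := ⟨_, CfsgLib.Symp.mem_iff_form.2 hx⟩) (z := z) hxz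
    obtain ⟨g, hg, hgj⟩ := exists_conj_anti h2 hα hjj hj' hanti hanti'
    refine ⟨g⁻¹, inv_mem hg, hnorm _ ε ?_⟩
    rw [inv_inv]
    set G := (g : Matrix (Fin d ⊕ Fin d) (Fin d ⊕ Fin d) F)
    set G' := ((g⁻¹ : GL (Fin d ⊕ Fin d) F) : Matrix (Fin d ⊕ Fin d) (Fin d ⊕ Fin d) F)
    set X := (x : Matrix (Fin d ⊕ Fin d) (Fin d ⊕ Fin d) F)
    have hGG : G' * G = 1 := Units.inv_mul g
    have hGG' : G * G' = 1 := Units.mul_inv g
    have hG'j : G' * j = j' * G' := by
      have h := congrArg (fun M => G' * M * G') hgj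
      rw [← mul_assoc, hGG, one_mul, ← mul_assoc, mul_assoc _ G G', hGG', mul_one] at h
      exact h.symm
    have hxj' : X * j' = ε • (j' * X) := hxj
    show G * X * G' * j = ε • (j * (G * X * G'))
    calc G * X * G' * j = G * (X * j') * G' := by rw [mul_assoc (G * X), hG'j]; simp only [mul_assoc]
      _ = ε • (G * j' * X * G') := by rw [hxj', mul_smul_comm, smul_mul_assoc]; simp only [mul_assoc]
      _ = ε • (j * (G * X * G')) := by rw [hgj]; simp only [mul_assoc]

end CfsgLib.Elusive
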