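import Cfsg.Agent.Elusive.Semisimple
import Cfsg.Agent.Elusive.SympAnti
import Cfsg.Agent.Elusive.SympPlanes
import Cfsg.Agent.Classical.SympGeometry
import Cfsg.Agent.Geo.Basic
import Cfsg.Prelude.Def_GeometricClasses
import Mathlib.LinearAlgebra.Matrix.Kronecker

/-! Eigenspaces of tensor products, moved spaces of isometries, block embeddings of symplectic groups. -/

set_option autoImplicit false

namespace CfsgLib.Elusive.TensorFix

open Module Matrix
open scoped Kronecker

variable {F : Type*} [Field F]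

/-- The `lam`-eigenspace of `Y ↦ A Y Bᵀ`. -/
def eig {a b : ℕ} (A : Matrix (Fin a) (Fin a) F) (B : Matrix (Fin b) (Fin b) F) (lam : F) :
    Submodule F (Matrix (Fin a) (Fin b) F) :=
  LinearMap.ker ({ toFun := fun Y => A * Y * B.transpose - lam • Y
                   map_add' := fun Y Z => by rw [Matrix.mul_add, Matrix.add_mul, smul_add]; abel
                   map_smul' := fun c Y => by
                     rw [Matrix.mul_smul, Matrix.smul_mul, RingHom.id_apply, smul_comm lam c, smul_sub] } :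
    Matrix (Fin a) (Fin b) F →ₗ[F] Matrix (Fin a) (Fin b) F)

theorem mem_eig {a b : ℕ} {A : Matrix (Fin a) (Fin a) F} {B : Matrix (Fin b) (Fin b) F} {lam : F}
    {Y : Matrix (Fin a) (Fin b) F} : Y ∈ eig A B lam ↔ A * Y * B.transpose = lam • Y := by
  simp [eig, sub_eq_zero]

theorem finrank_eig_comm {a b : ℕ} (A : Matrix (Fin a) (Fin a) F) (B : Matrix (Fin b) (Fin b) F) (lam : F) :
    finrank F (eig A B lam) = finrank F (eig B A lam) := by
  have heq : (eig A B lam).map ((Matrix.transposeLinearEquiv (Fin a) (Fin b) F F :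
      Matrix (Fin a) (Fin b) F ≃ₗ[F] Matrix (Fin b) (Fin a) F) : Matrix (Fin a) (Fin b) F →ₗ[F] Matrix (Fin b) (Fin a) F) =
      eig B A lam := by
    ext Z
    rw [Submodule.mem_map_equiv, mem_eig, mem_eig, ← Matrix.transpose_inj]
    simp [Matrix.mul_assoc, eq_comm]
  rw [← heq, LinearEquiv.finrank_map_eq]

/-- The eigenspace is small if some vector has a long orbit. -/
theorem finrank_eig_le {a b : ℕ} {A : Matrix (Fin a) (Fin a) F} {B : Matrix (Fin b) (Fin b) F} (hB : B.det ≠ 0)
    (lam : F) (u : Fin a → F) {k : ℕ} (hk : 0 < k) (hu : LinearIndependent F fun l : Fin k => u ᵥ* A ^ (l : ℕ)) :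
    finrank F (eig A B lam) + (k - 1) * b ≤ a * b := by
  set Z : Matrix (Fin k) (Fin a) F := Matrix.of fun l => u ᵥ* A ^ (l : ℕ) with hZ
  have hZs : Function.Surjective Z.mulVecLin := by
    rw [← LinearMap.range_eq_top]
    refine Submodule.eq_top_of_finrank_eq ?_
    rw [Module.finrank_fin_fun]
    exact ((show Z.rank = _ from rfl).symm.trans (LinearIndependent.rank_matrix (by exact hu))).trans (Fintype.card_fin k)
  let L : Matrix (Fin a) (Fin b) F →ₗ[F] Matrix (Fin k) (Fin b) F :=
    { toFun := fun Y => Z * Y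
      map_add' := fun Y Y' => Matrix.mul_add _ _ _
      map_smul' := fun c Y => Matrix.mul_smul _ _ _ }
  have hsurj : Function.Surjective L := by
    intro p
    choose y hy using fun i : Fin b => hZs fun l => p l i
    refine ⟨Matrix.of fun s i => y i s, Matrix.ext fun l i => ?_⟩
    have h := congrFun (hy i) l
    simpa [Matrix.mulVec, dotProduct, L, Matrix.mul_apply] using h
  have h1 := LinearMap.finrank_range_add_finrank_ker L
  rw [LinearMap.range_eq_top.2 hsurj, finrank_top, Module.finrank_matrix, Module.finrank_matrix, Fintype.card_fin,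
    Fintype.card_fin, Fintype.card_fin, Module.finrank_self, mul_one, mul_one] at h1
  let π : Matrix (Fin a) (Fin b) F →ₗ[F] (Fin b → F) :=
    { toFun := fun Y => u ᵥ* Y
      map_add' := fun Y Y' => Matrix.vecMul_add _ _ _
      map_smul' := fun c Y => Matrix.vecMul_smul _ _ _ }
  have h2 := LinearMap.finrank_range_add_finrank_ker (π.domRestrict (eig A B lam))
  have h3 : finrank F (LinearMap.ker (π.domRestrict (eig A B lam))) ≤ finrank F (LinearMap.ker L) := by
    rw [← Submodule.finrank_map_subtype_eq (eig A B lam) (LinearMap.ker _)]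
    refine Submodule.finrank_mono ?_
    rintro _ ⟨⟨Y, hY⟩, hY0, rfl⟩
    have hY0' : u ᵥ* Y = 0 := hY0
    have hall : ∀ l : ℕ, (u ᵥ* A ^ l) ᵥ* Y = 0 := by
      intro l
      induction l with
      | zero => rwa [pow_zero, Matrix.vecMul_one]
      | succ l ih =>
        have h := congrArg (fun M => (u ᵥ* A ^ l) ᵥ* M) (mem_eig.1 hY)
        simp only [Matrix.vecMul_smul, ih, smul_zero] at h
        rw [← Matrix.vecMul_vecMul _ (A * Y), ← Matrix.vecMul_vecMul _ A Y, Matrix.vecMul_vecMul u, ← pow_succ] at h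
        exact Matrix.eq_zero_of_vecMul_eq_zero (by rwa [Matrix.det_transpose]) h
    exact Matrix.ext fun l i => congrFun (hall l) i
  have h4 : finrank F (LinearMap.range (π.domRestrict (eig A B lam))) ≤ b :=
    (Submodule.finrank_le _).trans (Module.finrank_fin_fun F).le
  obtain ⟨k', rfl⟩ : ∃ k', k = k' + 1 := ⟨k - 1, by omega⟩
  rw [Nat.add_sub_cancel]
  rw [Nat.add_mul, one_mul] at h1
  omega

theorem exists_pair_indep {a : ℕ} (ha : 0 < a) {A : Matrix (Fin a) (Fin a) F} (hA : ∀ c : F, A ≠ c • 1) :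
    ∃ u : Fin a → F, LinearIndependent F ![u, u ᵥ* A] := by
  by_contra hcon
  push Not at hcon
  have key : ∀ u : Fin a → F, u ≠ 0 → ∃ c : F, c • u = u ᵥ* A := fun u hu => by
    have h := hcon u
    rw [LinearIndependent.pair_iff' hu] at h
    push Not at h
    exact h
  have hs : ∀ s : Fin a, (Pi.single s (1 : F) : Fin a → F) ≠ 0 := fun s h => by simpa using congrFun h s
  choose c hc using fun s => key _ (hs s)
  have hrow : ∀ s t, A s t = if s = t then c s else 0 := fun s t => by
    have h := congrFun (hc s) t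
    rw [Matrix.single_one_vecMul, Pi.smul_apply, Pi.single_apply, smul_eq_mul, mul_ite, mul_one, mul_zero] at h
    rw [Matrix.row] at h
    rw [← h]
    by_cases hst : s = t
    · subst hst; simp
    · simp [hst, Ne.symm hst]
  refine hA (c ⟨0, ha⟩) (Matrix.ext fun s t => ?_)
  rw [hrow, Matrix.smul_apply, Matrix.one_apply, smul_eq_mul, mul_ite, mul_one, mul_zero]
  by_cases hst : s = t
  · subst hst
    rw [if_pos rfl, if_pos rfl]
    set s₀ : Fin a := ⟨0, ha⟩
    by_cases hs0 : s = s₀
    · rw [hs0]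
    · have hne : (Pi.single s (1 : F) : Fin a → F) + Pi.single s₀ 1 ≠ 0 := fun h => by
        simpa [hs0, Ne.symm hs0] using congrFun h s
      obtain ⟨d, hd⟩ := key _ hne
      rw [Matrix.add_vecMul, ← hc, ← hc] at hd
      have h1 := congrFun hd s
      have h2 := congrFun hd s₀
      simp [hs0, Ne.symm hs0] at h1 h2
      rw [← h1, ← h2]
  · rw [if_neg hst, if_neg hst]

theorem finrank_eig_le_of_not_scalar {a b : ℕ} (ha : 0 < a) {A : Matrix (Fin a) (Fin a) F} {B : Matrix (Fin b) (Fin b) F}
    (hB : B.det ≠ 0) (lam : F) (hA : ∀ c : F, A ≠ c • 1) : finrank F (eig A B lam) + b ≤ a * b := by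
  obtain ⟨u, hu⟩ := exists_pair_indep ha hA
  have h := finrank_eig_le hB lam u two_pos (A := A) (by
    rw [show (fun l : Fin 2 => u ᵥ* A ^ (l : ℕ)) = ![u, u ᵥ* A] from funext fun l => by fin_cases l <;> simp]
    exact hu)
  simpa using h

theorem finrank_eig_scalar {a b : ℕ} (B : Matrix (Fin b) (Fin b) F) (c lam : F) :
    finrank F (eig (c • (1 : Matrix (Fin a) (Fin a) F)) B lam) =
      a * finrank F (LinearMap.ker (Matrix.toLin' (c • B) - lam • LinearMap.id)) := by
  set K := LinearMap.ker (Matrix.toLin' (c • B) - lam • LinearMap.id) with hK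
  have hmem : ∀ Y : Matrix (Fin a) (Fin b) F, Y ∈ eig (c • (1 : Matrix (Fin a) (Fin a) F)) B lam ↔ ∀ s, Y s ∈ K := by
    intro Y
    rw [mem_eig, Matrix.smul_mul, Matrix.one_mul, Matrix.smul_mul, ← Matrix.ext_iff]
    refine forall_congr' fun s => ?_
    rw [hK, LinearMap.mem_ker, LinearMap.sub_apply, Matrix.toLin'_apply, LinearMap.smul_apply, LinearMap.id_apply,
      sub_eq_zero, funext_iff]
    refine forall_congr' fun i => ?_
    simp only [Matrix.smul_apply, Matrix.mul_apply, Matrix.transpose_apply, Matrix.mulVec, dotProduct, Pi.smul_apply,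
      smul_eq_mul, Finset.mul_sum]
    rw [Finset.sum_congr rfl fun j _ => show c * (Y s j * B i j) = c * B i j * Y s j by ring]
  let E : eig (c • (1 : Matrix (Fin a) (Fin a) F)) B lam ≃ₗ[F] (Fin a → K) :=
    { toFun := fun Y s => ⟨(Y : Matrix (Fin a) (Fin b) F) s, (hmem _).1 Y.2 s⟩
      map_add' := fun _ _ => rfl
      map_smul' := fun _ _ => rfl
      invFun := fun y => ⟨Matrix.of fun s => (y s : Fin b → F), (hmem _).2 fun s => (y s).2⟩
      left_inv := fun _ => rfl
      right_inv := fun _ => rfl }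
  rw [E.finrank_eq, Module.finrank_pi_fintype, Finset.sum_const, Finset.card_univ, Fintype.card_fin, smul_eq_mul]

/-- The moved space of an isometry of odd prime order has even dimension. -/
theorem even_mov [Fintype F] {V : Type*} [AddCommGroup V] [Module F V] [FiniteDimensional F V] {r : ℕ} [Fact r.Prime]
    (h2 : (2 : F) ≠ 0) (hr : (r : F) ≠ 0) (hodd : Odd r) {b : LinearMap.BilinForm F V}
    (hb : ∀ u, (∀ v, b u v = 0) → u = 0) {T : V →ₗ[F] V} (hT : T ^ r = 1) (hbT : ∀ u v, b (T u) (T v) = b u v) :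
    Even (finrank F (movS T)) := by
  by_contra hne
  rw [Nat.not_even_iff_odd] at hne
  have hdis : Disjoint (fixS T) (movS T) := Submodule.disjoint_def.2 fun v h1 h2' => disjoint_fix_mov hT hr h1 h2'
  have htop : fixS T ⊔ movS T = ⊤ := by
    refine Submodule.eq_top_of_finrank_eq ?_
    have h1 := Submodule.finrank_sup_add_finrank_inf_eq (fixS T) (movS T)
    rw [disjoint_iff.1 hdis, finrank_bot] at h1
    have := fix_add_mov (f := T)
    omega
  have hinv : ∀ v ∈ movS T, T v ∈ movS T := by
    rintro _ ⟨u, rfl⟩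
    exact ⟨T u, by simp⟩
  have hrest : ∀ (k : ℕ) (v : movS T), ((T.restrict hinv ^ k) v : V) = (T ^ k) v := by
    intro k
    induction k with
    | zero => intro v; rfl
    | succ k ih => intro v; rw [pow_succ', pow_succ', Module.End.mul_apply, Module.End.mul_apply, ← ih]; rfl
  refine no_fpf_isometry_odd (V := movS T) h2 hodd (T := T.restrict hinv) ?_
    (b.compl₁₂ (movS T).subtype (movS T).subtype) ?_ (fun u v => hbT u v) hne ?_
  · exact LinearMap.ext fun v => Subtype.ext (by rw [hrest, hT]; rfl)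
  · rintro ⟨u, hu⟩ huv
    refine Subtype.ext (hb u fun v => ?_)
    obtain ⟨a, ha, c, hc, rfl⟩ := Submodule.mem_sup.1 (htop ▸ Submodule.mem_top : v ∈ fixS T ⊔ movS T)
    obtain ⟨u', hu'⟩ := hu
    rw [map_add]
    have h1 : b u a = 0 := by
      rw [← hu', LinearMap.sub_apply, Module.End.one_apply, map_sub, LinearMap.sub_apply, sub_eq_zero]
      have := hbT u' a
      rwa [mem_fixS.1 ha] at this
    rw [h1, zero_add]
    exact huv ⟨c, hc⟩
  · intro v hv
    exact Subtype.ext (Submodule.disjoint_def.1 hdis v (mem_fixS.2 (congrArg Subtype.val hv)) v.2)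

/-- A bilinear form in coordinates. -/
theorem gram_apply {n : ℕ} {f : (Fin n → F) → (Fin n → F) → F} (hf : Cfsg.Geo.IsBilinearForm f) (u v : Fin n → F) :
    f u v = u ⬝ᵥ Cfsg.Geo.gramMatrix f *ᵥ v := by
  let B : LinearMap.BilinForm F (Fin n → F) := LinearMap.mk₂ F f hf.add_left hf.smul_left
    (fun x y z => hf.add_right x y z) (fun c x y => hf.smul_right c x y)
  have h : Matrix.toLinearMap₂' F (Cfsg.Geo.gramMatrix f) = B := by
    have h' : LinearMap.toMatrix₂' F B = Cfsg.Geo.gramMatrix f := Matrix.ext fun i j => by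
      rw [LinearMap.toMatrix₂'_apply]; rfl
    rw [← h', Matrix.toLinearMap₂'_toMatrix']
  show B u v = _
  rw [← h, Matrix.toLinearMap₂'_apply']

theorem gram_det_ne_zero {n : ℕ} {f : (Fin n → F) → (Fin n → F) → F} (hf : Cfsg.Geo.IsBilinearForm f)
    (hnd : Cfsg.Geo.IsNondegenerateForm f) : (Cfsg.Geo.gramMatrix f).det ≠ 0 := by
  intro h
  obtain ⟨v, hv0, hv⟩ := Matrix.exists_vecMul_eq_zero_iff.2 h
  obtain ⟨-, x, hx⟩ := hnd v hv0
  exact hx (by rw [gram_apply hf, dotProduct_mulVec, hv, zero_dotProduct])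

theorem formOfGram_eq {κ : Type} [Fintype κ] (M : Matrix κ κ F) (x y : κ → F) :
    Cfsg.Geo.formOfGram id M x y = x ⬝ᵥ M *ᵥ y := by
  simp [Cfsg.Geo.formOfGram, dotProduct, Matrix.mulVec, Finset.mul_sum, mul_assoc]

/-- An element of a small symplectic group inside a larger one. -/
theorem exists_embed {d m l : ℕ} (hd : d = m + l) (s : Matrix.symplecticGroup (Fin m) F) {r : ℕ} (hs : s ^ r = 1)
    (hfix : ∀ v, (s : Matrix (Fin m ⊕ Fin m) (Fin m ⊕ Fin m) F) *ᵥ v = v → v = 0) :
    ∃ x : Matrix.symplecticGroup (Fin d) F, x ^ r = 1 ∧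
      finrank F (LinearMap.ker (Matrix.toLin' (x : Matrix (Fin d ⊕ Fin d) (Fin d ⊕ Fin d) F) - LinearMap.id)) = 2 * l := by
  classical
  let e₀ : Fin d ≃ Fin m ⊕ Fin l := (finCongr hd).trans finSumFinEquiv.symm
  let e : Fin d ⊕ Fin d ≃ (Fin m ⊕ Fin m) ⊕ (Fin l ⊕ Fin l) :=
    (Equiv.sumCongr e₀ e₀).trans (Equiv.sumSumSumComm _ _ _ _)
  set X : Matrix (Fin d ⊕ Fin d) (Fin d ⊕ Fin d) F :=
    (Matrix.fromBlocks (s : Matrix (Fin m ⊕ Fin m) (Fin m ⊕ Fin m) F) 0 0 1).submatrix e e with hX
  have hJ : Matrix.J (Fin d) F = (Matrix.fromBlocks (Matrix.J (Fin m) F) 0 0 (Matrix.J (Fin l) F)).submatrix e e := by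
    have hs : ∀ i, e (Sum.inl i) = Sum.map Sum.inl Sum.inl (e₀ i) ∧ e (Sum.inr i) = Sum.map Sum.inr Sum.inr (e₀ i) :=
      fun i => by
        constructor <;> rcases h : e₀ i with a | a <;> simp [e, h]
    ext (i | i) (j | j) <;>
      simp only [Matrix.submatrix_apply, (hs i).1, (hs i).2, (hs j).1, (hs j).2] <;>
      rcases hi : e₀ i with a | a <;> rcases hj : e₀ j with b | b <;>
      simp [Matrix.J, Matrix.one_apply, ← e₀.injective.eq_iff (a := i), hi, hj]
  have hmem : X ∈ Matrix.symplecticGroup (Fin d) F := by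
    rw [SymplecticGroup.mem_iff, hX, hJ, Matrix.transpose_submatrix, Matrix.submatrix_mul_equiv,
      Matrix.submatrix_mul_equiv, Matrix.fromBlocks_transpose, Matrix.fromBlocks_multiply, Matrix.fromBlocks_multiply]
    simp [SymplecticGroup.mem_iff.1 s.2]
  refine ⟨⟨X, hmem⟩, ?_, ?_⟩
  · apply Subtype.ext
    rw [SubmonoidClass.coe_pow, OneMemClass.coe_one]
    show X ^ r = 1
    have hpow : ∀ k : ℕ, X ^ k = (Matrix.fromBlocks ((s : Matrix (Fin m ⊕ Fin m) (Fin m ⊕ Fin m) F) ^ k) 0 0 1).submatrix e e := by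
      intro k
      induction k with
      | zero => simp
      | succ k ih => rw [pow_succ, ih, hX, Matrix.submatrix_mul_equiv, Matrix.fromBlocks_multiply, pow_succ]; simp
    rw [hpow, ← SubmonoidClass.coe_pow, hs, OneMemClass.coe_one, Matrix.fromBlocks_one, Matrix.submatrix_one_equiv]
  · set K := LinearMap.ker (Matrix.toLin' X - LinearMap.id) with hK
    have hmemK : ∀ v, v ∈ K ↔ ∀ a, v (e.symm (Sum.inl a)) = 0 := by
      intro v
      rw [hK, LinearMap.mem_ker, LinearMap.sub_apply, LinearMap.id_apply, sub_eq_zero, Matrix.toLin'_apply, hX,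
        Matrix.submatrix_mulVec_equiv]
      set w := v ∘ e.symm with hw
      have hv : v = w ∘ e := by funext k; simp [w]
      conv_lhs => rhs; rw [hv]
      rw [(e.surjective.injective_comp_right).eq_iff, Matrix.fromBlocks_mulVec]
      simp only [Matrix.zero_mulVec, add_zero, zero_add, Matrix.one_mulVec]
      constructor
      · intro h a
        have h1 : (s : Matrix (Fin m ⊕ Fin m) (Fin m ⊕ Fin m) F) *ᵥ (w ∘ Sum.inl) = w ∘ Sum.inl :=
          funext fun b => congrFun h (Sum.inl b)
        exact congrFun (hfix _ h1) a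
      · intro h
        have h0 : w ∘ Sum.inl = 0 := funext h
        funext k
        rcases k with b | b
        · rw [Sum.elim_inl, h0, Matrix.mulVec_zero]; exact (congrFun h0 b).symm
        · rfl
    let E : K ≃ₗ[F] (Fin l ⊕ Fin l → F) :=
      { toFun := fun v b => (v : Fin d ⊕ Fin d → F) (e.symm (Sum.inr b))
        map_add' := fun _ _ => rfl
        map_smul' := fun _ _ => rfl
        invFun := fun y => ⟨fun k => Sum.elim (fun _ => 0) y (e k), (hmemK _).2 fun a => by simp⟩
        left_inv := fun v => Subtype.ext (funext fun k => by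
          obtain ⟨c, rfl⟩ := e.symm.surjective k
          rcases c with a | a
          · simp [((hmemK _).1 v.2 a)]
          · simp)
        right_inv := fun y => by funext b; simp }
    rw [E.finrank_eq, Module.finrank_fintype_fun_eq_card, Fintype.card_sum, Fintype.card_fin, two_mul]

end CfsgLib.Elusive.TensorFix
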