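import Cfsg.Agent.Unitary.Decompose
import Cfsg.Agent.Unitary.Special
import Cfsg.Agent.Geo.UnitSubspace
import Cfsg.Agent.Elusive.Semisimple

/-! Complementary pairs of totally singular halves of a unitary space. -/

set_option autoImplicit false

namespace CfsgLib.Elusive.UnitPairs

open Module Matrix CfsgLib.Forms CfsgLib.Unitary

/-- Two complementary totally singular halves. -/
structure IsPair {F : Type*} [Field F] {m : ℕ} (q : ℕ) (U W : Submodule F (Fin (m + m) → F)) : Prop where
  compl : IsCompl U W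
  singU : ∀ u ∈ U, ∀ v ∈ U, Cfsg.hermForm (m + m) F q u v = 0
  singW : ∀ u ∈ W, ∀ v ∈ W, Cfsg.hermForm (m + m) F q u v = 0
  rankU : finrank F U = m
  rankW : finrank F W = m

variable {F : Type*} [Field F] [Finite F] {q m : ℕ} (hF : Nat.card F = q ^ 2)

local notation "V" => Fin (m + m) → F
local notation "h⟪" u ", " v "⟫" => Cfsg.hermForm (m + m) F q u v

attribute [local simp] Fin.append_left Fin.append_right
attribute [-simp] Fin.natAdd_eq_addNat

omit [Finite F] in
theorem IsPair.symm {U W : Submodule F V} (h : IsPair q U W) : IsPair q W U :=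
  ⟨h.compl.symm, h.singW, h.singU, h.rankW, h.rankU⟩

include hF

theorem sing_finrank_le {T : Submodule F V} (hT : ∀ u ∈ T, ∀ v ∈ T, h⟪u, v⟫ = 0) : finrank F T ≤ m := by
  have h1 := CfsgLib.Geo.UTv.finrank_perp hF T
  have h2 := Submodule.finrank_mono (show T ≤ CfsgLib.Geo.UTv.perp q T from fun x hx w hw => hT x hx w hw)
  omega

theorem mk_pair {U W : Submodule F V} (hU : ∀ u ∈ U, ∀ v ∈ U, h⟪u, v⟫ = 0)
    (hW : ∀ u ∈ W, ∀ v ∈ W, h⟪u, v⟫ = 0) (htop : U ⊔ W = ⊤) : IsPair q U W := by
  have h1 := sing_finrank_le hF hU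
  have h2 := sing_finrank_le hF hW
  have h3 := Submodule.finrank_sup_add_finrank_inf_eq U W
  rw [htop, finrank_top, Module.finrank_fin_fun] at h3
  refine ⟨⟨disjoint_iff.2 (Submodule.finrank_eq_zero.1 (by omega)), codisjoint_iff.2 htop⟩, hU, hW,
    by omega, by omega⟩

theorem herm_swap (u v : V) : h⟪v, u⟫ = h⟪u, v⟫ ^ q := by
  have h := (uForm hF (m + m)).σ_h u v
  rw [show (uForm hF (m + m)).ε = 1 from rfl, inv_one, one_mul, uForm_σ, uForm_h] at h
  exact h.symm

theorem herm_smul_right (c : F) (u v : V) : h⟪u, c • v⟫ = c ^ q * h⟪u, v⟫ :=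
  (uForm hF (m + m)).smul_right c u v

theorem herm_sum_left {ι : Type*} (s : Finset ι) (w : ι → V) (v : V) :
    h⟪∑ i ∈ s, w i, v⟫ = ∑ i ∈ s, h⟪w i, v⟫ := map_sum ((uForm hF (m + m)).toDual v) w s

theorem eq_zero_of_perp {x : V} (h : ∀ y, h⟪x, y⟫ = 0) : x = 0 := uForm_nondeg hF (m + m) x fun y => ((uForm hF (m + m)).eq_zero_comm).1 (h y)

/-- Dual bases of a pair. -/
theorem exists_dual {U W : Submodule F V} (hP : IsPair q U W) (b : Fin m → V)
    (hb : LinearIndependent F b) (hbU : ∀ i, b i ∈ U) :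
    ∃ c : Fin m → V, (∀ j, c j ∈ W) ∧ (∀ i j, h⟪c j, b i⟫ = if i = j then 1 else 0) ∧
      LinearIndependent F (fun s => Fin.append b c s) := by
  classical
  have hq : q ≠ 0 := by have := two_le_q hF; omega
  have hspan : Submodule.span F (Set.range b) = U :=
    Submodule.eq_of_le_of_finrank_eq (Submodule.span_le.2 (by rintro _ ⟨i, rfl⟩; exact hbU i))
      (by rw [finrank_span_eq_card hb, Fintype.card_fin, hP.rankU])
  let L : W →ₗ[F] (Fin m → F) := LinearMap.pi fun i => ((uForm hF (m + m)).toDual (b i)).domRestrict W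
  have hL : ∀ (c : W) i, L c i = h⟪(c : V), b i⟫ := fun c i => rfl
  have hinj : Function.Injective L := (injective_iff_map_eq_zero L).2 fun c hc => by
    refine Subtype.ext (eq_zero_of_perp hF fun y => ?_)
    obtain ⟨u, hu, w, hw, rfl⟩ := Submodule.mem_sup.1
      (hP.compl.sup_eq_top ▸ Submodule.mem_top : y ∈ U ⊔ W)
    rw [← hspan, Submodule.mem_span_range_iff_exists_fun] at hu
    obtain ⟨a, rfl⟩ := hu
    have hsum : h⟪(c : V), ∑ i, a i • b i⟫ = 0 := by
      refine ((uForm hF (m + m)).sum_right Finset.univ (c : V) fun i => a i • b i).trans ?_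
      refine Finset.sum_eq_zero fun i _ => ?_
      show h⟪(c : V), a i • b i⟫ = 0
      rw [herm_smul_right hF, ← hL, hc, Pi.zero_apply, mul_zero]
    refine ((uForm hF (m + m)).add_right (c : V) _ w).trans ?_
    show h⟪(c : V), _⟫ + h⟪(c : V), w⟫ = 0
    rw [hsum, hP.singW _ c.2 w hw, add_zero]
  have hsurj : Function.Surjective L := (LinearMap.injective_iff_surjective_of_finrank_eq_finrank
    (by rw [hP.rankW, Module.finrank_fin_fun])).1 hinj
  choose c hc using fun j : Fin m => hsurj (Pi.single j 1)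
  refine ⟨fun j => (c j : V), fun j => (c j).2, fun i j => by rw [← hL, hc, Pi.single_apply], ?_⟩
  rw [Fintype.linearIndependent_iff]
  intro a ha
  rw [Fin.sum_univ_add] at ha
  simp only [Fin.append_left, Fin.append_right] at ha
  set x := ∑ i, a (Fin.castAdd m i) • b i with hx
  set y := ∑ j, a (Fin.natAdd m j) • ((c j : V)) with hy
  have hxU : x ∈ U := U.sum_mem fun i _ => U.smul_mem _ (hbU i)
  have hyW : y ∈ W := W.sum_mem fun j _ => W.smul_mem _ (c j).2
  have hx0 : x = 0 := Submodule.disjoint_def.1 hP.compl.disjoint x hxU (by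
    rw [eq_neg_of_add_eq_zero_left ha]; exact W.neg_mem hyW)
  rw [hx0, zero_add] at ha
  have hcli : LinearIndependent F c := LinearIndependent.of_comp L (by
    rw [show L ∘ c = fun j => Pi.single j 1 from funext hc]
    exact Pi.linearIndependent_single_one (Fin m) F)
  intro s
  induction s using Fin.addCases with
  | left i => exact Fintype.linearIndependent_iff.1 hb _ hx0 i
  | right j =>
    exact Fintype.linearIndependent_iff.1 hcli (fun j => a (Fin.natAdd m j)) (Subtype.ext (by simpa using ha)) j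

/-- Unitary maps between pairs with prescribed bases on the first half. -/
theorem exists_map {U W U' W' : Submodule F V} (hP : IsPair q U W) (hP' : IsPair q U' W')
    {b b' c c' : Fin m → V} (hbU : ∀ i, b i ∈ U) (hcW : ∀ i, c i ∈ W) (hbU' : ∀ i, b' i ∈ U')
    (hcW' : ∀ i, c' i ∈ W') (hli : LinearIndependent F (fun s => Fin.append b c s))
    (hli' : LinearIndependent F (fun s => Fin.append b' c' s))
    (hd : ∀ i j, h⟪c j, b i⟫ = h⟪c' j, b' i⟫) :
    ∃ g : Cfsg.GU (m + m) F q, (∀ i, (g.1 : Matrix _ _ F) *ᵥ b i = b' i) ∧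
      (∀ i, (g.1 : Matrix _ _ F) *ᵥ c i = c' i) ∧
      U.map (Matrix.toLin' (g.1 : Matrix _ _ F)) = U' ∧ W.map (Matrix.toLin' (g.1 : Matrix _ _ F)) = W' := by
  classical
  obtain ⟨g, hg⟩ := exists_GU_family hF (fun s => Fin.append b c s) (fun s => Fin.append b' c' s) hli hli'
    (fun s t => by
      induction s using Fin.addCases with
      | left i => induction t using Fin.addCases with
        | left j => simp only [Fin.append_left]; rw [hP.singU _ (hbU i) _ (hbU j), hP'.singU _ (hbU' i) _ (hbU' j)]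
        | right j => simp only [Fin.append_left, Fin.append_right]
                     rw [herm_swap hF (c j) (b i), herm_swap hF (c' j) (b' i), hd]
      | right i => induction t using Fin.addCases with
        | left j => simp only [Fin.append_left, Fin.append_right]; rw [hd]
        | right j => simp only [Fin.append_right]; rw [hP.singW _ (hcW i) _ (hcW j), hP'.singW _ (hcW' i) _ (hcW' j)])
  have hgb : ∀ i, (g.1 : Matrix _ _ F) *ᵥ b i = b' i := fun i => by simpa using hg (Fin.castAdd m i)
  have hgc : ∀ i, (g.1 : Matrix _ _ F) *ᵥ c i = c' i := fun i => by simpa using hg (Fin.natAdd m i)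
  have key : ∀ {S S' : Submodule F V} {v v' : Fin m → V}, finrank F S = m → finrank F S' = m →
      LinearIndependent F v → LinearIndependent F v' → (∀ i, v i ∈ S) → (∀ i, v' i ∈ S') →
      (∀ i, (g.1 : Matrix _ _ F) *ᵥ v i = v' i) → S.map (Matrix.toLin' (g.1 : Matrix _ _ F)) = S' := by
    intro S S' v v' h1 h2 hv hv' hm hm' hgv
    have e1 : Submodule.span F (Set.range v) = S :=
      Submodule.eq_of_le_of_finrank_eq (Submodule.span_le.2 (by rintro _ ⟨i, rfl⟩; exact hm i))
        (by rw [finrank_span_eq_card hv, Fintype.card_fin, h1])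
    have e2 : Submodule.span F (Set.range v') = S' :=
      Submodule.eq_of_le_of_finrank_eq (Submodule.span_le.2 (by rintro _ ⟨i, rfl⟩; exact hm' i))
        (by rw [finrank_span_eq_card hv', Fintype.card_fin, h2])
    rw [← e1, ← e2, Submodule.map_span, ← Set.range_comp]
    congr 2
    exact funext fun i => (Matrix.toLin'_apply _ _).trans (hgv i)
  have hl : ∀ {u v : Fin m → V}, LinearIndependent F (fun s => Fin.append u v s) →
      LinearIndependent F u ∧ LinearIndependent F v := fun {u v} h =>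
    ⟨by simpa [Function.comp_def] using h.comp (Fin.castAdd m) (Fin.castAdd_injective m m),
      by simpa [Function.comp_def] using h.comp (Fin.natAdd m) (Fin.natAdd_injective m m)⟩
  exact ⟨g, hgb, hgc, key hP.rankU hP'.rankU (hl hli).1 (hl hli').1 hbU hbU' hgb,
    key hP.rankW hP'.rankW (hl hli).2 (hl hli').2 hcW hcW' hgc⟩

theorem exists_basis {U W : Submodule F V} (hP : IsPair q U W) :
    ∃ b c : Fin m → V, LinearIndependent F b ∧ (∀ i, b i ∈ U) ∧ (∀ j, c j ∈ W) ∧
      (∀ i j, h⟪c j, b i⟫ = if i = j then 1 else 0) ∧ LinearIndependent F (fun s => Fin.append b c s) := by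
  let B := Module.finBasisOfFinrankEq F U hP.rankU
  have hb : LinearIndependent F fun i => (B i : V) := B.linearIndependent.map' U.subtype U.ker_subtype
  obtain ⟨c, h1, h2, h3⟩ := exists_dual hF hP _ hb fun i => (B i).2
  exact ⟨_, c, hb, fun i => (B i).2, h1, h2, h3⟩

/-- The stabiliser of a pair has the determinants of the whole unitary group. -/
theorem exists_det {U W : Submodule F V} (hm : 0 < m) (hP : IsPair q U W) {u : Fˣ} (hu : u ^ (q + 1) = 1) :
    ∃ l : Cfsg.GU (m + m) F q, Matrix.GeneralLinearGroup.det l.1 = u ∧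
      U.map (Matrix.toLin' (l.1 : Matrix _ _ F)) = U ∧ W.map (Matrix.toLin' (l.1 : Matrix _ _ F)) = W := by
  classical
  obtain ⟨b, c, hb, hbU, hcW, hd, hli⟩ := exists_basis hF hP
  have hq2 := two_le_q hF
  obtain ⟨a, ha⟩ : ∃ a : Fˣ, a ^ (q - 1) = u⁻¹ := exists_pow_eq_of_pow_eq_one (d := q - 1) (k := q + 1) (m := 1)
    (by rw [card_units_eq hF, mul_one, mul_comm]) (by rw [inv_pow, hu, inv_one])
  let α : Fin m → F := fun i => if i = ⟨0, hm⟩ then (a : F) else 1
  have hα0 : ∀ i, α i ≠ 0 := fun i => by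
    show (if i = _ then (a : F) else 1) ≠ 0
    split <;> simp
  let β : Fin m → F := fun i => ((α i) ^ q)⁻¹
  have hβ0 : ∀ i, β i ≠ 0 := fun i => inv_ne_zero (pow_ne_zero _ (hα0 i))
  let δ : Fin (m + m) → F := fun s => Fin.append α β s
  have hli' : LinearIndependent F (fun s => Fin.append (fun i => α i • b i) (fun i => β i • c i) s) := by
    have h1 := hli.units_smul fun s => Units.mk0 (δ s) (by
      induction s using Fin.addCases with
      | left i => simp [δ, hα0]
      | right i => simp [δ, hβ0])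
    convert h1 using 1
    funext s
    induction s using Fin.addCases with
    | left i => simp [δ, Units.smul_def]
    | right i => simp [δ, Units.smul_def]
  obtain ⟨l, hlb, hlc, hlU, hlW⟩ := exists_map hF hP hP hbU hcW (b' := fun i => α i • b i)
    (c' := fun i => β i • c i) (fun i => U.smul_mem _ (hbU i)) (fun i => W.smul_mem _ (hcW i)) hli hli'
    (fun i j => by
      rw [herm_smul_left, herm_smul_right hF, hd]
      split
      · subst_vars
        simp [β, hα0]
      · simp)
  refine ⟨l, ?_, hlU, hlW⟩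
  let B : Module.Basis (Fin (m + m)) F V :=
    basisOfLinearIndependentOfCardEqFinrank' _ hli (by rw [Fintype.card_fin, Module.finrank_fin_fun])
  have hmat : LinearMap.toMatrix B B (Matrix.toLin' (l.1 : Matrix _ _ F)) = Matrix.diagonal δ := by
    ext s t
    have ht : Matrix.toLin' (l.1 : Matrix _ _ F) (B t) = δ t • B t := by
      rw [Matrix.toLin'_apply]
      simp only [B, coe_basisOfLinearIndependentOfCardEqFinrank']
      induction t using Fin.addCases with
      | left i => simp [δ, hlb]
      | right i => simp [δ, hlc]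
    rw [LinearMap.toMatrix_apply, ht, map_smul, Module.Basis.repr_self, Finsupp.smul_single, smul_eq_mul, mul_one,
      Matrix.diagonal_apply, Finsupp.single_apply]
    by_cases hst : s = t
    · subst hst; simp
    · simp [hst, Ne.symm hst]
  refine Units.ext ?_
  rw [Matrix.GeneralLinearGroup.val_det_apply, ← LinearMap.det_toLin', ← LinearMap.det_toMatrix B, hmat,
    Matrix.det_diagonal, Fin.prod_univ_add]
  simp only [δ, Fin.append_left, Fin.append_right, β, Finset.prod_inv_distrib, Finset.prod_pow]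
  rw [show ∏ i, α i = (a : F) by simp [α]]
  have h2 : (a : F) ^ q = (a : F) * (a : F) ^ (q - 1) := by rw [← pow_succ', Nat.sub_add_cancel (by omega)]
  rw [h2, mul_inv, ← Units.val_pow_eq_pow_val, ha, Units.val_inv_eq_inv_val, inv_inv,
    mul_inv_cancel_left₀ a.ne_zero]

/-- The special unitary group is transitive on pairs. -/
theorem exists_su_map {U W U' W' : Submodule F V} (hm : 0 < m) (hP : IsPair q U W) (hP' : IsPair q U' W') :
    ∃ g : GL (Fin (m + m)) F, g ∈ Cfsg.GU (m + m) F q ∧ g ∈ Cfsg.Geo.specialLinear (Fin (m + m)) F ∧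
      U.map (Matrix.toLin' (g : Matrix _ _ F)) = U' ∧ W.map (Matrix.toLin' (g : Matrix _ _ F)) = W' := by
  obtain ⟨b, c, -, hbU, hcW, hd, hli⟩ := exists_basis hF hP
  obtain ⟨b', c', -, hbU', hcW', hd', hli'⟩ := exists_basis hF hP'
  obtain ⟨g, -, -, hgU, hgW⟩ := exists_map hF hP hP' hbU hcW hbU' hcW' hli hli' fun i j => by rw [hd, hd']
  obtain ⟨l, hl, hlU, hlW⟩ := exists_det hF hm hP' (u := (Matrix.GeneralLinearGroup.det g.1)⁻¹)
    (by rw [inv_pow, det_GU hF g.2, inv_one])
  refine ⟨(l * g).1, (l * g).2, ?_, ?_, ?_⟩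
  · rw [CfsgLib.Geo.mem_specialLinear, ← Matrix.GeneralLinearGroup.val_det_apply, Subgroup.coe_mul, map_mul, hl,
      inv_mul_cancel, Units.val_one]
  · rw [Subgroup.coe_mul, Units.val_mul, Matrix.toLin'_mul, Submodule.map_comp, hgU, hlU]
  · rw [Subgroup.coe_mul, Units.val_mul, Matrix.toLin'_mul, Submodule.map_comp, hgW, hlW]

/-- The unitary stabiliser of both halves maps onto the general linear group of a half. -/
theorem card_GL_dvd {U W : Submodule F V} (hP : IsPair q U W) {L : Subgroup (Cfsg.GU (m + m) F q)}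
    (hL : ∀ g : Cfsg.GU (m + m) F q, g ∈ L ↔ U.map (Matrix.toLin' (g.1 : Matrix _ _ F)) = U ∧
      W.map (Matrix.toLin' (g.1 : Matrix _ _ F)) = W) :
    Nat.card (GL (Fin m) F) ∣ Nat.card L := by
  classical
  let B := Module.finBasisOfFinrankEq F U hP.rankU
  have hmap : ∀ g : L, ∀ u ∈ U, Matrix.toLin' (g.1.1 : Matrix _ _ F) u ∈ U := fun g u hu =>
    ((hL g.1).1 g.2).1.le ⟨u, hu, rfl⟩
  let ρ₀ : L →* Matrix (Fin m) (Fin m) F :=
    { toFun := fun g => LinearMap.toMatrix B B ((Matrix.toLin' (g.1.1 : Matrix _ _ F)).restrict (hmap g))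
      map_one' := by
        refine (congrArg (LinearMap.toMatrix B B) ?_).trans (LinearMap.toMatrix_id B)
        exact LinearMap.ext fun u => Subtype.ext (by simp)
      map_mul' := fun g g' => by
        rw [← LinearMap.toMatrix_comp]
        congr 1
        exact LinearMap.ext fun u => Subtype.ext (by simp [Matrix.mulVec_mulVec]) }
  let ρ : L →* GL (Fin m) F := ρ₀.toHomUnits
  refine Subgroup.card_dvd_of_surjective ρ fun A => ?_
  have hb : LinearIndependent F fun i => (B i : V) := B.linearIndependent.map' U.subtype U.ker_subtype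
  let B' : Fin m → V := fun i => (Matrix.toLin B B (A : Matrix (Fin m) (Fin m) F) (B i) : U)
  have hinjA : LinearMap.ker (Matrix.toLin B B (A : Matrix (Fin m) (Fin m) F)) = ⊥ := by
    refine LinearMap.ker_eq_bot.2 (Function.LeftInverse.injective
      (g := Matrix.toLin B B ((A⁻¹ : GL (Fin m) F) : Matrix (Fin m) (Fin m) F)) fun u => ?_)
    rw [← LinearMap.comp_apply, ← Matrix.toLin_mul, Units.inv_mul, Matrix.toLin_one, LinearMap.id_apply]
  have hb' : LinearIndependent F B' :=
    ((B.linearIndependent.map' _ hinjA).map' U.subtype U.ker_subtype)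
  obtain ⟨c, hcW, hd, hli⟩ := exists_dual hF hP _ hb fun i => (B i).2
  obtain ⟨c', hcW', hd', hli'⟩ := exists_dual hF hP B' hb' fun i => SetLike.coe_mem _
  obtain ⟨g, hgb, -, hgU, hgW⟩ := exists_map hF hP hP (fun i => (B i).2) hcW (b' := B')
    (fun i => SetLike.coe_mem _) hcW' hli hli' fun i j => by rw [hd, hd']
  refine ⟨⟨g, (hL g).2 ⟨hgU, hgW⟩⟩, Units.ext ?_⟩
  show LinearMap.toMatrix B B _ = (A : Matrix (Fin m) (Fin m) F)
  rw [← LinearMap.toMatrix_toLin B B (A : Matrix (Fin m) (Fin m) F)]
  congr 1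
  refine B.ext fun i => Subtype.ext ?_
  show Matrix.toLin' (g.1 : Matrix (Fin (m + m)) (Fin (m + m)) F) (B i : V) = _
  rw [Matrix.toLin'_apply, hgb]

/-- Elements fixing both halves have eigenspaces of even dimension for unitary eigenvalues. -/
theorem even_eigen {U W : Submodule F V} (hP : IsPair q U W) {x : V →ₗ[F] V}
    (hx : ∀ u v, h⟪x u, x v⟫ = h⟪u, v⟫) (hU : ∀ u ∈ U, x u ∈ U) (hW : ∀ u ∈ W, x u ∈ W) {lam : F}
    (hlam : lam ^ (q + 1) = 1) : Even (finrank F (LinearMap.ker (x - lam • LinearMap.id))) := by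
  classical
  set E := LinearMap.ker (x - lam • LinearMap.id) with hE
  have hmem : ∀ v, v ∈ E ↔ x v = lam • v := fun v => by
    rw [hE, LinearMap.mem_ker, LinearMap.sub_apply, LinearMap.smul_apply, LinearMap.id_apply, sub_eq_zero]
  have key : ∀ {A C : Submodule F V}, IsPair q A C → (∀ a ∈ A, x a ∈ A) →
      finrank F ↥(C ⊓ E) ≤ finrank F ↥(A ⊓ E) := by
    intro A C hAC hA
    set f := x - lam • LinearMap.id with hf
    set R := A.map f with hR
    have hRA : R ≤ A := by
      rintro _ ⟨a, ha, rfl⟩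
      exact A.sub_mem (hA a ha) (A.smul_mem lam ha)
    have h1 := LinearMap.finrank_range_add_finrank_ker (f.domRestrict A)
    have h2 : (LinearMap.ker (f.domRestrict A)).map A.subtype = A ⊓ E := by
      ext v
      exact ⟨fun ⟨y, hy, e⟩ => e ▸ ⟨y.2, hy⟩, fun hv => ⟨⟨v, hv.1⟩, hv.2, rfl⟩⟩
    have h3 : LinearMap.range (f.domRestrict A) = R := by
      rw [LinearMap.domRestrict, LinearMap.range_comp, Submodule.range_subtype]
    rw [h3, ← Submodule.finrank_map_subtype_eq A (LinearMap.ker _), h2, hAC.rankU] at h1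
    have hperp : C ⊓ E ≤ C ⊓ CfsgLib.Geo.UTv.perp q R := by
      intro v hv
      refine ⟨hv.1, ?_⟩
      rintro _ ⟨a, -, rfl⟩
      show h⟪v, x a - lam • a⟫ = 0
      have hv2 : x v = lam • v := (hmem v).1 hv.2
      have e1 : lam * h⟪v, x a⟫ = h⟪v, a⟫ := by rw [← herm_smul_left, ← hv2, hx]
      have hsub : ∀ y z : V, h⟪v, y - z⟫ = h⟪v, y⟫ - h⟪v, z⟫ := fun y z => by
        refine eq_sub_of_add_eq ?_
        rw [← uForm_h hF, ← (uForm hF (m + m)).add_right, sub_add_cancel]
      rw [hsub, herm_smul_right hF]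
      have hl0 : lam ≠ 0 := fun e => by rw [e, zero_pow (Nat.succ_ne_zero q)] at hlam; exact zero_ne_one hlam
      refine mul_left_cancel₀ hl0 ?_
      rw [mul_sub, e1, ← mul_assoc, ← pow_succ', hlam, one_mul, sub_self, mul_zero]
    have h4 : A ⊔ (C ⊓ CfsgLib.Geo.UTv.perp q R) = CfsgLib.Geo.UTv.perp q R := by
      have hle : A ≤ CfsgLib.Geo.UTv.perp q R := fun a ha w hw => hAC.singU a ha w (hRA hw)
      rw [← sup_inf_assoc_of_le C hle, hAC.compl.sup_eq_top, top_inf_eq]
    have h5 := Submodule.finrank_sup_add_finrank_inf_eq A (C ⊓ CfsgLib.Geo.UTv.perp q R)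
    rw [h4, ← inf_assoc, hAC.compl.inf_eq_bot, bot_inf_eq, finrank_bot, hAC.rankU] at h5
    have h6 := CfsgLib.Geo.UTv.finrank_perp hF R
    have h7 := Submodule.finrank_mono hperp
    omega
  have e : finrank F ↥(U ⊓ E) = finrank F ↥(W ⊓ E) := le_antisymm (key hP.symm hW) (key hP hU)
  have hsplit : (U ⊓ E) ⊔ (W ⊓ E) = E := by
    refine le_antisymm (sup_le inf_le_right inf_le_right) fun v hv => ?_
    obtain ⟨u, hu, w, hw, rfl⟩ := Submodule.mem_sup.1 (hP.compl.sup_eq_top ▸ Submodule.mem_top : v ∈ U ⊔ W)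
    have h := (hmem _).1 hv
    rw [map_add, smul_add] at h
    have h8 : x u - lam • u = lam • w - x w := by linear_combination (norm := module) h
    have h9 : x u - lam • u = 0 := Submodule.disjoint_def.1 hP.compl.disjoint _
      (U.sub_mem (hU u hu) (U.smul_mem _ hu)) (by rw [h8]; exact W.sub_mem (W.smul_mem _ hw) (hW w hw))
    rw [h9, eq_comm, sub_eq_zero, eq_comm] at h8
    exact Submodule.add_mem_sup ⟨hu, (hmem u).2 (sub_eq_zero.1 h9)⟩ ⟨hw, (hmem w).2 h8⟩
  have h10 := Submodule.finrank_sup_add_finrank_inf_eq (U ⊓ E) (W ⊓ E)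
  rw [hsplit, le_bot_iff.1 ((inf_le_inf inf_le_left inf_le_left).trans hP.compl.inf_eq_bot.le), finrank_bot,
    add_zero] at h10
  exact ⟨_, by rw [h10, e]⟩

/-- Swapped halves bound every eigenspace. -/
theorem eigen_le_of_swap {U W : Submodule F V} (hP : IsPair q U W) {x : V →ₗ[F] V}
    (hx : U.map x = W) (lam : F) : finrank F (LinearMap.ker (x - lam • LinearMap.id)) ≤ m := by
  set E := LinearMap.ker (x - lam • LinearMap.id) with hE
  have hd : U ⊓ E = ⊥ := (Submodule.eq_bot_iff _).2 fun v hv => by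
    have h1 : x v = lam • v := by
      have h := LinearMap.mem_ker.1 hv.2
      rwa [LinearMap.sub_apply, LinearMap.smul_apply, LinearMap.id_apply, sub_eq_zero] at h
    by_contra hv0
    have h2 : x v ∈ W := hx ▸ Submodule.mem_map_of_mem hv.1
    rcases eq_or_ne lam 0 with rfl | hl
    · rw [zero_smul] at h1
      have hk := LinearMap.finrank_range_add_finrank_ker (x.domRestrict U)
      rw [LinearMap.domRestrict, LinearMap.range_comp, Submodule.range_subtype, hx, hP.rankU, hP.rankW] at hk
      have hk0 : LinearMap.ker (x ∘ₗ U.subtype) = ⊥ := Submodule.finrank_eq_zero.1 (by omega)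
      have : (⟨v, hv.1⟩ : U) ∈ LinearMap.ker (x ∘ₗ U.subtype) := h1
      rw [hk0, Submodule.mem_bot] at this
      exact hv0 (congrArg Subtype.val this)
    · rw [h1] at h2
      exact hv0 (Submodule.disjoint_def.1 hP.compl.disjoint v hv.1 ((W.smul_mem_iff hl).1 h2))
  have h := Submodule.finrank_sup_add_finrank_inf_eq U E
  rw [hd, finrank_bot, hP.rankU] at h
  have := (U ⊔ E).finrank_le
  rw [Module.finrank_fin_fun] at this
  omega

/-- Totally singular halves of a non-degenerate subspace of even dimension. -/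
theorem exists_halves (h2 : (2 : F) ≠ 0) {E : Submodule F V} {c : ℕ} (hd : finrank F E = c + c)
    (hE : ∀ u ∈ E, (∀ v ∈ E, h⟪u, v⟫ = 0) → u = 0) :
    ∃ L L' : Submodule F V, L ≤ E ∧ L' ≤ E ∧ L ⊔ L' = E ∧ (∀ u ∈ L, ∀ v ∈ L, h⟪u, v⟫ = 0) ∧
      (∀ u ∈ L', ∀ v ∈ L', h⟪u, v⟫ = 0) := by
  classical
  obtain ⟨b, hb⟩ := exists_orthonormal_family hF E hd hE
  obtain ⟨a, ha⟩ := finite_norm_surjective (frobQ_ne_id hF) (frobQ_invol hF) (-1 : F) (by simp) (by simp)
  have ha' : a * a ^ q = -1 := by rw [← frobQ_apply hF]; exact ha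
  have ha0 : a ≠ 0 := fun e => by rw [e, zero_mul] at ha'; exact one_ne_zero (by linear_combination ha')
  let v : F → Fin c → V := fun t i => (b (Fin.castAdd c i) : V) + t • (b (Fin.natAdd c i) : V)
  have hv : ∀ t : F, t * t ^ q = -1 → ∀ x ∈ Submodule.span F (Set.range (v t)),
      ∀ y ∈ Submodule.span F (Set.range (v t)), h⟪x, y⟫ = 0 := by
    intro t ht x hx y hy
    rw [Submodule.mem_span_range_iff_exists_fun] at hx hy
    obtain ⟨α, rfl⟩ := hx
    obtain ⟨β, rfl⟩ := hy
    rw [herm_sum_left hF]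
    refine Finset.sum_eq_zero fun i _ => ?_
    refine ((uForm hF (m + m)).sum_right Finset.univ _ fun j => β j • v t j).trans ?_
    refine Finset.sum_eq_zero fun j _ => ?_
    show h⟪α i • v t i, β j • v t j⟫ = 0
    have hadd := (uForm hF (m + m)).add_right
    simp only [uForm_h] at hadd
    simp only [herm_smul_left, herm_smul_right hF, v, herm_add_left, hadd, hb]
    by_cases hij : i = j
    · subst hij
      simp only [Fin.ext_iff, Fin.val_castAdd, Fin.val_natAdd, if_true]
      rw [if_neg (by omega), if_neg (by omega)]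
      linear_combination (α i * β i ^ q) * ht
    · have hij' : (i : ℕ) ≠ j := fun e => hij (Fin.ext e)
      simp only [Fin.ext_iff, Fin.val_castAdd, Fin.val_natAdd, hij', if_false]
      rw [if_neg (by omega), if_neg (by omega), if_neg (by omega)]
      simp
  have hneg : (-a) * (-a) ^ q = -1 := by
    have hodd : (-1 : F) ^ q = -1 := by
      rw [← frobQ_apply hF, map_neg, map_one]
    rw [show (-a) ^ q = (-1 : F) ^ q * a ^ q by rw [← mul_pow]; ring_nf, hodd]
    linear_combination ha'
  refine ⟨Submodule.span F (Set.range (v a)), Submodule.span F (Set.range (v (-a))), ?_, ?_, ?_, hv a ha',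
    hv (-a) hneg⟩
  · rw [Submodule.span_le]; rintro _ ⟨i, rfl⟩; exact E.add_mem (b _).2 (E.smul_mem _ (b _).2)
  · rw [Submodule.span_le]; rintro _ ⟨i, rfl⟩; exact E.add_mem (b _).2 (E.smul_mem _ (b _).2)
  · refine le_antisymm (sup_le ?_ ?_) ?_
    · rw [Submodule.span_le]; rintro _ ⟨i, rfl⟩; exact E.add_mem (b _).2 (E.smul_mem _ (b _).2)
    · rw [Submodule.span_le]; rintro _ ⟨i, rfl⟩; exact E.add_mem (b _).2 (E.smul_mem _ (b _).2)
    · set S := Submodule.span F (Set.range (v a)) ⊔ Submodule.span F (Set.range (v (-a))) with hS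
      intro x hx
      have h1 : ∀ t ∈ ({a, -a} : Set F), ∀ i, v t i ∈ S := by
        rintro t (rfl | rfl) i
        · exact Submodule.mem_sup_left (Submodule.subset_span ⟨i, rfl⟩)
        · exact Submodule.mem_sup_right (Submodule.subset_span ⟨i, rfl⟩)
      have hbS : ∀ s, (b s : V) ∈ S := by
        intro s
        induction s using Fin.addCases with
        | left i =>
          have := S.smul_mem (2 : F)⁻¹ (S.add_mem (h1 a (by simp) i) (h1 (-a) (by simp) i))
          convert this using 1
          simp only [v]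
          match_scalars <;> field_simp <;> ring
        | right i =>
          have := S.smul_mem ((2 : F) * a)⁻¹ (S.sub_mem (h1 a (by simp) i) (h1 (-a) (by simp) i))
          convert this using 1
          simp only [v]
          match_scalars <;> field_simp <;> ring
      have := congrArg Subtype.val (b.sum_repr ⟨x, hx⟩)
      simp only [Submodule.coe_sum, Submodule.coe_smul_of_tower] at this
      rw [← this]
      exact S.sum_mem fun s _ => S.smul_mem _ (hbS s)

end CfsgLib.Elusive.UnitPairs
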