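import Cfsg.Agent.Elusive.OrthSimil
import Cfsg.Agent.Unitary.Special
import Cfsg.Agent.Unitary.Decompose
import Cfsg.Agent.Forms.OfBilin
import Cfsg.Prelude.Def_GeometricClasses

/-! Conjugating into the group of similitudes of a unitary form. -/

set_option autoImplicit false

namespace CfsgLib.Elusive.UnitSimil

open Module Matrix

variable {F : Type*} [Field F] [Finite F] {q : ℕ} (hF : Nat.card F = q ^ 2)
  {n : ℕ} {f : (Fin n → F) → (Fin n → F) → F} (hf : Cfsg.Geo.IsUnitaryFormPow q f)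

include hF hf in
theorem smul_right (c : F) (u v : Fin n → F) : f u (c • v) = c ^ q * f u v := by
  rw [hf.herm u (c • v), hf.smul_left, mul_pow, ← hf.herm]

include hF hf in
theorem add_right (u v w : Fin n → F) : f u (v + w) = f u v + f u w := by
  rw [hf.herm, hf.add_left, ← CfsgLib.Forms.frobQ_apply hF, map_add, CfsgLib.Forms.frobQ_apply,
    CfsgLib.Forms.frobQ_apply, ← hf.herm, ← hf.herm]

include hF hf in
theorem sum_left {ι : Type*} (s : Finset ι) (w : ι → Fin n → F) (v : Fin n → F) :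
    f (∑ i ∈ s, w i) v = ∑ i ∈ s, f (w i) v :=
  map_sum (AddMonoidHom.mk' (fun u => f u v) fun a b => hf.add_left a b v) w s

include hF hf in
theorem sum_right {ι : Type*} (s : Finset ι) (w : ι → Fin n → F) (v : Fin n → F) :
    f v (∑ i ∈ s, w i) = ∑ i ∈ s, f v (w i) :=
  map_sum (AddMonoidHom.mk' (fun u => f v u) fun a b => add_right hF hf v a b) w s

include hF hf in
/-- Coordinates in an orthonormal family. -/
theorem coords {k : ℕ} (b : Fin k → Fin n → F) (hb : ∀ i j, f (b i) (b j) = if i = j then 1 else 0)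
    (c d : Fin k → F) : f (∑ i, c i • b i) (∑ i, d i • b i) = Cfsg.hermForm k F q c d := by
  rw [sum_left hF hf, Cfsg.hermForm]
  refine Finset.sum_congr rfl fun i _ => ?_
  rw [hf.smul_left, sum_right hF hf, Finset.sum_eq_single i]
  · rw [smul_right hF hf, hb, if_pos rfl, mul_one]
  · intro j _ hj; rw [smul_right hF hf, hb, if_neg (Ne.symm hj), mul_zero]
  · intro h; exact absurd (Finset.mem_univ _) h

include hF hf in
/-- An orthonormal basis of a non-degenerate subspace. -/
theorem exists_orthonormal {k : ℕ} (W : Submodule F (Fin n → F)) (hWk : finrank F W = k)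
    (hW : ∀ u ∈ W, (∀ v ∈ W, f u v = 0) → u = 0) :
    ∃ b : Basis (Fin k) F W, ∀ i j, f (b i) (b j) = if i = j then 1 else 0 := by
  let B : W →ₛₗ[CfsgLib.Forms.frobQ hF] W →ₗ[F] F :=
    LinearMap.mk₂'ₛₗ (CfsgLib.Forms.frobQ hF) (RingHom.id F) (fun x y => f y.1 x.1)
      (fun a b c => add_right hF hf c.1 a.1 b.1)
      (fun r a c => by
        simpa [CfsgLib.Forms.frobQ_apply] using smul_right hF hf r c.1 a.1)
      (fun a b c => hf.add_left b.1 c.1 a.1)
      (fun r a c => by simpa using hf.smul_left r c.1 a.1)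
  have hS : B.IsSymm := ⟨fun x y => (hf.herm x.1 y.1).symm⟩
  have hB : B.Nondegenerate := by
    have h1 : ∀ x : W, (∀ y : W, B x y = 0) → x = 0 := fun x hx =>
      Subtype.ext (hW x.1 x.2 fun v hv => by
        rw [hf.herm, show f v x.1 = 0 from hx ⟨v, hv⟩, zero_pow]
        intro h
        have := CfsgLib.Forms.two_le_q hF
        omega)
    refine ⟨h1, fun y hy => h1 y fun x => ?_⟩
    rw [← hS.eq x y, hy x, map_zero]
  obtain ⟨b, hb⟩ := CfsgLib.Forms.exists_orthonormal_herm (CfsgLib.Forms.frobQ_ne_id hF) (CfsgLib.Forms.frobQ_invol hF)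
    (fun a ha ha0 => CfsgLib.Forms.finite_norm_surjective (CfsgLib.Forms.frobQ_ne_id hF) (CfsgLib.Forms.frobQ_invol hF) a ha ha0)
    k W B hS hB hWk
  refine ⟨b, fun i j => ?_⟩
  have := hb j i
  rw [show (if i = j then (1 : F) else 0) = if j = i then 1 else 0 by simp [eq_comm]]
  exact this

include hF hf in
/-- Every unitary form is the standard one in suitable coordinates. -/
theorem exists_std : ∃ P : GL (Fin n) F, ∀ u v, f ((P : Matrix (Fin n) (Fin n) F) *ᵥ u)
    ((P : Matrix (Fin n) (Fin n) F) *ᵥ v) = Cfsg.hermForm n F q u v := by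
  obtain ⟨b, hb⟩ := exists_orthonormal hF hf (k := n) ⊤ (by rw [finrank_top, Module.finrank_fin_fun])
    (fun u _ hu => by
      by_contra h
      obtain ⟨-, x, hx⟩ := hf.nondegenerate u h
      exact hx (hu x Submodule.mem_top))
  set M : Matrix (Fin n) (Fin n) F := Matrix.of fun l k => (b k : Fin n → F) l with hM
  have hMv : ∀ c, M *ᵥ c = ∑ k, c k • (b k : Fin n → F) := fun c => by
    funext l
    simp [M, Matrix.mulVec, dotProduct, mul_comm]
  have hdet : M.det ≠ 0 := by
    intro h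
    obtain ⟨c, hc0, hc⟩ := Matrix.exists_mulVec_eq_zero_iff.2 h
    refine hc0 (funext (Fintype.linearIndependent_iff.1 b.linearIndependent c (Subtype.ext ?_)))
    rw [Submodule.coe_zero, ← hc, hMv, Submodule.coe_sum]
    rfl
  exact ⟨Matrix.GeneralLinearGroup.mkOfDetNeZero M hdet, fun u v =>
    (congrArg₂ f (hMv u) (hMv v)).trans (coords hF hf _ hb u v)⟩

include hF hf in
/-- A matrix with a similar hermitian form of the right determinant is conjugate to a similitude. -/
theorem exists_sl_conj_similitude (hn : 0 < n) {x : GL (Fin n) F} {M K : Matrix (Fin n) (Fin n) F} {μ : F}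
    (hμ : μ ≠ 0) (hxM : (x : Matrix (Fin n) (Fin n) F) * M = M * K) (hM : M.det ≠ 0)
    (hG : ∀ c : F, c ^ q = c → c ≠ 0 → ∃ G : Matrix (Fin n) (Fin n) F, Gᵀ = G.map (· ^ q) ∧
      Kᵀ * G * K.map (· ^ q) = μ • G ∧ G.det = c) :
    ∃ g ∈ Cfsg.Geo.specialLinear (Fin n) F, g⁻¹ * x * g ∈ Cfsg.Geo.similarityGroup f := by
  classical
  obtain ⟨P, hP⟩ := exists_std hF hf
  have hPd : (P : Matrix (Fin n) (Fin n) F).det ≠ 0 := Matrix.GeneralLinearGroup.det_ne_zero P
  set σ := CfsgLib.Forms.frobQ hF with hσ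
  have hq2 := CfsgLib.Forms.two_le_q hF
  set c := (M.det / (P : Matrix (Fin n) (Fin n) F).det) ^ (q + 1) with hc
  have hc0 : c ≠ 0 := pow_ne_zero _ (div_ne_zero hM hPd)
  obtain ⟨G, hGt, hGK, hGd⟩ := hG c (by rw [hc, pow_succ, mul_pow, CfsgLib.Forms.pow_q_q hF, mul_comm]) hc0
  -- a basis orthonormal for `G`
  let fG : (Fin n → F) → (Fin n → F) → F := fun u v => u ⬝ᵥ G *ᵥ fun i => v i ^ q
  have hfG : Cfsg.Geo.IsUnitaryFormPow q fG := by
    have hG' : ∀ u v, fG u v = ∑ i, ∑ k, u i * G i k * v k ^ q := fun u v => by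
      simp [fG, dotProduct, Matrix.mulVec, Finset.mul_sum, mul_assoc]
    refine ⟨fun a b v => add_dotProduct _ _ _, fun a b v => smul_dotProduct _ _ _, fun v w => ?_, fun v hv => ?_⟩
    · rw [hG', hG', ← CfsgLib.Forms.frobQ_apply hF, map_sum]
      simp only [map_sum, map_mul, CfsgLib.Forms.frobQ_apply, CfsgLib.Forms.pow_q_q hF]
      rw [Finset.sum_comm]
      refine Finset.sum_congr rfl fun k _ => Finset.sum_congr rfl fun i _ => ?_
      have := congrFun (congrFun hGt k) i
      rw [Matrix.transpose_apply, Matrix.map_apply] at this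
      rw [this]; ring
    · have hGd0 : G.det ≠ 0 := by rw [hGd]; exact hc0
      refine ⟨?_, ?_⟩
      · by_contra h
        push Not at h
        refine hv (funext fun i => ?_)
        have h1 : G *ᵥ (fun i => v i ^ q) = 0 := funext fun i => by simpa [fG] using h (Pi.single i 1)
        exact eq_zero_of_pow_eq_zero (congrFun (Matrix.eq_zero_of_mulVec_eq_zero hGd0 h1) i)
      · by_contra h
        push Not at h
        refine hv (Matrix.eq_zero_of_vecMul_eq_zero hGd0 (funext fun i => ?_))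
        have h1 := h (Pi.single i 1)
        simp only [fG, dotProduct_mulVec] at h1
        rwa [show (fun j => (Pi.single i (1 : F) : Fin n → F) j ^ q) = Pi.single i 1 from
          funext fun j => by by_cases hj : j = i <;> simp [hj, show q ≠ 0 by omega],
          dotProduct_single, mul_one] at h1
  obtain ⟨R, hR⟩ := exists_std hF hfG
  set N : GL (Fin n) F := R⁻¹ with hN
  let Mu : GL (Fin n) F := Matrix.GeneralLinearGroup.mkOfDetNeZero M hM
  set g₀ := Mu * R with hg₀
  -- the determinant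
  have hnorm : ((R : Matrix (Fin n) (Fin n) F).det) ^ (q + 1) * c = 1 := by
    have h : (R : Matrix (Fin n) (Fin n) F)ᵀ * G * (R : Matrix (Fin n) (Fin n) F).map (· ^ q) = 1 := by
      ext i j
      have h1 := hR (Pi.single i 1) (Pi.single j 1)
      rw [CfsgLib.Unitary.herm_single_left, Matrix.mulVec_single_one, Matrix.mulVec_single_one] at h1
      simp only [fG] at h1
      rw [show (Pi.single j (1 : F) : Fin n → F) i ^ q = (1 : Matrix (Fin n) (Fin n) F) i j by
        rw [Matrix.one_apply]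
        by_cases hij : i = j
        · subst hij; simp
        · simp [hij, show q ≠ 0 by omega]] at h1
      rw [← h1, Matrix.mul_assoc, Matrix.mul_apply]
      simp [dotProduct, Matrix.mulVec, Matrix.mul_apply, Matrix.col]
    have h2 := congrArg Matrix.det h
    rw [Matrix.det_mul, Matrix.det_mul, Matrix.det_transpose, Matrix.det_one, hGd,
      show (fun x : F => x ^ q) = ⇑σ from rfl, ← RingHom.mapMatrix_apply, ← RingHom.map_det] at h2
    rw [hσ, CfsgLib.Forms.frobQ_apply] at h2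
    linear_combination h2
  set u : Fˣ := (Matrix.GeneralLinearGroup.det g₀)⁻¹ * Matrix.GeneralLinearGroup.det P with hu
  have hu1 : u ^ (q + 1) = 1 := by
    refine Units.ext ?_
    rw [hu, hg₀, map_mul, Units.val_pow_eq_pow_val, Units.val_mul, Units.val_inv_eq_inv_val, Units.val_mul,
      Units.val_one]
    show ((M.det * (R : Matrix (Fin n) (Fin n) F).det)⁻¹ * (P : Matrix (Fin n) (Fin n) F).det) ^ (q + 1) = 1
    rw [hc, div_pow, ← mul_div_assoc, div_eq_one_iff_eq (pow_ne_zero _ hPd)] at hnorm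
    rw [mul_pow, inv_pow, mul_pow, mul_comm (M.det ^ _), hnorm, inv_mul_cancel₀ (pow_ne_zero _ hPd)]
  obtain ⟨m, rfl⟩ : ∃ m, n = m + 1 := ⟨n - 1, by omega⟩
  set D := (CfsgLib.Unitary.diagFirst (n := m) u hu1 : Cfsg.GU (m + 1) F q) with hD
  set g := g₀ * D.1 * P⁻¹ with hg
  have hdet : Matrix.GeneralLinearGroup.det g = 1 := by
    rw [hg, map_mul, map_mul, map_inv, hD, CfsgLib.Unitary.det_diagFirst, hu, mul_inv_cancel_left, mul_inv_cancel]
  refine ⟨g, hdet, Units.mk0 μ hμ, fun a b => ?_⟩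
  have hy : ∀ w a, fG (K *ᵥ w) (K *ᵥ a) = μ * fG w a := by
    intro w a
    show K *ᵥ w ⬝ᵥ G *ᵥ (fun i => (K *ᵥ a) i ^ q) = _
    rw [show (fun i => (K *ᵥ a) i ^ q) = K.map (· ^ q) *ᵥ fun i => a i ^ q from funext fun i =>
      RingHom.map_mulVec σ K a i, Matrix.mulVec_mulVec, dotProduct_mulVec, ← Matrix.vecMul_transpose,
      Matrix.vecMul_vecMul, ← dotProduct_mulVec, ← Matrix.mul_assoc, hGK, Matrix.smul_mulVec, dotProduct_smul,
      smul_eq_mul]
  -- the conjugate
  set Y := ((g⁻¹ * x * g : GL (Fin (m + 1)) F) : Matrix (Fin (m + 1)) (Fin (m + 1)) F) with hY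
  set W := ((R * D.1 * P⁻¹ : GL (Fin (m + 1)) F) : Matrix (Fin (m + 1)) (Fin (m + 1)) F) with hW
  have hWY : W * Y = K * W := by
    have hMR : g = Mu * (R * D.1 * P⁻¹) := by rw [hg, hg₀]; simp only [mul_assoc]
    have h1 : M * (W * Y) = M * (K * W) := by
      rw [← Matrix.mul_assoc, show M * W = (g : Matrix (Fin (m + 1)) (Fin (m + 1)) F) by rw [hMR, Units.val_mul]; rfl,
        hY, ← Units.val_mul, show g * (g⁻¹ * x * g) = x * g by group, Units.val_mul, hMR, Units.val_mul,
        ← Matrix.mul_assoc, show (Mu : Matrix (Fin (m + 1)) (Fin (m + 1)) F) = M from rfl, hxM, Matrix.mul_assoc]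
    rw [← Matrix.nonsing_inv_mul_cancel_left M (W * Y) (isUnit_iff_ne_zero.2 hM), h1,
      Matrix.nonsing_inv_mul_cancel_left M (K * W) (isUnit_iff_ne_zero.2 hM)]
  have hfW : ∀ a b, f a b = fG (W *ᵥ a) (W *ᵥ b) := by
    intro a b
    rw [hW, Units.val_mul, Units.val_mul, ← Matrix.mulVec_mulVec, ← Matrix.mulVec_mulVec, ← Matrix.mulVec_mulVec,
      ← Matrix.mulVec_mulVec, hR, CfsgLib.Unitary.mem_GU_iff.1 D.2, ← hP, Matrix.mulVec_mulVec, Matrix.mulVec_mulVec, Units.mul_inv,
      Matrix.one_mulVec, Matrix.one_mulVec]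
  rw [hfW, hfW, Matrix.mulVec_mulVec, Matrix.mulVec_mulVec, hWY, ← Matrix.mulVec_mulVec, ← Matrix.mulVec_mulVec,
    Units.val_mk0]
  show K *ᵥ (W *ᵥ a) ⬝ᵥ G *ᵥ (fun i => (K *ᵥ (W *ᵥ b)) i ^ q) = _
  exact hy (W *ᵥ a) (W *ᵥ b)

include hF hf in
/-- The eigenvalues of a diagonal matrix conjugate to a similitude, all fixed by the automorphism, are symmetric. -/
theorem diag_similitude_symm [DecidableEq F] {x g : GL (Fin n) F} {δ : Fin n → F} (hδq : ∀ i, δ i ^ q = δ i)
    (hx : (x : Matrix (Fin n) (Fin n) F) = Matrix.diagonal δ)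
    (hg : g⁻¹ * x * g ∈ Cfsg.Geo.similarityGroup f) :
    ∃ μ : F, μ ≠ 0 ∧ ∀ ν : F, ν ≠ 0 → (Finset.univ.filter fun i => δ i = ν).card =
      (Finset.univ.filter fun i => δ i = μ / ν).card := by
  obtain ⟨μ, hμ⟩ := hg
  let L : (Fin n → F) →ₗ[F] (Fin n → F) := Matrix.toLin' ((g⁻¹ : GL (Fin n) F) : Matrix (Fin n) (Fin n) F)
  have hLg : ∀ v, L ((g : Matrix (Fin n) (Fin n) F) *ᵥ v) = v := fun v => by simp [L, Matrix.mulVec_mulVec]
  let e : Fin n → Fin n → F := fun i => Pi.single i 1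
  let G : Matrix (Fin n) (Fin n) F := Matrix.of fun i k => f (L (e i)) (L (e k))
  have hG : G.det ≠ 0 := by
    intro h
    obtain ⟨c, hc0, hc⟩ := Matrix.exists_vecMul_eq_zero_iff.2 h
    have hz : L c ≠ 0 := fun h => hc0 (by
      have := congrArg (fun v => (g : Matrix (Fin n) (Fin n) F) *ᵥ v) h
      simpa [L, Matrix.mulVec_mulVec] using this)
    obtain ⟨-, w, hw⟩ := hf.nondegenerate _ hz
    refine hw ?_
    set w' := (g : Matrix (Fin n) (Fin n) F) *ᵥ w with hw'
    rw [← hLg w, ← hw', pi_eq_sum_univ' w', map_sum, sum_right hF hf]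
    refine Finset.sum_eq_zero fun k _ => ?_
    rw [map_smul, smul_right hF hf]
    refine mul_eq_zero_of_right _ ?_
    rw [pi_eq_sum_univ' c, map_sum, sum_left hF hf]
    refine Eq.trans (Finset.sum_congr rfl fun i _ => ?_) (congrFun hc k)
    rw [map_smul, hf.smul_left]
    rfl
  have hsim : ∀ i k, δ i * δ k * G i k = (μ : F) * G i k := by
    have hcom : ∀ v, ((g⁻¹ * x * g : GL (Fin n) F) : Matrix (Fin n) (Fin n) F) *ᵥ L v =
        L (Matrix.diagonal δ *ᵥ v) := fun v => by
      simp only [L, Matrix.toLin'_apply, Matrix.mulVec_mulVec, ← hx, ← Units.val_mul]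
      simp [mul_assoc]
    have hbd : ∀ i, L (Matrix.diagonal δ *ᵥ e i) = δ i • L (e i) := fun i => by
      rw [← map_smul]
      congr 1
      funext k
      by_cases h : k = i
      · subst h; simp [e, Matrix.mulVec_diagonal]
      · simp [e, Matrix.mulVec_diagonal, h]
    intro i k
    have h := hμ (L (e i)) (L (e k))
    rw [hcom, hcom, hbd, hbd, hf.smul_left, smul_right hF hf, hδq] at h
    simp only [G, Matrix.of_apply]
    linear_combination h
  obtain ⟨π, hπ⟩ := CfsgLib.Elusive.exists_nonzero_perm hG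
  have hδ : ∀ i, δ (π i) * δ i = μ := fun i => mul_right_cancel₀ (hπ i) (hsim _ _)
  refine ⟨μ, μ.ne_zero, fun ν hν => ?_⟩
  refine Finset.card_bij (fun i _ => π i) (fun i hi => ?_) (fun a _ b _ h => π.injective h) (fun k hk => ?_)
  · rw [Finset.mem_filter] at hi ⊢
    refine ⟨Finset.mem_univ _, ?_⟩
    rw [← hδ i, hi.2, mul_div_assoc, div_self hν, mul_one]
  · refine ⟨π.symm k, ?_, π.apply_symm_apply k⟩
    rw [Finset.mem_filter] at hk ⊢
    refine ⟨Finset.mem_univ _, ?_⟩
    have h := hδ (π.symm k)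
    rw [π.apply_symm_apply, hk.2] at h
    field_simp at h
    exact h

include hF hf in
/-- An isometry of prime order without fixed points on a non-degenerate subspace. -/
theorem no_fpf {r : ℕ} [Fact r.Prime] (hr2 : r ≠ 2) {j : ℕ} (hj : (-(q : ZMod r)) ^ j = -1)
    (hq1 : (q : ZMod r) ≠ 1) {W : Submodule F (Fin n → F)} (hWk : finrank F W = j)
    (hW : ∀ u ∈ W, (∀ v ∈ W, f u v = 0) → u = 0) {T : (Fin n → F) →ₗ[F] (Fin n → F)}
    (hT : T ^ r = 1) (hTW : ∀ v ∈ W, T v ∈ W) (hTf : ∀ u v, f (T u) (T v) = f u v)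
    (hfix : ∀ v ∈ W, T v = v → v = 0) : False := by
  classical
  haveI := Fintype.ofFinite F
  have hq2 := CfsgLib.Forms.two_le_q hF
  obtain ⟨b, hb⟩ := exists_orthonormal hF hf W hWk hW
  have hz : Nat.card {w : W // f w w = 0} = CfsgLib.Unitary.numLen F q j 0 := by
    refine Nat.card_congr (Equiv.subtypeEquiv b.equivFun.toEquiv fun w => ?_)
    show f (w : Fin n → F) w = 0 ↔ _
    conv_lhs => rw [← b.sum_equivFun w, Submodule.coe_sum]
    simp only [Submodule.coe_smul]
    rw [coords hF hf (fun i => (b i : Fin n → F)) hb]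
    rfl
  let φ : Function.End {w : W // f w w = 0} := fun w => ⟨⟨T w.1, hTW _ w.1.2⟩, (hTf _ _).trans w.2⟩
  have hpow : ∀ (k : ℕ) w, (((φ ^ k) w : {w : W // f w w = 0}).1 : Fin n → F) = (T ^ k) (w.1 : Fin n → F) := by
    intro k
    induction k with
    | zero => intro w; rfl
    | succ k ih => intro w; rw [pow_succ', pow_succ', Module.End.mul_apply, ← ih]; rfl
  have h0 : f ((0 : W) : Fin n → F) ((0 : W) : Fin n → F) = 0 := by
    simpa using hf.smul_left 0 (0 : Fin n → F) 0
  have h := Equiv.Perm.card_fixedPoints_modEq (p := r) (n := 1) (f := φ)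
    (funext fun w => Subtype.ext (Subtype.ext (by rw [pow_one, hpow, hT]; rfl)))
  have hfp : Nat.card ↥(Function.fixedPoints φ) = 1 := Nat.card_eq_one_iff_exists.2
    ⟨⟨⟨0, h0⟩, Subtype.ext (Subtype.ext (map_zero T))⟩, fun y =>
      Subtype.ext (Subtype.ext (Subtype.ext (hfix _ y.1.1.2 (congrArg (fun w => (w.1 : Fin n → F)) y.2))))⟩
  rw [← Nat.card_eq_fintype_card (α := ↥(Function.fixedPoints φ)), hfp, ← ZMod.natCast_eq_natCast_iff, ← Nat.card_eq_fintype_card, hz, Nat.cast_one] at h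
  have hn0 := congrArg (fun t : ℤ => (t : ZMod r)) (CfsgLib.Unitary.numLen_zero hF j)
  push_cast at hn0
  rw [h, mul_one] at hn0
  have hsq : ((q : ZMod r) ^ j) * (-1) ^ j = -1 := by
    rw [← mul_pow, mul_neg_one, hj]
  have hsq2 : ((q : ZMod r) ^ j) * (q : ZMod r) ^ j = 1 := by
    have h1 : ((-1 : ZMod r) ^ j) * (-1) ^ j = 1 := by rw [← mul_pow, neg_one_mul, neg_neg, one_pow]
    linear_combination ((q : ZMod r) ^ j * (-1) ^ j - 1) * hsq - ((q : ZMod r) ^ j) ^ 2 * h1
  have h2 : (2 : ZMod r) * ((q : ZMod r) - 1) = 0 := by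
    linear_combination hn0 + hsq2 + ((q : ZMod r) - 1) * hsq
  have h2r : (2 : ZMod r) ≠ 0 := fun h => by
    rw [show (2 : ZMod r) = ((2 : ℕ) : ZMod r) by norm_num, ZMod.natCast_eq_zero_iff] at h
    exact hr2 ((Nat.prime_dvd_prime_iff_eq Fact.out Nat.prime_two).1 h)
  exact hq1 (sub_eq_zero.1 ((mul_eq_zero.1 h2).resolve_left h2r))

omit [Finite F] in
/-- An involution in characteristic two as pairs of vectors. -/
theorem exists_unipotent_pairs {V : Type*} [AddCommGroup V] [Module F V] [FiniteDimensional F V] {n : ℕ}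
    (hn : finrank F V = n) (h2 : (2 : F) = 0) {S : V →ₗ[F] V} (hS : S * S = 1) :
    ∃ (b : Basis (Fin n) F V) (σ : Equiv.Perm (Fin n)) (P : Fin n → Prop) (_ : DecidablePred P),
      Function.Involutive σ ∧ (∀ i, P i → ¬ P (σ i)) ∧ ∀ i, S (b i) = b i + if P i then b (σ i) else 0 := by
  classical
  set N := S - 1 with hN
  have hSN : ∀ v, S v = v + N v := fun v => by simp [hN]
  have hNN : ∀ v, N (N v) = 0 := fun v => by
    have h1 : S (S v) = v := LinearMap.congr_fun hS v
    simp only [hN, LinearMap.sub_apply, Module.End.one_apply, map_sub, h1]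
    rw [show v - S v - (S v - v) = (2 : F) • (v - S v) by module, h2, zero_smul]
  set K := LinearMap.ker N with hK
  set R := LinearMap.range N with hR
  have hRK : R ≤ K := by rintro _ ⟨v, rfl⟩; exact hNN v
  obtain ⟨U, hU⟩ := Submodule.exists_isCompl K
  obtain ⟨C', hC'⟩ := Submodule.exists_isCompl R
  set C := C' ⊓ K with hC
  have hCsup : R ⊔ C = K := by rw [hC, ← sup_inf_assoc_of_le C' hRK, hC'.sup_eq_top, top_inf_eq]
  have hRC : R ⊓ C = ⊥ := le_bot_iff.1 ((inf_le_inf_left R inf_le_left).trans hC'.inf_eq_bot.le)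
  have hdimU : finrank F U = finrank F R := by
    have h1 := Submodule.finrank_add_eq_of_isCompl hU
    have h3 := LinearMap.finrank_range_add_finrank_ker N
    rw [← hK, ← hR] at h3
    omega
  have hdimC : finrank F R + finrank F C = finrank F K := by
    have h := Submodule.finrank_sup_add_finrank_inf_eq R C
    rw [hCsup, hRC, finrank_bot] at h
    omega
  let L : (U × U) × C →ₗ[F] V :=
    { toFun := fun x => (x.1.1 : V) + N x.1.2 + x.2
      map_add' := fun x y => by simp; abel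
      map_smul' := fun c x => by simp [smul_add] }
  have hLinj : Function.Injective L := by
    rw [injective_iff_map_eq_zero]
    rintro ⟨⟨u, u'⟩, c⟩ h
    change (u : V) + N u' + c = 0 at h
    have hc : N c = 0 := c.2.2
    have hu : u = 0 := by
      have h1 := congrArg N h
      rw [map_add, map_add, hNN, hc, add_zero, add_zero, map_zero] at h1
      exact Subtype.ext (Submodule.disjoint_def.1 hU.disjoint _ h1 u.2)
    subst hu
    rw [Submodule.coe_zero, zero_add] at h
    have h1 : N (u' : V) ∈ R ⊓ C := ⟨⟨_, rfl⟩, by rw [eq_neg_of_add_eq_zero_left h]; exact C.neg_mem c.2⟩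
    rw [hRC, Submodule.mem_bot] at h1
    have hu' : u' = 0 := Subtype.ext (Submodule.disjoint_def.1 hU.disjoint _ h1 u'.2)
    rw [h1, zero_add] at h
    simp [hu', show c = 0 from Subtype.ext h]
  have hdim : finrank F ((U × U) × C) = finrank F V := by
    rw [Module.finrank_prod, Module.finrank_prod]
    have h1 := Submodule.finrank_add_eq_of_isCompl hU
    omega
  let E := LinearEquiv.ofBijective L ⟨hLinj, (LinearMap.injective_iff_surjective_of_finrank_eq_finrank hdim).1 hLinj⟩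
  let bu := Module.finBasis F U
  let bc := Module.finBasis F C
  let b0 := ((bu.prod bu).prod bc).map E
  let e := b0.indexEquiv (Module.finBasisOfFinrankEq F V hn)
  let sw : Equiv.Perm ((Fin (finrank F U) ⊕ Fin (finrank F U)) ⊕ Fin (finrank F C)) :=
    Equiv.sumCongr (Equiv.sumComm _ _) (Equiv.refl _)
  let P0 : (Fin (finrank F U) ⊕ Fin (finrank F U)) ⊕ Fin (finrank F C) → Prop := fun i => ∃ a, i = Sum.inl (Sum.inl a)
  have hsw : ∀ s, sw (sw s) = s := by rintro ((a | a) | a) <;> rfl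
  have hE : ∀ x, E x = (x.1.1 : V) + N x.1.2 + x.2 := fun _ => rfl
  refine ⟨b0.reindex e, e.symm.trans (sw.trans e), fun i => P0 (e.symm i), inferInstance, fun i => ?_, fun i hi => ?_, fun i => ?_⟩
  · simp [hsw]
  · obtain ⟨a, ha⟩ := hi
    simp [P0, sw, ha]
  · rw [Basis.reindex_apply, Basis.reindex_apply, hSN]
    congr 1
    simp only [Equiv.trans_apply, Equiv.symm_apply_apply]
    rcases e.symm i with (a | a) | a
    · rw [if_pos ⟨a, rfl⟩]
      simp [b0, hE, sw]
    · rw [if_neg (by simp [P0])]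
      simp [b0, hE, hNN]
    · rw [if_neg (by simp [P0])]
      simp [b0, hE]
      exact (bc a).2.2

include hF hf in
/-- A prime dividing the index of the group of similitudes. -/
theorem index_cases {p r : ℕ} [Fact p.Prime] [CharP F p] [hr : Fact r.Prime] (hrp : r ≠ p) (hn : 0 < n)
    (hΩ : r ∣ (Cfsg.Geo.similarityGroup f).relIndex (Cfsg.Geo.specialLinear (Fin n) F)) :
    ∃ i, i ≤ n ∧ 0 < i ∧ (-(q : ZMod r)) ^ i = -1 := by
  classical
  haveI := Fintype.ofFinite F
  have hq2 := CfsgLib.Forms.two_le_q hF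
  obtain ⟨P, hP⟩ := exists_std hF hf
  set SL := Cfsg.Geo.specialLinear (Fin n) F with hSL
  set S := (Cfsg.GU n F q ⊓ SL).map (MulAut.conj P).toMonoidHom with hS
  have hSL' : S ≤ SL := by
    rintro _ ⟨g, hg, rfl⟩
    show Matrix.GeneralLinearGroup.det (P * g * P⁻¹) = 1
    rw [map_mul, map_mul, show Matrix.GeneralLinearGroup.det g = 1 from hg.2, mul_one, ← map_mul, mul_inv_cancel, map_one]
  have hSH : S ≤ Cfsg.Geo.similarityGroup f := by
    rintro _ ⟨g, hg, rfl⟩
    refine ⟨1, fun u v => ?_⟩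
    show f (((P * g * P⁻¹ : GL (Fin n) F) : Matrix (Fin n) (Fin n) F) *ᵥ u) _ = _
    simp only [MulEquiv.coe_toMonoidHom, MulAut.conj_apply, Units.val_mul, ← Matrix.mulVec_mulVec, Units.val_one, one_mul]
    rw [hP, CfsgLib.Unitary.mem_GU_iff.1 hg.1, ← hP, Matrix.mulVec_mulVec, Matrix.mulVec_mulVec, Units.mul_inv, Matrix.one_mulVec, Matrix.one_mulVec]
  have h1 : r * Nat.card (Cfsg.SU n F q) ∣ Nat.card SL := by
    have hcard : Nat.card S = Nat.card (Cfsg.SU n F q) := by
      rw [hS, Nat.card_congr ((Cfsg.GU n F q ⊓ SL).equivMapOfInjective _ (MulAut.conj P).injective).toEquiv.symm]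
      rw [Nat.card_congr (CfsgLib.Unitary.suEquiv (F := F) (q := q) n).toEquiv]
      exact Nat.card_congr ⟨fun g => ⟨⟨g.1, g.2.1⟩, g.2.2⟩, fun g => ⟨g.1.1, g.1.2, g.2⟩, fun g => rfl, fun g => rfl⟩
    have h := (S.subgroupOf SL).index_mul_card
    rw [Nat.card_congr (Subgroup.subgroupOfEquivOfLe hSL').toEquiv, hcard] at h
    rw [← h]
    exact Nat.mul_dvd_mul_right (hΩ.trans (Subgroup.relIndex_dvd_of_le_left _ hSH)) _
  have h2 := CfsgLib.Linear.card_SL_mul (F := F) (q := q ^ 2) (by rw [← Nat.card_eq_fintype_card, hF]) n hn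
  rw [Nat.card_congr CfsgLib.Linear.slEquivDetKer.toEquiv] at h2
  change _ * Nat.card SL = _ at h2
  have h3 : r * Nat.card (Cfsg.GU n F q) * (q - 1) ∣ ∏ i : Fin n, ((q ^ 2) ^ n - (q ^ 2) ^ (i : ℕ)) := by
    rw [← CfsgLib.Unitary.card_SU_mul hF hn, ← h2,
      show r * ((q + 1) * Nat.card (Cfsg.SU n F q)) * (q - 1) = (q + 1) * (q - 1) * (r * Nat.card (Cfsg.SU n F q)) by ring,
      show q ^ 2 - 1 = (q + 1) * (q - 1) by rw [← Nat.sq_sub_sq, one_pow]]
    exact Nat.mul_dvd_mul_left _ h1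
  have hcol : ∀ i : Fin n, (q ^ 2) ^ n - (q ^ 2) ^ (i : ℕ) = (q ^ 2) ^ (i : ℕ) * ((q ^ 2) ^ (n - (i : ℕ)) - 1) := fun i => by
    rw [Nat.mul_sub_one, ← pow_add, show (i : ℕ) + (n - i) = n by omega]
  have hrefl : ∏ i : Fin n, ((q ^ 2) ^ (n - (i : ℕ)) - 1) = ∏ i ∈ Finset.range n, ((q ^ 2) ^ (i + 1) - 1) := by
    rw [Fin.prod_univ_eq_prod_range (fun i => (q ^ 2) ^ (n - i) - 1) n, ← Finset.prod_range_reflect]
    exact Finset.prod_congr rfl fun i hi => by
      rw [Finset.mem_range] at hi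
      rw [show n - (n - 1 - i) = i + 1 by omega]
  set a : ℕ → ℕ := fun i => if Even i then q ^ (i + 1) + 1 else q ^ (i + 1) - 1 with ha
  set b : ℕ → ℕ := fun i => if Even i then q ^ (i + 1) - 1 else q ^ (i + 1) + 1 with hb
  have hab : ∀ i, (q ^ 2) ^ (i + 1) - 1 = a i * b i := fun i => by
    have h : (q ^ 2) ^ (i + 1) - 1 = (q ^ (i + 1) + 1) * (q ^ (i + 1) - 1) := by
      rw [← Nat.sq_sub_sq, one_pow, ← pow_mul, ← pow_mul, mul_comm 2]
    rw [h]
    simp only [ha, hb]
    split_ifs <;> ring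
  have hpos : 0 < ∏ i ∈ Finset.range n, a i := Finset.prod_pos fun i _ => by
    have : 1 < q ^ (i + 1) := Nat.one_lt_pow (by omega) (by omega)
    simp only [ha]; split_ifs <;> omega
  rw [CfsgLib.Unitary.card_GU hF, Finset.prod_congr rfl (fun i _ => hcol i), Finset.prod_mul_distrib, hrefl,
    Finset.prod_congr rfl (fun i _ => hab i), Finset.prod_mul_distrib] at h3
  change r * (_ * ∏ i ∈ Finset.range n, a i) * (q - 1) ∣ _ at h3
  obtain ⟨m, rfl⟩ : ∃ m, n = m + 1 := ⟨n - 1, by omega⟩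
  rw [Finset.prod_range_succ' b, show b 0 = q - 1 by simp [hb]] at h3
  have h4 : r ∣ (∏ i : Fin (m + 1), (q ^ 2) ^ (i : ℕ)) * ∏ i ∈ Finset.range m, b (i + 1) := by
    refine Nat.dvd_of_mul_dvd_mul_right (Nat.mul_pos hpos (show 0 < q - 1 by omega))
      (dvd_trans ?_ (h3.trans (dvd_of_eq (by ring))))
    exact Dvd.intro (q ^ ((m + 1) * (m + 1 - 1) / 2)) (by ring)
  have hrq : ¬ r ∣ q := fun h => CfsgLib.Elusive.card_ne_zero_mod (F := F) hrp ((ZMod.natCast_eq_zero_iff _ _).2 (by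
    rw [← Nat.card_eq_fintype_card, hF, pow_two]; exact dvd_mul_of_dvd_left h _))
  have hneg : ∀ k, r ∣ b k → (-(q : ZMod r)) ^ (k + 1) = -1 := fun k hk => by
    rw [← ZMod.natCast_eq_zero_iff] at hk
    simp only [hb] at hk
    rcases Nat.even_or_odd k with hke | hko
    · rw [if_pos hke, Nat.cast_sub (Nat.one_le_pow _ _ (by omega)), Nat.cast_pow, Nat.cast_one, sub_eq_zero] at hk
      rw [(Even.add_one hke).neg_pow, hk]
    · rw [if_neg (Nat.not_even_iff_odd.2 hko), Nat.cast_add, Nat.cast_pow, Nat.cast_one, add_eq_zero_iff_eq_neg] at hk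
      rw [(Odd.add_one hko).neg_pow, hk]
  rcases hr.out.dvd_mul.1 h4 with h | h
  · obtain ⟨i, -, hi⟩ := (Prime.dvd_finsetProd_iff hr.out.prime _).1 h
    exact absurd (hr.out.dvd_of_dvd_pow (hr.out.dvd_of_dvd_pow hi)) hrq
  · obtain ⟨i, hi, hi'⟩ := (Prime.dvd_finsetProd_iff hr.out.prime _).1 h
    rw [Finset.mem_range] at hi
    exact ⟨i + 1 + 1, by omega, by omega, hneg _ hi'⟩

end CfsgLib.Elusive.UnitSimil
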